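import Groth.Agent.Lib.Helper12.DepthFlat
import Groth.Prelude.Def_CAlg

set_option autoImplicit false
universe u

namespace Groth.Agent.Lib.Helper12

open IsLocalRing

theorem locCoh_depth_self (R : Type u) [CommRing R] [IsLocalRing R] :
    LocCoh.depth R R = regDepth (maximalIdeal R) R := by
  unfold LocCoh.depth LocCoh.idealDepth regDepth
  rw [if_neg]
  rw [smul_top_eq_self]
  exact (maximalIdeal.isMaximal R).ne_top

/-- Depth is invariant under faithfully flat local maps `A → B` of noetherian local rings with
`m_A B = m_B`. -/
theorem locCoh_depth_eq_of_faithfullyFlat (A B : Type u) [CommRing A] [IsLocalRing A]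
    [IsNoetherianRing A] [CommRing B] [IsLocalRing B] [IsNoetherianRing B] [Algebra A B]
    [Module.FaithfullyFlat A B]
    (hmap : (maximalIdeal A).map (algebraMap A B) = maximalIdeal B) :
    LocCoh.depth B B = LocCoh.depth A A := by
  rw [locCoh_depth_self, locCoh_depth_self, regDepth_eq_of_faithfullyFlat hmap]

/-- The Cohen–Macaulay property is invariant under faithfully flat local maps `A → B` of noetherian
local rings with `m_A B = m_B` and `dim A = dim B`. -/
theorem isCohenMacaulayLocalRing_iff_of_faithfullyFlat (A B : Type u) [CommRing A] [IsLocalRing A]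
    [IsNoetherianRing A] [CommRing B] [IsLocalRing B] [IsNoetherianRing B] [Algebra A B]
    [Module.FaithfullyFlat A B]
    (hmap : (maximalIdeal A).map (algebraMap A B) = maximalIdeal B)
    (hdim : ringKrullDim B = ringKrullDim A) :
    LocCoh.IsCohenMacaulayLocalRing B ↔ LocCoh.IsCohenMacaulayLocalRing A := by
  have hd := locCoh_depth_eq_of_faithfullyFlat A B hmap
  constructor
  · intro h
    refine ⟨?_⟩
    have := h.supportDim_eq_depth
    rw [Module.supportDim_self_eq_ringKrullDim] at this ⊢
    rw [← hdim, this, hd]
  · intro h
    refine ⟨?_⟩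
    have := h.supportDim_eq_depth
    rw [Module.supportDim_self_eq_ringKrullDim] at this ⊢
    rw [hdim, this, hd]

end Groth.Agent.Lib.Helper12
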