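import Mathlib

set_option autoImplicit false
universe u

/-!
# Fibres of algebras which are directed unions of formally étale, essentially finite type algebras
-/

namespace Groth.Agent.Lib.Helper12.IndEtaleFibre

open TensorProduct Polynomial

/-- `S` is a directed union of images of formally étale essentially finite type `R`-algebras. -/
def IsIndEssEtale (R S : Type u) [CommRing R] [CommRing S] [Algebra R S] : Prop :=
  ∀ s : Finset S, ∃ (B : Type u) (_ : CommRing B) (_ : Algebra R B)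
    (_ : Algebra.EssFiniteType R B) (_ : Algebra.FormallyEtale R B) (ψ : B →ₐ[R] S),
    ∀ x ∈ s, x ∈ ψ.range

section Field

/-- An essentially finite type formally étale algebra over a field is von Neumann regular. -/
theorem exists_mul_self_mul (κ G : Type u) [Field κ] [CommRing G] [Algebra κ G]
    [Algebra.EssFiniteType κ G] [Algebra.FormallyEtale κ G] (y : G) : ∃ z : G, y = y * y * z := by
  obtain ⟨I, _, Ai, _, _, e, -⟩ := (Algebra.FormallyEtale.iff_exists_algEquiv_prod κ G).mp inferInstance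
  refine ⟨e.symm (fun i => (e y i)⁻¹), ?_⟩
  apply e.injective
  rw [map_mul, map_mul, e.apply_symm_apply]
  funext i
  simp only [Pi.mul_apply]
  by_cases h : e y i = 0
  · rw [h]; simp
  · rw [mul_assoc, mul_inv_cancel₀ h, mul_one]

/-- Every element of an essentially finite type formally étale algebra over a field is killed by
a product of separable irreducible polynomials. -/
theorem exists_separable_prod (κ G : Type u) [Field κ] [CommRing G] [Algebra κ G]
    [Algebra.EssFiniteType κ G] [Algebra.FormallyEtale κ G] (y : G) :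
    ∃ (n : ℕ) (h : Fin n → κ[X]), (∀ j, (h j).Separable ∧ Irreducible (h j)) ∧
      aeval y (∏ j, h j) = 0 := by
  classical
  obtain ⟨I, _, Ai, _, _, e, hsep⟩ :=
    (Algebra.FormallyEtale.iff_exists_algEquiv_prod κ G).mp inferInstance
  haveI : Fintype I := Fintype.ofFinite I
  let σ : Fin (Fintype.card I) ≃ I := (Fintype.equivFin I).symm
  refine ⟨Fintype.card I, fun j => minpoly κ (e y (σ j)), fun j => ⟨?_, ?_⟩, ?_⟩
  · exact (hsep (σ j)).isSeparable' (e y (σ j))
  · exact minpoly.irreducible ((hsep (σ j)).isSeparable' (e y (σ j))).isIntegral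
  · apply e.injective
    rw [map_zero, ← Polynomial.aeval_algHom_apply]
    funext i
    have h1 : (aeval (e y) (∏ j, minpoly κ (e y (σ j)))) i =
        aeval (e y i) (∏ j, minpoly κ (e y (σ j))) := by
      have := Polynomial.aeval_algHom_apply (Pi.evalAlgHom κ Ai i) (e y)
        (∏ j, minpoly κ (e y (σ j)))
      exact this.symm
    rw [h1, map_prod]
    apply Finset.prod_eq_zero (Finset.mem_univ (σ.symm i))
    rw [σ.apply_symm_apply]
    exact minpoly.aeval κ (e y i)

end Field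

section Main

variable (R S : Type u) [CommRing R] [CommRing S] [Algebra R S]
variable (κ : Type u) [Field κ] [Algebra R κ]

/-- Every element of `κ ⊗ S` comes from `κ ⊗ B` for a formally étale essentially finite type
`B`. -/
theorem exists_lift (hS : IsIndEssEtale R S) (x : κ ⊗[R] S) :
    ∃ (B : Type u) (_ : CommRing B) (_ : Algebra R B)
      (_ : Algebra.EssFiniteType R B) (_ : Algebra.FormallyEtale R B) (ψ : B →ₐ[R] S)
      (y : κ ⊗[R] B), Algebra.TensorProduct.map (AlgHom.id κ κ) ψ y = x := by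
  classical
  obtain ⟨s, rfl⟩ := TensorProduct.exists_finset x
  obtain ⟨B, _, _, h1, h2, ψ, hψ⟩ := hS (s.image Prod.snd)
  have hpre : ∀ a ∈ s, ∃ b : B, ψ b = a.2 := fun a ha =>
    hψ a.2 (Finset.mem_image_of_mem _ ha)
  choose! pre hpre' using hpre
  refine ⟨B, _, _, h1, h2, ψ, ∑ a ∈ s, a.1 ⊗ₜ[R] pre a, ?_⟩
  rw [map_sum]
  refine Finset.sum_congr rfl fun a ha => ?_
  rw [Algebra.TensorProduct.map_tmul, hpre' a ha]
  rfl

variable {R S κ}

theorem exists_mul_self_mul_tensor (hS : IsIndEssEtale R S) (x : κ ⊗[R] S) :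
    ∃ z : κ ⊗[R] S, x = x * x * z := by
  obtain ⟨B, _, _, _, _, ψ, y, rfl⟩ := exists_lift R S κ hS x
  obtain ⟨z, hz⟩ := exists_mul_self_mul κ (κ ⊗[R] B) y
  refine ⟨Algebra.TensorProduct.map (AlgHom.id κ κ) ψ z, ?_⟩
  rw [← map_mul, ← map_mul, ← hz]

theorem isReduced_tensor (hS : IsIndEssEtale R S) : IsReduced (κ ⊗[R] S) := by
  refine ⟨fun x hx => ?_⟩
  obtain ⟨z, hz⟩ := exists_mul_self_mul_tensor hS x
  obtain ⟨n, hn⟩ := hx
  -- x = x^(k+1) * z^k for all k
  have key : ∀ k : ℕ, x = x ^ (k + 1) * z ^ k := by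
    intro k
    induction k with
    | zero => simp
    | succ k ih =>
      calc x = x ^ (k + 1) * z ^ k := ih
        _ = x ^ k * x * z ^ k := by rw [pow_succ]
        _ = x ^ k * (x * x * z) * z ^ k := by rw [← hz]
        _ = x ^ (k + 1 + 1) * z ^ (k + 1) := by ring
  rw [key n, pow_succ, hn, zero_mul, zero_mul]

theorem krullDimLE_zero_tensor (hS : IsIndEssEtale R S) : Ring.KrullDimLE 0 (κ ⊗[R] S) := by
  refine Ring.KrullDimLE.mk₀ fun P hP => ?_
  rw [Ideal.Quotient.maximal_ideal_iff_isField_quotient]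
  haveI : IsDomain (κ ⊗[R] S ⧸ P) := Ideal.Quotient.isDomain P
  refine ⟨⟨0, 1, zero_ne_one⟩, mul_comm, fun {a} ha => ?_⟩
  obtain ⟨x, rfl⟩ := Ideal.Quotient.mk_surjective a
  obtain ⟨z, hz⟩ := exists_mul_self_mul_tensor hS x
  refine ⟨Ideal.Quotient.mk P z, ?_⟩
  have h1 : Ideal.Quotient.mk P x * (Ideal.Quotient.mk P x * Ideal.Quotient.mk P z - 1) = 0 := by
    rw [mul_sub, mul_one, ← mul_assoc, ← map_mul, ← map_mul, ← hz, sub_self]
  rcases mul_eq_zero.mp h1 with h | h
  · exact absurd h ha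
  · exact sub_eq_zero.mp h

/-- If `κ ⊗ S` is noetherian, it is a finite product of separable algebraic field extensions
of `κ`. -/
theorem exists_pi_separable (hS : IsIndEssEtale R S) [IsNoetherianRing (κ ⊗[R] S)] :
    ∃ (n : ℕ) (K : Fin n → Type u) (_ : ∀ i, Field (K i)) (_ : ∀ i, Algebra κ (K i)),
      (∀ i, Algebra.IsSeparable κ (K i)) ∧ Nonempty ((κ ⊗[R] S) ≃ₐ[κ] (Π i, K i)) := by
  classical
  haveI := isReduced_tensor (κ := κ) hS
  haveI := krullDimLE_zero_tensor (κ := κ) hS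
  haveI : IsArtinianRing (κ ⊗[R] S) := IsNoetherianRing.isArtinianRing_of_krullDimLE_zero
  haveI : Finite (MaximalSpectrum (κ ⊗[R] S)) := inferInstance
  let σ : Fin (Nat.card (MaximalSpectrum (κ ⊗[R] S))) ≃ MaximalSpectrum (κ ⊗[R] S) :=
    (Finite.equivFin _).symm
  letI : ∀ m : MaximalSpectrum (κ ⊗[R] S), Field ((κ ⊗[R] S) ⧸ m.asIdeal) := fun m =>
    Ideal.Quotient.field m.asIdeal
  refine ⟨_, fun i => (κ ⊗[R] S) ⧸ (σ i).asIdeal, fun i => inferInstance, fun i => inferInstance,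
    ?_, ⟨((IsArtinianRing.equivPi (κ ⊗[R] S)).restrictScalars κ).trans
      (AlgEquiv.piCongrLeft κ (fun m : MaximalSpectrum (κ ⊗[R] S) => (κ ⊗[R] S) ⧸ m.asIdeal)
        σ).symm⟩⟩
  intro i
  refine ⟨fun a => ?_⟩
  obtain ⟨x, rfl⟩ := Ideal.Quotient.mk_surjective a
  obtain ⟨B, _, _, _, _, ψ, y, rfl⟩ := exists_lift R S κ hS x
  obtain ⟨n, h, hh, hy⟩ := exists_separable_prod κ (κ ⊗[R] B) y
  let θ : κ ⊗[R] B →ₐ[κ] (κ ⊗[R] S) ⧸ (σ i).asIdeal :=
    (Ideal.Quotient.mkₐ κ (σ i).asIdeal).comp (Algebra.TensorProduct.map (AlgHom.id κ κ) ψ)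
  have h1 : aeval (θ y) (∏ j, h j) = 0 := by
    rw [Polynomial.aeval_algHom_apply, hy, map_zero]
  rw [map_prod, Finset.prod_eq_zero_iff] at h1
  obtain ⟨j, -, hj⟩ := h1
  have h2 : minpoly κ (θ y) ∣ h j := minpoly.dvd κ (θ y) hj
  exact (hh j).1.of_dvd h2

end Main

end Groth.Agent.Lib.Helper12.IndEtaleFibre
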