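import Mathlib
import Groth.Agent.Lib.Helper12.IndEtaleFibre

/-!
# Local structure of ind-(essentially étale) algebras at primes
-/

set_option autoImplicit false
universe u

namespace Groth.Agent.Lib.Helper12.IndEtLocal

open IndEtaleFibre IsLocalRing

variable {R S : Type u} [CommRing R] [CommRing S] [Algebra R S]

/-- Every element of a prime `q` of `S` lies, up to an element outside `q`, in the extension
of the contraction of `q`. -/
theorem exists_mul_mem_map (hS : IsIndEssEtale R S) (q : Ideal S) [q.IsPrime] (x : S)
    (hx : x ∈ q) :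
    ∃ t ∉ q, t * x ∈ (q.comap (algebraMap R S)).map (algebraMap R S) := by
  classical
  obtain ⟨B, _, _, _, _, ψ, hψ⟩ := hS {x}
  obtain ⟨y, hyx⟩ := hψ x (Finset.mem_singleton_self x)
  have hyx' : ψ y = x := hyx
  set p : Ideal R := q.comap (algebraMap R S) with hp
  let qB : Ideal B := q.comap (ψ : B →+* S)
  haveI : qB.IsPrime := Ideal.comap_isPrime _ _
  haveI : qB.LiesOver p := ⟨by
    show p = (q.comap (ψ : B →+* S)).comap (algebraMap R B)
    rw [Ideal.comap_comap, hp]
    congr 1
    exact ψ.comp_algebraMap.symm⟩
  letI := Localization.AtPrime.algebraOfLiesOver p qB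
  have hun : Algebra.IsUnramifiedAt R qB := inferInstance
  have hmap := ((Algebra.isUnramifiedAt_iff_map_eq R p qB).1 hun).2
  have hy : algebraMap B (Localization.AtPrime qB) y ∈
      maximalIdeal (Localization.AtPrime qB) := by
    rw [← Localization.AtPrime.map_eq_maximalIdeal]
    refine Ideal.mem_map_of_mem _ ?_
    show ψ y ∈ q
    rw [hyx']
    exact hx
  rw [← hmap, IsScalarTower.algebraMap_eq R B (Localization.AtPrime qB), ← Ideal.map_map,
    IsLocalization.algebraMap_mem_map_algebraMap_iff qB.primeCompl] at hy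
  obtain ⟨m, hm, hmy⟩ := hy
  refine ⟨ψ m, hm, ?_⟩
  rw [← hyx', ← map_mul]
  have h1 : ψ (m * y) ∈ (p.map (algebraMap R B)).map (ψ : B →+* S) :=
    Ideal.mem_map_of_mem _ hmy
  rw [Ideal.map_map] at h1
  have h2 : (ψ : B →+* S).comp (algebraMap R B) = algebraMap R S := ψ.comp_algebraMap
  rwa [h2] at h1

/-- The fibres of `Spec S → Spec R` have no nontrivial specializations. -/
theorem comap_strictMono (hS : IsIndEssEtale R S) :
    StrictMono (PrimeSpectrum.comap (algebraMap R S)) := by
  intro P P' hlt
  have hle : P.asIdeal ≤ P'.asIdeal := hlt.le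
  refine lt_of_le_of_ne (Ideal.comap_mono hle) ?_
  intro heq
  have heq' : P.asIdeal.comap (algebraMap R S) = P'.asIdeal.comap (algebraMap R S) :=
    congrArg PrimeSpectrum.asIdeal heq
  apply hlt.ne
  apply PrimeSpectrum.ext
  refine le_antisymm hle ?_
  intro x hx
  obtain ⟨t, ht, htx⟩ := exists_mul_mem_map hS P'.asIdeal x hx
  rw [← heq'] at htx
  have h1 : t * x ∈ P.asIdeal := by
    have : (P.asIdeal.comap (algebraMap R S)).map (algebraMap R S) ≤ P.asIdeal :=
      Ideal.map_comap_le
    exact this htx
  rcases P.isPrime.mem_or_mem h1 with h | h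
  · exact absurd (hle h) ht
  · exact h

/-- The extension of the contraction of `q` to `S_q` is the maximal ideal. -/
theorem map_eq_maximalIdeal (hS : IsIndEssEtale R S) (q : Ideal S) [q.IsPrime] :
    (q.comap (algebraMap R S)).map (algebraMap R (Localization.AtPrime q)) =
      maximalIdeal (Localization.AtPrime q) := by
  apply le_antisymm
  · rw [Ideal.map_le_iff_le_comap]
    intro a ha
    rw [Ideal.mem_comap, IsScalarTower.algebraMap_apply R S (Localization.AtPrime q),
      ← Localization.AtPrime.map_eq_maximalIdeal]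
    exact Ideal.mem_map_of_mem _ ha
  · rw [← Localization.AtPrime.map_eq_maximalIdeal, Ideal.map_le_iff_le_comap]
    intro x hx
    obtain ⟨t, ht, htx⟩ := exists_mul_mem_map hS q x hx
    rw [Ideal.mem_comap]
    have hu : IsUnit (algebraMap S (Localization.AtPrime q) t) :=
      IsLocalization.map_units (M := q.primeCompl) _ ⟨t, ht⟩
    rw [← Ideal.unit_mul_mem_iff_mem _ hu, ← map_mul,
      IsScalarTower.algebraMap_eq R S (Localization.AtPrime q), ← Ideal.map_map]
    exact Ideal.mem_map_of_mem _ htx

/-- The maximal ideal of `R_p` generates the maximal ideal of `S_q`. -/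
theorem map_maximalIdeal_atPrime (hS : IsIndEssEtale R S) (p : Ideal R) [p.IsPrime]
    (q : Ideal S) [q.IsPrime] [q.LiesOver p]
    [Algebra (Localization.AtPrime p) (Localization.AtPrime q)]
    [Localization.AtPrime.IsLiesOverAlgebra p q] :
    (maximalIdeal (Localization.AtPrime p)).map
      (algebraMap (Localization.AtPrime p) (Localization.AtPrime q)) =
      maximalIdeal (Localization.AtPrime q) := by
  rw [← Localization.AtPrime.map_eq_maximalIdeal, Ideal.map_map,
    ← IsScalarTower.algebraMap_eq, ← map_eq_maximalIdeal hS q]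
  congr 1
  exact Ideal.LiesOver.over

/-- Heights are preserved. -/
theorem height_eq (hS : IsIndEssEtale R S) [Module.Flat R S] [IsNoetherianRing R]
    [IsNoetherianRing S]
    (p : Ideal R) [p.IsPrime] (q : Ideal S) [q.IsPrime] [q.LiesOver p] :
    q.height = p.height := by
  apply le_antisymm
  · have h1 := Order.height_le_height_apply_of_strictMono _ (comap_strictMono hS)
      (⟨q, inferInstance⟩ : PrimeSpectrum S)
    have h2 : PrimeSpectrum.comap (algebraMap R S) ⟨q, inferInstance⟩ = ⟨p, inferInstance⟩ := by
      apply PrimeSpectrum.ext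
      exact (Ideal.LiesOver.over (p := p) (P := q)).symm
    rw [h2, ← PrimeSpectrum.height_eq_orderHeight, ← PrimeSpectrum.height_eq_orderHeight] at h1
    exact h1
  · rw [Ideal.height_eq_height_add_of_liesOver_of_hasGoingDown p q]
    exact le_self_add

end Groth.Agent.Lib.Helper12.IndEtLocal
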