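import Mathlib.RingTheory.Ideal.Cotangent
import Mathlib.Algebra.Module.SpanRankOperations
import Mathlib.RingTheory.Flat.FaithfullyFlat.Algebra
import Mathlib.RingTheory.RegularLocalRing.Defs
import Mathlib.LinearAlgebra.Dimension.Finite

set_option autoImplicit false
universe u

/-!
# Embedding dimension along faithfully flat local maps with `m_A B = m_B`
-/

namespace Groth.Agent.Lib.Helper12

open IsLocalRing

/-- From a finite generating set of the maximal ideal of a noetherian local ring one can extract
a generating subset of minimal cardinality. -/
theorem exists_subset_span_eq_maximalIdeal {B : Type u} [CommRing B] [IsLocalRing B]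
    [IsNoetherianRing B] (S : Finset B) (hS : Ideal.span (S : Set B) = maximalIdeal B) :
    ∃ T ⊆ S, Ideal.span (T : Set B) = maximalIdeal B ∧
      T.card ≤ (maximalIdeal B).spanFinrank := by
  classical
  have hmem : ∀ x : S, (x : B) ∈ maximalIdeal B := fun x => hS ▸ Ideal.subset_span x.2
  let w : S → maximalIdeal B := fun x => ⟨x, hmem x⟩
  let v : S → CotangentSpace B := fun x => (maximalIdeal B).toCotangent (w x)
  have hrange : ∀ {κ : Type u} (a : κ → S),
      Set.range ((maximalIdeal B).subtype ∘ w ∘ a) = Set.range (fun k => (a k : B)) := by
    intro κ a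
    rfl
  have hw : Submodule.span B (Set.range w) = ⊤ := by
    apply Submodule.map_injective_of_injective (Submodule.injective_subtype (maximalIdeal B))
    rw [Submodule.map_span, Submodule.map_top, Submodule.range_subtype, ← Set.range_comp]
    have : Set.range ((maximalIdeal B).subtype ∘ w) = (S : Set B) := by
      ext x
      simp [w]
    rw [this]
    exact hS
  have hv : Submodule.span (ResidueField B) (Set.range v) = ⊤ := by
    have : Set.range v = (maximalIdeal B).toCotangent '' Set.range w := by
      rw [← Set.range_comp]
      rfl
    rw [this, CotangentSpace.span_image_eq_top_iff, hw]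
  obtain ⟨κ, a, ha, hsp, hli⟩ := exists_linearIndependent' (ResidueField B) v
  haveI : Finite κ := Finite.of_injective a ha
  haveI : Fintype κ := Fintype.ofFinite κ
  have hcard : Fintype.card κ ≤ (maximalIdeal B).spanFinrank := by
    rw [spanFinrank_maximalIdeal_eq_finrank_cotangentSpace]
    exact hli.fintype_card_le_finrank
  refine ⟨Finset.univ.image (fun k => (a k : B)), ?_, ?_, ?_⟩
  · intro x hx
    obtain ⟨k, -, rfl⟩ := Finset.mem_image.mp hx
    exact (a k).2
  · have h2 : Submodule.span B (Set.range (w ∘ a)) = ⊤ := by
      rw [← CotangentSpace.span_image_eq_top_iff, ← Set.range_comp]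
      show Submodule.span _ (Set.range (v ∘ a)) = ⊤
      rw [hsp, hv]
    have := congrArg (Submodule.map (maximalIdeal B).subtype) h2
    rw [Submodule.map_span, Submodule.map_top, Submodule.range_subtype, ← Set.range_comp] at this
    rw [← this]
    congr 1
    ext x
    simp [w]
  · exact Finset.card_image_le.trans (by simpa using hcard)

/-- The embedding dimension is invariant under faithfully flat local maps `A → B` with
`m_A B = m_B`. -/
theorem spanFinrank_maximalIdeal_eq_of_faithfullyFlat (A B : Type u) [CommRing A] [IsLocalRing A]
    [IsNoetherianRing A] [CommRing B] [IsLocalRing B] [IsNoetherianRing B] [Algebra A B]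
    [Module.FaithfullyFlat A B]
    (hmap : (maximalIdeal A).map (algebraMap A B) = maximalIdeal B) :
    (maximalIdeal B).spanFinrank = (maximalIdeal A).spanFinrank := by
  classical
  apply le_antisymm
  · rw [← hmap]
    exact Ideal.spanFinrank_map_le_of_fg _ (maximalIdeal A).fg_of_isNoetherianRing
  · obtain ⟨s, hscard, hs⟩ := Submodule.FG.exists_span_finset_card_eq_spanFinrank
      (maximalIdeal A).fg_of_isNoetherianRing
    have hS : Ideal.span ((s.image (algebraMap A B) : Finset B) : Set B) = maximalIdeal B := by
      rw [Finset.coe_image, ← Ideal.map_span,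
        show Ideal.span (s : Set A) = maximalIdeal A from hs, hmap]
    obtain ⟨T, hTS, hT, hTcard⟩ := exists_subset_span_eq_maximalIdeal _ hS
    obtain ⟨t, hts, rfl⟩ := Finset.subset_image_iff.mp hTS
    have ht : Ideal.span (t : Set A) = maximalIdeal A := by
      apply Ideal.map_injective_of_faithfullyFlat (B := B)
      rw [Ideal.map_span, hmap, ← hT, Finset.coe_image]
    have hinj : Function.Injective (algebraMap A B) := FaithfulSMul.algebraMap_injective A B
    calc (maximalIdeal A).spanFinrank = (Ideal.span (t : Set A)).spanFinrank := by rw [ht]
      _ ≤ (t : Set A).ncard := Submodule.spanFinrank_span_le_ncard_of_finite t.finite_toSet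
      _ = t.card := Set.ncard_coe_finset t
      _ = (t.image (algebraMap A B)).card := (Finset.card_image_of_injective _ hinj).symm
      _ ≤ _ := hTcard

end Groth.Agent.Lib.Helper12
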