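import Mathlib
import Groth.Prelude.Def_CAlg
import Groth.Agent.Lib.Helper12.IndEtLocal
import Groth.Agent.Lib.Helper12.SpanFinrankFlat

/-!
# Serre's condition `(R_k)` along ind-(essentially étale) faithfully flat algebras
-/

set_option autoImplicit false
universe u

namespace Groth.Agent.Lib.Helper12.IndEtLocal

open IndEtaleFibre IsLocalRing

variable {R S : Type u} [CommRing R] [CommRing S] [Algebra R S]

theorem isLocalHom_algebraMap_atPrime (p : Ideal R) [p.IsPrime]
    (q : Ideal S) [q.IsPrime] [q.LiesOver p]
    [Algebra (Localization.AtPrime p) (Localization.AtPrime q)]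
    [Localization.AtPrime.IsLiesOverAlgebra p q] :
    IsLocalHom (algebraMap (Localization.AtPrime p) (Localization.AtPrime q)) := by
  rw [Localization.AtPrime.IsLiesOverAlgebra.algebraMap_eq (p := p) (P := q)]
  infer_instance

theorem faithfullyFlat_atPrime [Module.Flat R S] (p : Ideal R) [p.IsPrime]
    (q : Ideal S) [q.IsPrime] [q.LiesOver p]
    [Algebra (Localization.AtPrime p) (Localization.AtPrime q)]
    [Localization.AtPrime.IsLiesOverAlgebra p q] :
    Module.FaithfullyFlat (Localization.AtPrime p) (Localization.AtPrime q) := by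
  haveI := isLocalHom_algebraMap_atPrime p q
  exact Module.FaithfullyFlat.of_flat_of_isLocalHom

theorem isRegularLocalRing_atPrime_iff (hS : IsIndEssEtale R S) [Module.Flat R S]
    [IsNoetherianRing R] [IsNoetherianRing S] (p : Ideal R) [p.IsPrime]
    (q : Ideal S) [q.IsPrime] [q.LiesOver p] :
    IsRegularLocalRing (Localization.AtPrime q) ↔ IsRegularLocalRing (Localization.AtPrime p) := by
  letI := Localization.AtPrime.algebraOfLiesOver p q
  haveI := faithfullyFlat_atPrime p q
  have hmap := map_maximalIdeal_atPrime hS p q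
  rw [isRegularLocalRing_iff, isRegularLocalRing_iff,
    spanFinrank_maximalIdeal_eq_of_faithfullyFlat (Localization.AtPrime p)
      (Localization.AtPrime q) hmap,
    IsLocalization.AtPrime.ringKrullDim_eq_height q, IsLocalization.AtPrime.ringKrullDim_eq_height p,
    height_eq hS p q]

theorem hasRk_iff (hS : IsIndEssEtale R S) [Module.FaithfullyFlat R S]
    [IsNoetherianRing R] [IsNoetherianRing S] (k : ℕ) :
    LocCoh.HasRk k S ↔ LocCoh.HasRk k R := by
  constructor
  · intro h p hp hk
    obtain ⟨q, hq, hqp⟩ := Ideal.exists_isPrime_liesOver_of_faithfullyFlat (B := S) p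
    rw [← isRegularLocalRing_atPrime_iff hS p q]
    apply h q
    rw [height_eq hS p q]
    exact hk
  · intro h q hq hk
    haveI : q.LiesOver (q.under R) := ⟨rfl⟩
    rw [isRegularLocalRing_atPrime_iff hS (q.under R) q]
    apply h (q.under R)
    rw [← height_eq hS (q.under R) q]
    exact hk

end Groth.Agent.Lib.Helper12.IndEtLocal
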