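import Mathlib
import Groth.Prelude.Def_CAlg
import Groth.Agent.Lib.Helper12.IndEtRk
import Groth.Agent.Lib.Helper12.DepthLocCoh

/-!
# Serre's condition `(S_k)` along ind-(essentially étale) faithfully flat algebras
-/

set_option autoImplicit false
universe u v w

namespace Groth.Agent.Lib.Helper12.IndEtLocal

open IndEtaleFibre IsLocalRing

/-- The depth only depends on the isomorphism class of the module. -/
theorem idealDepth_congr {A : Type u} [CommRing A] (I : Ideal A) {M : Type v} {N : Type w}
    [AddCommGroup M] [Module A M] [AddCommGroup N] [Module A N] (e : M ≃ₗ[A] N) :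
    LocCoh.idealDepth I M = LocCoh.idealDepth I N := by
  unfold LocCoh.idealDepth
  have h1 : (I • (⊤ : Submodule A M) = ⊤) ↔ (I • (⊤ : Submodule A N) = ⊤) := by
    have hmap : (I • (⊤ : Submodule A M)).map (e : M →ₗ[A] N) = I • (⊤ : Submodule A N) := by
      rw [Submodule.map_smul'', Submodule.map_top, LinearEquiv.range]
    constructor
    · intro h
      rw [← hmap, h, Submodule.map_top, LinearEquiv.range]
    · intro h
      rw [← hmap] at h
      have := congrArg (Submodule.comap (e : M →ₗ[A] N)) h
      rwa [Submodule.comap_map_eq_of_injective e.injective, Submodule.comap_top] at this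
  have h2 : ∀ rs : List A, RingTheory.Sequence.IsWeaklyRegular M rs ↔
      RingTheory.Sequence.IsWeaklyRegular N rs := fun rs => e.isWeaklyRegular_congr rs
  simp only [h1, h2]

theorem depth_congr {A : Type u} [CommRing A] [IsLocalRing A] {M : Type v} {N : Type w}
    [AddCommGroup M] [Module A M] [AddCommGroup N] [Module A N] (e : M ≃ₗ[A] N) :
    LocCoh.depth A M = LocCoh.depth A N :=
  idealDepth_congr _ e

/-- The localized module of the ring is the localization. -/
noncomputable def localizedModuleEquiv {R : Type u} [CommRing R] (p : Ideal R) [p.IsPrime] :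
    LocalizedModule p.primeCompl R ≃ₗ[Localization.AtPrime p] Localization.AtPrime p :=
  LinearEquiv.extendScalarsOfIsLocalization p.primeCompl (Localization.AtPrime p)
    (IsLocalizedModule.linearEquiv p.primeCompl
      (LocalizedModule.mkLinearMap p.primeCompl R)
      (Algebra.linearMap R (Localization.AtPrime p)))

theorem depth_localizedModule {R : Type u} [CommRing R] (p : Ideal R) [p.IsPrime] :
    LocCoh.depth (Localization.AtPrime p) (LocalizedModule p.primeCompl R) =
      LocCoh.depth (Localization.AtPrime p) (Localization.AtPrime p) :=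
  depth_congr (localizedModuleEquiv p)

theorem supportDim_localizedModule {R : Type u} [CommRing R] (p : Ideal R) [p.IsPrime] :
    Module.supportDim (Localization.AtPrime p) (LocalizedModule p.primeCompl R) =
      (p.height : WithBot ℕ∞) := by
  rw [Module.supportDim_eq_of_equiv (localizedModuleEquiv p),
    Module.supportDim_self_eq_ringKrullDim, IsLocalization.AtPrime.ringKrullDim_eq_height p]

variable {R S : Type u} [CommRing R] [CommRing S] [Algebra R S]

theorem depth_atPrime_eq (hS : IsIndEssEtale R S) [Module.Flat R S]
    [IsNoetherianRing R] [IsNoetherianRing S] (p : Ideal R) [p.IsPrime]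
    (q : Ideal S) [q.IsPrime] [q.LiesOver p] :
    LocCoh.depth (Localization.AtPrime q) (Localization.AtPrime q) =
      LocCoh.depth (Localization.AtPrime p) (Localization.AtPrime p) := by
  letI := Localization.AtPrime.algebraOfLiesOver p q
  haveI := faithfullyFlat_atPrime p q
  exact locCoh_depth_eq_of_faithfullyFlat _ _ (map_maximalIdeal_atPrime hS p q)

theorem hasSk_iff (hS : IsIndEssEtale R S) [Module.FaithfullyFlat R S]
    [IsNoetherianRing R] [IsNoetherianRing S] (k : ℕ) :
    LocCoh.HasSk k S S ↔ LocCoh.HasSk k R R := by
  have key : ∀ (p : Ideal R) [p.IsPrime] (q : Ideal S) [q.IsPrime] [q.LiesOver p],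
      (min (k : WithBot ℕ∞)
        (Module.supportDim (Localization.AtPrime q) (LocalizedModule q.primeCompl S)) ≤
      ((LocCoh.depth (Localization.AtPrime q) (LocalizedModule q.primeCompl S) : ℕ∞) :
        WithBot ℕ∞)) ↔
      (min (k : WithBot ℕ∞)
        (Module.supportDim (Localization.AtPrime p) (LocalizedModule p.primeCompl R)) ≤
      ((LocCoh.depth (Localization.AtPrime p) (LocalizedModule p.primeCompl R) : ℕ∞) :
        WithBot ℕ∞)) := by
    intro p _ q _ _
    rw [supportDim_localizedModule, supportDim_localizedModule, depth_localizedModule,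
      depth_localizedModule, depth_atPrime_eq hS p q, height_eq hS p q]
  constructor
  · intro h p hp
    obtain ⟨q, hq, hqp⟩ := Ideal.exists_isPrime_liesOver_of_faithfullyFlat (B := S) p
    exact (key p q).1 (h q)
  · intro h q hq
    haveI : q.LiesOver (q.under R) := ⟨rfl⟩
    exact (key (q.under R) q).2 (h (q.under R))

end Groth.Agent.Lib.Helper12.IndEtLocal
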