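import Mathlib
import Groth.Agent.Lib.Helper7.S2Ass

/-!
# Associated primes of principal ideals in a Noetherian normal domain have height one
-/

set_option autoImplicit false
universe u

namespace Groth.Agent.Lib.Helper12.SerreNormal

open IsLocalRing

/-- In a Noetherian local normal domain, if `m = (b : c)` for some `c ∉ (b)`, `0 ≠ b ∈ m`,
then `m` is principal. -/
theorem exists_maximalIdeal_eq_span (A : Type u) [CommRing A] [IsDomain A] [IsNoetherianRing A]
    [IsLocalRing A] [IsIntegrallyClosed A] (b c : A) (hb0 : b ≠ 0) (hbm : b ∈ maximalIdeal A)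
    (hc : c ∉ Ideal.span {b}) (hm : ∀ r ∈ maximalIdeal A, r * c ∈ Ideal.span {b}) :
    ∃ t : A, maximalIdeal A = Ideal.span {t} := by
  classical
  have hc0 : c ≠ 0 := fun h => hc (h ▸ Ideal.zero_mem _)
  by_cases hcase : ∀ r ∈ maximalIdeal A, ∀ d : A, r * c = b * d → d ∈ maximalIdeal A
  · -- then `c / b` is integral
    exfalso
    let K := FractionRing A
    have hinj : Function.Injective (algebraMap A K) := IsFractionRing.injective A K
    have hbK : algebraMap A K b ≠ 0 := by
      rw [Ne, map_eq_zero_iff _ hinj]; exact hb0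
    let N : Submodule A K := Submodule.map (Algebra.linearMap A K) (maximalIdeal A)
    have hN0 : N ≠ ⊥ := by
      intro h
      have hbN : algebraMap A K b ∈ N := ⟨b, hbm, rfl⟩
      rw [h, Submodule.mem_bot] at hbN
      exact hbK hbN
    have hNfg : N.FG := Submodule.FG.map _ (IsNoetherian.noetherian (maximalIdeal A))
    have hx : ∀ n ∈ N, (algebraMap A K c / algebraMap A K b) • n ∈ N := by
      rintro n ⟨r, hr, rfl⟩
      obtain ⟨d, hd⟩ := Ideal.mem_span_singleton'.1 (hm r hr)
      have hd' : r * c = b * d := by rw [← hd, mul_comm]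
      refine ⟨d, hcase r hr d hd', ?_⟩
      rw [Algebra.linearMap_apply, Algebra.linearMap_apply, smul_eq_mul, div_mul_eq_mul_div,
        eq_div_iff hbK, ← map_mul, ← map_mul, mul_comm d b, ← hd', mul_comm]
    have hint : IsIntegral A (algebraMap A K c / algebraMap A K b) :=
      isIntegral_of_smul_mem_submodule (R := A) (A := K) (M := K) N hN0 hNfg _ hx
    obtain ⟨y, hy⟩ := (IsIntegrallyClosed.isIntegral_iff (R := A) (K := K)).1 hint
    rw [eq_div_iff hbK, ← map_mul] at hy
    have := hinj hy
    exact hc (Ideal.mem_span_singleton'.2 ⟨y, this⟩)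
  · push Not at hcase
    obtain ⟨r, hr, d, hd, hdm⟩ := hcase
    have hdu : IsUnit d := by
      by_contra h
      exact hdm ((IsLocalRing.mem_maximalIdeal d).2 h)
    obtain ⟨u, rfl⟩ := hdu
    -- `b = c * t` with `t = r * u⁻¹`
    refine ⟨r * (u⁻¹ : Aˣ), le_antisymm ?_ ?_⟩
    · intro s hs
      obtain ⟨e, he⟩ := Ideal.mem_span_singleton'.1 (hm s hs)
      rw [Ideal.mem_span_singleton']
      refine ⟨e, ?_⟩
      have hb : b = c * (r * (u⁻¹ : Aˣ)) := by
        have : b * (u : A) * ((u⁻¹ : Aˣ) : A) = b := by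
          rw [mul_assoc, Units.mul_inv, mul_one]
        rw [← this, ← hd]; ring
      have h2 : c * (e * (r * (u⁻¹ : Aˣ))) = c * s := by
        rw [mul_comm s c] at he
        rw [← he, hb]; ring
      exact mul_left_cancel₀ hc0 h2
    · rw [Ideal.span_singleton_le_iff_mem]
      exact Ideal.mul_mem_right _ _ hr

/-- In a Noetherian local normal domain, if `m = (b : c)` for some `c ∉ (b)`, `0 ≠ b ∈ m`,
then `m` has height one. -/
theorem height_maximalIdeal_eq_one (A : Type u) [CommRing A] [IsDomain A] [IsNoetherianRing A]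
    [IsLocalRing A] [IsIntegrallyClosed A] (b c : A) (hb0 : b ≠ 0) (hbm : b ∈ maximalIdeal A)
    (hc : c ∉ Ideal.span {b}) (hm : ∀ r ∈ maximalIdeal A, r * c ∈ Ideal.span {b}) :
    (maximalIdeal A).height = 1 := by
  obtain ⟨t, ht⟩ := exists_maximalIdeal_eq_span A b c hb0 hbm hc hm
  apply le_antisymm
  · haveI : (Ideal.span {t}).IsPrincipal := ⟨⟨t, rfl⟩⟩
    apply Ideal.height_le_one_of_isPrincipal_of_mem_minimalPrimes (Ideal.span {t})
    rw [← ht]
    exact ⟨⟨inferInstance, le_rfl⟩, fun q hq hle => hq.2⟩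
  · rw [Order.one_le_iff_pos, pos_iff_ne_zero, Ne, Ideal.height_eq_zero_iff_eq_bot]
    intro hbot
    rw [hbot] at hbm
    exact hb0 hbm

/-- Associated primes of `A/(b)` have height one in a Noetherian normal domain. -/
theorem height_eq_one_of_mem_associatedPrimes
    (A : Type u) [CommRing A] [IsDomain A] [IsNoetherianRing A] [IsIntegrallyClosed A]
    (b : A) (hb : b ≠ 0) (p : Ideal A) (hp : p ∈ associatedPrimes A (A ⧸ Ideal.span {b})) :
    p.height = 1 := by
  obtain ⟨hprime, c, hc⟩ := Groth.Agent.Lib.Helper7.S2Ass.exists_colon_of_mem_ass hp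
  haveI := hprime
  let A' := Localization.AtPrime p
  have hle : p.primeCompl ≤ nonZeroDivisors A := p.primeCompl_le_nonZeroDivisors
  haveI : IsDomain A' := IsLocalization.isDomain_localization hle
  haveI : IsIntegrallyClosed A' := isIntegrallyClosed_of_isLocalization A' p.primeCompl hle
  have hinj : Function.Injective (algebraMap A A') := IsLocalization.injective _ hle
  have hbp : b ∈ p := (hc b).2 (Ideal.mul_mem_right _ _ (Ideal.mem_span_singleton_self b))
  have h1 : (maximalIdeal A').height = 1 := by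
    apply height_maximalIdeal_eq_one A' (algebraMap A A' b) (algebraMap A A' c)
    · rw [Ne, map_eq_zero_iff _ hinj]; exact hb
    · exact (IsLocalization.AtPrime.to_map_mem_maximal_iff A' p b).2 hbp
    · intro hmem
      obtain ⟨y, hy⟩ := Ideal.mem_span_singleton'.1 hmem
      obtain ⟨y₀, s, rfl⟩ := IsLocalization.exists_mk'_eq p.primeCompl y
      rw [mul_comm, IsLocalization.mul_mk'_eq_mk'_of_mul, IsLocalization.mk'_eq_iff_eq_mul,
        ← map_mul] at hy
      have h3 := hinj hy
      have : (s : A) ∈ p := (hc s).2 (by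
        rw [mul_comm, ← h3]
        exact Ideal.mul_mem_right _ _ (Ideal.mem_span_singleton_self b))
      exact s.2 this
    · intro r hr
      obtain ⟨r₀, s, rfl⟩ := IsLocalization.exists_mk'_eq p.primeCompl r
      rw [IsLocalization.AtPrime.mk'_mem_maximal_iff A' p] at hr
      obtain ⟨d, hd⟩ := Ideal.mem_span_singleton'.1 ((hc r₀).1 hr)
      rw [Ideal.mem_span_singleton']
      refine ⟨IsLocalization.mk' A' d s, ?_⟩
      rw [mul_comm, IsLocalization.mul_mk'_eq_mk'_of_mul, mul_comm _ (algebraMap A A' c),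
        IsLocalization.mul_mk'_eq_mk'_of_mul, mul_comm b d, hd, mul_comm]
  have h2 : ((maximalIdeal A').height : WithBot ℕ∞) = p.height := by
    rw [IsLocalRing.maximalIdeal_height_eq_ringKrullDim,
      IsLocalization.AtPrime.ringKrullDim_eq_height p]
  rw [h1] at h2
  exact_mod_cast h2.symm

end Groth.Agent.Lib.Helper12.SerreNormal
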