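import Mathlib
import Groth.Prelude.Def_CAlg
import Groth.Agent.Lib.Helper12.SerreNormalA
import Groth.Agent.Lib.Helper12.IndEtSk
import Groth.Agent.Lib.Helper12.DepthLocCoh
import Groth.Agent.Lib.Helper21.DepthKit1
import Groth.Agent.Lib.Helper2.R0S1
import Groth.Agent.Lib.helper19.RegularLocal

/-!
# Serre's criterion for normality: auxiliary results (localisation of `(R_k)`, `(S_k)`;
depth at most one at associated primes of principal ideals)
-/

set_option autoImplicit false
universe u

namespace Groth.Agent.Lib.Helper12.SerreNormal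

open IsLocalRing Groth.Agent.Lib.Helper12.IndEtLocal

/-- Depth of a local ring over itself is invariant under ring isomorphisms. -/
theorem depth_eq_of_ringEquiv {A B : Type u} [CommRing A] [CommRing B] [IsLocalRing A]
    [IsLocalRing B] [IsNoetherianRing A] [IsNoetherianRing B] (e : A ≃+* B) :
    LocCoh.depth B B = LocCoh.depth A A := by
  letI : Algebra A B := e.toRingHom.toAlgebra
  have hbij : Function.Bijective (Algebra.linearMap A B) := e.bijective
  haveI : Module.FaithfullyFlat A B :=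
    Module.FaithfullyFlat.of_linearEquiv A A
      (LinearEquiv.ofBijective (Algebra.linearMap A B) hbij).symm
  apply locCoh_depth_eq_of_faithfullyFlat A B
  exact IsLocalRing.map_ringEquiv_maximalIdeal e

/-- `(R_k)` passes to localizations at primes. -/
theorem hasRk_localization {R : Type u} [CommRing R] (k : ℕ) (h : LocCoh.HasRk k R)
    (P : Ideal R) [P.IsPrime] : LocCoh.HasRk k (Localization.AtPrime P) := by
  intro Q _ hQ
  have e := IsLocalization.localizationLocalizationAtPrimeIsoLocalization P.primeCompl Q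
  have hq : (Q.comap (algebraMap R (Localization P.primeCompl))).height ≤ k := by
    have := IsLocalization.height_under P.primeCompl Q
    rw [Ideal.under] at this
    rw [this]; exact hQ
  haveI := h _ hq
  exact IsRegularLocalRing.of_ringEquiv e.toRingEquiv

/-- `(S_k)` passes to localizations at primes. -/
theorem hasSk_localization {R : Type u} [CommRing R] [IsNoetherianRing R] (k : ℕ)
    (h : LocCoh.HasSk k R R) (P : Ideal R) [P.IsPrime] :
    LocCoh.HasSk k (Localization.AtPrime P) (Localization.AtPrime P) := by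
  intro Q _
  rw [supportDim_localizedModule, depth_localizedModule]
  have e := IsLocalization.localizationLocalizationAtPrimeIsoLocalization P.primeCompl Q
  have h1 := h (Q.comap (algebraMap R (Localization P.primeCompl)))
  rw [supportDim_localizedModule, depth_localizedModule] at h1
  have hh := IsLocalization.height_under P.primeCompl Q
  rw [Ideal.under] at hh
  rw [hh] at h1
  rw [depth_eq_of_ringEquiv e.toRingEquiv]
  exact h1

/-- If `m = (b : c)` with `b` a regular element of `m` and `c ∉ (b)`, then the depth is `≤ 1`. -/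
theorem depth_le_one {A : Type u} [CommRing A] [IsLocalRing A] [IsNoetherianRing A] (b c : A)
    (hbm : b ∈ maximalIdeal A) (hreg : IsSMulRegular A b) (hc : c ∉ Ideal.span {b})
    (hm : ∀ r ∈ maximalIdeal A, r * c ∈ Ideal.span {b}) : LocCoh.depth A A ≤ 1 := by
  have h1 := Groth.Agent.Lib.Helper21.DepthKit.depth_quotSMulTop (A := A) (M := A) b hbm hreg
  rw [← h1]
  have h0 : LocCoh.depth A (QuotSMulTop b A) = 0 := by
    by_contra hne
    have h1' : (1 : ℕ∞) ≤ LocCoh.depth A (QuotSMulTop b A) := ENat.one_le_iff_ne_zero.2 hne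
    haveI := Groth.Agent.Lib.Helper21.DepthKit.nontrivial_quotSMulTop (M := A) b hbm
    obtain ⟨x, hxm, hxreg⟩ := Groth.Agent.Lib.Helper2.R0S1.exists_regular_of_one_le_depth h1'
      Groth.Agent.Lib.Helper21.DepthKit.maximalIdeal_smul_top_ne_top
    have hx0 : x • (Submodule.Quotient.mk c : QuotSMulTop b A) = 0 := by
      rw [← Submodule.Quotient.mk_smul, Submodule.Quotient.mk_eq_zero,
        Submodule.mem_smul_pointwise_iff_exists]
      obtain ⟨d, hd⟩ := Ideal.mem_span_singleton'.1 (hm x hxm)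
      exact ⟨d, trivial, by rw [smul_eq_mul, smul_eq_mul, mul_comm, hd]⟩
    have hc0 : (Submodule.Quotient.mk c : QuotSMulTop b A) = 0 :=
      hxreg (by change x • (Submodule.Quotient.mk c : QuotSMulTop b A) = x • 0; rw [hx0, smul_zero])
    rw [Submodule.Quotient.mk_eq_zero, Submodule.mem_smul_pointwise_iff_exists] at hc0
    obtain ⟨d, -, hd⟩ := hc0
    exact hc (Ideal.mem_span_singleton'.2 ⟨d, by rw [mul_comm]; exact hd⟩)
  rw [h0, zero_add]

/-- Membership in a principal ideal of a localization at a prime, pulled back. -/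
theorem exists_mul_mem_of_map_mem {A : Type u} [CommRing A] (Q : Ideal A) [Q.IsPrime] (a b : A)
    (h : algebraMap A (Localization.AtPrime Q) a ∈
      Ideal.span {algebraMap A (Localization.AtPrime Q) b}) :
    ∃ s ∈ Q.primeCompl, s * a ∈ Ideal.span {b} := by
  obtain ⟨y, hy⟩ := Ideal.mem_span_singleton'.1 h
  obtain ⟨y₀, s, rfl⟩ := IsLocalization.exists_mk'_eq Q.primeCompl y
  rw [mul_comm, IsLocalization.mul_mk'_eq_mk'_of_mul, IsLocalization.mk'_eq_iff_eq_mul,
    ← map_mul] at hy
  obtain ⟨t, ht⟩ := (IsLocalization.eq_iff_exists Q.primeCompl _).1 hy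
  refine ⟨t * s, (t * s).2, ?_⟩
  rw [Ideal.mem_span_singleton']
  refine ⟨t * y₀, ?_⟩
  linear_combination ht

theorem smul_mk_eq' {A : Type u} [CommRing A] (a r b : A) :
    r • (Ideal.Quotient.mk (Ideal.span {a}) b) = Ideal.Quotient.mk (Ideal.span {a}) (r * b) := by
  rw [map_mul]
  rfl

/-- If `a ∉ (b)` there is an associated prime `Q = (b : c)` of `A/(b)` containing `(b : a)`. -/
theorem exists_ass_of_notMem {A : Type u} [CommRing A] [IsNoetherianRing A] (a b : A)
    (ha : a ∉ Ideal.span {b}) :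
    ∃ (Q : Ideal A) (_ : Q.IsPrime) (c : A), (∀ r, r ∈ Q ↔ r * c ∈ Ideal.span {b}) ∧
      (∀ s, s * a ∈ Ideal.span {b} → s ∈ Q) := by
  have ha' : (Ideal.Quotient.mk (Ideal.span {b}) a) ≠ 0 := by
    rwa [Ne, Ideal.Quotient.eq_zero_iff_mem]
  obtain ⟨Q, hQ, hle⟩ := exists_le_isAssociatedPrime_of_isNoetherianRing A
    (Ideal.Quotient.mk (Ideal.span {b}) a) ha'
  obtain ⟨hprime, x, hx⟩ := isAssociatedPrime_iff.1 hQ
  obtain ⟨c, rfl⟩ := Ideal.Quotient.mk_surjective x
  refine ⟨Q, hprime, c, fun r => ?_, fun s hs => hle ?_⟩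
  · rw [hx, Submodule.mem_colon_singleton, Submodule.mem_bot, smul_mk_eq',
      Ideal.Quotient.eq_zero_iff_mem]
  · rw [Submodule.mem_colon_singleton, Submodule.mem_bot, smul_mk_eq',
      Ideal.Quotient.eq_zero_iff_mem]
    exact hs

/-- Under `(R_1)` and `(S_2)`, the localization at an associated prime of `A/(b)`, `b` a
nonzerodivisor, is a normal domain. -/
theorem normal_at_ass {A : Type u} [CommRing A] [IsNoetherianRing A] (h1 : LocCoh.HasRk 1 A)
    (h2 : LocCoh.HasSk 2 A A) (b : A) (hb : b ∈ nonZeroDivisors A) (Q : Ideal A) [Q.IsPrime]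
    (c : A) (hc : ∀ r, r ∈ Q ↔ r * c ∈ Ideal.span {b}) :
    IsDomain (Localization.AtPrime Q) ∧ IsIntegrallyClosed (Localization.AtPrime Q) := by
  let A' := Localization.AtPrime Q
  have hbQ : b ∈ Q := (hc b).2 (Ideal.mul_mem_right _ _ (Ideal.mem_span_singleton_self b))
  have hbm : algebraMap A A' b ∈ maximalIdeal A' :=
    (IsLocalization.AtPrime.to_map_mem_maximal_iff A' Q b).2 hbQ
  have hbnzd : algebraMap A A' b ∈ nonZeroDivisors A' :=
    IsLocalization.map_nonZeroDivisors_le Q.primeCompl A' ⟨b, hb, rfl⟩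
  have hreg : IsSMulRegular A' (algebraMap A A' b) := by
    intro x y hxy
    exact (mul_cancel_left_mem_nonZeroDivisors hbnzd).mp hxy
  have hc' : algebraMap A A' c ∉ Ideal.span {algebraMap A A' b} := by
    intro hmem
    obtain ⟨s, hs, hsc⟩ := exists_mul_mem_of_map_mem Q c b hmem
    exact hs ((hc s).2 hsc)
  have hm' : ∀ r ∈ maximalIdeal A', r * algebraMap A A' c ∈ Ideal.span {algebraMap A A' b} := by
    intro r hr
    obtain ⟨r₀, s, rfl⟩ := IsLocalization.exists_mk'_eq Q.primeCompl r
    rw [IsLocalization.AtPrime.mk'_mem_maximal_iff A' Q] at hr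
    obtain ⟨d, hd⟩ := Ideal.mem_span_singleton'.1 ((hc r₀).1 hr)
    rw [Ideal.mem_span_singleton']
    refine ⟨IsLocalization.mk' A' d s, ?_⟩
    rw [mul_comm, IsLocalization.mul_mk'_eq_mk'_of_mul, mul_comm _ (algebraMap A A' c),
      IsLocalization.mul_mk'_eq_mk'_of_mul, mul_comm b d, hd, mul_comm]
  have hdepth : LocCoh.depth A' A' ≤ 1 := depth_le_one _ _ hbm hreg hc' hm'
  have hS := h2 Q
  rw [supportDim_localizedModule, depth_localizedModule] at hS
  have hht : Q.height ≤ 1 := by
    by_contra hlt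
    push Not at hlt
    have h2' : (2 : ℕ∞) ≤ Q.height := Order.add_one_le_of_lt hlt
    have hmin : min ((2 : ℕ) : WithBot ℕ∞) ((Q.height : ℕ∞) : WithBot ℕ∞) =
        ((2 : ℕ) : WithBot ℕ∞) := by
      apply min_eq_left
      have e2 : ((2 : ℕ) : WithBot ℕ∞) = (((2 : ℕ) : ℕ∞) : WithBot ℕ∞) := rfl
      rw [e2, WithBot.coe_le_coe]
      exact_mod_cast h2'
    rw [hmin] at hS
    have e2 : ((2 : ℕ) : WithBot ℕ∞) = (((2 : ℕ) : ℕ∞) : WithBot ℕ∞) := rfl
    rw [e2, WithBot.coe_le_coe] at hS
    have : ((2 : ℕ) : ℕ∞) ≤ 1 := hS.trans hdepth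
    exact absurd this (by decide)
  haveI hregl : IsRegularLocalRing A' := h1 Q (by exact_mod_cast hht)
  haveI hdom : IsDomain A' := Groth.Agent.Lib.helper19.isDomain_of_isRegularLocalRing A'
  refine ⟨hdom, ?_⟩
  have hfin : Module.finrank (ResidueField A') (CotangentSpace A') ≤ 1 := by
    rw [← IsLocalRing.spanFinrank_maximalIdeal_eq_finrank_cotangentSpace]
    have h3 := hregl.spanFinrank_maximalIdeal
    rw [IsLocalization.AtPrime.ringKrullDim_eq_height Q] at h3
    have h4 : (((maximalIdeal A').spanFinrank : ℕ∞) : WithBot ℕ∞) ≤ ((1 : ℕ∞) : WithBot ℕ∞) := by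
      have : (((maximalIdeal A').spanFinrank : ℕ∞) : WithBot ℕ∞) = (Q.height : WithBot ℕ∞) := by
        exact_mod_cast h3
      rw [this]
      exact WithBot.coe_le_coe.2 hht
    exact_mod_cast WithBot.coe_le_coe.1 h4
  have htfae : Module.finrank (ResidueField A') (CotangentSpace A') ≤ 1 ↔
      (IsIntegrallyClosed A' ∧ ∀ P : Ideal A', P ≠ ⊥ → P.IsPrime → P = maximalIdeal A') :=
    (tfae_of_isNoetherianRing_of_isLocalRing_of_isDomain A').out 5 3
  exact (htfae.1 hfin).1

end Groth.Agent.Lib.Helper12.SerreNormal
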