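import Mathlib
import Groth.Prelude.Def_CAlgX

/-!
# Unique minimal primes and quotients by nilpotent ideals
-/

set_option autoImplicit false
universe u

namespace Groth.Agent.Lib.Helper12.UniqueMinPrime

variable {A S : Type u} [CommRing A] [CommRing S] [Algebra A S]

theorem map_nilradical_le : (nilradical A).map (algebraMap A S) ≤ nilradical S := by
  rw [Ideal.map_le_iff_le_comap]
  intro a ha
  rw [Ideal.mem_comap, mem_nilradical]
  exact (mem_nilradical.mp ha).map _

theorem nilradical_eq_of_unique {P : Ideal S} (hP : P ∈ minimalPrimes S)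
    (hu : ∀ Q ∈ minimalPrimes S, Q = P) : nilradical S = P := by
  have h1 : nilradical S = sInf (minimalPrimes S) := by
    rw [nilradical, minimalPrimes, Ideal.sInf_minimalPrimes, Ideal.zero_eq_bot]
  rw [h1]
  apply le_antisymm
  · exact sInf_le hP
  · apply le_sInf
    intro Q hQ
    rw [hu Q hQ]

/-- If `S / J` is a domain with `J` nilpotent-ish, then `S` has a unique minimal prime. -/
theorem hasUniqueMinimalPrime_of_isDomain_quotient (J : Ideal S) (hJ : J ≤ nilradical S)
    [IsDomain (S ⧸ J)] : CAlgX.HasUniqueMinimalPrime S := by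
  have hprime : J.IsPrime := (Ideal.Quotient.isDomain_iff_prime J).mp inferInstance
  have hle : ∀ Q : Ideal S, Q.IsPrime → J ≤ Q := fun Q hQ =>
    hJ.trans (nilradical_le_prime Q)
  refine ⟨J, ?_, ?_⟩
  · refine ⟨⟨hprime, bot_le⟩, fun Q hQ _ => hle Q hQ.1⟩
  · intro Q hQ
    exact le_antisymm (hQ.2 ⟨hprime, bot_le⟩ (hle Q hQ.1.1)) (hle Q hQ.1.1)

/-- If `S` has a unique minimal prime and `A → S` is injective, `nilradical A` is prime. -/
theorem nilradical_isPrime_of_hasUniqueMinimalPrime
    (hinj : Function.Injective (algebraMap A S)) (h : CAlgX.HasUniqueMinimalPrime S) :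
    (nilradical A).IsPrime := by
  obtain ⟨P, hP, hu⟩ := h
  have h1 : nilradical S = P := nilradical_eq_of_unique hP hu
  have h2 : nilradical A = (nilradical S).comap (algebraMap A S) := by
    ext a
    rw [Ideal.mem_comap, mem_nilradical, mem_nilradical]
    constructor
    · exact fun h => h.map _
    · rintro ⟨n, hn⟩
      refine ⟨n, hinj ?_⟩
      rw [map_pow, hn, map_zero]
  rw [h2, h1]
  haveI := hP.1.1
  exact Ideal.IsPrime.comap _

/-- If `S` has a unique minimal prime and `S / J` is reduced with `J ≤ nilradical S`, then `S / J`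
is a domain. -/
theorem isDomain_quotient_of_hasUniqueMinimalPrime (J : Ideal S) (hJ : J ≤ nilradical S)
    [IsReduced (S ⧸ J)] (h : CAlgX.HasUniqueMinimalPrime S) : IsDomain (S ⧸ J) := by
  obtain ⟨P, hP, hu⟩ := h
  have h1 : nilradical S = P := nilradical_eq_of_unique hP hu
  have hrad : J.IsRadical := (Ideal.isRadical_iff_quotient_reduced J).mpr inferInstance
  have h2 : nilradical S ≤ J := by
    intro x hx
    obtain ⟨n, hn⟩ := mem_nilradical.mp hx
    exact hrad ⟨n, by rw [hn]; exact J.zero_mem⟩
  have h3 : J = P := by rw [← h1]; exact le_antisymm hJ h2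
  rw [Ideal.Quotient.isDomain_iff_prime, h3]
  exact hP.1.1

end Groth.Agent.Lib.Helper12.UniqueMinPrime
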