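import Mathlib
import Groth.Prelude.Def_CAlg
import Groth.Agent.Lib.Helper12.SerreNormalB
import Groth.Agent.Lib.Helper12.UniqueMinPrime
import Groth.Agent.S0602

/-!
# Serre's criterion for normality `(R_1) + (S_2)`
-/

set_option autoImplicit false
universe u

namespace Groth.Agent.Lib.Helper12.SerreNormal

open IsLocalRing Groth.Agent.Lib.Helper12.IndEtLocal

section backward

/-- Quadratic special case of integral closedness under `(R_1) + (S_2)`. -/
theorem key_quadratic {A : Type u} [CommRing A] [IsNoetherianRing A] (h1 : LocCoh.HasRk 1 A)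
    (h2 : LocCoh.HasSk 2 A A) (u b : A) (hb : b ∈ nonZeroDivisors A) (huu : u * u = u * b) :
    u ∈ Ideal.span {b} := by
  by_contra hu
  obtain ⟨Q, hQ, c, hc, hle⟩ := exists_ass_of_notMem u b hu
  haveI := hQ
  obtain ⟨hdom, -⟩ := normal_at_ass h1 h2 b hb Q c hc
  haveI := hdom
  have h0 : algebraMap A (Localization.AtPrime Q) u *
      (algebraMap A (Localization.AtPrime Q) u - algebraMap A (Localization.AtPrime Q) b) = 0 := by
    rw [mul_sub, ← map_mul, ← map_mul, huu, sub_self]
  have hmem : algebraMap A (Localization.AtPrime Q) u ∈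
      Ideal.span {algebraMap A (Localization.AtPrime Q) b} := by
    rcases mul_eq_zero.1 h0 with h | h
    · rw [h]; exact Ideal.zero_mem _
    · rw [sub_eq_zero.1 h]; exact Ideal.mem_span_singleton_self _
  obtain ⟨s, hs, hsu⟩ := exists_mul_mem_of_map_mem Q u b hmem
  exact hs (hle s hsu)

/-- A Noetherian domain with `(R_1)` and `(S_2)` is integrally closed. -/
theorem isIntegrallyClosed_of_R1_S2 {A : Type u} [CommRing A] [IsDomain A] [IsNoetherianRing A]
    (h1 : LocCoh.HasRk 1 A) (h2 : LocCoh.HasSk 2 A A) : IsIntegrallyClosed A := by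
  rw [isIntegrallyClosed_iff (FractionRing A)]
  intro x hx
  obtain ⟨a, b, hb, rfl⟩ := IsFractionRing.div_surjective (A := A) x
  have hbK : algebraMap A (FractionRing A) b ≠ 0 :=
    IsFractionRing.to_map_ne_zero_of_mem_nonZeroDivisors hb
  by_cases hab : a ∈ Ideal.span {b}
  · obtain ⟨y, hy⟩ := Ideal.mem_span_singleton'.1 hab
    refine ⟨y, ?_⟩
    rw [eq_div_iff hbK, ← map_mul, hy]
  · exfalso
    obtain ⟨Q, hQ, c, hc, hle⟩ := exists_ass_of_notMem a b hab
    haveI := hQ
    obtain ⟨hdom, hic⟩ := normal_at_ass h1 h2 b hb Q c hc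
    haveI := hdom
    haveI := hic
    have hx' : IsIntegral (Localization.AtPrime Q)
        (algebraMap A (FractionRing A) a / algebraMap A (FractionRing A) b) := hx.tower_top
    obtain ⟨y, hy⟩ := (IsIntegrallyClosed.isIntegral_iff (R := Localization.AtPrime Q)
      (K := FractionRing A)).1 hx'
    have hmem : algebraMap A (Localization.AtPrime Q) a ∈
        Ideal.span {algebraMap A (Localization.AtPrime Q) b} := by
      rw [Ideal.mem_span_singleton']
      refine ⟨y, ?_⟩
      apply IsFractionRing.injective (Localization.AtPrime Q) (FractionRing A)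
      rw [map_mul, hy, ← IsScalarTower.algebraMap_apply, ← IsScalarTower.algebraMap_apply,
        div_mul_cancel₀ _ hbK]
    obtain ⟨s, hs, hsu⟩ := exists_mul_mem_of_map_mem Q a b hmem
    exact hs (hle s hsu)

/-- A reduced Noetherian local ring in which `u² = u b`, `b` a nonzerodivisor, forces `u ∈ (b)`,
is a domain. -/
theorem isDomain_of_local {A : Type u} [CommRing A] [IsLocalRing A] [IsNoetherianRing A]
    [IsReduced A]
    (key : ∀ u b : A, b ∈ nonZeroDivisors A → u * u = u * b → u ∈ Ideal.span {b}) :
    IsDomain A := by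
  classical
  obtain ⟨⟨P₁, hP₁⟩⟩ := Ideal.nonempty_minimalPrimes (I := (⊥ : Ideal A)) bot_ne_top
  have hP₁' : P₁ ∈ minimalPrimes A := hP₁
  have hnil : sInf (minimalPrimes A) = ⊥ := by
    rw [minimalPrimes, Ideal.sInf_minimalPrimes]
    exact nilradical_eq_zero A
  by_cases hu : ∀ Q ∈ minimalPrimes A, Q = P₁
  · have h1 := Groth.Agent.Lib.Helper12.UniqueMinPrime.nilradical_eq_of_unique hP₁' hu
    rw [nilradical_eq_zero A] at h1
    have : (⊥ : Ideal A).IsPrime := by
      rw [← Ideal.zero_eq_bot, h1]; exact hP₁.1.1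
    exact IsDomain.of_bot_isPrime A
  · exfalso
    push Not at hu
    obtain ⟨P₂, hP₂, hne⟩ := hu
    have hfin := minimalPrimes.finite_of_isNoetherianRing A
    let S := hfin.toFinset.erase P₁
    have hS : ∀ P, P ∈ S ↔ P ∈ minimalPrimes A ∧ P ≠ P₁ := by
      intro P
      simp only [S, Finset.mem_erase, Set.Finite.mem_toFinset]
      exact and_comm
    have hv : ∃ v ∈ P₁, ∀ P ∈ S, v ∉ P := by
      by_contra hcon
      push Not at hcon
      have hsub : (P₁ : Set A) ⊆ ⋃ P ∈ (S : Set (Ideal A)), (P : Set A) := by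
        intro v hv
        obtain ⟨P, hP, hvP⟩ := hcon v hv
        simp only [Set.mem_iUnion]
        exact ⟨P, by simpa using hP, hvP⟩
      obtain ⟨P, hP, hle⟩ := (Ideal.subset_union_prime (f := fun P : Ideal A => P) P₁ P₁
        (fun P hP _ _ => ((hS P).1 hP).1.1.1)).1 hsub
      have hPm := (hS P).1 hP
      have : P ≤ P₁ := hPm.1.2 ⟨hP₁.1.1, bot_le⟩ hle
      exact hPm.2 (le_antisymm this hle)
    obtain ⟨v, hvP₁, hv⟩ := hv
    have hu' : ∃ u, (∀ P ∈ S, u ∈ P) ∧ u ∉ P₁ := by
      by_contra hcon
      push Not at hcon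
      have hle : S.inf (fun P => P) ≤ P₁ := by
        intro u hu
        apply hcon u
        intro P hP
        exact (Finset.inf_le hP : S.inf (fun P => P) ≤ P) hu
      obtain ⟨P, hP, hPle⟩ := (Ideal.IsPrime.inf_le' (hP₁.1.1)).1 hle
      have hPm := (hS P).1 hP
      have : P₁ ≤ P := hP₁.2 ⟨hPm.1.1.1, bot_le⟩ hPle
      exact hPm.2 (le_antisymm hPle this)
    obtain ⟨u, huS, huP₁⟩ := hu'
    have huv : u * v = 0 := by
      have : u * v ∈ sInf (minimalPrimes A) := by
        rw [Ideal.mem_sInf]
        intro P hP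
        by_cases hPP : P = P₁
        · rw [hPP]; exact Ideal.mul_mem_left _ _ hvP₁
        · exact Ideal.mul_mem_right _ _ (huS P ((hS P).2 ⟨hP, hPP⟩))
      rwa [hnil, Ideal.mem_bot] at this
    have hnzd : u + v ∈ nonZeroDivisors A := by
      apply Groth.Agent.Lib.Helper2.R0S1.mem_nonZeroDivisors_of_notMem_minimalPrimes
      intro P hP huvP
      by_cases hPP : P = P₁
      · rw [hPP] at huvP
        exact huP₁ ((Ideal.add_mem_iff_left _ hvP₁).1 huvP)
      · have hPS := (hS P).2 ⟨hP, hPP⟩
        exact hv P hPS ((Ideal.add_mem_iff_right _ (huS P hPS)).1 huvP)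
    have e1 : u * u = u * (u + v) := by rw [mul_add, huv, add_zero]
    have hkey := key u (u + v) hnzd e1
    obtain ⟨c, hc⟩ := Ideal.mem_span_singleton'.1 hkey
    have hidem : c * c = c := by
      have h0 : (c * c - c) * ((u + v) * (u + v)) = 0 := by
        linear_combination e1 + (c * (u + v) - v) * hc
      have := (mem_nonZeroDivisors_iff_right.1 (mul_mem hnzd hnzd)) _ h0
      exact sub_eq_zero.1 this
    rcases IsLocalRing.isUnit_or_isUnit_one_sub_self c with hcu | hcu
    · have hc1 : c = 1 := by
        have h0 : c * (1 - c) = 0 := by rw [mul_sub, mul_one, hidem, sub_self]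
        have := (hcu.mul_right_eq_zero).1 h0
        exact (sub_eq_zero.1 this).symm
      rw [hc1, one_mul] at hc
      have hv0 : v = 0 := by linear_combination hc
      have hP₂S := (hS P₂).2 ⟨hP₂, hne⟩
      exact hv P₂ hP₂S (hv0 ▸ Ideal.zero_mem _)
    · have hc0 : c = 0 := by
        have h0 : (1 - c) * c = 0 := by rw [sub_mul, one_mul, hidem, sub_self]
        exact (hcu.mul_right_eq_zero).1 h0
      rw [hc0, zero_mul] at hc
      exact huP₁ (hc ▸ Ideal.zero_mem _)

/-- `(R_1) + (S_2)` implies that all local rings are normal domains. -/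
theorem backward {R : Type u} [CommRing R] [IsNoetherianRing R] (h1 : LocCoh.HasRk 1 R)
    (h2 : LocCoh.HasSk 2 R R) (p : Ideal R) [p.IsPrime] :
    IsDomain (Localization.AtPrime p) ∧ IsIntegrallyClosed (Localization.AtPrime p) := by
  have h1' := hasRk_localization 1 h1 p
  have h2' := hasSk_localization 2 h2 p
  haveI : IsReduced (Localization.AtPrime p) := by
    rw [Groth.Agent.S0602.result (Localization.AtPrime p)]
    refine ⟨fun q _ hq => h1' q (hq.trans (by norm_num)), fun q _ => ?_⟩
    refine le_trans (min_le_min_right _ ?_) (h2' q)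
    exact_mod_cast (by norm_num : (1 : ℕ) ≤ 2)
  haveI : IsDomain (Localization.AtPrime p) :=
    isDomain_of_local (fun u b hb huu => key_quadratic h1' h2' u b hb huu)
  exact ⟨inferInstance, isIntegrallyClosed_of_R1_S2 h1' h2'⟩

end backward

section forward

/-- A Noetherian local normal domain of dimension at most one is regular. -/
theorem isRegularLocalRing_of_normal_of_dim_le_one (A : Type u) [CommRing A] [IsDomain A]
    [IsLocalRing A] [IsNoetherianRing A] [IsIntegrallyClosed A] (h : ringKrullDim A ≤ 1) :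
    IsRegularLocalRing A := by
  haveI : Ring.KrullDimLE 1 A := Ring.krullDimLE_iff.2 (by exact_mod_cast h)
  have htfae : (IsIntegrallyClosed A ∧
      ∀ P : Ideal A, P ≠ ⊥ → P.IsPrime → P = maximalIdeal A) ↔ IsPrincipalIdealRing A :=
    (tfae_of_isNoetherianRing_of_isLocalRing_of_isDomain A).out 3 0
  haveI : IsPrincipalIdealRing A := htfae.1 ⟨inferInstance, fun P hP hP' =>
    IsLocalRing.eq_maximalIdeal (hP'.isMaximal_of_ne_bot hP)⟩
  infer_instance

open RingTheory.Sequence in
/-- A Noetherian local normal domain has depth at least `min(2, dim)`. -/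
theorem min_two_le_depth (A : Type u) [CommRing A] [IsDomain A] [IsLocalRing A]
    [IsNoetherianRing A] [IsIntegrallyClosed A] :
    min ((2 : ℕ) : WithBot ℕ∞) (ringKrullDim A) ≤ ((LocCoh.depth A A : ℕ∞) : WithBot ℕ∞) := by
  classical
  by_cases hm0 : maximalIdeal A = ⊥
  · have hf : IsField A := IsLocalRing.isField_iff_maximalIdeal_eq.2 hm0
    rw [ringKrullDim_eq_zero_of_isField hf]
    refine (min_le_right _ _).trans ?_
    exact_mod_cast (zero_le : (0 : ℕ∞) ≤ LocCoh.depth A A)
  · obtain ⟨b, hbm, hb0⟩ := Submodule.exists_mem_ne_zero_of_ne_bot hm0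
    have hbreg : IsSMulRegular A b := fun c d hcd => mul_left_cancel₀ hb0 hcd
    by_cases h2 : (2 : ℕ∞) ≤ (maximalIdeal A).height
    · have hfin := associatedPrimes.finite A (A ⧸ Ideal.span {b})
      have hy : ∃ y ∈ maximalIdeal A, ∀ P ∈ associatedPrimes A (A ⧸ Ideal.span {b}), y ∉ P := by
        by_contra hcon
        push Not at hcon
        have hsub : (maximalIdeal A : Set A) ⊆
            ⋃ P ∈ (hfin.toFinset : Set (Ideal A)), (P : Set A) := by
          intro y hy
          obtain ⟨P, hP, hyP⟩ := hcon y hy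
          simp only [Set.mem_iUnion]
          exact ⟨P, by simpa using hP, hyP⟩
        obtain ⟨P, hP, hpP⟩ := (Ideal.subset_union_prime (f := fun P : Ideal A => P)
          (maximalIdeal A) (maximalIdeal A)
          (fun P hP _ _ => ((hfin.mem_toFinset.1 hP) : IsAssociatedPrime P _).isPrime)).1 hsub
        have h1 : P.height = 1 :=
          height_eq_one_of_mem_associatedPrimes A b hb0 P (hfin.mem_toFinset.1 hP)
        have := (Ideal.height_mono hpP).trans h1.le
        have h21 : (2 : ℕ∞) ≤ 1 := h2.trans this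
        exact absurd h21 (by decide)
      obtain ⟨y, hym, hy⟩ := hy
      have hyreg : IsSMulRegular (QuotSMulTop b A) y := by
        rw [isSMulRegular_quotient_iff_mem_of_smul_mem]
        intro c hc
        by_contra hcn
        have hc' : (Ideal.Quotient.mk (Ideal.span {b}) c) ≠ 0 := by
          rw [Ne, Ideal.Quotient.eq_zero_iff_mem, Ideal.mem_span_singleton']
          rintro ⟨d, hd⟩
          apply hcn
          rw [Submodule.mem_smul_pointwise_iff_exists]
          exact ⟨d, trivial, by rw [smul_eq_mul, ← hd, mul_comm]⟩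
        obtain ⟨P, hP, hle⟩ := exists_le_isAssociatedPrime_of_isNoetherianRing A
          (Ideal.Quotient.mk (Ideal.span {b}) c) hc'
        apply hy P hP
        apply hle
        rw [Submodule.mem_colon_singleton, Submodule.mem_bot, smul_mk_eq',
          Ideal.Quotient.eq_zero_iff_mem, Ideal.mem_span_singleton']
        rw [Submodule.mem_smul_pointwise_iff_exists] at hc
        obtain ⟨d, -, hd⟩ := hc
        exact ⟨d, by rw [mul_comm, ← smul_eq_mul, hd, smul_eq_mul]⟩
      have hreg : IsWeaklyRegular A [b, y] := by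
        rw [isWeaklyRegular_cons_iff, isWeaklyRegular_cons_iff]
        exact ⟨hbreg, hyreg, IsWeaklyRegular.nil _ _⟩
      have hlen := Groth.Agent.Lib.Helper21.DepthKit.length_le_idealDepth (maximalIdeal A) _ hreg
        (by
          intro r hr
          simp only [List.mem_cons, List.not_mem_nil, or_false] at hr
          rcases hr with rfl | rfl
          · exact hbm
          · exact hym)
      refine (min_le_left _ _).trans ?_
      have e2 : ((2 : ℕ) : WithBot ℕ∞) = (((2 : ℕ) : ℕ∞) : WithBot ℕ∞) := rfl
      rw [e2, WithBot.coe_le_coe]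
      exact hlen
    · have h1 : (maximalIdeal A).height ≤ 1 := by
        push Not at h2
        exact ENat.lt_two_iff.1 h2
      have hd : (1 : ℕ∞) ≤ LocCoh.depth A A :=
        Groth.Agent.Lib.Helper2.R0S1.one_le_depth_of_regular hbm hbreg
      rw [← IsLocalRing.maximalIdeal_height_eq_ringKrullDim]
      refine (min_le_right _ _).trans ?_
      exact WithBot.coe_le_coe.2 (h1.trans hd)

/-- All local rings normal domains implies `(R_1) + (S_2)`. -/
theorem forward {R : Type u} [CommRing R] [IsNoetherianRing R]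
    (h : ∀ (p : Ideal R) [p.IsPrime], IsDomain (Localization.AtPrime p) ∧
      IsIntegrallyClosed (Localization.AtPrime p)) :
    LocCoh.HasRk 1 R ∧ LocCoh.HasSk 2 R R := by
  constructor
  · intro p _ hp
    obtain ⟨hd, hi⟩ := h p
    apply isRegularLocalRing_of_normal_of_dim_le_one
    rw [IsLocalization.AtPrime.ringKrullDim_eq_height p]
    exact_mod_cast hp
  · intro p _
    obtain ⟨hd, hi⟩ := h p
    rw [supportDim_localizedModule, depth_localizedModule,
      ← IsLocalization.AtPrime.ringKrullDim_eq_height p (Localization.AtPrime p)]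
    exact min_two_le_depth _

end forward

end Groth.Agent.Lib.Helper12.SerreNormal
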