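import Groth.Agent.Lib.Helper12.GonfG

/-!
# Gonflement of a noetherian local ring (EGA 0_III 10.3.1)
-/

set_option autoImplicit false
universe u v

namespace Groth.Agent.Lib.Helper12.Gonf

open MvPolynomial IsLocalRing

/-- **Gonflement of noetherian local rings.** -/
theorem exists_noetherian_flat_local_algebra (A : Type u) [CommRing A] [IsNoetherianRing A]
    [IsLocalRing A] (K : Type u) [Field K] [Algebra (ResidueField A) K] :
    ∃ (B : Type u) (_ : CommRing B) (_ : Algebra A B), IsNoetherianRing B ∧ IsLocalRing B ∧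
      IsLocalHom (algebraMap A B) ∧ Module.Flat A B ∧
      ∃ e : (B ⧸ (maximalIdeal A).map (algebraMap A B)) ≃+* K,
        ∀ a : A, e (Ideal.Quotient.mk _ (algebraMap A B a)) =
          algebraMap (ResidueField A) K (residue A a) := by
  letI : Algebra A K := ((algebraMap (ResidueField A) K).comp (residue A)).toAlgebra
  haveI : IsScalarTower A (ResidueField A) K := IsScalarTower.of_algebraMap_eq (fun _ => rfl)
  obtain ⟨s, hs⟩ := exists_isTranscendenceBasis (ResidueField A) K
  have hN₁ : IsNoetherianRing (A₁ A s) :=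
    isNoetherianRing_localization_map_C A (𝔭₁ A s) (ker_Φ₁ A hs.1)
  obtain ⟨B, i1, i2, i3, hflat, hint, hm, hN, ψ, hψs, hψk, hψc⟩ :=
    exists_gonflement_of_ringHom' (A₁ A s) K (φ₁ A s) (ker_φ₁ A s) (exists_polynomial_A₁ A hs)
  letI : Algebra A B := ((algebraMap (A₁ A s) B).comp (algebraMap A (A₁ A s))).toAlgebra
  haveI : IsScalarTower A (A₁ A s) B := IsScalarTower.of_algebraMap_eq (fun _ => rfl)
  have hflat1 : Module.Flat A (A₁ A s) := flat_A₁ A s
  have hflatB : Module.Flat A B := Module.Flat.trans A (A₁ A s) B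
  have hmB : (maximalIdeal A).map (algebraMap A B) = maximalIdeal B := by
    rw [IsScalarTower.algebraMap_eq A (A₁ A s) B, ← Ideal.map_map, map_maximalIdeal_A₁ A hs.1, hm]
  have hloc : IsLocalHom (algebraMap A B) :=
    ((IsLocalRing.local_hom_TFAE (algebraMap A B)).out 0 2).mpr hmB.le
  refine ⟨B, i1, inferInstance, hN hN₁, i2, hloc, hflatB, ?_⟩
  have hker : (maximalIdeal A).map (algebraMap A B) = RingHom.ker ψ := by rw [hmB, hψk]
  refine ⟨(Ideal.quotEquivOfEq hker).trans (RingHom.quotientKerEquivOfSurjective hψs), fun a => ?_⟩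
  change ψ (algebraMap (A₁ A s) B (algebraMap A (A₁ A s) a)) = _
  rw [hψc, φ₁_algebraMap']
  rfl

end Groth.Agent.Lib.Helper12.Gonf
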