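import Groth.Agent.Lib.Helper12.GabberIdem
import Mathlib.RingTheory.Flat.EquationalCriterion
import Mathlib.RingTheory.Localization.Away.Basic
import Mathlib.RingTheory.Finiteness.Nakayama

set_option autoImplicit false

/-!
# From a rank one idempotent of a finite algebra to a section
-/

namespace Groth.Agent.Lib.Helper12

variable {A : Type*} [CommRing A] {I : Ideal A}

theorem exists_sum_of_smul_eq_zero_of_flat {R M : Type*} [CommRing R] [AddCommGroup M]
    [Module R M] [Module.Flat R M] (k : R) (x : M) (h : k • x = 0) :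
    ∃ (n : ℕ) (a : Fin n → R) (y : Fin n → M), x = ∑ j, a j • y j ∧ ∀ j, k * a j = 0 := by
  have h' : ∑ _i : Unit, (fun _ : Unit => k) _i • (fun _ : Unit => x) _i = 0 := by simpa using h
  obtain ⟨n, a, y, h1, h2⟩ := Module.Flat.isTrivialRelation_of_sum_smul_eq_zero h'
  exact ⟨n, a (), y, h1 (), fun j => by simpa using h2 j⟩

section

variable {B : Type*} [CommRing B] [Algebra A B] [Module.Finite A B]
  (φ : B →ₐ[A] A ⧸ I) (e : B)

theorem exists_smul_eq_mul_of_idempotent (hjac : I ≤ Ideal.jacobson ⊥)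
    (he : IsIdempotentElem e)
    (hker : ∀ z, φ z = 0 → e * z ∈ I.map (algebraMap A B)) (x : B) :
    ∃ r : A, e * x = r • e := by
  let N : Submodule A B := LinearMap.range (LinearMap.mulLeft A e)
  have hNfg : N.FG := by
    show (LinearMap.range (LinearMap.mulLeft A e)).FG
    rw [LinearMap.range_eq_map]
    exact Submodule.FG.map _ Module.Finite.fg_top
  have hle : N ≤ Submodule.span A {e} := by
    apply Submodule.le_of_le_smul_of_le_jacobson_bot hNfg hjac
    rintro _ ⟨x, rfl⟩
    show e * x ∈ _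
    obtain ⟨a, ha⟩ := Ideal.Quotient.mk_surjective (φ x)
    have hz : φ (x - a • 1) = 0 := by
      rw [map_sub, map_smul, map_one, ← ha, Algebra.smul_def, mul_one]
      exact sub_self _
    have h1 : e * (x - a • 1) ∈ I • (⊤ : Submodule A B) := by
      rw [Ideal.smul_top_eq_map]
      exact hker _ hz
    have h2 : e * (e * (x - a • 1)) ∈ I • N := by
      have : (I • (⊤ : Submodule A B)).map (LinearMap.mulLeft A e) = I • N := by
        rw [Submodule.map_smul'', Submodule.map_top]
      rw [← this]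
      exact ⟨_, h1, rfl⟩
    rw [← mul_assoc, he.eq] at h2
    have h3 : e * x = a • e + e * (x - a • 1) := by
      rw [mul_sub, mul_smul_comm, mul_one]
      ring
    rw [h3]
    exact Submodule.add_mem_sup (Submodule.smul_mem _ _ (Submodule.mem_span_singleton_self e)) h2
  have : e * x ∈ N := ⟨x, rfl⟩
  obtain ⟨r, hr⟩ := Submodule.mem_span_singleton.mp (hle this)
  exact ⟨r, hr.symm⟩

theorem eq_zero_of_smul_idempotent_eq_zero (hjac : I ≤ Ideal.jacobson ⊥)
    (he : IsIdempotentElem e) (hφe : φ e = 1)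
    (hker : ∀ z, φ z = 0 → e * z ∈ I.map (algebraMap A B))
    (Δ : B) (hΔ : IsUnit (φ Δ)) [Module.Flat A (Localization.Away Δ)]
    (k : A) (hk : k • e = 0) : k = 0 := by
  have hmul := exists_smul_eq_mul_of_idempotent φ e hjac he hker
  -- `Δ e = d e` with `d` a unit
  obtain ⟨d, hd⟩ := hmul Δ
  have hdu : IsUnit d := by
    apply isUnit_of_isUnit_mk hjac
    have := congrArg φ hd
    rw [map_mul, hφe, one_mul, map_smul, hφe, Algebra.smul_def, mul_one] at this
    rw [show Ideal.Quotient.mk I d = algebraMap A (A ⧸ I) d from rfl, ← this]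
    exact hΔ
  obtain ⟨dinv, hdinv⟩ := hdu.exists_right_inv
  have hdpow : ∀ t : ℕ, Δ ^ t * e = (d ^ t) • e := by
    intro t
    induction t with
    | zero => simp
    | succ t ih =>
      rw [pow_succ, mul_assoc, mul_comm Δ e, hd, mul_smul_comm, ih, smul_smul, pow_succ, mul_comm]
  set L := Localization.Away Δ with hL
  set e' : L := algebraMap B L e with he'
  have hΔ' : IsUnit (algebraMap B L Δ) := IsLocalization.Away.algebraMap_isUnit Δ
  have hsm : ∀ (r : A) (b : B), r • algebraMap B L b = algebraMap B L (r • b) := by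
    intro r b
    rw [Algebra.smul_def r b, map_mul, ← IsScalarTower.algebraMap_apply, ← Algebra.smul_def]
  have hk' : k • e' = 0 := by
    rw [he', hsm, hk, map_zero]
  obtain ⟨n, a, y, hsum, hka⟩ := exists_sum_of_smul_eq_zero_of_flat k e' hk'
  -- every multiple of `e'` is an `A`-multiple
  have hmul' : ∀ z : L, ∃ r : A, e' * z = r • e' := by
    intro z
    obtain ⟨t, x, hx⟩ := IsLocalization.Away.surj Δ z
    obtain ⟨r₁, hr₁⟩ := hmul x
    refine ⟨r₁ * dinv ^ t, ?_⟩
    apply (hΔ'.pow t).mul_left_injective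
    show e' * z * algebraMap B L Δ ^ t = (r₁ * dinv ^ t) • e' * algebraMap B L Δ ^ t
    have h1 : e' * z * algebraMap B L Δ ^ t = r₁ • e' := by
      rw [mul_assoc, hx, he', ← map_mul, hr₁, hsm]
    have h2 : e' * algebraMap B L Δ ^ t = (d ^ t) • e' := by
      rw [he', ← map_pow, ← map_mul, mul_comm, hdpow, hsm]
    rw [h1, smul_mul_assoc, h2, smul_smul, mul_assoc, ← mul_pow, mul_comm dinv d, hdinv, one_pow,
      mul_one]
  choose r hr using fun j => hmul' (y j)
  have he'idem : e' * e' = e' := by rw [he', ← map_mul, he.eq]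
  set s : A := ∑ j, a j * r j with hs
  have hse : e' = s • e' := by
    have h1 : e' * e' = e' * ∑ j, a j • y j := congrArg (e' * ·) hsum
    rw [he'idem] at h1
    calc e' = e' * ∑ j, a j • y j := h1
      _ = ∑ j, (a j * r j) • e' := by
          rw [Finset.mul_sum]
          apply Finset.sum_congr rfl
          intro j _
          rw [mul_smul_comm, hr j, smul_smul]
      _ = s • e' := by rw [hs, Finset.sum_smul]
  have hks : k * s = 0 := by
    rw [hs, Finset.mul_sum]
    apply Finset.sum_eq_zero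
    intro j _
    rw [← mul_assoc, hka j, zero_mul]
  have h0 : algebraMap B L ((1 - s) • e) = 0 := by
    rw [← hsm, sub_smul, one_smul, ← he', ← hse, sub_self]
  obtain ⟨⟨_, t, rfl⟩, ht⟩ := (IsLocalization.map_eq_zero_iff (Submonoid.powers Δ) L _).mp h0
  have h1 : ((1 - s) * d ^ t) • e = 0 := by
    rw [mul_smul, ← hdpow, ← mul_smul_comm]
    exact ht
  have h2 : (1 - s) * d ^ t ∈ I := by
    have := congrArg φ h1
    rw [map_smul, hφe, map_zero, Algebra.smul_def, mul_one] at this
    exact Ideal.Quotient.eq_zero_iff_mem.mp this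
  have h3 : 1 - s ∈ I := by
    have : 1 - s = (1 - s) * d ^ t * dinv ^ t := by
      rw [mul_assoc, ← mul_pow, hdinv, one_pow, mul_one]
    rw [this]
    exact I.mul_mem_right _ h2
  have hsu : IsUnit s := by
    apply isUnit_of_sub_one_mem hjac
    have : s - 1 = -(1 - s) := by ring
    rw [this]
    exact I.neg_mem h3
  exact (hsu.mul_left_eq_zero).mp hks

/-- A rank one idempotent of a finite algebra, lying in the locus where the algebra is flat, gives
a section. -/
theorem exists_algHom_of_idempotent (hjac : I ≤ Ideal.jacobson ⊥)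
    (he : IsIdempotentElem e) (hφe : φ e = 1)
    (hker : ∀ z, φ z = 0 → e * z ∈ I.map (algebraMap A B))
    (Δ : B) (hΔ : IsUnit (φ Δ)) [Module.Flat A (Localization.Away Δ)] :
    ∃ χ : B →ₐ[A] A, ∀ x, Ideal.Quotient.mk I (χ x) = φ x := by
  have hmul := exists_smul_eq_mul_of_idempotent φ e hjac he hker
  have hann := eq_zero_of_smul_idempotent_eq_zero φ e hjac he hφe hker Δ hΔ
  choose r hr using hmul
  have huniq : ∀ a b : A, a • e = b • e → a = b := by
    intro a b h
    have := hann (a - b) (by rw [sub_smul, h, sub_self])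
    exact sub_eq_zero.mp this
  refine ⟨{ toFun := r, map_one' := ?_, map_mul' := ?_, map_zero' := ?_, map_add' := ?_,
            commutes' := ?_ }, ?_⟩
  · apply huniq
    rw [← hr, mul_one, one_smul]
  · intro x y
    apply huniq
    rw [← hr, ← mul_assoc, hr x, smul_mul_assoc, hr y, smul_smul]
  · apply huniq
    rw [← hr, mul_zero, zero_smul]
  · intro x y
    apply huniq
    rw [← hr, mul_add, hr, hr, add_smul]
  · intro a
    apply huniq
    rw [← hr, mul_comm, ← Algebra.smul_def]
    rfl
  · intro x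
    have := congrArg φ (hr x)
    rw [map_mul, hφe, one_mul, map_smul, hφe, Algebra.smul_def, mul_one] at this
    rw [this]
    rfl

/-- An isolated `A / I`-point of a finite `A`-algebra is cut out (modulo `I`) by an almost
idempotent element. -/
theorem exists_almost_idempotent_of_ker_le
    (h : RingHom.ker φ ≤ (RingHom.ker φ) ^ 2 ⊔ I.map (algebraMap A B)) :
    ∃ c : B, φ c = 1 ∧ ∀ z, φ z = 0 → c * z ∈ I.map (algebraMap A B) := by
  classical
  set J := I.map (algebraMap A B) with hJ
  set 𝔟 := RingHom.ker φ with h𝔟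
  have hJ𝔟 : J ≤ 𝔟 := by
    rw [hJ, Ideal.map_le_iff_le_comap]
    intro a ha
    rw [Ideal.mem_comap, h𝔟, RingHom.mem_ker, AlgHom.commutes]
    exact Ideal.Quotient.eq_zero_iff_mem.mpr ha
  obtain ⟨n, s, hs⟩ := Module.Finite.exists_fin (R := A) (M := B)
  choose a ha using fun j => Ideal.Quotient.mk_surjective (φ (s j))
  let z : Fin n → B := fun j => s j - a j • 1
  have hφsmul : ∀ (t : A) (x : B), φ (t • x) = Ideal.Quotient.mk I t * φ x := by
    intro t x
    rw [map_smul, Algebra.smul_def]
    rfl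
  have hz : ∀ j, z j ∈ 𝔟 := by
    intro j
    rw [h𝔟, RingHom.mem_ker, map_sub, hφsmul, map_one, mul_one, ha, sub_self]
  have h𝔟le : 𝔟 ≤ J ⊔ Ideal.span (Set.range z) := by
    intro x hx
    have hx' : x ∈ Submodule.span A (Set.range s) := by
      rw [hs]
      exact Submodule.mem_top
    obtain ⟨r, rfl⟩ := (Submodule.mem_span_range_iff_exists_fun A).mp hx'
    have e1 : ∑ j, r j • s j = (∑ j, r j * a j) • (1 : B) + ∑ j, r j • z j := by
      rw [Finset.sum_smul, ← Finset.sum_add_distrib]
      apply Finset.sum_congr rfl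
      intro j _
      simp only [z, smul_sub, mul_smul]
      abel
    have e2 : Ideal.Quotient.mk I (∑ j, r j * a j) = 0 := by
      have h0 : φ (∑ j, r j • s j) = 0 := hx
      rw [e1, map_add, hφsmul, map_one, mul_one] at h0
      have : φ (∑ j, r j • z j) = 0 := by
        rw [map_sum]
        apply Finset.sum_eq_zero
        intro j _
        rw [hφsmul, (RingHom.mem_ker).mp (hz j), mul_zero]
      rw [this, add_zero] at h0
      exact h0
    rw [e1]
    refine Submodule.add_mem_sup ?_ ?_
    · rw [Algebra.smul_def, mul_one]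
      exact Ideal.mem_map_of_mem _ (Ideal.Quotient.eq_zero_iff_mem.mp e2)
    · apply Submodule.sum_mem
      intro j _
      rw [Algebra.smul_def]
      exact Ideal.mul_mem_left _ _ (Ideal.subset_span ⟨j, rfl⟩)
  let π := Ideal.Quotient.mk J
  have hπ : Function.Surjective π := Ideal.Quotient.mk_surjective
  set 𝔞 := 𝔟.map π with h𝔞
  have h𝔞fg : 𝔞.FG := by
    have : 𝔞 = (Ideal.span (Set.range z)).map π := by
      apply le_antisymm
      · rw [h𝔞]
        refine (Ideal.map_mono h𝔟le).trans ?_
        rw [Ideal.map_sup, Ideal.map_quotient_self, bot_sup_eq]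
      · apply Ideal.map_mono
        rw [Ideal.span_le]
        rintro _ ⟨j, rfl⟩
        exact hz j
    rw [this]
    exact Ideal.FG.map (Submodule.fg_span (Set.finite_range z)) _
  have h𝔞sq : 𝔞 ≤ 𝔞 • 𝔞 := by
    rw [h𝔞]
    refine (Ideal.map_mono h).trans ?_
    rw [Ideal.map_sup, Ideal.map_quotient_self, sup_bot_eq, Ideal.map_pow, pow_two]
    exact le_rfl
  obtain ⟨rb, hr1, hr2⟩ :=
    Submodule.exists_sub_one_mem_and_smul_eq_zero_of_fg_of_le_smul 𝔞 𝔞 h𝔞fg h𝔞sq
  obtain ⟨c, rfl⟩ := hπ rb
  refine ⟨c, ?_, ?_⟩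
  · have h1 : π (c - 1) ∈ 𝔟.map π := by
      rw [map_sub, map_one]
      exact hr1
    obtain ⟨y, hy, hyc⟩ := (Ideal.mem_map_iff_of_surjective π hπ).mp h1
    have h2 : c - 1 - y ∈ J := by
      rw [← Ideal.Quotient.eq_zero_iff_mem, map_sub, hyc, sub_self]
    have h3 : c - 1 ∈ 𝔟 := by
      have : c - 1 = (c - 1 - y) + y := by ring
      rw [this]
      exact 𝔟.add_mem (hJ𝔟 h2) hy
    have h4 : φ (c - 1) = 0 := h3
    rw [map_sub, map_one, sub_eq_zero] at h4
    exact h4
  · intro x hx
    have h1 : π x ∈ 𝔞 := Ideal.mem_map_of_mem _ hx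
    have h2 := hr2 _ h1
    rw [smul_eq_mul, ← map_mul] at h2
    exact Ideal.Quotient.eq_zero_iff_mem.mp h2

end

end Groth.Agent.Lib.Helper12
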