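import Groth.Agent.Lib.Helper12.IdemLiftIntegral
import Groth.Agent.Lib.Helper12.GabberPoint
import Mathlib.RingTheory.AdjoinRoot

set_option autoImplicit false
universe u v

/-!
# Lifting idempotents of finite algebras implies henselian
-/

namespace Groth.Agent.Lib.Helper12

open Polynomial

variable {A : Type u} [CommRing A] {I : Ideal A}

/-- The idempotent-lifting hypothesis, for finite algebras. -/
def IdemLiftFinite (I : Ideal A) : Prop :=
  ∀ (B : Type u) [CommRing B] [Algebra A B], Module.Finite A B →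
      Set.BijOn (Ideal.Quotient.mk (Ideal.map (algebraMap A B) I))
        {e : B | IsIdempotentElem e} {e | IsIdempotentElem e}

theorem le_jacobson_of_idemLiftFinite (H : IdemLiftFinite I) : I ≤ Ideal.jacobson ⊥ := by
  intro x hx
  rw [Ideal.jacobson, Ideal.mem_sInf]
  rintro m ⟨-, hm⟩
  by_contra hxm
  have hbij := H (A ⧸ m) inferInstance
  letI := Ideal.Quotient.field m
  have hne : (Ideal.Quotient.mk m x) ≠ 0 := by
    rwa [Ne, Ideal.Quotient.eq_zero_iff_mem]
  have h1 : (1 : A ⧸ m) ∈ I.map (algebraMap A (A ⧸ m)) := by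
    have : (1 : A ⧸ m) = (Ideal.Quotient.mk m x)⁻¹ * algebraMap A (A ⧸ m) x :=
      (inv_mul_cancel₀ hne).symm
    rw [this]
    exact Ideal.mul_mem_left _ _ (Ideal.mem_map_of_mem _ hx)
  have h2 : (1 : A ⧸ m) = 0 :=
    hbij.injOn IsIdempotentElem.one IsIdempotentElem.zero
      (Ideal.Quotient.eq.mpr (by simpa using h1))
  exact one_ne_zero h2

theorem mk_mem_map_of_dvd_map {f : A[X]} {w : A[X]}
    (h : f.map (Ideal.Quotient.mk I) ∣ w.map (Ideal.Quotient.mk I)) :
    AdjoinRoot.mk f w ∈ I.map (algebraMap A (AdjoinRoot f)) := by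
  obtain ⟨t₀, ht₀⟩ := h
  obtain ⟨t, rfl⟩ := Polynomial.map_surjective _ Ideal.Quotient.mk_surjective t₀
  have hmap : (w - f * t).map (Ideal.Quotient.mk I) = 0 := by
    rw [Polynomial.map_sub, Polynomial.map_mul, ht₀, sub_self]
  have := aeval_mem_map_of_coeff_mem (coeff_mem_of_map_mk_eq_zero hmap) (AdjoinRoot.root f)
  rw [AdjoinRoot.aeval_eq, map_sub, map_mul, AdjoinRoot.mk_self, zero_mul, sub_zero] at this
  exact this

theorem henselianRing_of_idemLiftFinite (H : IdemLiftFinite I) : HenselianRing A I := by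
  have hjac := le_jacobson_of_idemLiftFinite H
  refine ⟨hjac, ?_⟩
  intro f hf a₀ h0 h1
  set f' := f.map (Ideal.Quotient.mk I) with hf'
  set a' := Ideal.Quotient.mk I a₀ with ha'
  have hroot : f'.IsRoot a' := by
    rw [IsRoot.def, hf', ha', eval_map_apply]
    exact Ideal.Quotient.eq_zero_iff_mem.mpr h0
  have hder : IsUnit (f'.derivative.eval a') := by
    rw [hf', derivative_map, ha', eval_map_apply]
    exact h1
  obtain ⟨u, v, huv⟩ := isCoprime_X_sub_C_divByMonic f' a' hder
  set q₀ := f' /ₘ (X - C a') with hq₀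
  have hfac : (X - C a') * q₀ = f' := mul_divByMonic_eq_iff_isRoot.mpr hroot
  obtain ⟨p, hp⟩ := Polynomial.map_surjective _ Ideal.Quotient.mk_surjective (v * q₀)
  set B := AdjoinRoot f with hB
  haveI : Module.Finite A B := hf.finite_adjoinRoot
  haveI : Module.Free A B := hf.free_adjoinRoot
  set J := I.map (algebraMap A B) with hJ
  set c : B := AdjoinRoot.mk f p with hc
  have hcc : c * c - c ∈ J := by
    rw [hc, ← map_mul, ← map_sub]
    apply mk_mem_map_of_dvd_map
    refine ⟨-(u * v), ?_⟩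
    rw [Polynomial.map_sub, Polynomial.map_mul, hp, ← hf', ← hfac]
    linear_combination (v * q₀) * huv
  obtain ⟨e, he, hmk⟩ := (H B inferInstance).surjOn
    (show Ideal.Quotient.mk J c ∈ {e | IsIdempotentElem e} by
      show Ideal.Quotient.mk J c * Ideal.Quotient.mk J c = Ideal.Quotient.mk J c
      rw [← map_mul]
      exact Ideal.Quotient.eq.mpr hcc)
  have hec : e - c ∈ J := Ideal.Quotient.eq.mp hmk
  have hev : f.eval₂ (Algebra.ofId A (A ⧸ I) : A →+* A ⧸ I) a' = 0 := by
    show eval₂ (Ideal.Quotient.mk I) a' f = 0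
    rw [← eval_map]
    exact hroot
  set φ : B →ₐ[A] A ⧸ I := AdjoinRoot.liftAlgHom f (Algebra.ofId A (A ⧸ I)) a' hev with hφ
  have hφmk : ∀ w : A[X], φ (AdjoinRoot.mk f w) = (w.map (Ideal.Quotient.mk I)).eval a' := by
    intro w
    rw [hφ, AdjoinRoot.liftAlgHom_mk, eval_map]
    rfl
  have hφJ : ∀ x ∈ J, φ x = 0 := by
    have : J ≤ RingHom.ker (φ : B →+* A ⧸ I) := by
      rw [hJ, Ideal.map_le_iff_le_comap]
      intro a ha
      rw [Ideal.mem_comap, RingHom.mem_ker]
      show φ (algebraMap A B a) = 0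
      rw [AlgHom.commutes]
      exact Ideal.Quotient.eq_zero_iff_mem.mpr ha
    intro x hx
    exact this hx
  have hφc : φ c = 1 := by
    rw [hc, hφmk, hp, eval_mul]
    have := congrArg (eval a') huv
    simpa using this
  have hφe : φ e = 1 := by
    have : e = c + (e - c) := by ring
    rw [this, map_add, hφc, hφJ _ hec, add_zero]
  have hker : ∀ z, φ z = 0 → e * z ∈ I.map (algebraMap A B) := by
    intro z hz
    obtain ⟨w, rfl⟩ := AdjoinRoot.mk_surjective z
    rw [hφmk] at hz
    obtain ⟨t, ht⟩ := dvd_iff_isRoot.mpr hz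
    have hcz : c * AdjoinRoot.mk f w ∈ J := by
      rw [hc, ← map_mul]
      apply mk_mem_map_of_dvd_map
      refine ⟨v * t, ?_⟩
      rw [Polynomial.map_mul, hp, ht, ← hf', ← hfac]
      ring
    have : e * AdjoinRoot.mk f w = (e - c) * AdjoinRoot.mk f w + c * AdjoinRoot.mk f w := by ring
    rw [this]
    exact J.add_mem (J.mul_mem_right _ hec) hcz
  haveI : Module.Flat B (Localization.Away (1 : B)) :=
    IsLocalization.flat (Localization.Away (1 : B)) (Submonoid.powers (1 : B))
  haveI : Module.Flat A (Localization.Away (1 : B)) := Module.Flat.trans A B _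
  obtain ⟨χ, hχ⟩ := exists_algHom_of_idempotent φ e hjac he hφe hker 1 (by rw [map_one]; exact isUnit_one)
  refine ⟨χ (AdjoinRoot.root f), ?_, ?_⟩
  · rw [IsRoot.def, ← coe_aeval_eq_eval, aeval_algHom_apply, AdjoinRoot.aeval_eq,
      AdjoinRoot.mk_self, map_zero]
  · rw [← Ideal.Quotient.eq, hχ, hφ, AdjoinRoot.liftAlgHom_root]

end Groth.Agent.Lib.Helper12
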