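import Mathlib
import Groth.Prelude.Def_Found
import Groth.Agent.Lib.Helper13.QuasiFiniteN2
import Groth.Agent.Lib.Helper26.JapaneseN1

/-!
# N-2 goes up and down along finite injective extensions of domains
-/

set_option autoImplicit false

namespace Groth.Agent.Lib.Helper12.N2Ext

universe u

/-- For a finite injective extension of domains, the fraction field extension is finite. -/
theorem finite_fractionField_of_finite {A B K E : Type*} [CommRing A] [IsDomain A] [CommRing B]
    [IsDomain B] [Algebra A B] [Module.Finite A B] [Field K] [Field E] [Algebra A K]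
    [IsFractionRing A K] [Algebra B E] [IsFractionRing B E] [Algebra K E] [Algebra A E]
    [IsScalarTower A B E] [IsScalarTower A K E] : Module.Finite K E := by
  classical
  obtain ⟨s, hs⟩ := (Module.Finite.fg_top : (⊤ : Submodule A B).FG)
  refine ⟨⟨s.image (algebraMap B E), ?_⟩⟩
  rw [eq_top_iff]
  intro z _
  have hinj1 : Function.Injective (algebraMap B E) := IsFractionRing.injective B E
  obtain ⟨a, b, hb, rfl⟩ := IsFractionRing.div_surjective B z
  haveI : Algebra.IsIntegral A B := inferInstance
  obtain ⟨c', c, hc, h⟩ := (Algebra.IsAlgebraic.isAlgebraic (R := A) b).exists_smul_eq_mul a hb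
  have hb0 : algebraMap B E b ≠ 0 := by
    rw [Ne, map_eq_zero_iff _ hinj1]; exact nonZeroDivisors.ne_zero hb
  have hcK : algebraMap A K c ≠ 0 := by
    rw [Ne, map_eq_zero_iff _ (IsFractionRing.injective A K)]; exact hc
  have hz : algebraMap B E a / algebraMap B E b = (algebraMap A K c)⁻¹ • algebraMap B E c' := by
    rw [eq_comm, inv_smul_eq_iff₀ hcK, Algebra.smul_def, ← IsScalarTower.algebraMap_apply,
      IsScalarTower.algebraMap_apply A B E, mul_div_assoc', ← map_mul, ← Algebra.smul_def, h,
      map_mul, mul_div_cancel_left₀ _ hb0]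
  rw [hz]
  refine Submodule.smul_mem _ _ ?_
  have hc' : c' ∈ Submodule.span A (s : Set B) := by rw [hs]; trivial
  rw [Finset.coe_image]
  refine Submodule.span_induction ?_ ?_ ?_ ?_ hc'
  · intro u hu; exact Submodule.subset_span ⟨u, hu, rfl⟩
  · rw [map_zero]; exact Submodule.zero_mem _
  · intro u v _ _ hu hv; rw [map_add]; exact Submodule.add_mem _ hu hv
  · intro r u _ hu
    rw [Algebra.smul_def, map_mul, ← IsScalarTower.algebraMap_apply,
      IsScalarTower.algebraMap_apply A K E, ← Algebra.smul_def]
    exact Submodule.smul_mem _ _ hu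

/-- going up: a finite injective extension domain of an N-2 domain is N-2 -/
theorem isN2_of_finite_of_isN2 (A B : Type u) [CommRing A] [IsDomain A] [CommRing B] [IsDomain B]
    [Algebra A B] [Module.Finite A B] (hinj : Function.Injective (algebraMap A B))
    (hA : CAlg.IsN2 A) : CAlg.IsN2 B := by
  haveI : FaithfulSMul A B := (faithfulSMul_iff_algebraMap_injective A B).mpr hinj
  haveI : FaithfulSMul A (FractionRing B) := by
    rw [faithfulSMul_iff_algebraMap_injective, IsScalarTower.algebraMap_eq A B (FractionRing B)]
    exact (IsFractionRing.injective B _).comp hinj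
  letI := FractionRing.liftAlgebra A (FractionRing B)
  haveI := FractionRing.isScalarTower_liftAlgebra A (FractionRing B)
  haveI : Module.Finite (FractionRing A) (FractionRing B) :=
    finite_fractionField_of_finite (A := A) (B := B)
  exact Groth.Agent.Lib.Helper13.QuasiFiniteN2.isN2_of_integral A B hA

open TensorProduct in
/-- going down: if a finite injective extension domain `B` of a Noetherian domain `A` is N-2,
then `A` is N-2 -/
theorem isN2_of_isN2_of_finite (A B : Type u) [CommRing A] [IsDomain A] [IsNoetherianRing A]
    [CommRing B] [IsDomain B] [Algebra A B] [Module.Finite A B]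
    (hinj : Function.Injective (algebraMap A B)) (hB : CAlg.IsN2 B) : CAlg.IsN2 A := by
  intro L _ _ _ _ hfin
  haveI := hfin
  haveI : FaithfulSMul A (FractionRing B) := by
    rw [faithfulSMul_iff_algebraMap_injective, IsScalarTower.algebraMap_eq A B (FractionRing B)]
    exact (IsFractionRing.injective B _).comp hinj
  letI := FractionRing.liftAlgebra A (FractionRing B)
  haveI := FractionRing.isScalarTower_liftAlgebra A (FractionRing B)
  haveI : Module.Finite (FractionRing A) (FractionRing B) :=
    finite_fractionField_of_finite (A := A) (B := B)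
  -- the tensor product and a residue field
  haveI : Nontrivial (FractionRing B ⊗[FractionRing A] L) := inferInstance
  obtain ⟨𝔪, h𝔪⟩ := Ideal.exists_maximal (FractionRing B ⊗[FractionRing A] L)
  letI : Field ((FractionRing B ⊗[FractionRing A] L) ⧸ 𝔪) := Ideal.Quotient.field 𝔪
  haveI : Module.Finite (FractionRing B) ((FractionRing B ⊗[FractionRing A] L) ⧸ 𝔪) :=
    inferInstance
  have hM : Module.Finite B (integralClosure B ((FractionRing B ⊗[FractionRing A] L) ⧸ 𝔪)) :=
    hB _ inferInstance
  have hMA : Module.Finite A (integralClosure A ((FractionRing B ⊗[FractionRing A] L) ⧸ 𝔪)) :=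
    Groth.Agent.Lib.Helper26.JapaneseN1.finite_integralClosure_of_tower A B _ hM
  -- the map L → M
  let ψ₀ : L →+* (FractionRing B ⊗[FractionRing A] L) ⧸ 𝔪 :=
    (Ideal.Quotient.mk 𝔪).comp
      (Algebra.TensorProduct.includeRight (R := FractionRing A) (A := FractionRing B)
        (B := L)).toRingHom
  let ψ : L →ₐ[A] (FractionRing B ⊗[FractionRing A] L) ⧸ 𝔪 :=
    { ψ₀ with
      commutes' := fun a => by
        change Ideal.Quotient.mk 𝔪 ((1 : FractionRing B) ⊗ₜ[FractionRing A] (algebraMap A L a)) =
          Ideal.Quotient.mk 𝔪 (algebraMap A (FractionRing B) a ⊗ₜ 1)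
        congr 1
        rw [IsScalarTower.algebraMap_apply A (FractionRing A) L, Algebra.algebraMap_eq_smul_one,
          ← TensorProduct.smul_tmul, ← Algebra.algebraMap_eq_smul_one,
          ← IsScalarTower.algebraMap_apply] }
  let g := ψ.mapIntegralClosure
  have hg : Function.Injective g := by
    intro a b hab
    apply Subtype.ext
    have : (g a : (FractionRing B ⊗[FractionRing A] L) ⧸ 𝔪) = g b := congrArg Subtype.val hab
    exact ψ₀.injective this
  haveI : IsNoetherian A (integralClosure A ((FractionRing B ⊗[FractionRing A] L) ⧸ 𝔪)) :=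
    isNoetherian_of_isNoetherianRing_of_finite A _
  exact Module.Finite.of_injective g.toLinearMap hg

end Groth.Agent.Lib.Helper12.N2Ext
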