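import Mathlib
import Groth.Prelude.Def_Found
import Groth.Agent.Lib.Helper12.N2ExtA
import Groth.Agent.Lib.Helper13.NagataFT

/-!
# Descent of finiteness of integral closure along a flat Nagata algebra with reduced
"generic fibre" (analytically unramified ⇒ N-1), part A
-/

set_option autoImplicit false

namespace Groth.Agent.Lib.Helper12.AnUnram

open TensorProduct

universe u

section Tensor

variable (A C K L : Type*) [CommRing A] [CommRing C] [Algebra A C] [Field K] [Algebra A K]
  [Field L] [Algebra A L] [Algebra K L] [IsScalarTower A K L]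

/-- the map `C ⊗ K → C ⊗ L` -/
noncomputable def tensorMap : C ⊗[A] K →ₐ[C] C ⊗[A] L :=
  Algebra.TensorProduct.map (AlgHom.id C C) (IsScalarTower.toAlgHom A K L)

theorem finite_tensorMap [FiniteDimensional K L] : (tensorMap A C K L).toRingHom.Finite := by
  classical
  letI : Algebra (C ⊗[A] K) (C ⊗[A] L) := (tensorMap A C K L).toRingHom.toAlgebra
  change Module.Finite (C ⊗[A] K) (C ⊗[A] L)
  obtain ⟨n, b, hb⟩ := Module.Finite.exists_fin (R := K) (M := L)
  refine ⟨⟨Finset.univ.image fun i => (1 : C) ⊗ₜ[A] b i, ?_⟩⟩
  rw [eq_top_iff]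
  rintro z -
  induction z using TensorProduct.induction_on with
  | zero => exact Submodule.zero_mem _
  | add x y hx hy => exact Submodule.add_mem _ hx hy
  | tmul c l =>
    have hl : l ∈ Submodule.span K (Set.range b) := by rw [hb]; trivial
    obtain ⟨k, hk⟩ := (Submodule.mem_span_range_iff_exists_fun K).mp hl
    have : c ⊗ₜ[A] l = ∑ i, (c ⊗ₜ[A] k i : C ⊗[A] K) • ((1 : C) ⊗ₜ[A] b i : C ⊗[A] L) := by
      rw [← hk, TensorProduct.tmul_sum]
      refine Finset.sum_congr rfl fun i _ => ?_
      rw [Algebra.smul_def]
      change _ = (tensorMap A C K L) (c ⊗ₜ[A] k i) * _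
      rw [tensorMap, Algebra.TensorProduct.map_tmul, Algebra.TensorProduct.tmul_mul_tmul]
      simp
    rw [this]
    refine Submodule.sum_mem _ fun i _ => Submodule.smul_mem _ _ (Submodule.subset_span ?_)
    rw [Finset.coe_image]
    exact ⟨i, by simp, rfl⟩

theorem isNoetherianRing_tensor [IsNoetherianRing C] [IsFractionRing A K]
    [FiniteDimensional K L] : IsNoetherianRing (C ⊗[A] L) := by
  haveI : IsNoetherianRing (C ⊗[A] K) :=
    IsLocalization.isNoetherianRing (Algebra.algebraMapSubmonoid C (nonZeroDivisors A)) _
      inferInstance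
  letI : Algebra (C ⊗[A] K) (C ⊗[A] L) := (tensorMap A C K L).toRingHom.toAlgebra
  haveI : Module.Finite (C ⊗[A] K) (C ⊗[A] L) := finite_tensorMap A C K L
  exact Algebra.FiniteType.isNoetherianRing (C ⊗[A] K) (C ⊗[A] L)

end Tensor

section Surj

/-- If every element of the domain `S` is a fraction of elements of the domain `D ⊆ S`, the
fraction fields agree. -/
theorem surjective_fractionRing_of_fractions (D S : Type*) [CommRing D] [IsDomain D] [CommRing S]
    [IsDomain S] [Algebra D S] [FaithfulSMul D S]
    (h : ∀ s : S, ∃ d m : D, algebraMap D S m ≠ 0 ∧ s * algebraMap D S m = algebraMap D S d) :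
    letI : FaithfulSMul D (FractionRing S) := by
      rw [faithfulSMul_iff_algebraMap_injective, IsScalarTower.algebraMap_eq D S (FractionRing S)]
      exact (IsFractionRing.injective S _).comp (FaithfulSMul.algebraMap_injective D S)
    letI := FractionRing.liftAlgebra D (FractionRing S)
    Function.Surjective (algebraMap (FractionRing D) (FractionRing S)) := by
  letI : FaithfulSMul D (FractionRing S) := by
    rw [faithfulSMul_iff_algebraMap_injective, IsScalarTower.algebraMap_eq D S (FractionRing S)]
    exact (IsFractionRing.injective S _).comp (FaithfulSMul.algebraMap_injective D S)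
  letI := FractionRing.liftAlgebra D (FractionRing S)
  haveI := FractionRing.isScalarTower_liftAlgebra D (FractionRing S)
  have hinjS : Function.Injective (algebraMap S (FractionRing S)) := IsFractionRing.injective S _
  have key : ∀ s : S, ∃ k : FractionRing D,
      algebraMap (FractionRing D) (FractionRing S) k = algebraMap S (FractionRing S) s := by
    intro s
    obtain ⟨d, m, hm, hsm⟩ := h s
    have hm' : algebraMap S (FractionRing S) (algebraMap D S m) ≠ 0 := by
      rwa [Ne, map_eq_zero_iff _ hinjS]
    refine ⟨algebraMap D (FractionRing D) d / algebraMap D (FractionRing D) m, ?_⟩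
    rw [map_div₀, ← IsScalarTower.algebraMap_apply, ← IsScalarTower.algebraMap_apply,
      IsScalarTower.algebraMap_apply D S (FractionRing S),
      IsScalarTower.algebraMap_apply D S (FractionRing S) m, div_eq_iff hm', ← map_mul, hsm]
  intro x
  obtain ⟨s₁, s₂, hs₂, rfl⟩ := IsFractionRing.div_surjective S x
  obtain ⟨k₁, hk₁⟩ := key s₁
  obtain ⟨k₂, hk₂⟩ := key s₂
  exact ⟨k₁ / k₂, by rw [map_div₀, hk₁, hk₂]⟩

end Surj

end Groth.Agent.Lib.Helper12.AnUnram
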