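import Mathlib
import Groth.Prelude.Def_Found
import Groth.Agent.Lib.Helper12.AnUnramA

/-!
# Descent of finiteness of integral closure, part B: the integral closure of a Nagata ring `C`
in a field generated by the image of `C ⊗[A] L`
-/

set_option autoImplicit false

namespace Groth.Agent.Lib.Helper12.AnUnram

open TensorProduct

universe u

/-- Let `C` be a Nagata `A`-algebra, `L` a finite extension of `K = Frac A`, and `F` a field
generated by the image of a `C`-algebra map `C ⊗[A] L → F`. Then the integral closure of `C`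
in `F` is a finite `C`-module. -/
theorem finite_integralClosure_field
    (A C K L : Type u) [CommRing A] [IsDomain A] [CommRing C] [Algebra A C]
    [Field K] [Algebra A K] [IsFractionRing A K]
    [Field L] [Algebra A L] [Algebra K L] [IsScalarTower A K L] [FiniteDimensional K L]
    (hC : CAlg.IsNagata C)
    (F : Type u) [Field F] [Algebra C F] (φ : C ⊗[A] L →ₐ[C] F)
    (hφ : ∀ z : F, ∃ t₁ t₂ : C ⊗[A] L, φ t₂ ≠ 0 ∧ z = φ t₁ / φ t₂) :
    Module.Finite C (integralClosure C F) := by
  classical
  letI : Algebra A F := ((algebraMap C F).comp (algebraMap A C)).toAlgebra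
  haveI : IsScalarTower A C F := .of_algebraMap_eq fun _ => rfl
  -- the prime `𝔮` and the domain `D = C ⧸ 𝔮`
  set 𝔮 : Ideal C := RingHom.ker (algebraMap C F) with h𝔮
  haveI : 𝔮.IsPrime := RingHom.ker_isPrime _
  letI : Algebra (C ⧸ 𝔮) F := (RingHom.kerLift (algebraMap C F)).toAlgebra
  haveI : IsScalarTower C (C ⧸ 𝔮) F := .of_algebraMap_eq fun _ => rfl
  haveI : IsScalarTower A (C ⧸ 𝔮) F := .of_algebraMap_eq fun _ => rfl
  have hinjD : Function.Injective (algebraMap (C ⧸ 𝔮) F) :=
    RingHom.kerLift_injective (algebraMap C F)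
  haveI : FaithfulSMul (C ⧸ 𝔮) F := (faithfulSMul_iff_algebraMap_injective _ _).mpr hinjD
  letI := FractionRing.liftAlgebra (C ⧸ 𝔮) F
  haveI := FractionRing.isScalarTower_liftAlgebra (C ⧸ 𝔮) F
  haveI : IsScalarTower A (FractionRing (C ⧸ 𝔮)) F := .of_algebraMap_eq fun a => by
    rw [IsScalarTower.algebraMap_apply A (C ⧸ 𝔮) (FractionRing (C ⧸ 𝔮)),
      ← IsScalarTower.algebraMap_apply (C ⧸ 𝔮) (FractionRing (C ⧸ 𝔮)) F,
      ← IsScalarTower.algebraMap_apply A (C ⧸ 𝔮) F]
  -- the map `ψ : L → F`
  let ψ : L →ₐ[A] F := (φ.restrictScalars A).comp Algebra.TensorProduct.includeRight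
  have hψ : ∀ l : L, ψ l = φ (1 ⊗ₜ l) := fun _ => rfl
  have hψinj : Function.Injective ψ := ψ.toRingHom.injective
  have hAL : Function.Injective (algebraMap A L) := by
    rw [IsScalarTower.algebraMap_eq A K L]
    exact (algebraMap K L).injective.comp (IsFractionRing.injective A K)
  have hAF : Function.Injective (algebraMap A F) := by
    have : algebraMap A F = ψ.toRingHom.comp (algebraMap A L) := by
      ext a; exact (ψ.commutes a).symm
    rw [this]
    exact hψinj.comp hAL
  have hAF₀ : Function.Injective (algebraMap A (FractionRing (C ⧸ 𝔮))) := by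
    have h1 : algebraMap A F =
        (algebraMap (FractionRing (C ⧸ 𝔮)) F).comp (algebraMap A (FractionRing (C ⧸ 𝔮))) :=
      IsScalarTower.algebraMap_eq A (FractionRing (C ⧸ 𝔮)) F
    rw [h1, RingHom.coe_comp] at hAF
    exact Function.Injective.of_comp hAF
  -- a spanning family of `L`
  obtain ⟨n, b, hb⟩ := Module.Finite.exists_fin (R := K) (M := L)
  -- integrality
  haveI : Algebra.IsAlgebraic K L := inferInstance
  have hint : ∀ l : L, IsIntegral (FractionRing (C ⧸ 𝔮)) (ψ l) := by
    intro l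
    have h1 : IsAlgebraic A l :=
      (IsFractionRing.isAlgebraic_iff A K L).mpr (Algebra.IsAlgebraic.isAlgebraic l)
    exact ((h1.algHom ψ).extendScalars hAF₀).isIntegral
  set M : IntermediateField (FractionRing (C ⧸ 𝔮)) F :=
    IntermediateField.adjoin (FractionRing (C ⧸ 𝔮)) (Set.range fun i => ψ (b i)) with hM
  haveI : FiniteDimensional (FractionRing (C ⧸ 𝔮)) M :=
    IntermediateField.finiteDimensional_adjoin (by rintro _ ⟨i, rfl⟩; exact hint _)
  -- `M` contains everything
  have hC_mem : ∀ c : C, algebraMap C F c ∈ M := by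
    intro c
    have : algebraMap C F c = algebraMap (FractionRing (C ⧸ 𝔮)) F
        (algebraMap (C ⧸ 𝔮) (FractionRing (C ⧸ 𝔮)) (Ideal.Quotient.mk 𝔮 c)) := by
      rw [← IsScalarTower.algebraMap_apply (C ⧸ 𝔮) (FractionRing (C ⧸ 𝔮)) F]
      rfl
    rw [this]
    exact M.algebraMap_mem _
  have hA_mem : ∀ a : A, ψ (algebraMap A L a) ∈ M := by
    intro a
    rw [ψ.commutes, IsScalarTower.algebraMap_apply A C F]
    exact hC_mem _
  have hK_mem : ∀ k : K, ψ (algebraMap K L k) ∈ M := by
    intro k
    obtain ⟨a, s, hs, rfl⟩ := IsFractionRing.div_surjective A k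
    rw [map_div₀, map_div₀, ← IsScalarTower.algebraMap_apply, ← IsScalarTower.algebraMap_apply]
    exact M.div_mem (hA_mem a) (hA_mem s)
  have hL_mem : ∀ l : L, ψ l ∈ M := by
    intro l
    have hl : l ∈ Submodule.span K (Set.range b) := by rw [hb]; trivial
    obtain ⟨k, rfl⟩ := (Submodule.mem_span_range_iff_exists_fun K).mp hl
    rw [map_sum]
    refine M.sum_mem fun i _ => ?_
    rw [Algebra.smul_def, map_mul]
    exact M.mul_mem (hK_mem _) (IntermediateField.subset_adjoin _ _ ⟨i, rfl⟩)
  have hT_mem : ∀ t : C ⊗[A] L, φ t ∈ M := by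
    intro t
    induction t using TensorProduct.induction_on with
    | zero => rw [map_zero]; exact M.zero_mem
    | add x y hx hy => rw [map_add]; exact M.add_mem hx hy
    | tmul c l =>
      have : c ⊗ₜ[A] l = algebraMap C (C ⊗[A] L) c * (1 ⊗ₜ l) := by
        rw [Algebra.TensorProduct.algebraMap_apply, Algebra.TensorProduct.tmul_mul_tmul]
        simp
      rw [this, map_mul, φ.commutes, ← hψ]
      exact M.mul_mem (hC_mem c) (hL_mem l)
  have htop : ∀ z : F, z ∈ M := by
    intro z
    obtain ⟨t₁, t₂, -, rfl⟩ := hφ z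
    exact M.div_mem (hT_mem _) (hT_mem _)
  haveI : FiniteDimensional (FractionRing (C ⧸ 𝔮)) F :=
    Module.Finite.of_surjective (M.val.toLinearMap) (fun z => ⟨⟨z, htop z⟩, rfl⟩)
  have hfin : Module.Finite (C ⧸ 𝔮) (integralClosure (C ⧸ 𝔮) F) := hC.2 𝔮 F inferInstance
  exact Groth.Agent.Lib.Helper13.NagataFT.finite_integralClosure_of_surjective C (C ⧸ 𝔮) F
    Ideal.Quotient.mk_surjective hfin

end Groth.Agent.Lib.Helper12.AnUnram
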