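import Mathlib
import Groth.Prelude.Def_Found
import Groth.Agent.Lib.Helper12.AnUnramB

/-!
# Descent of finiteness of integral closure, part C: the main abstract theorem
-/

set_option autoImplicit false

namespace Groth.Agent.Lib.Helper12.AnUnram

open TensorProduct

universe u

/-- **Main abstract theorem.** Let `A` be a domain with fraction field `K`, `C` a faithfully
flat Nagata `A`-algebra, and `L` a finite extension of `K` such that `C ⊗[A] L` is reduced.
Then the integral closure of `A` in `L` is a finite `A`-module. -/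
theorem finite_integralClosure_of_reduced_tensor
    (A C K L : Type u) [CommRing A] [IsDomain A] [CommRing C] [Algebra A C]
    [Module.FaithfullyFlat A C] (hC : CAlg.IsNagata C)
    [Field K] [Algebra A K] [IsFractionRing A K]
    [Field L] [Algebra A L] [Algebra K L] [IsScalarTower A K L] [FiniteDimensional K L]
    [IsReduced (C ⊗[A] L)] : Module.Finite A (integralClosure A L) := by
  classical
  haveI : IsNoetherianRing C := hC.1
  haveI : IsNoetherianRing (C ⊗[A] L) := isNoetherianRing_tensor A C K L
  have hfinite : (minimalPrimes (C ⊗[A] L)).Finite :=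
    minimalPrimes.finite_of_isNoetherianRing (C ⊗[A] L)
  haveI : Finite (minimalPrimes (C ⊗[A] L)) := hfinite
  haveI hprime : ∀ P : minimalPrimes (C ⊗[A] L), P.1.IsPrime := fun P => P.2.1.1
  -- the inclusion `C ⊗ B → C ⊗ L`
  let ι : C ⊗[A] (integralClosure A L) →ₗ[C] C ⊗[A] L :=
    TensorProduct.AlgebraTensorModule.lTensor C C (integralClosure A L).val.toLinearMap
  have hι : Function.Injective ι := by
    change Function.Injective (LinearMap.lTensor C (integralClosure A L).val.toLinearMap)
    exact Module.Flat.lTensor_preserves_injective_linearMap _ Subtype.val_injective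
  -- the maps to the fraction fields of the quotients by the minimal primes
  let φ : ∀ P : minimalPrimes (C ⊗[A] L),
      C ⊗[A] L →ₐ[C] FractionRing ((C ⊗[A] L) ⧸ P.1) := fun P =>
    (IsScalarTower.toAlgHom C ((C ⊗[A] L) ⧸ P.1) (FractionRing ((C ⊗[A] L) ⧸ P.1))).comp
      (Ideal.Quotient.mkₐ C P.1)
  have hφ_apply : ∀ (P : minimalPrimes (C ⊗[A] L)) (t : C ⊗[A] L),
      φ P t = algebraMap ((C ⊗[A] L) ⧸ P.1) (FractionRing ((C ⊗[A] L) ⧸ P.1))
        (Ideal.Quotient.mk P.1 t) := fun _ _ => rfl
  have hφ : ∀ (P : minimalPrimes (C ⊗[A] L)) (z : FractionRing ((C ⊗[A] L) ⧸ P.1)),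
      ∃ t₁ t₂ : C ⊗[A] L, φ P t₂ ≠ 0 ∧ z = φ P t₁ / φ P t₂ := by
    intro P z
    obtain ⟨a, b, hb, rfl⟩ := IsFractionRing.div_surjective ((C ⊗[A] L) ⧸ P.1) z
    obtain ⟨t₁, rfl⟩ := Ideal.Quotient.mk_surjective a
    obtain ⟨t₂, rfl⟩ := Ideal.Quotient.mk_surjective b
    refine ⟨t₁, t₂, ?_, rfl⟩
    rw [hφ_apply, Ne, map_eq_zero_iff _ (IsFractionRing.injective _ _)]
    exact nonZeroDivisors.ne_zero hb
  have hfinP : ∀ P : minimalPrimes (C ⊗[A] L),
      Module.Finite C (integralClosure C (FractionRing ((C ⊗[A] L) ⧸ P.1))) := fun P =>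
    finite_integralClosure_field A C K L hC _ (φ P) (hφ P)
  -- integrality of the image of `C ⊗ B`
  have hint : ∀ (P : minimalPrimes (C ⊗[A] L)) (x : C ⊗[A] (integralClosure A L)),
      φ P (ι x) ∈ integralClosure C (FractionRing ((C ⊗[A] L) ⧸ P.1)) := by
    intro P x
    induction x using TensorProduct.induction_on with
    | zero => simp only [map_zero]; exact Subalgebra.zero_mem _
    | add x y hx hy => simp only [map_add]; exact Subalgebra.add_mem _ hx hy
    | tmul c y =>
      have h1 : ι (c ⊗ₜ[A] y) = algebraMap C (C ⊗[A] L) c * (1 ⊗ₜ (y : L)) := by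
        change c ⊗ₜ[A] (y : L) = _
        rw [Algebra.TensorProduct.algebraMap_apply, Algebra.TensorProduct.tmul_mul_tmul]
        simp
      rw [h1, map_mul, (φ P).commutes]
      refine Subalgebra.mul_mem _ (Subalgebra.algebraMap_mem _ _) ?_
      -- `1 ⊗ y` is integral over `A`, hence over `C`
      obtain ⟨p, hp, hpy⟩ := y.2
      refine ⟨p.map (algebraMap A C), hp.map _, ?_⟩
      have h2 : (1 : C) ⊗ₜ[A] (y : L) =
          (Algebra.TensorProduct.includeRight : L →ₐ[A] C ⊗[A] L) (y : L) := rfl
      rw [Polynomial.eval₂_map, h2]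
      let g : L →+* FractionRing ((C ⊗[A] L) ⧸ P.1) :=
        (φ P).toRingHom.comp (Algebra.TensorProduct.includeRight : L →ₐ[A] C ⊗[A] L).toRingHom
      have h3 : (algebraMap C (FractionRing ((C ⊗[A] L) ⧸ P.1))).comp (algebraMap A C) =
          g.comp (algebraMap A L) := by
        ext a
        simp only [g, RingHom.comp_apply, AlgHom.toRingHom_eq_coe, RingHom.coe_coe,
          AlgHom.commutes]
        rw [← (φ P).commutes]
        rfl
      have h4 : Polynomial.eval₂ (g.comp (algebraMap A L)) (g (y : L)) p = 0 := by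
        rw [← Polynomial.hom_eval₂, hpy, map_zero]
      rw [h3]
      exact h4
  let Ψ : C ⊗[A] (integralClosure A L) →ₗ[C]
      (∀ P : minimalPrimes (C ⊗[A] L),
        integralClosure C (FractionRing ((C ⊗[A] L) ⧸ P.1))) :=
    LinearMap.pi fun P =>
      LinearMap.codRestrict
        (Subalgebra.toSubmodule (integralClosure C (FractionRing ((C ⊗[A] L) ⧸ P.1))))
        ((φ P).toLinearMap.comp ι) (fun x => hint P x)
  have hΨ : Function.Injective Ψ := by
    rw [← LinearMap.ker_eq_bot, LinearMap.ker_eq_bot']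
    intro x hx
    apply hι
    rw [map_zero]
    have hmem : ι x ∈ sInf (minimalPrimes (C ⊗[A] L)) := by
      rw [Ideal.mem_sInf]
      intro P hP
      have h1 := congrArg Subtype.val (congrFun hx ⟨P, hP⟩)
      change φ ⟨P, hP⟩ (ι x) = 0 at h1
      rw [hφ_apply, map_eq_zero_iff _ (IsFractionRing.injective _ _)] at h1
      exact Ideal.Quotient.eq_zero_iff_mem.mp h1
    rw [minimalPrimes, Ideal.sInf_minimalPrimes] at hmem
    have h2 : (⊥ : Ideal (C ⊗[A] L)).radical = ⊥ := by
      have := nilradical_eq_zero (C ⊗[A] L)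
      rwa [nilradical, Ideal.zero_eq_bot] at this
    rw [h2] at hmem
    exact hmem
  haveI : ∀ P : minimalPrimes (C ⊗[A] L),
      Module.Finite C (integralClosure C (FractionRing ((C ⊗[A] L) ⧸ P.1))) := hfinP
  haveI : Module.Finite C (∀ P : minimalPrimes (C ⊗[A] L),
      integralClosure C (FractionRing ((C ⊗[A] L) ⧸ P.1))) := by
    haveI : Fintype (minimalPrimes (C ⊗[A] L)) := Fintype.ofFinite _
    exact Module.Finite.pi
  haveI : IsNoetherian C (∀ P : minimalPrimes (C ⊗[A] L),
      integralClosure C (FractionRing ((C ⊗[A] L) ⧸ P.1))) :=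
    isNoetherian_of_isNoetherianRing_of_finite C _
  haveI : Module.Finite C (C ⊗[A] (integralClosure A L)) := Module.Finite.of_injective Ψ hΨ
  exact Module.Finite.of_finite_tensorProduct_of_faithfullyFlat C

/-- N-2 from a faithfully flat Nagata algebra with reduced finite "generic fibres". -/
theorem isN2_of_reduced_tensor (A C : Type u) [CommRing A] [IsDomain A] [CommRing C]
    [Algebra A C] [Module.FaithfullyFlat A C] (hC : CAlg.IsNagata C)
    (h : ∀ (L : Type u) [Field L] [Algebra A L] [Algebra (FractionRing A) L]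
      [IsScalarTower A (FractionRing A) L], FiniteDimensional (FractionRing A) L →
      IsReduced (C ⊗[A] L)) : CAlg.IsN2 A := by
  intro L _ _ _ _ hfin
  haveI := hfin
  haveI := h L hfin
  exact finite_integralClosure_of_reduced_tensor A C (FractionRing A) L hC

end Groth.Agent.Lib.Helper12.AnUnram
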