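import Groth.Agent.Lib.Helper12.CohenFinD

/-!
# Noether normalisation for complete noetherian local domains (Cohen structure theorem II)
-/

set_option autoImplicit false
universe u v

namespace Groth.Agent.Lib.Helper12.CohenFin

open IsLocalRing

/-- A system of parameters containing a given nonzerodivisor of the maximal ideal. -/
theorem exists_sop_of_nonZeroDivisor (R : Type u) [CommRing R] [IsLocalRing R] [IsNoetherianRing R]
    (x : R) (hx : x ∈ maximalIdeal R) (hreg : x ∈ nonZeroDivisors R) (d : ℕ)
    (hd : ringKrullDim R = d) :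
    ∃ (e : ℕ) (b : Fin e → R), e + 1 ≤ d ∧ (∀ i, b i ∈ maximalIdeal R) ∧
      IsArtinianRing (R ⧸ (Ideal.span {x} ⊔ Ideal.span (Set.range b))) := by
  have hne : Ideal.span {x} ≠ ⊤ := by
    intro h
    have : (maximalIdeal R) = ⊤ := top_le_iff.mp (h ▸ (Ideal.span_le.mpr (by simpa using hx)))
    exact (maximalIdeal.isMaximal R).ne_top this
  haveI : Nontrivial (R ⧸ Ideal.span {x}) := Ideal.Quotient.nontrivial_iff.mpr hne
  haveI : IsLocalRing (R ⧸ Ideal.span {x}) :=
    IsLocalRing.of_surjective' (Ideal.Quotient.mk (Ideal.span {x})) Ideal.Quotient.mk_surjective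
  obtain ⟨e, b', hdim', hb', hart'⟩ := exists_sop (R ⧸ Ideal.span {x})
  have hlift : ∀ i, ∃ r : R, Ideal.Quotient.mk (Ideal.span {x}) r = b' i :=
    fun i => Ideal.Quotient.mk_surjective (b' i)
  choose b hb using hlift
  refine ⟨e, b, ?_, fun i => ?_, ?_⟩
  · have h1 := ringKrullDim_quotient_succ_le_of_nonZeroDivisor hreg
    rw [hdim', hd] at h1
    have h2 : ((e + 1 : ℕ) : WithBot ℕ∞) ≤ (d : WithBot ℕ∞) := by exact_mod_cast h1
    exact_mod_cast h2
  · by_contra hnot
    have hu : IsUnit (b i) := by
      rwa [mem_maximalIdeal, mem_nonunits_iff, not_not] at hnot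
    have hu' : IsUnit (b' i) := by
      rw [← hb i]
      exact hu.map _
    exact hb' i hu'
  · have hmap : (Ideal.span (Set.range b)).map (Ideal.Quotient.mk (Ideal.span {x})) =
        Ideal.span (Set.range b') := by
      rw [Ideal.map_span, ← Set.range_comp]
      congr 2
      ext i : 1
      exact hb i
    have hart'' : IsArtinianRing ((R ⧸ Ideal.span {x}) ⧸
        (Ideal.span (Set.range b)).map (Ideal.Quotient.mk (Ideal.span {x}))) := by
      rw [hmap]
      exact hart'
    exact (DoubleQuot.quotQuotEquivQuotSup (Ideal.span {x})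
      (Ideal.span (Set.range b))).surjective.isArtinianRing

/-- The residue field of `R` is finite over `Λ` when `Λ → R → k` is surjective. -/
theorem finite_residueField_of_surjective {Λ R : Type*} [CommRing Λ] [CommRing R] [IsLocalRing R]
    [Algebra Λ R] (h : Function.Surjective ((residue R).comp (algebraMap Λ R))) :
    Module.Finite Λ (ResidueField R) := by
  refine ⟨⟨{1}, ?_⟩⟩
  rw [eq_top_iff]
  intro x _
  obtain ⟨c, hc⟩ := h x
  have : x = c • (1 : ResidueField R) := by
    rw [← hc, Algebra.smul_def, mul_one]
    rfl
  rw [this]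
  exact Submodule.smul_mem _ _ (Submodule.subset_span (by simp))

/-- Noether normalisation with a coefficient field. -/
theorem exists_finite_injective_of_coeffField (R : Type u) [CommRing R] [IsLocalRing R]
    [IsNoetherianRing R] [IsAdicComplete (maximalIdeal R) R] (K : Type u) [Field K]
    (σ : K →+* R) (hσ : Function.Surjective ((residue R).comp σ)) :
    ∃ (n : ℕ) (f : MvPowerSeries (Fin n) K →+* R), Function.Injective f ∧ f.Finite ∧
      Function.Surjective ((residue R).comp f) := by
  letI : Algebra K R := σ.toAlgebra
  haveI : Module.Finite K (ResidueField R) := finite_residueField_of_surjective hσ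
  obtain ⟨n, w, h1, -, h3, -⟩ := exists_finite_injective_of_field (k₀ := K) (A := R)
  refine ⟨n, w.toRingHom, h1, h3, fun x => ?_⟩
  obtain ⟨c, hc⟩ := hσ x
  refine ⟨MvPowerSeries.C c, ?_⟩
  rw [← hc]
  change residue R (w (MvPowerSeries.C c)) = residue R (σ c)
  have : w (MvPowerSeries.C c) = algebraMap K R c := by
    have := w.commutes c
    rwa [MvPowerSeries.algebraMap_apply, Algebra.algebraMap_self_apply] at this
  rw [this]
  rfl

/-- **Cohen structure theorem II** (S0581). -/
theorem exists_finite_injective_mvPowerSeries (R : Type u) [CommRing R] [IsDomain R]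
    [IsLocalRing R] [IsNoetherianRing R] [IsAdicComplete (maximalIdeal R) R] :
    ∃ (Λ : Type u) (_ : CommRing Λ) (n : ℕ) (f : MvPowerSeries (Fin n) Λ →+* R),
      (IsField Λ ∨ CAlg.IsCohenRing Λ) ∧ Function.Injective f ∧ f.Finite ∧
      Function.Surjective ((IsLocalRing.residue R).comp f) := by
  obtain ⟨p, hp⟩ := CharP.exists (ResidueField R)
  rcases CharP.char_is_prime_or_zero (ResidueField R) p with hpp | rfl
  · haveI : Fact p.Prime := ⟨hpp⟩
    obtain ⟨Λ, i1, hdom, hdvr, v, hcomp, hmΛ, e, he⟩ :=
      CohenStruct.exists_coefficientRing_of_charP R p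
    have hvsurj : Function.Surjective ((residue R).comp v) := by
      intro x
      obtain ⟨y, hy⟩ := e.surjective x
      obtain ⟨c, rfl⟩ := residue_surjective y
      exact ⟨c, (he c).trans hy⟩
    have hpm : ((p : ℕ) : R) ∈ maximalIdeal R := by
      rw [← residue_eq_zero_iff, map_natCast]
      exact CharP.cast_eq_zero _ p
    by_cases hp0 : ((p : ℕ) : R) = 0
    · -- equal characteristic `p`: a coefficient field
      have hker : ∀ x ∈ maximalIdeal Λ, v x = 0 := by
        intro x hx
        rw [hmΛ] at hx
        obtain ⟨y, rfl⟩ := Ideal.mem_span_singleton'.mp hx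
        rw [map_mul, map_natCast, hp0, mul_zero]
      let σ : ResidueField Λ →+* R := Ideal.Quotient.lift (maximalIdeal Λ) v hker
      have hσ : Function.Surjective ((residue R).comp σ) := by
        intro x
        obtain ⟨c, hc⟩ := hvsurj x
        exact ⟨residue Λ c, hc⟩
      obtain ⟨n, f, h1, h2, h3⟩ := exists_finite_injective_of_coeffField R (ResidueField Λ) σ hσ
      exact ⟨ResidueField Λ, inferInstance, n, f, Or.inl (Field.toIsField _), h1, h2, h3⟩
    · -- mixed characteristic
      obtain ⟨d, -, hd, -, -⟩ := exists_sop R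
      have hreg : ((p : ℕ) : R) ∈ nonZeroDivisors R := mem_nonZeroDivisors_of_ne_zero hp0
      obtain ⟨n, b, hnd, hb, hart⟩ := exists_sop_of_nonZeroDivisor R _ hpm hreg d hd
      letI : Algebra Λ R := v.toAlgebra
      haveI : Module.Finite Λ (ResidueField R) := finite_residueField_of_surjective hvsurj
      haveI : IsPrecomplete (maximalIdeal Λ) Λ := hcomp.toIsPrecomplete
      obtain ⟨Φ, hC, hX⟩ := exists_eval R (algebraMap Λ R) b hb
      have hmapv : (maximalIdeal Λ).map (algebraMap Λ R) = Ideal.span {((p : ℕ) : R)} := by
        rw [hmΛ, Ideal.map_span, Set.image_singleton, map_natCast]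
      have hv : (maximalIdeal Λ).map (algebraMap Λ R) ≤ maximalIdeal R := by
        rw [hmapv, Ideal.span_le, Set.singleton_subset_iff]
        exact hpm
      have hart' : IsArtinianRing (R ⧸ ((maximalIdeal Λ).map (algebraMap Λ R) ⊔
          Ideal.span (Set.range b))) := by
        rw [hmapv]
        exact hart
      have hfin : Φ.Finite := finite_eval Φ b hC hX hv hb hart'
      haveI : IsDomain (MvPowerSeries (Fin n) Λ) := NoZeroDivisors.to_isDomain _
      have hgen : maximalIdeal Λ = Ideal.span (Set.range (fun _ : Fin 1 => ((p : ℕ) : Λ))) := by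
        rw [hmΛ]
        congr 1
        ext y
        simp
      have hdimS : ringKrullDim (MvPowerSeries (Fin n) Λ) ≤ d := by
        refine (ringKrullDim_ps_le (n := n) _ hgen).trans ?_
        have : 1 + n ≤ d := by omega
        exact_mod_cast this
      have hinj : Function.Injective Φ := injective_of_finite_of_dim_le Φ hfin d hdimS hd
      refine ⟨Λ, i1, n, Φ, Or.inr ⟨hdom, hdvr, hcomp, p, hpp, hmΛ⟩, hinj, hfin, fun x => ?_⟩
      obtain ⟨c, hc⟩ := hvsurj x
      refine ⟨MvPowerSeries.C c, ?_⟩
      rw [← hc, RingHom.comp_apply, hC]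
      rfl
  · -- residue characteristic zero
    obtain ⟨Λ, i1, v, hΛ, hv⟩ := CohenStruct.exists_coefficientRing R
    haveI : CharZero (ResidueField R) := CharP.charP_to_charZero _
    rcases hΛ with hfield | hcohen
    · letI := hfield.toField
      obtain ⟨n, f, h1, h2, h3⟩ := exists_finite_injective_of_coeffField R Λ v hv
      exact ⟨Λ, i1, n, f, Or.inl hfield, h1, h2, h3⟩
    · -- impossible: a Cohen ring has residue characteristic `p > 0`
      exfalso
      obtain ⟨hdom, hdvr, -, q, hq, hmq⟩ := hcohen
      have h1 : v ((q : ℕ) : Λ) ∈ maximalIdeal R := by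
        by_contra hnot
        have hu : IsUnit (v ((q : ℕ) : Λ)) := by
          rwa [mem_maximalIdeal, mem_nonunits_iff, not_not] at hnot
        -- then `q` is a unit in the residue field, fine; derive contradiction via surjectivity
        have hq0 : ((q : ℕ) : Λ) ∈ maximalIdeal Λ := by
          rw [hmq]
          exact Ideal.mem_span_singleton_self _
        -- `residue ∘ v` kills the maximal ideal? use that every element of `Λ` outside `𝔪` is a unit
        -- `1 = u * q` has no solution mod `𝔪_Λ`; we instead use the map to the residue field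
        -- of `R`, whose kernel is a proper ideal of `Λ` containing no units; `q` maps to a
        -- nonzero element. Consider the prime ideal `ker (residue ∘ v)`: it is maximal
        -- (surjective onto a field), hence equals `𝔪_Λ ∋ q`.
        have hv' : Function.Surjective ((residue R).comp v) := hv
        have hmax : (RingHom.ker ((residue R).comp v)).IsMaximal :=
          RingHom.ker_isMaximal_of_surjective _ hv'
        have := IsLocalRing.eq_maximalIdeal hmax
        have hq1 : ((q : ℕ) : Λ) ∈ RingHom.ker ((residue R).comp v) := by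
          rw [this]
          exact hq0
        rw [RingHom.mem_ker, RingHom.comp_apply, residue_eq_zero_iff] at hq1
        exact hnot hq1
      rw [map_natCast, ← residue_eq_zero_iff, map_natCast] at h1
      exact hq.ne_zero (Nat.cast_eq_zero.mp h1)

end Groth.Agent.Lib.Helper12.CohenFin
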