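import Mathlib

/-!
# `R⟦X⟧` is `X`-adically complete, and `R⟦X⟧ / (X) ≃ R`
-/

set_option autoImplicit false

namespace Groth.Agent.Lib.Helper12.PSAdic

open PowerSeries

variable (R : Type*) [CommRing R]

theorem mem_span_X_pow_iff (n : ℕ) (f : R⟦X⟧) :
    f ∈ (Ideal.span {(X : R⟦X⟧)}) ^ n ↔ ∀ m < n, coeff m f = 0 := by
  rw [Ideal.span_singleton_pow, Ideal.mem_span_singleton, X_pow_dvd_iff]

instance isAdicComplete_span_X : IsAdicComplete (Ideal.span {(X : R⟦X⟧)}) R⟦X⟧ where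
  haus' := by
    intro f hf
    ext m
    have := hf (m + 1)
    rw [SModEq.zero, smul_eq_mul, Ideal.mul_top, mem_span_X_pow_iff] at this
    rw [this m (Nat.lt_succ_self m), map_zero]
  prec' := by
    intro f hf
    refine ⟨PowerSeries.mk fun n => coeff n (f (n + 1)), fun n => ?_⟩
    rw [SModEq.sub_mem, smul_eq_mul, Ideal.mul_top, mem_span_X_pow_iff]
    intro m hm
    rw [map_sub, coeff_mk, sub_eq_zero]
    have := hf (Nat.succ_le_of_lt hm)
    rw [SModEq.sub_mem, smul_eq_mul, Ideal.mul_top, mem_span_X_pow_iff] at this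
    have h2 := this m (Nat.lt_succ_self m)
    rw [map_sub, sub_eq_zero] at h2
    exact h2.symm

/-- `R⟦X⟧ / (X) ≃ R`. -/
noncomputable def quotientSpanXEquiv : (R⟦X⟧ ⧸ Ideal.span {(X : R⟦X⟧)}) ≃+* R :=
  (Ideal.quotEquivOfEq (by
    ext f
    rw [Ideal.mem_span_singleton, X_dvd_iff, RingHom.mem_ker])).trans
    (RingHom.quotientKerEquivOfSurjective (f := (constantCoeff : R⟦X⟧ →+* R))
      (fun r => ⟨C r, constantCoeff_C r⟩))

end Groth.Agent.Lib.Helper12.PSAdic
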