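import Mathlib

/-!
# Power series over a Noetherian normal domain are normal, part A
-/

set_option autoImplicit false

namespace Groth.Agent.Lib.Helper12.PSNormal

open PowerSeries

/-- A Noetherian integrally closed domain is completely integrally closed. -/
theorem mem_range_of_almost_integral {R K : Type*} [CommRing R] [IsDomain R] [IsNoetherianRing R]
    [IsIntegrallyClosed R] [Field K] [Algebra R K] [IsFractionRing R K] (a : K) (b : R)
    (hb : b ≠ 0) (h : ∀ e : ℕ, algebraMap R K b * a ^ e ∈ (algebraMap R K).range) :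
    a ∈ (algebraMap R K).range := by
  have hinj : Function.Injective (algebraMap R K) := IsFractionRing.injective R K
  have hbK : algebraMap R K b ≠ 0 := by rwa [Ne, map_eq_zero_iff _ hinj]
  let μ : K →ₗ[R] K := LinearMap.mulLeft R (algebraMap R K b)
  have hμinj : Function.Injective μ := fun u v huv => mul_left_cancel₀ hbK huv
  set N : Submodule R K := (Algebra.adjoin R {a}).toSubmodule with hN
  have hle : N.map μ ≤ LinearMap.range (Algebra.linearMap R K) := by
    rw [Submodule.map_le_iff_le_comap]
    intro z hz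
    rw [hN, Algebra.adjoin_eq_span] at hz
    refine Submodule.span_induction ?_ ?_ ?_ ?_ hz
    · intro u hu
      obtain ⟨e, rfl⟩ := Submonoid.mem_closure_singleton.mp hu
      obtain ⟨r, hr⟩ := h e
      exact ⟨r, by simpa [μ] using hr⟩
    · exact Submodule.zero_mem _
    · intro u v _ _ hu hv; exact Submodule.add_mem _ hu hv
    · intro c u _ hu; exact Submodule.smul_mem _ c hu
  haveI : IsNoetherian R (LinearMap.range (Algebra.linearMap R K)) := inferInstance
  have hfg1 : (N.map μ).FG := by
    have h1 : ((N.map μ).comap (LinearMap.range (Algebra.linearMap R K)).subtype).FG :=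
      IsNoetherian.noetherian _
    have := h1.map (LinearMap.range (Algebra.linearMap R K)).subtype
    rwa [Submodule.map_comap_eq, Submodule.range_subtype, inf_eq_right.mpr hle] at this
  have hfg : N.FG := Submodule.fg_of_fg_map_injective μ hμinj hfg1
  have hint : IsIntegral R a :=
    IsIntegral.of_mem_of_fg (Algebra.adjoin R {a}) hfg a (Algebra.self_mem_adjoin_singleton R a)
  obtain ⟨r, hr⟩ := IsIntegrallyClosed.isIntegral_iff.mp hint
  exact ⟨r, hr⟩

section

variable {R K : Type*} [CommRing R] [Field K] [Algebra R K]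

theorem mem_range_map_iff (f : K⟦X⟧) :
    f ∈ (PowerSeries.map (algebraMap R K)).range ↔ ∀ n, coeff n f ∈ (algebraMap R K).range := by
  constructor
  · rintro ⟨p, rfl⟩ n
    exact ⟨coeff n p, by rw [coeff_map]⟩
  · intro h
    choose r hr using h
    exact ⟨PowerSeries.mk r, by ext n; rw [coeff_map, coeff_mk, hr]⟩

theorem mem_range_map_of_X_pow_mul (t : ℕ) (u : K⟦X⟧)
    (h : X ^ t * u ∈ (PowerSeries.map (algebraMap R K)).range) :
    u ∈ (PowerSeries.map (algebraMap R K)).range := by
  rw [mem_range_map_iff] at h ⊢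
  intro n
  have := h (n + t)
  rwa [coeff_X_pow_mul] at this

end

/-- Key step: if `h * g ^ e` has coefficients in `R` for all `e` (`h ≠ 0` with coefficients in
`R`), and the coefficients of `g` below `N` are in `R`, then so is the `N`-th coefficient. -/
theorem coeff_mem_range_of_almost {R K : Type*} [CommRing R] [IsDomain R] [IsNoetherianRing R]
    [IsIntegrallyClosed R] [Field K] [Algebra R K] [IsFractionRing R K]
    (h : R⟦X⟧) (hh : h ≠ 0) (g : K⟦X⟧)
    (hg : ∀ e : ℕ, PowerSeries.map (algebraMap R K) h * g ^ e ∈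
      (PowerSeries.map (algebraMap R K)).range)
    (N : ℕ) (hN : ∀ i < N, coeff i g ∈ (algebraMap R K).range) :
    coeff N g ∈ (algebraMap R K).range := by
  classical
  have hinj : Function.Injective (algebraMap R K) := IsFractionRing.injective R K
  set ι := PowerSeries.map (algebraMap R K) with hι
  -- the truncated part
  have hN' : ∀ i, ∃ r : R, i < N → algebraMap R K r = coeff i g := by
    intro i
    by_cases hi : i < N
    · obtain ⟨r, hr⟩ := hN i hi
      exact ⟨r, fun _ => hr⟩
    · exact ⟨0, fun h => absurd h hi⟩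
  choose r hr using hN'
  set p : K⟦X⟧ := ι (PowerSeries.mk fun i => if i < N then r i else 0) with hp
  have hpcoeff : ∀ i, coeff i p = if i < N then coeff i g else 0 := by
    intro i
    rw [hp, hι, coeff_map, coeff_mk]
    split_ifs with hi
    · exact hr i hi
    · exact map_zero _
  set g' := g - p with hg'
  have hg'low : ∀ i < N, coeff i g' = 0 := by
    intro i hi
    rw [hg', map_sub, hpcoeff, if_pos hi, sub_self]
  have hg'N : coeff N g' = coeff N g := by
    rw [hg', map_sub, hpcoeff, if_neg (lt_irrefl N), sub_zero]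
  -- g' = X^N * g₀
  set g₀ : K⟦X⟧ := PowerSeries.mk fun n => coeff (n + N) g' with hg₀
  have hg'eq : g' = X ^ N * g₀ := by
    ext n
    rw [coeff_X_pow_mul']
    split_ifs with hn
    · rw [hg₀, coeff_mk, Nat.sub_add_cancel hn]
    · exact hg'low n (not_le.mp hn)
  have hg₀c : constantCoeff g₀ = coeff N g := by
    rw [← coeff_zero_eq_constantCoeff_apply, hg₀, coeff_mk, zero_add, hg'N]
  -- almost integrality of g'
  have hg'alm : ∀ e : ℕ, ι h * g' ^ e ∈ ι.range := by
    intro e
    rw [hg', sub_eq_add_neg, add_pow, Finset.mul_sum]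
    refine Subring.sum_mem _ fun j _ => ?_
    have h1 : ι h * (g ^ j * (-p) ^ (e - j) * (e.choose j : K⟦X⟧)) =
        (ι h * g ^ j) * ((-p) ^ (e - j) * (e.choose j : K⟦X⟧)) := by ring
    rw [h1]
    refine Subring.mul_mem _ (hg j) (Subring.mul_mem _ (Subring.pow_mem _ (Subring.neg_mem _ ?_) _)
      (natCast_mem _ _))
    exact ⟨_, rfl⟩
  -- h = X^m * h₀
  set m := h.order.toNat with hm
  set h₀ := divXPowOrder h with hh₀
  have hheq : h = X ^ m * h₀ := X_pow_order_mul_divXPowOrder.symm
  have hb : constantCoeff h₀ ≠ 0 := by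
    rw [Ne, constantCoeff_divXPowOrder_eq_zero_iff]
    exact hh
  have hkey : ∀ e : ℕ, ι h₀ * g₀ ^ e ∈ ι.range := by
    intro e
    refine mem_range_map_of_X_pow_mul (m + N * e) _ ?_
    have := hg'alm e
    rw [hheq, hg'eq, map_mul, map_pow, hι, PowerSeries.map_X, mul_pow, ← pow_mul] at this
    convert this using 1
    ring
  refine mem_range_of_almost_integral (coeff N g) (constantCoeff h₀) hb fun e => ?_
  have := (mem_range_map_iff (R := R) _).mp (hkey e) 0
  rwa [coeff_zero_eq_constantCoeff_apply, map_mul, map_pow, hg₀c, hι,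
    ← coeff_zero_eq_constantCoeff_apply, coeff_map, coeff_zero_eq_constantCoeff_apply] at this

theorem mem_range_map_of_almost {R K : Type*} [CommRing R] [IsDomain R] [IsNoetherianRing R]
    [IsIntegrallyClosed R] [Field K] [Algebra R K] [IsFractionRing R K]
    (h : R⟦X⟧) (hh : h ≠ 0) (g : K⟦X⟧)
    (hg : ∀ e : ℕ, PowerSeries.map (algebraMap R K) h * g ^ e ∈
      (PowerSeries.map (algebraMap R K)).range) :
    g ∈ (PowerSeries.map (algebraMap R K)).range := by
  rw [mem_range_map_iff]
  intro n
  induction n using Nat.strong_induction_on with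
  | _ n ih => exact coeff_mem_range_of_almost h hh g hg n ih

end Groth.Agent.Lib.Helper12.PSNormal
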