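import Mathlib
import Groth.Agent.Lib.Helper12.PSNormalA

/-!
# Power series over a Noetherian normal domain are normal, part B
-/

set_option autoImplicit false

namespace Groth.Agent.Lib.Helper12.PSNormal

open PowerSeries

/-- common denominator of the powers of an integral element of the fraction field -/
theorem exists_common_denominator {P Q : Type*} [CommRing P] [IsDomain P] [Field Q] [Algebra P Q]
    [IsFractionRing P Q] (w : Q) (hw : IsIntegral P w) :
    ∃ h : P, h ≠ 0 ∧ ∀ e : ℕ, ∃ p : P, algebraMap P Q p = algebraMap P Q h * w ^ e := by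
  classical
  obtain ⟨s, hs⟩ := hw.fg_adjoin_singleton
  obtain ⟨b, hb⟩ := IsLocalization.exist_integer_multiples_of_finset (nonZeroDivisors P) s
  refine ⟨b, nonZeroDivisors.ne_zero b.2, fun e => ?_⟩
  have hmem : w ^ e ∈ Submodule.span P (s : Set Q) := by
    rw [hs]
    exact Subalgebra.pow_mem _ (Algebra.self_mem_adjoin_singleton P w) e
  have key : ∀ z ∈ Submodule.span P (s : Set Q), IsLocalization.IsInteger P ((b : P) • z) := by
    intro z hz
    refine Submodule.span_induction ?_ ?_ ?_ ?_ hz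
    · intro a ha; exact hb a ha
    · rw [smul_zero]; exact IsLocalization.isInteger_zero
    · intro u v _ _ hu hv
      rw [smul_add]; exact IsLocalization.isInteger_add hu hv
    · intro c u _ hu
      rw [smul_comm]; exact IsLocalization.isInteger_smul hu
  obtain ⟨p, hp⟩ := key _ hmem
  exact ⟨p, by rw [hp, Algebra.smul_def]⟩

theorem isIntegrallyClosed_powerSeries (R : Type*) [CommRing R] [IsDomain R] [IsNoetherianRing R]
    [IsIntegrallyClosed R] : IsIntegrallyClosed R⟦X⟧ := by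
  set K := FractionRing R with hK
  set ι : R⟦X⟧ →+* K⟦X⟧ := PowerSeries.map (algebraMap R K) with hι
  have hιinj : Function.Injective ι := by
    intro a b hab
    ext n
    have := congrArg (coeff n) hab
    rw [hι, coeff_map, coeff_map] at this
    exact IsFractionRing.injective R K this
  letI : Algebra R⟦X⟧ K⟦X⟧ := ι.toAlgebra
  haveI : FaithfulSMul R⟦X⟧ (FractionRing K⟦X⟧) := by
    rw [faithfulSMul_iff_algebraMap_injective,
      IsScalarTower.algebraMap_eq R⟦X⟧ K⟦X⟧ (FractionRing K⟦X⟧)]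
    exact (IsFractionRing.injective K⟦X⟧ _).comp hιinj
  letI := FractionRing.liftAlgebra R⟦X⟧ (FractionRing K⟦X⟧)
  haveI := FractionRing.isScalarTower_liftAlgebra R⟦X⟧ (FractionRing K⟦X⟧)
  refine (isIntegrallyClosed_iff (FractionRing R⟦X⟧)).mpr fun {w} hw => ?_
  -- image of w in Frac K⟦X⟧ is integral over K⟦X⟧ hence in K⟦X⟧
  have hw1 : IsIntegral R⟦X⟧ (algebraMap (FractionRing R⟦X⟧) (FractionRing K⟦X⟧) w) :=
    hw.map (IsScalarTower.toAlgHom R⟦X⟧ (FractionRing R⟦X⟧) (FractionRing K⟦X⟧))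
  have hw2 : IsIntegral K⟦X⟧ (algebraMap (FractionRing R⟦X⟧) (FractionRing K⟦X⟧) w) :=
    hw1.tower_top
  obtain ⟨g, hg⟩ := IsIntegrallyClosed.isIntegral_iff.mp hw2
  obtain ⟨h, hh0, hh⟩ := exists_common_denominator w hw
  have hgalm : ∀ e : ℕ, ι h * g ^ e ∈ ι.range := by
    intro e
    obtain ⟨p, hp⟩ := hh e
    refine ⟨p, ?_⟩
    apply IsFractionRing.injective K⟦X⟧ (FractionRing K⟦X⟧)
    have := congrArg (algebraMap (FractionRing R⟦X⟧) (FractionRing K⟦X⟧)) hp
    rw [map_mul, map_pow, ← IsScalarTower.algebraMap_apply, ← IsScalarTower.algebraMap_apply,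
      IsScalarTower.algebraMap_apply R⟦X⟧ K⟦X⟧ (FractionRing K⟦X⟧),
      IsScalarTower.algebraMap_apply R⟦X⟧ K⟦X⟧ (FractionRing K⟦X⟧) h, ← hg] at this
    rw [map_mul, map_pow]
    exact this
  obtain ⟨p, hp⟩ := mem_range_map_of_almost h hh0 g hgalm
  refine ⟨p, ?_⟩
  apply (algebraMap (FractionRing R⟦X⟧) (FractionRing K⟦X⟧)).injective
  rw [← hg, ← hp, ← IsScalarTower.algebraMap_apply,
    IsScalarTower.algebraMap_apply R⟦X⟧ K⟦X⟧ (FractionRing K⟦X⟧)]
  rfl

end Groth.Agent.Lib.Helper12.PSNormal
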