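import Mathlib

/-!
# Tate's lemma (N-2 for complete normal domains), part A: linear algebra lemmas
-/

namespace Groth.Agent.Lib.Helper12.Tate

open Polynomial

/-- Lifting linear independence from `M/xM` to `M`, for a torsion-free module over a domain `R`
with `⋂ (xⁿ) = 0`. The hypothesis `hind` says that the images of `m i` in `M/xM` are linearly
independent over `R/x`. -/
theorem linearIndependent_of_mod {R M ι : Type*} [CommRing R] [IsDomain R] [AddCommGroup M]
    [Module R M] [Module.IsTorsionFree R M] [Fintype ι] (x : R)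
    (hsep : ∀ a : R, (∀ n : ℕ, x ^ n ∣ a) → a = 0) (m : ι → M)
    (hind : ∀ c : ι → R, (∃ m' : M, ∑ i, c i • m i = x • m') → ∀ i, x ∣ c i) :
    LinearIndependent R m := by
  rw [Fintype.linearIndependent_iff]
  by_cases hx : x = 0
  · intro g hg i
    have := hind g ⟨0, by rw [hg, smul_zero]⟩ i
    rw [hx] at this
    exact zero_dvd_iff.mp this
  have key : ∀ n : ℕ, ∀ g : ι → R, ∑ i, g i • m i = 0 → ∀ i, x ^ n ∣ g i := by
    intro n
    induction n with
    | zero => intro g _ i; simp
    | succ n ih =>
      intro g hg i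
      have h1 := hind g ⟨0, by rw [hg, smul_zero]⟩
      choose d hd using h1
      have h2 : x • ∑ i, d i • m i = 0 := by
        rw [Finset.smul_sum, ← hg]
        refine Finset.sum_congr rfl fun i _ => ?_
        rw [smul_smul, ← hd i]
      have h3 : ∑ i, d i • m i = 0 := (smul_eq_zero_iff_right hx).mp h2
      obtain ⟨e, he⟩ := ih d h3 i
      exact ⟨e, by rw [hd i, he]; ring⟩
  intro g hg i
  exact hsep _ fun n => key n g hg i

/-- If `D₁` is a domain integral over the domain `D₀` in which every `D₀`-linearly independent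
finite family has at most `n` elements, then `Frac D₁` is finite over `Frac D₀`. -/
theorem finite_fractionRing_of_bound {D₀ D₁ k E : Type*} [CommRing D₀] [IsDomain D₀] [CommRing D₁]
    [IsDomain D₁] [Algebra D₀ D₁] [Algebra.IsIntegral D₀ D₁] [Field k] [Field E] [Algebra D₀ k]
    [IsFractionRing D₀ k] [Algebra D₁ E] [IsFractionRing D₁ E] [Algebra k E] [Algebra D₀ E]
    [IsScalarTower D₀ D₁ E] [IsScalarTower D₀ k E] (n : ℕ)
    (hbound : ∀ (t : ℕ) (v : Fin t → D₁), LinearIndependent D₀ v → t ≤ n) :
    Module.Finite k E := by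
  classical
  rw [← Module.rank_lt_aleph0_iff]
  refine lt_of_le_of_lt (rank_le (n := n) fun s hs => ?_) (Cardinal.nat_lt_aleph0 n)
  have hinj0 : Function.Injective (algebraMap D₀ k) := IsFractionRing.injective D₀ k
  have hinj1 : Function.Injective (algebraMap D₁ E) := IsFractionRing.injective D₁ E
  -- choose denominators
  have hden : ∀ e : E, ∃ (c : D₀) (d : D₁), c ≠ 0 ∧ algebraMap D₀ k c • e = algebraMap D₁ E d := by
    intro e
    obtain ⟨a, b, hb, rfl⟩ := IsFractionRing.div_surjective D₁ e
    obtain ⟨c', c, hc, h⟩ := (Algebra.IsAlgebraic.isAlgebraic (R := D₀) b).exists_smul_eq_mul a hb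
    refine ⟨c, c', hc, ?_⟩
    have hb0 : algebraMap D₁ E b ≠ 0 := by
      rw [Ne, map_eq_zero_iff _ hinj1]
      exact nonZeroDivisors.ne_zero hb
    rw [Algebra.smul_def, ← IsScalarTower.algebraMap_apply,
      IsScalarTower.algebraMap_apply D₀ D₁ E, mul_div_assoc', ← map_mul, ← Algebra.smul_def, h,
      map_mul, mul_div_cancel_left₀ _ hb0]
  choose c d hc hcd using hden
  let w : s → kˣ := fun i => Units.mk0 (algebraMap D₀ k (c i)) (by
    rw [Ne, map_eq_zero_iff _ hinj0]; exact hc i)
  have h1 : LinearIndependent k (w • fun i : s => (i : E)) := hs.units_smul w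
  have h2 : (w • fun i : s => (i : E)) = (algebraMap D₁ E) ∘ fun i : s => d i := by
    funext i
    simp only [Pi.smul_apply', Function.comp_apply, w]
    rw [Units.smul_def, Units.val_mk0, hcd]
  rw [h2] at h1
  have h3 : LinearIndependent D₀ ((algebraMap D₁ E) ∘ fun i : s => d i) :=
    h1.restrict_scalars (by
      intro a b hab
      simp only [Algebra.smul_def, mul_one] at hab
      exact hinj0 hab)
  have h4 : LinearIndependent D₀ (fun i : s => d i) :=
    LinearIndependent.of_comp (IsScalarTower.toAlgHom D₀ D₁ E).toLinearMap h3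
  exact hbound s.card _ (h4.comp s.equivFin.symm s.equivFin.symm.injective)

end Groth.Agent.Lib.Helper12.Tate
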