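import Mathlib

/-!
# Tate's lemma, part B: finiteness of `S/(yⁱ)` from finiteness of `S/(y)`
-/

namespace Groth.Agent.Lib.Helper12.Tate

variable (R : Type*) {S : Type*} [CommRing R] [CommRing S] [Algebra R S]

/-- `S/I` is a finite `R`-module, phrased inside `S`. -/
def FinMod (I : Ideal S) : Prop :=
  ∃ P : Submodule R S, P.FG ∧ P ⊔ I.restrictScalars R = ⊤

variable {R}

theorem finMod_of_finite (I : Ideal S) (h : Module.Finite R (S ⧸ I)) : FinMod R I := by
  classical
  obtain ⟨n, g, hg⟩ := Module.Finite.exists_fin (R := R) (M := S ⧸ I)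
  choose s hs using fun j => Ideal.Quotient.mk_surjective (g j)
  refine ⟨Submodule.span R (Set.range s), Submodule.fg_span (Set.finite_range s), ?_⟩
  rw [eq_top_iff]
  intro t _
  have ht : Ideal.Quotient.mk I t ∈ Submodule.span R (Set.range g) := by rw [hg]; trivial
  obtain ⟨c, hc⟩ := (Submodule.mem_span_range_iff_exists_fun R).mp ht
  have h1 : Ideal.Quotient.mk I (t - ∑ j, c j • s j) = 0 := by
    rw [map_sub, ← hc, map_sum, sub_eq_zero]
    refine Finset.sum_congr rfl fun j _ => ?_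
    rw [← hs j]
    rfl
  rw [Ideal.Quotient.eq_zero_iff_mem] at h1
  have h2 : t = ∑ j, c j • s j + (t - ∑ j, c j • s j) := by ring
  rw [h2]
  refine Submodule.add_mem_sup ?_ h1
  exact Submodule.sum_mem _ fun j _ =>
    Submodule.smul_mem _ _ (Submodule.subset_span ⟨j, rfl⟩)

theorem finite_of_finMod (I : Ideal S) (h : FinMod R I) : Module.Finite R (S ⧸ I) := by
  obtain ⟨P, hP, hsup⟩ := h
  have : Module.Finite R P := Module.Finite.iff_fg.mpr hP
  let f : P →ₗ[R] S ⧸ I := (Ideal.Quotient.mkₐ R I).toLinearMap.comp P.subtype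
  refine Module.Finite.of_surjective f ?_
  intro z
  obtain ⟨t, rfl⟩ := Ideal.Quotient.mk_surjective z
  have ht : t ∈ P ⊔ I.restrictScalars R := by rw [hsup]; trivial
  obtain ⟨a, ha, b, hb, rfl⟩ := Submodule.mem_sup.mp ht
  refine ⟨⟨a, ha⟩, ?_⟩
  change Ideal.Quotient.mk I a = Ideal.Quotient.mk I (a + b)
  rw [map_add, Ideal.Quotient.eq_zero_iff_mem.mpr hb, add_zero]

theorem finMod_mul (y : S) (I : Ideal S) (hI : FinMod R I) (hy : FinMod R (Ideal.span {y})) :
    FinMod R (Ideal.span {y} * I) := by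
  obtain ⟨PI, hPI, hsupI⟩ := hI
  obtain ⟨Py, hPy, hsupy⟩ := hy
  refine ⟨Py ⊔ PI.map (LinearMap.mulLeft R y), hPy.sup (hPI.map _), ?_⟩
  rw [eq_top_iff]
  intro s _
  have hs : s ∈ Py ⊔ (Ideal.span {y}).restrictScalars R := by rw [hsupy]; trivial
  obtain ⟨a, ha, t, ht, rfl⟩ := Submodule.mem_sup.mp hs
  obtain ⟨u, rfl⟩ := Ideal.mem_span_singleton'.mp ht
  have hu : u ∈ PI ⊔ I.restrictScalars R := by rw [hsupI]; trivial
  obtain ⟨b, hb, v, hv, rfl⟩ := Submodule.mem_sup.mp hu
  have : a + (b + v) * y = (a + y * b) + y * v := by ring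
  rw [this]
  refine Submodule.add_mem_sup (Submodule.add_mem_sup ha ⟨b, hb, rfl⟩) ?_
  exact Ideal.mul_mem_mul (Ideal.subset_span rfl) hv

theorem finMod_pow (y : S) (hy : FinMod R (Ideal.span {y})) (i : ℕ) :
    FinMod R (Ideal.span {y ^ i}) := by
  induction i with
  | zero =>
    refine ⟨⊥, Submodule.fg_bot, ?_⟩
    rw [pow_zero, Ideal.span_singleton_one, bot_sup_eq]
    rfl
  | succ i ih =>
    have := finMod_mul y _ ih hy
    rwa [Ideal.span_singleton_mul_span_singleton, ← pow_succ'] at this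

theorem finite_quotient_of_sup_eq_top {R M : Type*} [CommRing R] [AddCommGroup M] [Module R M]
    (P N : Submodule R M) (hP : P.FG) (h : P ⊔ N = ⊤) : Module.Finite R (M ⧸ N) := by
  have : Module.Finite R P := Module.Finite.iff_fg.mpr hP
  refine Module.Finite.of_surjective (N.mkQ.comp P.subtype) ?_
  intro z
  obtain ⟨t, rfl⟩ := N.mkQ_surjective z
  have ht : t ∈ P ⊔ N := by rw [h]; trivial
  obtain ⟨a, ha, b, hb, rfl⟩ := Submodule.mem_sup.mp ht
  refine ⟨⟨a, ha⟩, ?_⟩
  change N.mkQ a = N.mkQ (a + b)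
  have hb0 : N.mkQ b = 0 := (Submodule.Quotient.mk_eq_zero N).mpr hb
  rw [map_add, hb0, add_zero]

end Groth.Agent.Lib.Helper12.Tate
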