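import Mathlib
import Groth.Prelude.Def_Found
import Groth.Agent.Lib.Helper12.TateA
import Groth.Agent.Lib.Helper12.TateB
import Groth.Agent.Lib.Helper5.ComplKaehler

/-!
# Tate's lemma, part C: the purely inseparable case with a `q`-th root of `x`
-/

set_option autoImplicit false

namespace Groth.Agent.Lib.Helper12.Tate

universe u

section

variable {R K L : Type u} [CommRing R] [IsDomain R] [IsIntegrallyClosed R]
  [Field K] [Algebra R K] [IsFractionRing R K] [Field L] [Algebra K L] [Algebra R L]
  [IsScalarTower R K L]

include K in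
theorem algebraMap_injective_RL : Function.Injective (algebraMap R L) := by
  rw [IsScalarTower.algebraMap_eq R K L]
  exact (algebraMap K L).injective.comp (IsFractionRing.injective R K)

variable (q : ℕ) (hq : ∀ f : L, ∃ k : K, algebraMap K L k = f ^ q)

include hq in
theorem exists_pow_eq (f : integralClosure R L) : ∃ r : R, algebraMap R L r = (f : L) ^ q := by
  obtain ⟨k, hk⟩ := hq f
  have h1 : IsIntegral R ((f : L) ^ q) := f.2.pow q
  rw [← hk] at h1
  have h2 : IsIntegral R k :=
    (isIntegral_algHom_iff (IsScalarTower.toAlgHom R K L) (algebraMap K L).injective).mp h1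
  obtain ⟨r, rfl⟩ := IsIntegrallyClosed.isIntegral_iff.mp h2
  exact ⟨r, by rw [← hk, ← IsScalarTower.algebraMap_apply]⟩

end

section Main

variable (R K L : Type u) [CommRing R] [IsDomain R] [IsNoetherianRing R] [IsIntegrallyClosed R]
  [Field K] [Algebra R K] [IsFractionRing R K] [Field L] [Algebra K L] [Algebra R L]
  [IsScalarTower R K L] [FiniteDimensional K L]

theorem finite_integralClosure_of_pow (x : R) (hx0 : x ≠ 0) [hprime : (Ideal.span {x}).IsPrime]
    [IsAdicComplete (Ideal.span {x}) R] (h2 : CAlg.IsN2 (R ⧸ Ideal.span {x}))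
    (q : ℕ) (hq0 : 0 < q) (hq : ∀ f : L, ∃ k : K, algebraMap K L k = f ^ q)
    (y : L) (hy : y ^ q = algebraMap R L x) :
    Module.Finite R (integralClosure R L) := by
  classical
  have hinjRL : Function.Injective (algebraMap R L) := algebraMap_injective_RL (K := K)
  have hxprime : Prime x := (Ideal.span_singleton_prime hx0).mp hprime
  -- the function ρ
  choose ρ hρ using exists_pow_eq (R := R) (K := K) (L := L) q hq
  have hρmul : ∀ f g : integralClosure R L, ρ (f * g) = ρ f * ρ g := by
    intro f g
    apply hinjRL
    rw [hρ, map_mul, hρ, hρ, Subalgebra.coe_mul, mul_pow]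
  have hρone : ρ 1 = 1 := by
    apply hinjRL
    rw [hρ, map_one, Subalgebra.coe_one, one_pow]
  have hρalg : ∀ r : R, ρ (algebraMap R (integralClosure R L) r) = r ^ q := by
    intro r
    apply hinjRL
    rw [hρ, map_pow]
    rfl
  -- y as an element of S
  have hyint : IsIntegral R y := IsIntegral.of_pow hq0 (hy ▸ isIntegral_algebraMap)
  have hy0 : y ≠ 0 := by
    intro h0
    rw [h0, zero_pow hq0.ne'] at hy
    exact hx0 (hinjRL (by rw [← hy, map_zero]))
  set yS : integralClosure R L := ⟨y, hyint⟩ with hyS
  have hρy : ρ yS = x := by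
    apply hinjRL
    rw [hρ, ← hy]
  -- membership in (y)
  have hmem : ∀ f : integralClosure R L, f ∈ Ideal.span {yS} ↔ x ∣ ρ f := by
    intro f
    constructor
    · intro hf
      obtain ⟨s, rfl⟩ := Ideal.mem_span_singleton'.mp hf
      rw [hρmul, hρy]
      exact Dvd.intro_left _ rfl
    · rintro ⟨r', hr'⟩
      have hg : ((f : L) / y) ^ q = algebraMap R L r' := by
        rw [div_pow, ← hρ, hr', map_mul, hy, mul_div_cancel_left₀]
        rw [← hy]
        exact pow_ne_zero _ hy0
      have hgint : IsIntegral R ((f : L) / y) := IsIntegral.of_pow hq0 (hg ▸ isIntegral_algebraMap)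
      rw [Ideal.mem_span_singleton']
      refine ⟨⟨(f : L) / y, hgint⟩, Subtype.ext ?_⟩
      change (f : L) / y * y = f
      rw [div_mul_cancel₀ _ hy0]
  -- (y) is prime and lies over (x)
  have hqprime : (Ideal.span {yS}).IsPrime := by
    rw [Ideal.isPrime_iff]
    refine ⟨fun htop => ?_, fun {f g} hfg => ?_⟩
    · have h1 : (1 : integralClosure R L) ∈ Ideal.span {yS} := by rw [htop]; trivial
      rw [hmem, hρone] at h1
      exact hxprime.not_unit (isUnit_of_dvd_one h1)
    · rw [hmem, hρmul] at hfg
      rcases hxprime.dvd_or_dvd hfg with h | h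
      · exact Or.inl ((hmem f).mpr h)
      · exact Or.inr ((hmem g).mpr h)
  have hover : (Ideal.span {yS}).LiesOver (Ideal.span {x}) := by
    refine ⟨?_⟩
    ext r
    rw [Ideal.mem_span_singleton, Ideal.under_def, Ideal.mem_comap, hmem, hρalg]
    exact ⟨fun h => h.trans (dvd_pow_self r hq0.ne'), fun h => hxprime.dvd_of_dvd_pow h⟩
  -- the residue domains
  have hD₁dom : IsDomain (integralClosure R L ⧸ Ideal.span {yS}) :=
    Ideal.Quotient.isDomain _
  have hD₀dom : IsDomain (R ⧸ Ideal.span {x}) := Ideal.Quotient.isDomain _
  have hsep : ∀ a : R, (∀ n : ℕ, x ^ n ∣ a) → a = 0 := by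
    intro a ha
    have hH : IsHausdorff (Ideal.span {x}) R := inferInstance
    refine hH.haus a fun n => ?_
    rw [SModEq.zero, smul_eq_mul, Ideal.mul_top, Ideal.span_singleton_pow,
      Ideal.mem_span_singleton]
    exact ha n
  have htf : Module.IsTorsionFree R (integralClosure R L) := by
    rw [Module.isTorsionFree_iff_algebraMap_injective]
    intro a b hab
    apply hinjRL
    have := congrArg (Subtype.val) hab
    exact this
  have hbound : ∀ (t : ℕ) (v : Fin t → integralClosure R L ⧸ Ideal.span {yS}),
      LinearIndependent (R ⧸ Ideal.span {x}) v → t ≤ Module.finrank K L := by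
    intro t v hv
    choose f hf using fun i => Ideal.Quotient.mk_surjective (v i)
    have hfli : LinearIndependent R f := by
      refine linearIndependent_of_mod x hsep f fun c hc i => ?_
      obtain ⟨m', hm'⟩ := hc
      have h1 : ∑ i, (Ideal.Quotient.mk (Ideal.span {x}) (c i)) • v i = 0 := by
        have h2 : Ideal.Quotient.mk (Ideal.span {yS}) (∑ i, c i • f i) = 0 := by
          rw [hm', Ideal.Quotient.eq_zero_iff_mem, hmem, Algebra.smul_def, hρmul, hρalg]
          exact Dvd.dvd.mul_right (dvd_pow_self x hq0.ne') _
        rw [map_sum] at h2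
        rw [← h2]
        refine Finset.sum_congr rfl fun i _ => ?_
        rw [← hf i, Algebra.smul_def, Algebra.smul_def, map_mul,
          Ideal.Quotient.algebraMap_mk_of_liesOver]
      have h3 := Fintype.linearIndependent_iff.mp hv _ h1 i
      rw [Ideal.Quotient.eq_zero_iff_mem, Ideal.mem_span_singleton] at h3
      exact h3
    have h4 : LinearIndependent R (fun i => (f i : L)) :=
      hfli.map' (integralClosure R L).val.toLinearMap
        (LinearMap.ker_eq_bot.mpr Subtype.val_injective)
    have h5 : LinearIndependent K (fun i => (f i : L)) :=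
      LinearIndependent.localization (S := nonZeroDivisors R) K h4
    simpa using h5.fintype_card_le_finrank
  -- fraction fields
  have hfaith : FaithfulSMul (R ⧸ Ideal.span {x})
      (FractionRing (integralClosure R L ⧸ Ideal.span {yS})) := by
    rw [faithfulSMul_iff_algebraMap_injective,
      IsScalarTower.algebraMap_eq (R ⧸ Ideal.span {x}) (integralClosure R L ⧸ Ideal.span {yS})
        (FractionRing (integralClosure R L ⧸ Ideal.span {yS}))]
    exact (IsFractionRing.injective (integralClosure R L ⧸ Ideal.span {yS})
      (FractionRing (integralClosure R L ⧸ Ideal.span {yS}))).comp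
      (FaithfulSMul.algebraMap_injective (R ⧸ Ideal.span {x})
        (integralClosure R L ⧸ Ideal.span {yS}))
  letI := FractionRing.liftAlgebra (R ⧸ Ideal.span {x})
    (FractionRing (integralClosure R L ⧸ Ideal.span {yS}))
  haveI := FractionRing.isScalarTower_liftAlgebra (R ⧸ Ideal.span {x})
    (FractionRing (integralClosure R L ⧸ Ideal.span {yS}))
  have hEfin : Module.Finite (FractionRing (R ⧸ Ideal.span {x}))
      (FractionRing (integralClosure R L ⧸ Ideal.span {yS})) :=
    finite_fractionRing_of_bound (D₀ := R ⧸ Ideal.span {x})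
      (D₁ := integralClosure R L ⧸ Ideal.span {yS}) (Module.finrank K L) hbound
  have hN2 : Module.Finite (R ⧸ Ideal.span {x})
      (integralClosure (R ⧸ Ideal.span {x})
        (FractionRing (integralClosure R L ⧸ Ideal.span {yS}))) :=
    h2 (FractionRing (integralClosure R L ⧸ Ideal.span {yS})) hEfin
  -- D₁ is finite over D₀, hence over R
  have hD₁fin : Module.Finite (R ⧸ Ideal.span {x}) (integralClosure R L ⧸ Ideal.span {yS}) := by
    haveI : IsNoetherian (R ⧸ Ideal.span {x})
        (integralClosure (R ⧸ Ideal.span {x})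
          (FractionRing (integralClosure R L ⧸ Ideal.span {yS}))) :=
      isNoetherian_of_isNoetherianRing_of_finite _ _
    let g : (integralClosure R L ⧸ Ideal.span {yS}) →ₗ[R ⧸ Ideal.span {x}]
        (integralClosure (R ⧸ Ideal.span {x})
          (FractionRing (integralClosure R L ⧸ Ideal.span {yS}))) :=
      { toFun := fun z => ⟨algebraMap _ _ z, (Algebra.IsIntegral.isIntegral z).map
          (IsScalarTower.toAlgHom (R ⧸ Ideal.span {x}) (integralClosure R L ⧸ Ideal.span {yS})
            (FractionRing (integralClosure R L ⧸ Ideal.span {yS})))⟩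
        map_add' := fun a b => Subtype.ext (map_add _ a b)
        map_smul' := fun c a => Subtype.ext (by
          simp only [RingHom.id_apply, Algebra.smul_def, map_mul]
          rw [← IsScalarTower.algebraMap_apply]
          rfl) }
    refine Module.Finite.of_injective g ?_
    intro a b hab
    exact IsFractionRing.injective _ _ (congrArg Subtype.val hab)
  have hD₁finR : Module.Finite R (integralClosure R L ⧸ Ideal.span {yS}) :=
    Module.Finite.trans (R ⧸ Ideal.span {x}) _
  -- filtration: S/(x) is finite over R
  have hFM : FinMod R (Ideal.span {yS}) := finMod_of_finite _ hD₁finR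
  obtain ⟨P, hP, hsup⟩ := finMod_pow yS hFM q
  have hyq : yS ^ q = algebraMap R (integralClosure R L) x := Subtype.ext (by
    rw [SubmonoidClass.coe_pow]
    exact hy)
  have heq : (Ideal.span {yS ^ q}).restrictScalars R =
      (Ideal.span {x} • ⊤ : Submodule R (integralClosure R L)) := by
    rw [hyq, Submodule.ideal_span_singleton_smul]
    ext s
    rw [Submodule.restrictScalars_mem, Ideal.mem_span_singleton', Submodule.mem_smul_pointwise_iff_exists]
    constructor
    · rintro ⟨a, rfl⟩
      exact ⟨a, trivial, by rw [Algebra.smul_def, mul_comm]⟩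
    · rintro ⟨a, -, rfl⟩
      exact ⟨a, by rw [Algebra.smul_def, mul_comm]⟩
  rw [heq] at hsup
  have hfinq : Module.Finite R
      (integralClosure R L ⧸ (Ideal.span {x} • ⊤ : Submodule R (integralClosure R L))) :=
    finite_quotient_of_sup_eq_top P _ hP hsup
  -- Hausdorff
  have hHaus : IsHausdorff (Ideal.span {x}) (integralClosure R L) := by
    refine ⟨fun f hf => ?_⟩
    have h0 : ρ f = 0 := by
      refine hsep _ fun n => ?_
      have h1 := hf n
      rw [SModEq.zero, Ideal.span_singleton_pow, Submodule.ideal_span_singleton_smul,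
        Submodule.mem_smul_pointwise_iff_exists] at h1
      obtain ⟨s, -, rfl⟩ := h1
      rw [Algebra.smul_def, hρmul, hρalg]
      exact Dvd.dvd.mul_right (dvd_pow_self _ hq0.ne') _
    have h1 : (f : L) ^ q = 0 := by rw [← hρ, h0, map_zero]
    exact Subtype.ext (by simpa using pow_eq_zero_iff hq0.ne' |>.mp h1)
  exact Groth.Agent.Lib.Helper5.ComplKaehler.finite_of_finite_quotient (Ideal.span {x}) hfinq

end Main

end Groth.Agent.Lib.Helper12.Tate
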