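import Mathlib
import Groth.Prelude.Def_Found
import Groth.Agent.Lib.Helper12.TateC
import Groth.Agent.S4562

/-!
# Tate's lemma, part D: transfer along ring isomorphisms, adjoining a `q`-th root, final theorem
-/

set_option autoImplicit false

namespace Groth.Agent.Lib.Helper12.Tate

universe u

/-- N-2 is invariant under ring isomorphisms. -/
theorem isN2_of_ringEquiv {A B : Type u} [CommRing A] [IsDomain A] [CommRing B] [IsDomain B]
    (e : A ≃+* B) (hA : CAlg.IsN2 A) : CAlg.IsN2 B := by
  intro L _ _ _ _ hfin
  letI : Algebra A L := ((algebraMap B L).comp e.toRingHom).toAlgebra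
  have hBL : Function.Injective (algebraMap B L) := by
    rw [IsScalarTower.algebraMap_eq B (FractionRing B) L]
    exact (algebraMap (FractionRing B) L).injective.comp (IsFractionRing.injective B _)
  have hAL : Function.Injective (algebraMap A L) := hBL.comp e.injective
  haveI : FaithfulSMul A L := (faithfulSMul_iff_algebraMap_injective A L).mpr hAL
  letI := FractionRing.liftAlgebra A L
  haveI := FractionRing.isScalarTower_liftAlgebra A L
  have hfinA : Module.Finite (FractionRing A) L := by
    haveI := hfin
    refine Module.Finite.of_equiv_equiv (A₁ := FractionRing B) (B₁ := L)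
      (IsFractionRing.ringEquivOfRingEquiv e.symm : FractionRing B ≃+* FractionRing A)
      (RingEquiv.refl L) ?_
    apply IsFractionRing.ringHom_ext (A := B)
    intro b
    simp only [RingHom.comp_apply, RingEquiv.coe_toRingHom, RingEquiv.refl_apply,
      IsFractionRing.ringEquivOfRingEquiv_algebraMap]
    rw [← IsScalarTower.algebraMap_apply, ← IsScalarTower.algebraMap_apply]
    change algebraMap B L (e (e.symm b)) = algebraMap B L b
    rw [e.apply_symm_apply]
  have h1 : Module.Finite A (integralClosure A L) := hA L hfinA
  have hint : ∀ z : L, IsIntegral A z ↔ IsIntegral B z := by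
    intro z
    constructor
    · rintro ⟨P, hP, hz⟩
      refine ⟨P.map e.toRingHom, hP.map _, ?_⟩
      rw [Polynomial.eval₂_map]
      exact hz
    · rintro ⟨P, hP, hz⟩
      refine ⟨P.map e.symm.toRingHom, hP.map _, ?_⟩
      rw [Polynomial.eval₂_map]
      have : (algebraMap A L).comp e.symm.toRingHom = algebraMap B L := by
        ext b
        change algebraMap B L (e (e.symm b)) = algebraMap B L b
        rw [e.apply_symm_apply]
      rw [this]
      exact hz
  let e₂ : integralClosure A L ≃+* integralClosure B L :=
    { toFun := fun z => ⟨z.1, (hint z.1).mp z.2⟩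
      invFun := fun z => ⟨z.1, (hint z.1).mpr z.2⟩
      left_inv := fun _ => rfl
      right_inv := fun _ => rfl
      map_mul' := fun _ _ => rfl
      map_add' := fun _ _ => rfl }
  exact Module.Finite.of_equiv_equiv e e₂ (by ext a; rfl)

section Enlarge

variable (R : Type u) [CommRing R] [IsDomain R] [IsNoetherianRing R] [IsIntegrallyClosed R]

theorem finite_integralClosure_of_purelyInseparable (x : R) (hx0 : x ≠ 0)
    [hprime : (Ideal.span {x}).IsPrime] [IsAdicComplete (Ideal.span {x}) R]
    (h2 : CAlg.IsN2 (R ⧸ Ideal.span {x})) (p : ℕ) [hp : Fact p.Prime] [CharP (FractionRing R) p]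
    (K' : Type u) [Field K'] [Algebra R K'] [Algebra (FractionRing R) K']
    [IsScalarTower R (FractionRing R) K'] [FiniteDimensional (FractionRing R) K']
    [IsPurelyInseparable (FractionRing R) K'] :
    Module.Finite R (integralClosure R K') := by
  classical
  haveI : ExpChar (FractionRing R) p := ExpChar.prime hp.out
  set e := IsPurelyInseparable.exponent (FractionRing R) K' with he
  set q := p ^ e with hq
  have hq0 : 0 < q := pow_pos hp.out.pos e
  have hK' : ∀ a : K', ∃ k : FractionRing R, algebraMap (FractionRing R) K' k = a ^ q := by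
    intro a
    obtain ⟨k, hk⟩ := IsPurelyInseparable.exponent_def' (FractionRing R) p a
    exact ⟨k, hk⟩
  -- the algebraic closure and the root
  obtain ⟨y, hy⟩ := IsAlgClosed.exists_pow_nat_eq (algebraMap R (AlgebraicClosure K') x) hq0
  haveI : CharP (AlgebraicClosure K') p :=
    charP_of_injective_algebraMap (algebraMap (FractionRing R) (AlgebraicClosure K')).injective p
  have hΩ : ∀ f ∈ IntermediateField.adjoin K' ({y} : Set (AlgebraicClosure K')),
      ∃ k : FractionRing R, algebraMap (FractionRing R) (AlgebraicClosure K') k = f ^ q := by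
    intro f hf
    induction hf using IntermediateField.adjoin_induction with
    | mem z hz =>
      rw [Set.mem_singleton_iff] at hz
      rw [hz, hy]
      exact ⟨algebraMap R (FractionRing R) x, (IsScalarTower.algebraMap_apply _ _ _ _).symm⟩
    | algebraMap a =>
      obtain ⟨k, hk⟩ := hK' a
      exact ⟨k, by rw [← map_pow, ← hk, ← IsScalarTower.algebraMap_apply]⟩
    | add a b _ _ ha hb =>
      obtain ⟨k₁, h₁⟩ := ha
      obtain ⟨k₂, h₂⟩ := hb
      exact ⟨k₁ + k₂, by rw [map_add, h₁, h₂, hq, add_pow_char_pow]⟩
    | inv a _ ha =>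
      obtain ⟨k, hk⟩ := ha
      exact ⟨k⁻¹, by rw [map_inv₀, hk, inv_pow]⟩
    | mul a b _ _ ha hb =>
      obtain ⟨k₁, h₁⟩ := ha
      obtain ⟨k₂, h₂⟩ := hb
      exact ⟨k₁ * k₂, by rw [map_mul, h₁, h₂, mul_pow]⟩
  have hyint : IsIntegral K' y := (Algebra.IsAlgebraic.isAlgebraic y).isIntegral
  haveI : FiniteDimensional K' (IntermediateField.adjoin K' ({y} : Set (AlgebraicClosure K'))) :=
    IntermediateField.adjoin.finiteDimensional hyint
  haveI : IsScalarTower R (FractionRing R)
      (IntermediateField.adjoin K' ({y} : Set (AlgebraicClosure K'))) :=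
    IsScalarTower.of_algebraMap_eq fun r => Subtype.ext (by
      change algebraMap R (AlgebraicClosure K') r =
        algebraMap (FractionRing R) (AlgebraicClosure K') (algebraMap R (FractionRing R) r)
      rw [← IsScalarTower.algebraMap_apply])
  haveI : FiniteDimensional (FractionRing R)
      (IntermediateField.adjoin K' ({y} : Set (AlgebraicClosure K'))) :=
    Module.Finite.trans K' _
  have hqL : ∀ f : IntermediateField.adjoin K' ({y} : Set (AlgebraicClosure K')),
      ∃ k : FractionRing R, algebraMap (FractionRing R) _ k = f ^ q := by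
    intro f
    obtain ⟨k, hk⟩ := hΩ f.1 f.2
    exact ⟨k, Subtype.ext hk⟩
  have hyL : (⟨y, IntermediateField.mem_adjoin_simple_self K' y⟩ :
      IntermediateField.adjoin K' ({y} : Set (AlgebraicClosure K'))) ^ q =
      algebraMap R _ x := Subtype.ext hy
  have hfinL := finite_integralClosure_of_pow R (FractionRing R)
    (IntermediateField.adjoin K' ({y} : Set (AlgebraicClosure K'))) x hx0 h2 q hq0 hqL _ hyL
  -- transfer to K'
  let ψ : K' →ₐ[R] IntermediateField.adjoin K' ({y} : Set (AlgebraicClosure K')) :=
    IsScalarTower.toAlgHom R K' _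
  let g : integralClosure R K' →ₐ[R]
      integralClosure R (IntermediateField.adjoin K' ({y} : Set (AlgebraicClosure K'))) :=
    ψ.mapIntegralClosure
  have hg : Function.Injective g := by
    intro a b hab
    apply Subtype.ext
    have : (g a : IntermediateField.adjoin K' ({y} : Set (AlgebraicClosure K'))) = g b :=
      congrArg Subtype.val hab
    exact (algebraMap K' _).injective this
  haveI : IsNoetherian R
      (integralClosure R (IntermediateField.adjoin K' ({y} : Set (AlgebraicClosure K')))) :=
    isNoetherian_of_isNoetherianRing_of_finite R _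
  exact Module.Finite.of_injective g.toLinearMap hg

end Enlarge

/-- **Tate's lemma**. -/
theorem tate (R : Type u) [CommRing R] [IsDomain R] [IsNoetherianRing R] [IsIntegrallyClosed R]
    (x : R) [hprime : (Ideal.span ({x} : Set R)).IsPrime]
    (h2 : CAlg.IsN2 (R ⧸ Ideal.span ({x} : Set R))) [IsAdicComplete (Ideal.span ({x} : Set R)) R] :
    CAlg.IsN2 R := by
  by_cases hx0 : x = 0
  · have hbot : Ideal.span ({x} : Set R) = ⊥ := by rw [hx0, Ideal.span_singleton_eq_bot]
    exact isN2_of_ringEquiv ((Ideal.quotEquivOfEq hbot).trans (RingEquiv.quotientBot R)) h2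
  obtain ⟨p, hp⟩ := CharP.exists (FractionRing R)
  rcases CharP.char_is_prime_or_zero (FractionRing R) p with hpp | rfl
  · haveI : Fact p.Prime := ⟨hpp⟩
    refine Groth.Agent.S4562.result R fun K' _ _ _ _ hfin hpi => ?_
    haveI := hfin
    haveI := hpi
    exact finite_integralClosure_of_purelyInseparable R x hx0 h2 p K'
  · haveI : CharZero (FractionRing R) := CharP.charP_to_charZero _
    intro L _ _ _ _ hfin
    haveI := hfin
    haveI : Algebra.IsSeparable (FractionRing R) L := Algebra.IsAlgebraic.isSeparable_of_perfectField
    exact IsIntegralClosure.finite R (FractionRing R) L (integralClosure R L)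

end Groth.Agent.Lib.Helper12.Tate
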