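import Mathlib
import Groth.Prelude.Def_Found
import Groth.Agent.Lib.Helper12.TateD
import Groth.Agent.Lib.Helper12.PSNormalB
import Groth.Agent.Lib.Helper12.PSAdic
import Groth.Agent.Lib.Helper12.N2ExtA

/-!
# Power series over a Noetherian N-2 domain are N-2
-/

set_option autoImplicit false

namespace Groth.Agent.Lib.Helper12.PSN2

open PowerSeries

universe u

/-- `R'⟦X⟧` is finite over `R⟦X⟧` when `R'` is finite over `R`. -/
theorem finite_map {R R' : Type*} [CommRing R] [CommRing R'] [Algebra R R'] [Module.Finite R R'] :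
    (PowerSeries.map (algebraMap R R')).Finite := by
  classical
  letI : Algebra R⟦X⟧ R'⟦X⟧ := (PowerSeries.map (algebraMap R R')).toAlgebra
  change Module.Finite R⟦X⟧ R'⟦X⟧
  obtain ⟨n, e, he⟩ := Module.Finite.exists_fin (R := R) (M := R')
  refine ⟨⟨Finset.univ.image fun j => C (e j), ?_⟩⟩
  rw [eq_top_iff]
  intro f _
  have hc : ∀ m : ℕ, ∃ r : Fin n → R, ∑ j, r j • e j = coeff m f := by
    intro m
    have : coeff m f ∈ Submodule.span R (Set.range e) := by rw [he]; trivial
    exact (Submodule.mem_span_range_iff_exists_fun R).mp this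
  choose r hr using hc
  have hf : f = ∑ j, (PowerSeries.mk fun m => r m j : R⟦X⟧) • (C (e j) : R'⟦X⟧) := by
    ext m
    rw [map_sum, ← hr m]
    refine Finset.sum_congr rfl fun j _ => ?_
    rw [Algebra.smul_def (r m j) (e j)]
    have h1 : ((PowerSeries.mk fun m => r m j : R⟦X⟧) • (C (e j) : R'⟦X⟧)) =
        PowerSeries.map (algebraMap R R') (PowerSeries.mk fun m => r m j) * C (e j) := rfl
    rw [h1, coeff_mul_C, coeff_map, coeff_mk]
  rw [hf]
  refine Submodule.sum_mem _ fun j _ => Submodule.smul_mem _ _ (Submodule.subset_span ?_)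
  rw [Finset.coe_image]
  exact ⟨j, by simp, rfl⟩

theorem isN2_powerSeries_of_normal (R : Type u) [CommRing R] [IsDomain R] [IsNoetherianRing R]
    [IsIntegrallyClosed R] (h : CAlg.IsN2 R) : CAlg.IsN2 R⟦X⟧ := by
  haveI : IsIntegrallyClosed R⟦X⟧ := PSNormal.isIntegrallyClosed_powerSeries R
  haveI : (Ideal.span {(X : R⟦X⟧)}).IsPrime := PowerSeries.span_X_isPrime
  haveI : IsDomain (R⟦X⟧ ⧸ Ideal.span {(X : R⟦X⟧)}) := Ideal.Quotient.isDomain _
  have h2 : CAlg.IsN2 (R⟦X⟧ ⧸ Ideal.span {(X : R⟦X⟧)}) :=
    Tate.isN2_of_ringEquiv (PSAdic.quotientSpanXEquiv R).symm h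
  exact Tate.tate R⟦X⟧ X h2

theorem isN2_powerSeries (R : Type u) [CommRing R] [IsDomain R] [IsNoetherianRing R]
    (h : CAlg.IsN2 R) : CAlg.IsN2 R⟦X⟧ := by
  -- the normalization R'
  haveI hfin : Module.Finite R (integralClosure R (FractionRing R)) :=
    h (FractionRing R) inferInstance
  haveI : IsNoetherianRing (integralClosure R (FractionRing R)) :=
    Algebra.FiniteType.isNoetherianRing R _
  haveI : IsIntegrallyClosed (integralClosure R (FractionRing R)) :=
    integralClosure.isIntegrallyClosedOfFiniteExtension (FractionRing R)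
  have hinj : Function.Injective (algebraMap R (integralClosure R (FractionRing R))) := by
    intro a b hab
    exact IsFractionRing.injective R (FractionRing R) (congrArg Subtype.val hab)
  have hR' : CAlg.IsN2 (integralClosure R (FractionRing R)) :=
    N2Ext.isN2_of_finite_of_isN2 R _ hinj h
  have hP' : CAlg.IsN2 (integralClosure R (FractionRing R))⟦X⟧ :=
    isN2_powerSeries_of_normal _ hR'
  letI : Algebra R⟦X⟧ (integralClosure R (FractionRing R))⟦X⟧ :=
    (PowerSeries.map (algebraMap R (integralClosure R (FractionRing R)))).toAlgebra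
  haveI : Module.Finite R⟦X⟧ (integralClosure R (FractionRing R))⟦X⟧ := finite_map
  refine N2Ext.isN2_of_isN2_of_finite R⟦X⟧ (integralClosure R (FractionRing R))⟦X⟧ ?_ hP'
  intro a b hab
  ext n
  have := congrArg (coeff n) hab
  rw [RingHom.algebraMap_toAlgebra, coeff_map, coeff_map] at this
  exact hinj this

end Groth.Agent.Lib.Helper12.PSN2
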