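import Mathlib
import Groth.Prelude.Def_Found
import Groth.Agent.Lib.Helper12.PSN2

/-!
# Multivariate power series over a Noetherian N-2 domain are N-2
-/

set_option autoImplicit false

namespace Groth.Agent.Lib.Helper12.PSN2

open PowerSeries

universe u

theorem isDomain_mvPowerSeries (A : Type*) [CommRing A] [IsDomain A] (σ : Type*) :
    IsDomain (MvPowerSeries σ A) := NoZeroDivisors.to_isDomain _

theorem isN2_mvPowerSeries_aux (A : Type u) [CommRing A] [IsDomain A] [IsNoetherianRing A]
    (hA : CAlg.IsN2 A) (r : ℕ) :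
    ∀ inst : IsDomain (MvPowerSeries (Fin r) A), @CAlg.IsN2 (MvPowerSeries (Fin r) A) _ inst := by
  induction r with
  | zero =>
    intro inst
    exact Tate.isN2_of_ringEquiv
      (MvPowerSeries.isEmptyEquiv (σ := Fin 0) (R := A)).symm.toRingEquiv hA
  | succ r ih =>
    intro inst
    haveI : IsDomain (MvPowerSeries (Fin r) A) := isDomain_mvPowerSeries A _
    have h1 : CAlg.IsN2 (MvPowerSeries (Fin r) A) := ih _
    haveI : IsDomain (MvPowerSeries (Fin r) A)⟦X⟧ :=
      (MvPowerSeries.finSuccEquiv A r).symm.toRingEquiv.injective.isDomain _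
    have h2 : CAlg.IsN2 (MvPowerSeries (Fin r) A)⟦X⟧ := isN2_powerSeries _ h1
    exact Tate.isN2_of_ringEquiv (MvPowerSeries.finSuccEquiv A r).symm.toRingEquiv h2

theorem isN2_mvPowerSeries (A : Type u) [CommRing A] [IsDomain A] [IsNoetherianRing A]
    (hA : CAlg.IsN2 A) (r : ℕ) [inst : IsDomain (MvPowerSeries (Fin r) A)] :
    CAlg.IsN2 (MvPowerSeries (Fin r) A) :=
  isN2_mvPowerSeries_aux A hA r inst

end Groth.Agent.Lib.Helper12.PSN2
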