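import Mathlib
import Groth.Prelude.Def_Found
import Groth.Agent.Lib.Helper12.PSN2Mv
import Groth.Agent.Lib.Helper12.CohenFinE
import Groth.Agent.Lib.Helper5.FlatCohenD
import Groth.Agent.Lib.Helper26.DedekindNagata

/-!
# A complete Noetherian local ring is Nagata
-/

set_option autoImplicit false

namespace Groth.Agent.Lib.Helper12.CompleteNagata

open IsLocalRing

universe u

theorem charZero_of_isCohenRing (Λ : Type u) [CommRing Λ] (h : CAlg.IsCohenRing Λ) :
    ∃ (_ : IsDomain Λ) (_ : IsDiscreteValuationRing Λ), CharZero Λ := by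
  obtain ⟨hdom, hdvr, -, p, hp, hm⟩ := h
  refine ⟨hdom, hdvr, ?_⟩
  have hp0 : ((p : ℕ) : Λ) ≠ 0 := by
    intro h0
    have : maximalIdeal Λ = ⊥ := by rw [hm, h0, Ideal.span_singleton_eq_bot]
    exact IsDiscreteValuationRing.not_a_field Λ this
  obtain ⟨ℓ, hℓ⟩ := CharP.exists Λ
  rcases CharP.char_is_prime_or_zero Λ ℓ with hℓp | rfl
  · exfalso
    have hℓ0 : ((ℓ : ℕ) : Λ) = 0 := CharP.cast_eq_zero Λ ℓ
    by_cases hpl : ℓ = p
    · exact hp0 (hpl ▸ hℓ0)
    · have hcop : Nat.Coprime ℓ p := (Nat.coprime_primes hℓp hp).mpr hpl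
      have hone : (1 : Λ) ∈ maximalIdeal Λ := by
        have h1 : ((Nat.gcd ℓ p : ℕ) : ℤ) = ℓ * Nat.gcdA ℓ p + p * Nat.gcdB ℓ p :=
          Nat.gcd_eq_gcd_ab ℓ p
        rw [hcop] at h1
        have h2 := congrArg (Int.cast : ℤ → Λ) h1
        push_cast at h2
        rw [hℓ0, zero_mul, zero_add] at h2
        rw [h2, hm]
        exact Ideal.mul_mem_right _ _ (Ideal.subset_span rfl)
      exact (Ideal.ne_top_iff_one _).mp (maximalIdeal.isMaximal Λ).ne_top hone
  · exact CharP.charP_to_charZero Λ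

theorem isN2_complete_local_domain (D : Type u) [CommRing D] [IsDomain D] [IsLocalRing D]
    [IsNoetherianRing D] [IsAdicComplete (maximalIdeal D) D] : CAlg.IsN2 D := by
  obtain ⟨Λ, _, n, f, hΛ, hinj, hfin, -⟩ := CohenFin.exists_finite_injective_mvPowerSeries D
  letI : Algebra (MvPowerSeries (Fin n) Λ) D := f.toAlgebra
  haveI : Module.Finite (MvPowerSeries (Fin n) Λ) D := hfin
  rcases hΛ with hfield | hcohen
  · letI := hfield.toField
    haveI : IsDomain (MvPowerSeries (Fin n) Λ) := PSN2.isDomain_mvPowerSeries Λ _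
    have hN2 : CAlg.IsN2 Λ := Groth.Agent.Lib.Helper26.DedekindNagata.n2_of_isField Λ hfield
    exact N2Ext.isN2_of_finite_of_isN2 (MvPowerSeries (Fin n) Λ) D hinj
      (PSN2.isN2_mvPowerSeries Λ hN2 n)
  · obtain ⟨hdom, hdvr, hchar⟩ := charZero_of_isCohenRing Λ hcohen
    haveI : IsDomain (MvPowerSeries (Fin n) Λ) := PSN2.isDomain_mvPowerSeries Λ _
    have hN2 : CAlg.IsN2 Λ := Groth.Agent.Lib.Helper26.DedekindNagata.n2_of_normal_charZero Λ
    exact N2Ext.isN2_of_finite_of_isN2 (MvPowerSeries (Fin n) Λ) D hinj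
      (PSN2.isN2_mvPowerSeries Λ hN2 n)

theorem isNagata_of_complete_local (R : Type u) [CommRing R] [IsLocalRing R] [IsNoetherianRing R]
    [IsAdicComplete (maximalIdeal R) R] : CAlg.IsNagata R := by
  refine ⟨inferInstance, fun p hp => ?_⟩
  haveI : IsLocalRing (R ⧸ p) :=
    IsLocalRing.of_surjective' (Ideal.Quotient.mk p) Ideal.Quotient.mk_surjective
  haveI : IsAdicComplete (maximalIdeal (R ⧸ p)) (R ⧸ p) :=
    Groth.Agent.Lib.Helper5.FlatCohen.isAdicComplete_quotient p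
  exact isN2_complete_local_domain (R ⧸ p)

end Groth.Agent.Lib.Helper12.CompleteNagata
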