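import Mathlib
import Groth.Prelude.Def_Found
import Groth.Prelude.Def_EGA4b
import Groth.Agent.Lib.Helper12.AnUnramC
import Groth.Agent.Lib.Helper12.CompleteNagata
import Groth.Agent.Lib.Helper12.TateD
import Groth.Agent.Lib.helper19.CompletionNoetherian

/-!
# Local rings with geometrically reduced formal fibres are Nagata
-/

set_option autoImplicit false

namespace Groth.Agent.Lib.Helper12.AnUnram

open TensorProduct IsLocalRing

universe u

/-- A quotient of a Nagata ring is Nagata. -/
theorem isNagata_of_surjective {R S : Type u} [CommRing R] [CommRing S] (f : R →+* S)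
    (hf : Function.Surjective f) (hR : CAlg.IsNagata R) : CAlg.IsNagata S := by
  haveI := hR.1
  refine ⟨isNoetherianRing_of_surjective R S f hf, fun P hP => ?_⟩
  haveI : (P.comap f).IsPrime := Ideal.comap_isPrime f P
  have h1 : CAlg.IsN2 (R ⧸ P.comap f) := hR.2 (P.comap f)
  let g : R →+* S ⧸ P := (Ideal.Quotient.mk P).comp f
  have hg : Function.Surjective g := Ideal.Quotient.mk_surjective.comp hf
  have hker : RingHom.ker g = P.comap f := by
    ext x
    simp only [g, RingHom.mem_ker, RingHom.comp_apply, Ideal.Quotient.eq_zero_iff_mem,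
      Ideal.mem_comap]
  let e : R ⧸ P.comap f ≃+* S ⧸ P :=
    (Ideal.quotEquivOfEq hker.symm).trans (RingHom.quotientKerEquivOfSurjective hg)
  exact Tate.isN2_of_ringEquiv e h1

section Cpl

variable (A : Type u) [CommRing A] [IsLocalRing A] [IsNoetherianRing A]

theorem isNoetherianRing_cpl : IsNoetherianRing (AdicCompletion (maximalIdeal A) A) :=
  Groth.Agent.Lib.helper19.isNoetherianRing_adicCompletion A (maximalIdeal A)

theorem isNagata_cpl : CAlg.IsNagata (AdicCompletion (maximalIdeal A) A) := by
  haveI := isNoetherianRing_cpl A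
  exact CompleteNagata.isNagata_of_complete_local _

theorem faithfullyFlat_cpl : Module.FaithfullyFlat A (AdicCompletion (maximalIdeal A) A) := by
  haveI := isNoetherianRing_cpl A
  exact Module.FaithfullyFlat.of_flat_of_isLocalHom

end Cpl

/-- reducedness of `C ⊗[A] L` from geometric reducedness of an overring `R ⊇ C` over
`K = Frac A`. -/
theorem isReduced_tensor_of_geomReduced (A C R K L : Type*) [CommRing A] [IsDomain A] [CommRing C]
    [Algebra A C] [CommRing R] [Algebra C R] [Algebra A R] [IsScalarTower A C R]
    (hinj : Function.Injective (algebraMap C R)) [Field K] [Algebra A K] [IsFractionRing A K]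
    [Algebra K R] [IsScalarTower A K R] [Algebra.IsGeometricallyReduced K R] [Field L]
    [Algebra A L] [Algebra K L] [IsScalarTower A K L] [Algebra.IsAlgebraic K L] :
    IsReduced (C ⊗[A] L) := by
  haveI : Module.Flat A K := IsLocalization.flat K (nonZeroDivisors A)
  haveI : Module.Flat A L := Module.Flat.trans A K L
  let f : C ⊗[A] L →ₐ[A] R ⊗[A] L :=
    Algebra.TensorProduct.map (IsScalarTower.toAlgHom A C R) (AlgHom.id A L)
  have hf : Function.Injective f := by
    have : Function.Injective (LinearMap.rTensor L (IsScalarTower.toAlgHom A C R).toLinearMap) :=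
      Module.Flat.rTensor_preserves_injective_linearMap _ hinj
    exact this
  let e1 : R ⊗[A] L ≃ₐ[A] L ⊗[A] R := Algebra.TensorProduct.comm A R L
  let e2 : L ⊗[K] R ≃ₐ[K] L ⊗[A] R :=
    IsLocalization.algebraTensorEquiv (nonZeroDivisors A) K L R
  haveI : IsReduced (L ⊗[K] R) := inferInstance
  exact isReduced_of_injective
    ((e2.symm.toRingEquiv.toRingHom.comp e1.toRingEquiv.toRingHom).comp f.toRingHom)
    ((e2.symm.injective.comp e1.injective).comp hf)

end Groth.Agent.Lib.Helper12.AnUnram
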