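import Mathlib

/-!
# Zariski's lemma on analytic unramifiedness, part A: two flatness lemmas
-/

set_option autoImplicit false

namespace Groth.Agent.Lib.Helper12.Zar

open TensorProduct

/-- If `π` is a non-zero-divisor of `V`, `B` is flat over `V` and `B/πB` is reduced, then any `y`
with `y ^ 2 = 0` is divisible by every power of `π`. -/
theorem mem_span_pow_of_sq_eq_zero {V B : Type*} [CommRing V] [CommRing B] [Algebra V B]
    [Module.Flat V B] (π : V) (hπ : π ∈ nonZeroDivisors V)
    (hrad : (Ideal.span {algebraMap V B π}).IsRadical) (n : ℕ) :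
    ∀ y : B, y ^ 2 = 0 → y ∈ Ideal.span {algebraMap V B π ^ n} := by
  have hreg : IsSMulRegular B π := Module.Flat.isSMulRegular_of_nonZeroDivisors hπ
  induction n with
  | zero => intro y _; rw [pow_zero, Ideal.span_singleton_one]; trivial
  | succ n ih =>
    intro y hy
    have h1 : y ∈ Ideal.span {algebraMap V B π} := by
      apply hrad
      exact ⟨2, by rw [hy]; exact Ideal.zero_mem _⟩
    obtain ⟨y₁, rfl⟩ := Ideal.mem_span_singleton'.mp h1
    have h2 : y₁ ^ 2 = 0 := by
      have h3 : π • (π • y₁ ^ 2) = π • (π • (0 : B)) := by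
        rw [smul_zero, smul_zero, Algebra.smul_def, Algebra.smul_def]
        rw [← hy]; ring
      exact hreg (hreg h3)
    obtain ⟨z, hz⟩ := Ideal.mem_span_singleton'.mp (ih y₁ h2)
    rw [Ideal.mem_span_singleton']
    exact ⟨z, by rw [← hz]; ring⟩

/-- If multiplication by `a` is injective on `A/I` and `T` is flat over `A`, then multiplication
by `a` is injective on `T/IT`. -/
theorem mem_map_of_smul_mem_map {A T : Type*} [CommRing A] [CommRing T] [Algebra A T]
    [Module.Flat A T] (I : Ideal A) (a : A) (ha : ∀ x : A, a * x ∈ I → x ∈ I) (z : T)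
    (hz : a • z ∈ I.map (algebraMap A T)) : z ∈ I.map (algebraMap A T) := by
  let μ : A ⧸ I →ₗ[A] A ⧸ I := LinearMap.lsmul A (A ⧸ I) a
  have hμ : Function.Injective μ := by
    rw [injective_iff_map_eq_zero]
    intro x hx
    obtain ⟨x, rfl⟩ := Ideal.Quotient.mk_surjective x
    change a • Ideal.Quotient.mk I x = 0 at hx
    rw [← Ideal.Quotient.mk_eq_mk, ← Submodule.Quotient.mk_smul, Ideal.Quotient.mk_eq_mk,
      Ideal.Quotient.eq_zero_iff_mem, smul_eq_mul] at hx
    exact Ideal.Quotient.eq_zero_iff_mem.mpr (ha x hx)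
  have hμT : Function.Injective (LinearMap.lTensor T μ) :=
    Module.Flat.lTensor_preserves_injective_linearMap μ hμ
  let e := Algebra.TensorProduct.quotIdealMapEquivTensorQuot T I
  have he : ∀ w : T, e (Ideal.Quotient.mk _ w) = w ⊗ₜ[A] (1 : A ⧸ I) := fun w => rfl
  have h1 : e (Ideal.Quotient.mk _ (a • z)) = 0 := by
    rw [Ideal.Quotient.eq_zero_iff_mem.mpr hz, map_zero]
  have h2 : LinearMap.lTensor T μ (z ⊗ₜ[A] (1 : A ⧸ I)) = 0 := by
    rw [LinearMap.lTensor_tmul]
    change z ⊗ₜ[A] (a • (1 : A ⧸ I)) = 0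
    rw [← TensorProduct.smul_tmul, ← he]
    exact h1
  have h3 : z ⊗ₜ[A] (1 : A ⧸ I) = 0 := hμT (by rw [h2, map_zero])
  rw [← he] at h3
  have h4 : Ideal.Quotient.mk (I.map (algebraMap A T)) z = 0 := e.injective (by rw [h3, map_zero])
  exact Ideal.Quotient.eq_zero_iff_mem.mp h4

end Groth.Agent.Lib.Helper12.Zar
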