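import Mathlib
import Groth.Agent.Lib.Helper12.ZarA

/-!
# Zariski's lemma on analytic unramifiedness, part B: the DVR step
-/

set_option autoImplicit false

namespace Groth.Agent.Lib.Helper12.Zar

open TensorProduct

/-- Radical ideals stay radical in a localization. -/
theorem isRadical_map_of_isLocalization {R : Type*} [CommRing R] (M : Submonoid R) (S : Type*)
    [CommRing S] [Algebra R S] [IsLocalization M S] (I : Ideal R) (hI : I.IsRadical) :
    (I.map (algebraMap R S)).IsRadical := by
  have h := IsLocalization.map_radical M S I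
  rw [hI.radical] at h
  intro x hx
  rw [h]; exact hx

/-- The DVR step in Zariski's lemma: if `A_q` is a DVR, `T` is flat over `A`, `qT` is radical,
`t` is a non-zero-divisor of `A` and `y ^ 2 = 0` in `T`, then some `s ∉ q` multiplies `y` into
`tT`. -/
theorem exists_smul_mem_span_of_sq_eq_zero {A T : Type*} [CommRing A] [CommRing T] [Algebra A T]
    [Module.Flat A T] (t : A) (ht : t ∈ nonZeroDivisors A) (q : Ideal A) [q.IsPrime]
    [IsDomain (Localization.AtPrime q)] [IsDiscreteValuationRing (Localization.AtPrime q)]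
    (hrad : (q.map (algebraMap A T)).IsRadical) (y : T) (hy : y ^ 2 = 0) :
    ∃ s : A, s ∉ q ∧ s • y ∈ Ideal.span {algebraMap A T t} := by
  let V := Localization.AtPrime q
  let MT := Algebra.algebraMapSubmonoid T q.primeCompl
  let Tq := Localization MT
  have hflat : Module.Flat V Tq := by
    rw [Module.flat_iff_of_isLocalization V q.primeCompl]
    infer_instance
  obtain ⟨π, hπ⟩ := IsDiscreteValuationRing.exists_irreducible V
  have hπ0 : π ≠ 0 := hπ.ne_zero
  have hπnzd : π ∈ nonZeroDivisors V := mem_nonZeroDivisors_of_ne_zero hπ0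
  have hmax : IsLocalRing.maximalIdeal V = Ideal.span {π} := hπ.maximalIdeal_eq
  -- `π Tq = q Tq` is radical
  have hradq : (Ideal.span {algebraMap V Tq π}).IsRadical := by
    have h1 : Ideal.span {algebraMap V Tq π} = (Ideal.span {π}).map (algebraMap V Tq) := by
      rw [Ideal.map_span, Set.image_singleton]
    have h2 : (Ideal.span {π} : Ideal V) = q.map (algebraMap A V) := by
      rw [← hmax, Localization.AtPrime.map_eq_maximalIdeal]
    have h3 : (q.map (algebraMap A V)).map (algebraMap V Tq)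
        = (q.map (algebraMap A T)).map (algebraMap T Tq) := by
      rw [Ideal.map_map, Ideal.map_map, ← IsScalarTower.algebraMap_eq,
        ← IsScalarTower.algebraMap_eq]
    rw [h1, h2, h3]
    exact isRadical_map_of_isLocalization MT Tq _ hrad
  -- the image of `t` in `V` is a unit times a power of `π`
  have ht0 : algebraMap A V t ≠ 0 := by
    intro h0
    rw [IsLocalization.map_eq_zero_iff q.primeCompl] at h0
    obtain ⟨m, hm⟩ := h0
    have : (m : A) = 0 := by
      have := ht.2 (m : A)
      exact this hm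
    exact m.2 (by rw [this]; exact Ideal.zero_mem q)
  obtain ⟨e, he⟩ := IsDiscreteValuationRing.associated_pow_irreducible ht0 hπ
  obtain ⟨u, hu⟩ := he.symm
  -- `hu : π ^ e * u = algebraMap A V t`
  have hy' : (algebraMap T Tq y) ^ 2 = 0 := by rw [← map_pow, hy, map_zero]
  have h4 := mem_span_pow_of_sq_eq_zero (V := V) (B := Tq) π hπnzd hradq e _ hy'
  have h5 : algebraMap T Tq y ∈ Ideal.span {algebraMap T Tq (algebraMap A T t)} := by
    obtain ⟨z, hz⟩ := Ideal.mem_span_singleton'.mp h4
    rw [Ideal.mem_span_singleton']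
    refine ⟨z * algebraMap V Tq ((u⁻¹ : Vˣ) : V), ?_⟩
    rw [← IsScalarTower.algebraMap_apply, IsScalarTower.algebraMap_apply A V Tq, ← hu, ← hz,
      map_mul, map_pow]
    have : algebraMap V Tq ((u⁻¹ : Vˣ) : V) * algebraMap V Tq (u : V) = 1 := by
      rw [← map_mul, Units.inv_mul, map_one]
    calc z * algebraMap V Tq ((u⁻¹ : Vˣ) : V) * (algebraMap V Tq π ^ e * algebraMap V Tq (u : V))
        = z * algebraMap V Tq π ^ e * (algebraMap V Tq ((u⁻¹ : Vˣ) : V) * algebraMap V Tq (u : V)) := by
          ring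
      _ = z * algebraMap V Tq π ^ e := by rw [this, mul_one]
  obtain ⟨w, hw⟩ := Ideal.mem_span_singleton'.mp h5
  obtain ⟨z, ⟨s₁, hs₁⟩, rfl⟩ := IsLocalization.exists_mk'_eq MT w
  -- `mk' z s₁ * t = y` in `Tq`
  have h6 : algebraMap T Tq (z * algebraMap A T t) = algebraMap T Tq (s₁ * y) := by
    rw [map_mul, map_mul, ← hw]
    have hspec : IsLocalization.mk' Tq z ⟨s₁, hs₁⟩ * algebraMap T Tq s₁ = algebraMap T Tq z :=
      IsLocalization.mk'_spec Tq z ⟨s₁, hs₁⟩
    rw [← hspec]; ring
  obtain ⟨⟨s₂, hs₂⟩, h7⟩ := (IsLocalization.eq_iff_exists MT Tq).mp h6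
  obtain ⟨a₁, ha₁, rfl⟩ := hs₁
  obtain ⟨a₂, ha₂, rfl⟩ := hs₂
  refine ⟨a₂ * a₁, ?_, ?_⟩
  · exact (Ideal.IsPrime.mul_mem_iff_mem_or_mem ‹q.IsPrime›).not.mpr (not_or.mpr ⟨ha₂, ha₁⟩)
  · rw [Ideal.mem_span_singleton']
    refine ⟨algebraMap A T a₂ * z, ?_⟩
    rw [Algebra.smul_def, map_mul]
    simp only at h7
    rw [mul_assoc, h7]; ring

end Groth.Agent.Lib.Helper12.Zar
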