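import Mathlib
import Groth.Agent.Lib.Helper12.ZarB

/-!
# Zariski's lemma on analytic unramifiedness, part C: the abstract lemma
-/

set_option autoImplicit false

namespace Groth.Agent.Lib.Helper12.Zar

open TensorProduct

/-- One divisibility step. -/
theorem mem_span_of_sq_eq_zero {A T : Type*} [CommRing A] [IsNoetherianRing A] [CommRing T]
    [Algebra A T] [Module.Flat A T] (t : A) (ht : t ∈ nonZeroDivisors A)
    (hemb : associatedPrimes A (A ⧸ Ideal.span {t}) ⊆ (Ideal.span {t}).minimalPrimes)
    (hdvr : ∀ (q : Ideal A) [q.IsPrime], q ∈ (Ideal.span {t}).minimalPrimes →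
      ∃ (_ : IsDomain (Localization.AtPrime q)), IsDiscreteValuationRing (Localization.AtPrime q))
    (hrad : ∀ (q : Ideal A) [q.IsPrime], q ∈ (Ideal.span {t}).minimalPrimes →
      (q.map (algebraMap A T)).IsRadical)
    (y : T) (hy : y ^ 2 = 0) : y ∈ Ideal.span {algebraMap A T t} := by
  by_contra hny
  have hmapt : (Ideal.span {t}).map (algebraMap A T) = Ideal.span {algebraMap A T t} := by
    rw [Ideal.map_span, Set.image_singleton]
  -- the colon ideal
  let 𝔞 : Ideal A :=
    { carrier := {a | a • y ∈ Ideal.span {algebraMap A T t}}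
      add_mem' := fun {a b} ha hb => by
        change (a + b) • y ∈ Ideal.span {algebraMap A T t}
        rw [add_smul]; exact Ideal.add_mem _ ha hb
      zero_mem' := by
        change (0 : A) • y ∈ Ideal.span {algebraMap A T t}
        rw [zero_smul]; exact Ideal.zero_mem _
      smul_mem' := fun c {a} ha => by
        change (c • a) • y ∈ Ideal.span {algebraMap A T t}
        rw [smul_assoc, Algebra.smul_def c]
        exact Ideal.mul_mem_left _ _ ha }
  have hmem : ∀ a : A, a ∈ 𝔞 ↔ a • y ∈ Ideal.span {algebraMap A T t} := fun a => Iff.rfl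
  have hfin : (associatedPrimes A (A ⧸ Ideal.span {t})).Finite := associatedPrimes.finite _ _
  have hsub : (𝔞 : Set A) ⊆ ⋃ p ∈ ((hfin.toFinset : Finset (Ideal A)) : Set (Ideal A)), (p : Set A) := by
    intro a ha
    by_contra hna
    have hna' : a ∉ ⋃ p ∈ associatedPrimes A (A ⧸ Ideal.span {t}), (p : Set A) := by
      intro h
      apply hna
      simpa using h
    rw [biUnion_associatedPrimes_eq_zero_divisors] at hna'
    simp only [Set.mem_setOf_eq, not_exists, not_and] at hna'
    apply hny
    rw [← hmapt]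
    refine mem_map_of_smul_mem_map (Ideal.span {t}) a ?_ y ?_
    · intro x hx
      by_contra hx'
      have h1 : (Ideal.Quotient.mk (Ideal.span {t}) x) ≠ 0 := by
        rwa [Ne, Ideal.Quotient.eq_zero_iff_mem]
      apply hna' _ h1
      rw [← Ideal.Quotient.mk_eq_mk, ← Submodule.Quotient.mk_smul, Ideal.Quotient.mk_eq_mk,
        Ideal.Quotient.eq_zero_iff_mem, smul_eq_mul]
      exact hx
    · rw [hmapt]; exact ha
  obtain ⟨p, hp, hle⟩ := (Ideal.subset_union_prime (f := fun p : Ideal A => p) ⊥ ⊥ (by
    intro i hi _ _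
    have : i ∈ associatedPrimes A (A ⧸ Ideal.span {t}) := by simpa using hi
    exact this.isPrime)).mp hsub
  have hp' : p ∈ associatedPrimes A (A ⧸ Ideal.span {t}) := by simpa using hp
  have hpmin := hemb hp'
  haveI : p.IsPrime := hp'.isPrime
  obtain ⟨hdom, hd⟩ := hdvr p hpmin
  obtain ⟨s, hs, hsy⟩ := exists_smul_mem_span_of_sq_eq_zero t ht p (hrad p hpmin) y hy
  exact hs (hle ((hmem s).mpr hsy))

/-- **Zariski's lemma, abstract form.** -/
theorem isReduced_of_zariski {A T : Type*} [CommRing A] [IsNoetherianRing A] [CommRing T]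
    [Algebra A T] [Module.Flat A T] (t : A) (ht : t ∈ nonZeroDivisors A)
    (hemb : associatedPrimes A (A ⧸ Ideal.span {t}) ⊆ (Ideal.span {t}).minimalPrimes)
    (hdvr : ∀ (q : Ideal A) [q.IsPrime], q ∈ (Ideal.span {t}).minimalPrimes →
      ∃ (_ : IsDomain (Localization.AtPrime q)), IsDiscreteValuationRing (Localization.AtPrime q))
    (hrad : ∀ (q : Ideal A) [q.IsPrime], q ∈ (Ideal.span {t}).minimalPrimes →
      (q.map (algebraMap A T)).IsRadical)
    (hkrull : ∀ y : T, (∀ n : ℕ, y ∈ Ideal.span {algebraMap A T t ^ n}) → y = 0) :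
    IsReduced T := by
  have hreg : IsSMulRegular T t := Module.Flat.isSMulRegular_of_nonZeroDivisors ht
  have key : ∀ n : ℕ, ∀ y : T, y ^ 2 = 0 → y ∈ Ideal.span {algebraMap A T t ^ n} := by
    intro n
    induction n with
    | zero => intro y _; rw [pow_zero, Ideal.span_singleton_one]; trivial
    | succ n ih =>
      intro y hy
      have h1 := mem_span_of_sq_eq_zero t ht hemb hdvr hrad y hy
      obtain ⟨y₁, rfl⟩ := Ideal.mem_span_singleton'.mp h1
      have h2 : y₁ ^ 2 = 0 := by
        have h3 : t • (t • y₁ ^ 2) = t • (t • (0 : T)) := by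
          rw [smul_zero, smul_zero, Algebra.smul_def, Algebra.smul_def]
          rw [← hy]; ring
        exact hreg (hreg h3)
      obtain ⟨z, hz⟩ := Ideal.mem_span_singleton'.mp (ih y₁ h2)
      rw [Ideal.mem_span_singleton']
      exact ⟨z, by rw [← hz]; ring⟩
  rw [isReduced_iff_pow_one_lt 2 (by norm_num)]
  intro y hy
  exact hkrull y (fun n => key n y hy)

end Groth.Agent.Lib.Helper12.Zar
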