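import Mathlib.RingTheory.Flat.EquationalCriterion
import Mathlib.Order.Directed

set_option autoImplicit false

namespace Groth.Agent.Lib.Helper12

open Module

/-- A directed colimit of flat algebras (presented abstractly by jointly surjective maps with the
"zero is attained at a finite stage" property) is flat. -/
theorem flat_of_directed_system {R H : Type*} [CommRing R] [CommRing H] [Algebra R H]
    {ι : Type*} [Preorder ι] [IsDirectedOrder ι] [Nonempty ι]
    (G : ι → Type*) [∀ i, CommRing (G i)] [∀ i, Algebra R (G i)] [∀ i, Module.Flat R (G i)]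
    (t : ∀ i j, i ≤ j → G i →ₐ[R] G j) (o : ∀ i, G i →ₐ[R] H)
    (ho : ∀ i j h x, o j (t i j h x) = o i x)
    (hsurj : ∀ x : H, ∃ i a, o i a = x)
    (hzero : ∀ i a, o i a = 0 → ∃ j h, t i j h a = 0) : Module.Flat R H := by
  classical
  apply Flat.of_forall_isTrivialRelation
  intro l f x hx
  choose ki ai hai using hsurj
  obtain ⟨k, hk⟩ := Finset.exists_le (Finset.univ.image fun i : Fin l => ki (x i))
  have hk' : ∀ i, ki (x i) ≤ k := fun i => hk _ (Finset.mem_image_of_mem _ (Finset.mem_univ i))
  let x' : Fin l → G k := fun i => t _ k (hk' i) (ai (x i))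
  have hx' : ∀ i, o k (x' i) = x i := fun i => by rw [ho, hai]
  have h0 : o k (∑ i, f i • x' i) = 0 := by
    rw [map_sum, ← hx]
    refine Finset.sum_congr rfl fun i _ => ?_
    rw [map_smul, hx']
  obtain ⟨j, hkj, hj⟩ := hzero k _ h0
  rw [map_sum] at hj
  have hj' : ∑ i, f i • t k j hkj (x' i) = 0 := by
    rw [← hj]
    refine Finset.sum_congr rfl fun i _ => ?_
    rw [map_smul]
  obtain ⟨n, a, y, hy1, hy2⟩ := Flat.isTrivialRelation_of_sum_smul_eq_zero hj'
  refine ⟨n, a, fun m => o j (y m), fun i => ?_, hy2⟩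
  have h1 : t k j hkj (x' i) = ∑ m, a i m • y m := hy1 i
  rw [← hx' i, ← ho k j hkj, h1, map_sum]
  refine Finset.sum_congr rfl fun m _ => ?_
  rw [map_smul]

end Groth.Agent.Lib.Helper12
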