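import Groth.Agent.Lib.Helper12.HenselizationUniv
import Groth.Agent.Lib.Helper12.FlatDirected
import Mathlib.RingTheory.Smooth.Flat
import Mathlib.RingTheory.Flat.Localization
import Mathlib.RingTheory.Flat.Stability
import Mathlib.RingTheory.Flat.FaithfullyFlat.Algebra

set_option autoImplicit false
universe u

namespace Groth.Agent.Lib.Helper12

open IsLocalRing

variable (A : Type u) [CommRing A] [IsLocalRing A]

instance Nbhd.flat_G (i : Nbhd A) : Module.Flat A i.G :=
  Module.Flat.trans A i.Ring i.G

namespace Henselization

instance flat : Module.Flat A (Henselization A) :=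
  flat_of_directed_system (fun i : Nbhd A => i.G) (fun i j h => Nbhd.trans i j h)
    (fun i => ofₐ A i) (fun _ _ h x => of_trans h x) (fun x => exists_of x)
    (fun i a ha => by
      obtain ⟨j, hij, hj⟩ := Ring.DirectLimit.of.zero_exact
        (G := fun i : Nbhd A => i.G) (f' := fun i j h => Nbhd.transR i j h) ha
      exact ⟨j, hij, hj⟩)

instance faithfullyFlat : Module.FaithfullyFlat A (Henselization A) :=
  Module.FaithfullyFlat.of_flat_of_isLocalHom

variable {A}

/-- Any henselization (in the sense of the universal property) is isomorphic to the constructed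
one. -/
theorem nonempty_algEquiv (S : Type u) [CommRing S] [IsLocalRing S] [Algebra A S]
    [IsLocalHom (algebraMap A S)] [Hensel.IsHenselization A S] :
    Nonempty (S ≃ₐ[A] Henselization A) := by
  haveI : HenselianLocalRing S := Hensel.IsHenselization.henselian A
  obtain ⟨g, hg, -⟩ := Hensel.IsHenselization.universal (R := A) (S := S) (Henselization A)
    (algebraMap A (Henselization A)) inferInstance
  have hc : ∀ a : A, g (algebraMap A S a) = algebraMap A (Henselization A) a := fun a =>
    congrArg (fun h : A →+* Henselization A => h a) hg
  let g' : S →ₐ[A] Henselization A := { g with commutes' := hc }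
  let h : Henselization A →ₐ[A] S := lift A S
  have h1 : g'.comp h = AlgHom.id A _ := Subsingleton.elim _ _
  have h2 : h.comp g' = AlgHom.id A _ := by
    obtain ⟨k, -, huniq⟩ := Hensel.IsHenselization.universal (R := A) (S := S) S
      (algebraMap A S) inferInstance
    have e1 : (h.comp g').toRingHom = k := huniq _ (h.comp g').comp_algebraMap
    have e2 : (AlgHom.id A S).toRingHom = k := huniq _ (AlgHom.id A S).comp_algebraMap
    apply AlgHom.coe_ringHom_injective
    exact e1.trans e2.symm
  exact ⟨AlgEquiv.ofAlgHom g' h h1 h2⟩

end Henselization

end Groth.Agent.Lib.Helper12
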