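import Groth.Agent.Lib.Helper12.HenselizationNoeth3
import Groth.Agent.Lib.Helper12.HenselizationFlat
import Groth.Agent.Lib.Helper5.ComplIso
import Mathlib.RingTheory.AdicCompletion.AsTensorProduct
import Mathlib.RingTheory.RingHom.Flat

/-!
# The completion of a Noetherian local ring is faithfully flat over its henselization
-/

set_option autoImplicit false
universe u

namespace Groth.Agent.Lib.Helper12.HensCompl

open IsLocalRing Groth.Agent.Lib.Helper12 Groth.Agent.Lib.Helper12.Henselization

variable (A : Type u) [CommRing A] [IsLocalRing A] [IsNoetherianRing A]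

/-- The completions of `A` and of its henselization are isomorphic `A`-algebras. -/
theorem nonempty_complEquiv :
    Nonempty (AdicCompletion (maximalIdeal A) A ≃ₐ[A]
      AdicCompletion (maximalIdeal (Henselization A)) (Henselization A)) := by
  refine Groth.Agent.Lib.Helper5.ComplIso.complEquiv (R := A) (Algebra.ofId A (Henselization A))
    (maximalIdeal A) (maximalIdeal (Henselization A)) ?_ ?_ ?_
  · intro n
    rw [maximalIdeal_pow_eq]
    exact Ideal.le_comap_map
  · intro n a ha
    rw [maximalIdeal_pow_eq] at ha
    have h1 : a ∈ ((maximalIdeal A ^ n).map (algebraMap A (Henselization A))).comap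
        (algebraMap A (Henselization A)) := ha
    rwa [Ideal.comap_map_eq_self_of_faithfullyFlat] at h1
  · intro n s
    obtain ⟨a, ha⟩ := exists_sub_algebraMap_mem_hens n s
    refine ⟨a, ?_⟩
    rw [maximalIdeal_pow_eq]
    exact ha

/-- The canonical map from the henselization to the completion is flat. -/
theorem flat_toCompletion : (toCompletion A).toRingHom.Flat := by
  obtain ⟨e⟩ := nonempty_complEquiv A
  let c : Henselization A →ₐ[A] AdicCompletion (maximalIdeal (Henselization A)) (Henselization A) :=
    IsScalarTower.toAlgHom A (Henselization A) _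
  have h1 : (e.symm : _ →ₐ[A] _).comp c = toCompletion A := Subsingleton.elim _ _
  have h2 : (toCompletion A).toRingHom =
      (e.symm : _ →+* AdicCompletion (maximalIdeal A) A).comp
        (algebraMap (Henselization A)
          (AdicCompletion (maximalIdeal (Henselization A)) (Henselization A))) := by
    rw [← h1]; rfl
  rw [h2]
  refine RingHom.Flat.comp ?_ (RingHom.Flat.of_bijective e.symm.bijective)
  rw [RingHom.flat_algebraMap_iff]
  infer_instance

/-- The canonical map from the henselization to the completion is local. -/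
theorem isLocalHom_toCompletion : IsLocalHom (toCompletion A).toRingHom := by
  refine ⟨fun x hx => ?_⟩
  by_contra hnu
  have hxm : x ∈ maximalIdeal (Henselization A) := hnu
  have h1 := maximalIdeal_pow_eq (A := A) 1
  rw [pow_one, pow_one] at h1
  rw [h1] at hxm
  have h2 : (toCompletion A) x ∈ (maximalIdeal A).map
      (algebraMap A (AdicCompletion (maximalIdeal A) A)) := by
    have h3 : (maximalIdeal A).map (algebraMap A (Henselization A)) ≤
        ((maximalIdeal A).map (algebraMap A (AdicCompletion (maximalIdeal A) A))).comap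
          (toCompletion A) := by
      rw [Ideal.map_le_iff_le_comap]
      intro a ha
      rw [Ideal.mem_comap, Ideal.mem_comap, AlgHom.commutes]
      exact Ideal.mem_map_of_mem _ ha
    exact h3 hxm
  rw [← AdicCompletion.maximalIdeal_eq_map] at h2
  exact h2 hx

/-- For any henselization `S` of `A`, any `A`-compatible ring map `S → Â` is flat and local. -/
theorem flat_and_isLocalHom (S : Type u) [CommRing S] [IsLocalRing S] [Algebra A S]
    [IsLocalHom (algebraMap A S)] [Hensel.IsHenselization A S]
    (ψ : S →+* AdicCompletion (maximalIdeal A) A)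
    (hψ : ψ.comp (algebraMap A S) = algebraMap A (AdicCompletion (maximalIdeal A) A)) :
    ψ.Flat ∧ IsLocalHom ψ := by
  obtain ⟨ε⟩ := nonempty_algEquiv (A := A) S
  obtain ⟨k, -, huniq⟩ := Hensel.IsHenselization.universal (R := A) (S := S)
    (AdicCompletion (maximalIdeal A) A) (algebraMap A (AdicCompletion (maximalIdeal A) A))
    inferInstance
  have e1 : ψ = k := huniq ψ hψ
  have e2 : (toCompletion A).toRingHom.comp (ε : S →+* Henselization A) = k := by
    apply huniq
    refine RingHom.ext fun a => ?_
    show toCompletion A (ε (algebraMap A S a)) = _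
    rw [AlgEquiv.commutes, AlgHom.commutes]
  have e3 : ψ = (toCompletion A).toRingHom.comp (ε : S →+* Henselization A) := e1.trans e2.symm
  refine ⟨?_, ?_⟩
  · rw [e3]
    exact RingHom.Flat.comp (RingHom.Flat.of_bijective ε.bijective) (flat_toCompletion A)
  · rw [e3]
    haveI := isLocalHom_toCompletion A
    haveI : IsLocalHom (ε : S →+* Henselization A) :=
      ⟨fun x hx => by
        have := hx.map (ε.symm : Henselization A →+* S)
        simpa using this⟩
    exact RingHom.isLocalHom_comp _ _

/-- For a flat ring map inducing a surjection on spectra, contraction maps minimal primes onto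
minimal primes. -/
theorem minimalPrimes_mapsTo_surjOn {R T : Type*} [CommRing R] [CommRing T] (ψ : R →+* T)
    (hflat : ψ.Flat) (hsurj : Function.Surjective (PrimeSpectrum.comap ψ)) :
    Set.MapsTo (Ideal.comap ψ) (minimalPrimes T) (minimalPrimes R) ∧
      Set.SurjOn (Ideal.comap ψ) (minimalPrimes T) (minimalPrimes R) := by
  letI := ψ.toAlgebra
  haveI : Module.Flat R T := hflat
  have hmaps : Set.MapsTo (Ideal.comap ψ) (minimalPrimes T) (minimalPrimes R) := by
    intro P hP
    haveI hPprime : P.IsPrime := hP.1.1
    haveI : (P.comap ψ).IsPrime := Ideal.comap_isPrime _ _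
    refine ⟨⟨inferInstance, bot_le⟩, ?_⟩
    intro q hq hle
    haveI hqprime : q.IsPrime := hq.1
    haveI : P.LiesOver (P.comap ψ) := ⟨rfl⟩
    obtain ⟨P', hP'le, hP'prime, hP'over⟩ :=
      Ideal.exists_ideal_le_liesOver_of_le (p := q) (q := P.comap ψ) P hle
    have h1 : P ≤ P' := hP.2 ⟨hP'prime, bot_le⟩ hP'le
    have h2 : P' = P := le_antisymm hP'le h1
    have h3 : q = P'.comap (algebraMap R T) := hP'over.over
    rw [h3, h2]
    exact le_rfl
  refine ⟨hmaps, ?_⟩
  intro q hq
  haveI hqprime : q.IsPrime := hq.1.1
  obtain ⟨Q, hQ⟩ := hsurj ⟨q, hqprime⟩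
  obtain ⟨P, hP, hPQ⟩ := Ideal.exists_minimalPrimes_le (I := (⊥ : Ideal T)) (J := Q.asIdeal) bot_le
  refine ⟨P, hP, ?_⟩
  have h1 : P.comap ψ ≤ q := by
    have : Q.asIdeal.comap ψ = q := congrArg PrimeSpectrum.asIdeal hQ
    rw [← this]
    exact Ideal.comap_mono hPQ
  have h2 := hmaps hP
  exact le_antisymm h1 (hq.2 h2.1 h1)

end Groth.Agent.Lib.Helper12.HensCompl
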