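import Mathlib.RingTheory.KrullDimension.Basic
import Mathlib.RingTheory.Ideal.MinimalPrime.Localization
import Mathlib.RingTheory.Ideal.Quotient.Operations
import Groth.Prelude.Def_EGA4b

/-!
# Equidimensionality of quotients, in terms of primes of the ambient ring
-/

set_option autoImplicit false
universe u

namespace Groth.Agent.Lib.Helper12.HensFC

/-- `C/𝔞` is equidimensional, in terms of primes of `C`. -/
def EquidimOver {C : Type u} [CommRing C] (𝔞 : Ideal C) : Prop :=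
  ∀ P ∈ 𝔞.minimalPrimes, ringKrullDim (C ⧸ P) = ringKrullDim (C ⧸ 𝔞)

theorem ringKrullDim_quot_quot {C : Type u} [CommRing C] (𝔞 : Ideal C) (Pbar : Ideal (C ⧸ 𝔞)) :
    ringKrullDim ((C ⧸ 𝔞) ⧸ Pbar) = ringKrullDim (C ⧸ Pbar.comap (Ideal.Quotient.mk 𝔞)) := by
  have hle : 𝔞 ≤ Pbar.comap (Ideal.Quotient.mk 𝔞) := by
    intro x hx
    rw [Ideal.mem_comap, Ideal.Quotient.eq_zero_iff_mem.2 hx]
    exact Pbar.zero_mem
  have hmap : (Pbar.comap (Ideal.Quotient.mk 𝔞)).map (Ideal.Quotient.mk 𝔞) = Pbar :=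
    Ideal.map_comap_of_surjective _ Ideal.Quotient.mk_surjective _
  have e := DoubleQuot.quotQuotEquivQuotOfLE hle
  rw [hmap] at e
  exact ringKrullDim_eq_of_ringEquiv e

theorem isEquidim_quotient_iff {C : Type u} [CommRing C] (𝔞 : Ideal C) :
    EGA4.IsEquidim (C ⧸ 𝔞) ↔ EquidimOver 𝔞 := by
  constructor
  · intro h P hP
    rw [Ideal.minimalPrimes_eq_comap] at hP
    obtain ⟨Pbar, hPbar, rfl⟩ := hP
    rw [← ringKrullDim_quot_quot]
    exact h Pbar hPbar
  · intro h Pbar hPbar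
    rw [ringKrullDim_quot_quot]
    apply h
    rw [Ideal.minimalPrimes_eq_comap]
    exact ⟨Pbar, hPbar, rfl⟩

theorem isEquidim_of_ringEquiv {R S : Type u} [CommRing R] [CommRing S] (e : R ≃+* S)
    (h : EGA4.IsEquidim R) : EGA4.IsEquidim S := by
  intro p hp
  let f : R →+* S := e
  have hfs : Function.Surjective f := e.surjective
  have hfi : Function.Injective f := e.injective
  have hp' : p.comap f ∈ minimalPrimes R := by
    have := Ideal.minimalPrimes_comap_of_surjective (f := f) hfs hp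
    rwa [Ideal.comap_bot_of_injective f hfi] at this
  have h1 := h _ hp'
  have e2 : R ⧸ p.comap f ≃+* S ⧸ p :=
    Ideal.quotientEquiv _ _ e (by
      show p = Ideal.map f (Ideal.comap f p)
      rw [Ideal.map_comap_of_surjective f hfs])
  rw [← ringKrullDim_eq_of_ringEquiv e2, h1, ringKrullDim_eq_of_ringEquiv e]

/-- If `𝔞 ≤ 𝔟`, `C/𝔞` is equidimensional and every prime minimal over `𝔟` is minimal over `𝔞`,
then `C/𝔟` is equidimensional. -/
theorem equidimOver_of_le {C : Type u} [CommRing C] {𝔞 𝔟 : Ideal C} (hle : 𝔞 ≤ 𝔟)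
    (h : EquidimOver 𝔞) (hmin : ∀ P ∈ 𝔟.minimalPrimes, P ∈ 𝔞.minimalPrimes) :
    EquidimOver 𝔟 := by
  intro P hP
  have h1 := h P (hmin P hP)
  have h2 : ringKrullDim (C ⧸ 𝔟) ≤ ringKrullDim (C ⧸ 𝔞) :=
    ringKrullDim_le_of_surjective (Ideal.Quotient.factor hle) (Ideal.Quotient.factor_surjective hle)
  have h3 : ringKrullDim (C ⧸ P) ≤ ringKrullDim (C ⧸ 𝔟) :=
    ringKrullDim_le_of_surjective (Ideal.Quotient.factor hP.1.2)
      (Ideal.Quotient.factor_surjective hP.1.2)
  exact le_antisymm h3 (h1 ▸ h2)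

end Groth.Agent.Lib.Helper12.HensFC
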