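import Groth.Agent.Lib.Helper12.HenselizationFlat
import Mathlib.RingTheory.Ideal.GoingDown
import Mathlib.RingTheory.KrullDimension.Basic

set_option autoImplicit false
universe u

namespace Groth.Agent.Lib.Helper12

open IsLocalRing

/-- Going down + surjectivity on spectra: the dimension does not drop. -/
theorem ringKrullDim_le_of_faithfullyFlat (R S : Type*) [CommRing R] [CommRing S] [Algebra R S]
    [Module.FaithfullyFlat R S] : ringKrullDim R ≤ ringKrullDim S := by
  refine iSup_le fun l => ?_
  obtain ⟨P, hP, hPl⟩ := Ideal.exists_isPrime_liesOver_of_faithfullyFlat (B := S) l.last.asIdeal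
  obtain ⟨L, hL, -, -⟩ := Ideal.exists_ltSeries_of_hasGoingDown l P
  rw [← hL]
  exact Order.LTSeries.length_le_krullDim L

variable (A : Type u) [CommRing A] [IsLocalRing A]

namespace Henselization

theorem comap_strictMono :
    StrictMono (PrimeSpectrum.comap (algebraMap A (Henselization A))) := by
  intro P P' hlt
  have hle : P.asIdeal ≤ P'.asIdeal := hlt.le
  refine lt_of_le_of_ne (Ideal.comap_mono hle) ?_
  intro heq
  have hne : ¬ P'.asIdeal ≤ P.asIdeal := fun h => (lt_irrefl P) (lt_of_lt_of_le hlt h)
  obtain ⟨x, hx', hx⟩ := Set.not_subset.mp hne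
  obtain ⟨i, a, rfl⟩ := exists_of x
  have := quasiFinite_of_isEssentiallyEtale i.isStrictlyEssentiallyEtale.1
  have hQ : (P.asIdeal.comap (of A i)).IsPrime := Ideal.comap_isPrime _ _
  have hQ' : (P'.asIdeal.comap (of A i)).IsPrime := Ideal.comap_isPrime _ _
  have hcomp : (of A i).comp (algebraMap A i.G) = algebraMap A (Henselization A) := by
    ext r
    exact (algebraMap_eq i r).symm
  have key := Algebra.QuasiFinite.eq_of_le_of_under_eq (R := A)
    (P.asIdeal.comap (of A i)) (P'.asIdeal.comap (of A i)) (Ideal.comap_mono hle) (by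
      rw [Ideal.under, Ideal.under, Ideal.comap_comap, Ideal.comap_comap, hcomp]
      exact congrArg PrimeSpectrum.asIdeal heq)
  apply hx
  have : a ∈ P'.asIdeal.comap (of A i) := hx'
  rw [← key] at this
  exact this

theorem ringKrullDim_eq : ringKrullDim (Henselization A) = ringKrullDim A :=
  le_antisymm (Order.krullDim_le_of_strictMono _ (comap_strictMono A))
    (ringKrullDim_le_of_faithfullyFlat A (Henselization A))

end Henselization

end Groth.Agent.Lib.Helper12
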