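import Groth.Agent.Lib.Helper12.HensFCA
import Groth.Agent.Lib.Helper12.HensFCB
import Groth.Agent.Lib.Helper12.HensCompl
import Groth.Agent.Lib.Helper12.HenselizationDim

/-!
# The henselization of a formally catenary Noetherian local ring is formally catenary
-/

set_option autoImplicit false
universe u

namespace Groth.Agent.Lib.Helper12.HensFC

open IsLocalRing Groth.Agent.Lib.Helper12 Groth.Agent.Lib.Helper12.Henselization

variable (R : Type u) [CommRing R] [IsLocalRing R] [IsNoetherianRing R]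

local notation "Rhat" => AdicCompletion (maximalIdeal R) R

theorem maximalIdeal_pow_hat (n : ℕ) :
    maximalIdeal Rhat ^ n = (maximalIdeal R ^ n).map (algebraMap R Rhat) := by
  rw [Ideal.map_pow, ← AdicCompletion.maximalIdeal_eq_map]

/-- Level conditions for `R → R̂`. -/
theorem level_hat :
    (maximalIdeal R).map (algebraMap R Rhat) = maximalIdeal Rhat ∧
    (∀ (n : ℕ) (b : R), algebraMap R Rhat b ∈ maximalIdeal Rhat ^ n → b ∈ maximalIdeal R ^ n) ∧
    (∀ (n : ℕ) (c : Rhat), ∃ b : R, c - algebraMap R Rhat b ∈ maximalIdeal Rhat ^ n) := by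
  refine ⟨AdicCompletion.maximalIdeal_eq_map.symm, ?_, ?_⟩
  · intro n b hb
    rw [maximalIdeal_pow_hat] at hb
    exact mem_pow_of_algebraMap_mem n b hb
  · intro n c
    obtain ⟨a, ha⟩ := exists_sub_algebraMap_mem n c
    exact ⟨a, by rw [maximalIdeal_pow_hat]; exact ha⟩

variable (S : Type u) [CommRing S] [IsLocalRing S] [Algebra R S] [IsLocalHom (algebraMap R S)]
  [Hensel.IsHenselization R S]

theorem maximalIdeal_pow_hens (n : ℕ) :
    maximalIdeal S ^ n = (maximalIdeal R ^ n).map (algebraMap R S) := by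
  rw [Ideal.map_pow, Groth.Agent.S0507.result R S]

theorem exists_sub_algebraMap_mem_hens' (n : ℕ) (x : S) :
    ∃ a : R, x - algebraMap R S a ∈ maximalIdeal S ^ n := by
  rw [maximalIdeal_pow_hens R S]
  rcases Nat.eq_zero_or_pos n with rfl | hn
  · exact ⟨0, by rw [pow_zero, Ideal.one_eq_top, Ideal.map_top]; exact Submodule.mem_top⟩
  obtain ⟨_, _⟩ := henselianLocalRing_quotient_pow (A := R) n hn.ne'
  obtain ⟨y, hy⟩ := (Groth.Agent.Lib.Helper29.quot_bijective R S
    (maximalIdeal R ^ n)).2 (Ideal.Quotient.mk _ x)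
  obtain ⟨a, rfl⟩ := Ideal.Quotient.mk_surjective y
  refine ⟨a, ?_⟩
  rw [Ideal.quotientMap_mk] at hy
  rw [← Ideal.Quotient.eq_zero_iff_mem, map_sub, hy, sub_self]

/-- Level conditions for `ψ : S → R̂`. -/
theorem level_hens (ψ : S →+* Rhat) (hψ : ψ.comp (algebraMap R S) = algebraMap R Rhat) :
    (maximalIdeal S).map ψ = maximalIdeal Rhat ∧
    (∀ (n : ℕ) (b : S), ψ b ∈ maximalIdeal Rhat ^ n → b ∈ maximalIdeal S ^ n) ∧
    (∀ (n : ℕ) (c : Rhat), ∃ b : S, c - ψ b ∈ maximalIdeal Rhat ^ n) := by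
  have hψa : ∀ a : R, ψ (algebraMap R S a) = algebraMap R Rhat a := fun a =>
    RingHom.congr_fun hψ a
  have hm : (maximalIdeal S).map ψ = maximalIdeal Rhat := by
    rw [← Groth.Agent.S0507.result R S, Ideal.map_map, hψ]
    exact AdicCompletion.maximalIdeal_eq_map.symm
  have hψpow : ∀ (n : ℕ) (b : S), b ∈ maximalIdeal S ^ n → ψ b ∈ maximalIdeal Rhat ^ n := by
    intro n b hb
    have := Ideal.mem_map_of_mem ψ hb
    rwa [Ideal.map_pow, hm] at this
  refine ⟨hm, ?_, ?_⟩
  · intro n b hb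
    obtain ⟨a, ha⟩ := exists_sub_algebraMap_mem_hens' R S n b
    have h1 := hψpow n _ ha
    rw [map_sub, hψa] at h1
    have h2 : algebraMap R Rhat a ∈ maximalIdeal Rhat ^ n := by
      have := Ideal.sub_mem _ hb h1
      rwa [sub_sub_cancel] at this
    have h3 := (level_hat R).2.1 n a h2
    have h4 : algebraMap R S a ∈ maximalIdeal S ^ n := by
      rw [maximalIdeal_pow_hens R S]; exact Ideal.mem_map_of_mem _ h3
    have := Ideal.add_mem _ ha h4
    rwa [sub_add_cancel] at this
  · intro n c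
    obtain ⟨a, ha⟩ := (level_hat R).2.2 n c
    exact ⟨algebraMap R S a, by rw [hψa]; exact ha⟩

/-- Incomparability for the henselization. -/
theorem eq_of_le_of_comap_eq (q' q : Ideal S) [q'.IsPrime] [q.IsPrime] (hle : q' ≤ q)
    (h : q'.comap (algebraMap R S) = q.comap (algebraMap R S)) : q' = q := by
  obtain ⟨ε⟩ := nonempty_algEquiv (A := R) S
  let g : Henselization R →+* S := (ε.symm : Henselization R →+* S)
  have hg : g.comp (algebraMap R (Henselization R)) = algebraMap R S := by
    refine RingHom.ext fun a => ?_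
    exact ε.symm.commutes a
  haveI : (q'.comap g).IsPrime := Ideal.comap_isPrime _ _
  haveI : (q.comap g).IsPrime := Ideal.comap_isPrime _ _
  have hle' : q'.comap g ≤ q.comap g := Ideal.comap_mono hle
  have heq : q'.comap g = q.comap g := by
    by_contra hne
    have hlt : (⟨q'.comap g, inferInstance⟩ : PrimeSpectrum (Henselization R)) <
        ⟨q.comap g, inferInstance⟩ := lt_of_le_of_ne hle' (fun h => hne (congrArg PrimeSpectrum.asIdeal h))
    have := comap_strictMono R hlt
    have h1 : (q'.comap g).comap (algebraMap R (Henselization R)) =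
        (q.comap g).comap (algebraMap R (Henselization R)) := by
      rw [Ideal.comap_comap, Ideal.comap_comap, hg, h]
    exact absurd (PrimeSpectrum.ext h1) this.ne
  have hsurj : Function.Surjective g := ε.symm.surjective
  rw [← Ideal.map_comap_of_surjective g hsurj q', ← Ideal.map_comap_of_surjective g hsurj q, heq]

/-- Primes minimal over `q R̂` are minimal over `p R̂`, `p = q ∩ R`. -/
theorem mem_minimalPrimes_of_mem_minimalPrimes (ψ : S →+* Rhat)
    (hψ : ψ.comp (algebraMap R S) = algebraMap R Rhat) (q : Ideal S) [q.IsPrime]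
    (P : Ideal Rhat) (hP : P ∈ (q.map ψ).minimalPrimes) :
    P ∈ ((q.comap (algebraMap R S)).map (algebraMap R Rhat)).minimalPrimes := by
  obtain ⟨hflat, -⟩ := HensCompl.flat_and_isLocalHom R S ψ hψ
  haveI hPprime : P.IsPrime := hP.1.1
  have hqP : q.map ψ ≤ P := hP.1.2
  have hpq : (q.comap (algebraMap R S)).map (algebraMap R Rhat) ≤ q.map ψ := by
    rw [← hψ, ← Ideal.map_map]
    exact Ideal.map_mono Ideal.map_comap_le
  -- `P ∩ S = q`
  have hcomap : P.comap ψ = q := by
    refine le_antisymm ?_ (Ideal.map_le_iff_le_comap.1 hqP)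
    by_contra hnle
    have hlt : q < P.comap ψ := lt_of_le_of_ne (Ideal.map_le_iff_le_comap.1 hqP)
      (fun h => hnle h.symm.le)
    letI := ψ.toAlgebra
    haveI : Module.Flat S Rhat := hflat
    haveI : (P.comap ψ).IsPrime := Ideal.comap_isPrime _ _
    haveI : P.LiesOver (P.comap ψ) := ⟨rfl⟩
    obtain ⟨P', hP'lt, hP'prime, hP'over⟩ :=
      Ideal.exists_ideal_lt_liesOver_of_lt (p := q) (q := P.comap ψ) P hlt
    have h1 : q = P'.comap ψ := hP'over.over
    have h2 : q.map ψ ≤ P' := by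
      rw [Ideal.map_le_iff_le_comap, ← h1]
    exact absurd (hP.2 ⟨hP'prime, h2⟩ hP'lt.le) (not_le_of_gt hP'lt)
  refine ⟨⟨hPprime, hpq.trans hqP⟩, ?_⟩
  intro P'' hP'' hle
  haveI hP''prime : P''.IsPrime := hP''.1
  haveI : (P''.comap ψ).IsPrime := Ideal.comap_isPrime _ _
  have h1 : P''.comap ψ ≤ q := by
    rw [← hcomap]; exact Ideal.comap_mono hle
  have h2 : (P''.comap ψ).comap (algebraMap R S) = q.comap (algebraMap R S) := by
    refine le_antisymm (Ideal.comap_mono h1) ?_
    rw [Ideal.comap_comap, hψ, ← Ideal.map_le_iff_le_comap]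
    exact hP''.2
  have h3 : P''.comap ψ = q := eq_of_le_of_comap_eq R S _ _ h1 h2
  have h4 : q.map ψ ≤ P'' := by
    rw [Ideal.map_le_iff_le_comap, h3]
  exact hP.2 ⟨hP''prime, h4⟩ hle

/-- The henselization of a formally catenary Noetherian local ring is formally catenary. -/
theorem isFormallyCatenary (h : EGA4.IsFormallyCatenary R) : EGA4.IsFormallyCatenary S := by
  intro q hq
  haveI := hq
  obtain ⟨ψ, hψ, -⟩ := Hensel.IsHenselization.universal (R := R) (S := S) Rhat
    (algebraMap R Rhat) inferInstance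
  have hψ' : ψ.comp (algebraMap R S) = algebraMap R Rhat := hψ
  set p : Ideal R := q.comap (algebraMap R S) with hp
  haveI : p.IsPrime := Ideal.comap_isPrime _ _
  obtain ⟨hm1, hi1, hs1⟩ := level_hat R
  obtain ⟨hm2, hi2, hs2⟩ := level_hens R S ψ hψ'
  obtain ⟨_, ⟨e1⟩⟩ := nonempty_complEquiv_quotient R Rhat (algebraMap R Rhat) hm1 hi1 hs1 p
  obtain ⟨_, ⟨e2⟩⟩ := nonempty_complEquiv_quotient S Rhat ψ hm2 hi2 hs2 q
  have h1 : EGA4.IsEquidim (Rhat ⧸ p.map (algebraMap R Rhat)) := isEquidim_of_ringEquiv e1 (h p)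
  rw [isEquidim_quotient_iff] at h1
  have hle : p.map (algebraMap R Rhat) ≤ q.map ψ := by
    rw [← hψ', ← Ideal.map_map]
    exact Ideal.map_mono Ideal.map_comap_le
  have h2 : EquidimOver (q.map ψ) := equidimOver_of_le hle h1
    (fun P hP => mem_minimalPrimes_of_mem_minimalPrimes R S ψ hψ' q P hP)
  rw [← isEquidim_quotient_iff] at h2
  exact isEquidim_of_ringEquiv e2.symm h2

end Groth.Agent.Lib.Helper12.HensFC
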