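import Mathlib.RingTheory.Flat.FaithfullyFlat.Algebra
import Mathlib.RingTheory.RingHom.FaithfullyFlat
import Mathlib.RingTheory.RingHom.Flat

namespace Groth.Agent.Lib.Helper12

open TensorProduct

/-- If `A → B → C` with `C` faithfully flat over `B` and flat over `A`, then `B` is flat over `A`. -/
theorem flat_of_flat_of_faithfullyFlat (A B C : Type*) [CommRing A] [CommRing B] [CommRing C]
    [Algebra A B] [Algebra B C] [Algebra A C] [IsScalarTower A B C]
    [Module.FaithfullyFlat B C] [Module.Flat A C] : Module.Flat A B := by
  rw [Module.Flat.iff_lTensor_preserves_injective_linearMap]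
  intro N P _ _ _ _ f hf
  have h1 : Function.Injective (f.lTensor C) := Module.Flat.lTensor_preserves_injective_linearMap f hf
  have h2 := TensorProduct.AlgebraTensorModule.lTensor_comp_cancelBaseChange A B C (M := C) f
  -- the B-linear map
  let g : B ⊗[A] N →ₗ[B] B ⊗[A] P := TensorProduct.AlgebraTensorModule.lTensor B B f
  have hg : Function.Injective (g.lTensor C) := by
    have h3 : Function.Injective
        ((TensorProduct.AlgebraTensorModule.cancelBaseChange A B C C P).toLinearMap ∘ₗ
          TensorProduct.AlgebraTensorModule.lTensor C C g) := by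
      rw [← h2]
      have : Function.Injective (TensorProduct.AlgebraTensorModule.lTensor C C f) := h1
      exact this.comp (TensorProduct.AlgebraTensorModule.cancelBaseChange A B C C N).injective
    rw [LinearMap.coe_comp] at h3
    exact Function.Injective.of_comp (f := ⇑(TensorProduct.AlgebraTensorModule.cancelBaseChange A B C C P).toLinearMap) h3
  have := (Module.FaithfullyFlat.lTensor_injective_iff_injective B C g).1 hg
  exact this

theorem ringHom_flat_of_comp_faithfullyFlat {A B C : Type*} [CommRing A] [CommRing B]
    [CommRing C] (φ : A →+* B) (ψ : B →+* C) (hψ : ψ.FaithfullyFlat) (h : (ψ.comp φ).Flat) :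
    φ.Flat := by
  algebraize [φ, ψ, ψ.comp φ]
  exact flat_of_flat_of_faithfullyFlat A B C

end Groth.Agent.Lib.Helper12
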