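import Mathlib
import Groth.Prelude.Def_EGA4b
import Groth.Agent.Lib.Helper12.ZarC
import Groth.Agent.Lib.Helper12.AnUnramD
import Groth.Agent.Lib.Helper22.FormalFibQuot

/-!
# Zariski's lemma on analytic unramifiedness, part D: application to the completion
-/

set_option autoImplicit false

namespace Groth.Agent.Lib.Helper12.Zar

open TensorProduct IsLocalRing

universe u

/-- Krull intersection for a principal ideal generated by a non-unit in a Noetherian local
ring. -/
theorem eq_zero_of_forall_mem_span_pow {T : Type*} [CommRing T] [IsNoetherianRing T]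
    [IsLocalRing T] (x : T) (hx : x ∈ maximalIdeal T) (y : T)
    (hy : ∀ n : ℕ, y ∈ Ideal.span {x ^ n}) : y = 0 := by
  have hne : Ideal.span {x} ≠ ⊤ := by
    intro h
    have : (1 : T) ∈ Ideal.span {x} := by rw [h]; trivial
    have hle : Ideal.span {x} ≤ maximalIdeal T := (Ideal.span_singleton_le_iff_mem _).mpr hx
    exact (maximalIdeal.isMaximal T).ne_top ((Ideal.eq_top_iff_one _).mpr (hle this))
  have h1 := Ideal.iInf_pow_eq_bot_of_isLocalRing (Ideal.span {x}) hne
  have h2 : y ∈ ⨅ n : ℕ, Ideal.span {x} ^ n := by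
    rw [Ideal.mem_iInf]
    intro n
    rw [Ideal.span_singleton_pow]
    exact hy n
  rw [h1] at h2
  exact h2

/-- **Zariski's lemma** (EGA IV 7.6.?, Stacks 032Y) for the completion of a Noetherian local
ring. -/
theorem isReduced_cpl (A : Type u) [CommRing A] [IsNoetherianRing A] [IsLocalRing A] (t : A)
    (ht : t ∈ maximalIdeal A) (hreg : t ∈ nonZeroDivisors A)
    (hemb : associatedPrimes A (A ⧸ Ideal.span {t}) ⊆ (Ideal.span {t}).minimalPrimes)
    (hdvr : ∀ (q : Ideal A) [q.IsPrime], q ∈ (Ideal.span {t}).minimalPrimes →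
      ∃ (_ : IsDomain (Localization.AtPrime q)), IsDiscreteValuationRing (Localization.AtPrime q))
    (hred : ∀ (q : Ideal A) [q.IsPrime], q ∈ (Ideal.span {t}).minimalPrimes →
      IsReduced (EGA4.Cpl (A ⧸ q))) :
    IsReduced (EGA4.Cpl A) := by
  haveI : IsNoetherianRing (EGA4.Cpl A) := AnUnram.isNoetherianRing_cpl A
  haveI : Module.FaithfullyFlat A (EGA4.Cpl A) := AnUnram.faithfullyFlat_cpl A
  obtain ⟨hm1, hi1, hs1⟩ := Groth.Agent.Lib.Helper12.HensFC.level_hat A
  refine isReduced_of_zariski (A := A) (T := EGA4.Cpl A) t hreg hemb hdvr ?_ ?_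
  · intro q hq hqmin
    obtain ⟨e⟩ := Groth.Agent.Lib.Helper22.FormalFibQuot.nonempty_complAlgEquiv_quotient A
      (EGA4.Cpl A) hm1 hi1 hs1 q
    haveI := hred q hqmin
    rw [Ideal.isRadical_iff_quotient_reduced]
    exact isReduced_of_injective e.symm.toRingEquiv.toRingHom e.symm.injective
  · intro y hy
    refine eq_zero_of_forall_mem_span_pow (algebraMap A (EGA4.Cpl A) t) ?_ y hy
    rw [← hm1]
    exact Ideal.mem_map_of_mem _ ht

end Groth.Agent.Lib.Helper12.Zar
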