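import Mathlib
import Groth.Prelude.Def_Found
import Groth.Agent.Lib.Helper12.ZarD

/-!
# Analytic unramifiedness of Nagata local domains, part A: "formal-like" local algebras

A local `R`-algebra `T` is *formal-like* if it is Noetherian, flat, `𝔪_R T = 𝔪_T` and the residue
field extension is trivial. The completion is the main example.
-/

set_option autoImplicit false

namespace Groth.Agent.Lib.Helper12.AUn

open TensorProduct IsLocalRing

universe u

/-- Formal-like local algebras. -/
structure FormalLike (R T : Type*) [CommRing R] [CommRing T] [IsLocalRing R] [IsLocalRing T]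
    [Algebra R T] : Prop where
  noeth : IsNoetherianRing T
  flat : Module.Flat R T
  map_max : (maximalIdeal R).map (algebraMap R T) = maximalIdeal T
  res_surj : ∀ y : T, ∃ r : R, y - algebraMap R T r ∈ maximalIdeal T

/-- The completion of a Noetherian local ring is formal-like. -/
theorem FormalLike.cpl (R : Type u) [CommRing R] [IsLocalRing R] [IsNoetherianRing R] :
    FormalLike R (AdicCompletion (maximalIdeal R) R) := by
  obtain ⟨hm1, -, hs1⟩ := Groth.Agent.Lib.Helper12.HensFC.level_hat R
  haveI : Module.FaithfullyFlat R (AdicCompletion (maximalIdeal R) R) :=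
    AnUnram.faithfullyFlat_cpl R
  refine ⟨AnUnram.isNoetherianRing_cpl R, inferInstance, hm1, fun y => ?_⟩
  obtain ⟨b, hb⟩ := hs1 1 y
  exact ⟨b, by simpa using hb⟩

variable {R T : Type*} [CommRing R] [CommRing T] [IsLocalRing R] [IsLocalRing T] [Algebra R T]

theorem FormalLike.map_le (h : FormalLike R T) (q : Ideal R) (hq : q ≠ ⊤) :
    q.map (algebraMap R T) ≤ maximalIdeal T := by
  rw [← h.map_max]
  exact Ideal.map_mono (le_maximalIdeal hq)

theorem FormalLike.map_ne_top (h : FormalLike R T) (q : Ideal R) (hq : q ≠ ⊤) :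
    q.map (algebraMap R T) ≠ ⊤ := by
  intro htop
  have := h.map_le q hq
  rw [htop] at this
  exact (maximalIdeal.isMaximal T).ne_top (top_le_iff.mp this)

/-- Quotients of formal-like algebras are formal-like. -/
theorem FormalLike.quotient (h : FormalLike R T) (q : Ideal R)
    [IsLocalRing (R ⧸ q)] [IsLocalRing (T ⧸ q.map (algebraMap R T))] :
    FormalLike (R ⧸ q) (T ⧸ q.map (algebraMap R T)) := by
  haveI := h.noeth
  haveI := h.flat
  have hmR : (maximalIdeal R).map (Ideal.Quotient.mk q) = maximalIdeal (R ⧸ q) :=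
    Groth.Agent.Lib.Helper21.DepthKit.map_maximalIdeal_of_surjective Ideal.Quotient.mk_surjective
  have hmT : (maximalIdeal T).map (Ideal.Quotient.mk (q.map (algebraMap R T))) =
      maximalIdeal (T ⧸ q.map (algebraMap R T)) :=
    Groth.Agent.Lib.Helper21.DepthKit.map_maximalIdeal_of_surjective Ideal.Quotient.mk_surjective
  have hcomm : (algebraMap (R ⧸ q) (T ⧸ q.map (algebraMap R T))).comp (Ideal.Quotient.mk q) =
      (Ideal.Quotient.mk (q.map (algebraMap R T))).comp (algebraMap R T) := by
    ext r; rfl
  refine ⟨inferInstance, ?_, ?_, ?_⟩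
  · exact Module.Flat.of_linearEquiv
      (Algebra.TensorProduct.quotIdealMapEquivQuotTensor T q).toLinearEquiv
  · rw [← hmR, Ideal.map_map, hcomm, ← Ideal.map_map, h.map_max, hmT]
  · intro y
    obtain ⟨y, rfl⟩ := Ideal.Quotient.mk_surjective y
    obtain ⟨r, hr⟩ := h.res_surj y
    refine ⟨Ideal.Quotient.mk q r, ?_⟩
    have : Ideal.Quotient.mk (q.map (algebraMap R T)) y -
        algebraMap (R ⧸ q) (T ⧸ q.map (algebraMap R T)) (Ideal.Quotient.mk q r) =
        Ideal.Quotient.mk (q.map (algebraMap R T)) (y - algebraMap R T r) := by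
      rw [map_sub]; rfl
    rw [this, ← hmT]
    exact Ideal.mem_map_of_mem _ hr

end Groth.Agent.Lib.Helper12.AUn
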