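import Mathlib
import Groth.Agent.Lib.Helper12.AUnA

/-!
# Analytic unramifiedness of Nagata local domains, part B: finite base change of formal-like
algebras, localised at a maximal ideal
-/

set_option autoImplicit false

namespace Groth.Agent.Lib.Helper12.AUn

open TensorProduct IsLocalRing

universe u

/-- Key facts about maximal ideals of the finite base change `T ⊗[R] S` of a formal-like
algebra `T`. -/
theorem baseChange_key {R S T : Type*} [CommRing R] [CommRing S] [CommRing T] [IsLocalRing R]
    [IsLocalRing T] [Algebra R S] [Algebra R T] [Module.Finite R S] (h : FormalLike R T)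
    (n : Ideal (T ⊗[R] S)) [n.IsMaximal] :
    (n.comap (Algebra.TensorProduct.includeRight (R := R) (A := T) (B := S)).toRingHom).map
      (Algebra.TensorProduct.includeRight (R := R) (A := T) (B := S)).toRingHom = n ∧
    ∀ y : T ⊗[R] S, ∃ s : S,
      y - (Algebra.TensorProduct.includeRight (R := R) (A := T) (B := S)).toRingHom s ∈ n := by
  set φ : S →+* T ⊗[R] S :=
    (Algebra.TensorProduct.includeRight (R := R) (A := T) (B := S)).toRingHom with hφ
  let ι : T →+* T ⊗[R] S := algebraMap T (T ⊗[R] S)
  have hφs : ∀ s : S, φ s = (1 : T) ⊗ₜ[R] s := fun s => rfl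
  have hιt : ∀ t : T, ι t = t ⊗ₜ[R] (1 : S) := fun t => rfl
  have hcomm : ∀ r : R, ι (algebraMap R T r) = φ (algebraMap R S r) := by
    intro r
    rw [hφs, hιt, Algebra.algebraMap_eq_smul_one, Algebra.algebraMap_eq_smul_one,
      TensorProduct.smul_tmul]
  haveI : Algebra.IsIntegral T (T ⊗[R] S) := inferInstance
  haveI hmax : (n.comap ι).IsMaximal := Ideal.isMaximal_comap_of_isIntegral_of_isMaximal n
  have hnT : n.comap ι = maximalIdeal T := IsLocalRing.eq_maximalIdeal hmax
  have hι_mem : ∀ μ ∈ maximalIdeal T, ι μ ∈ n := by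
    intro μ hμ
    rw [← hnT] at hμ
    exact hμ
  set P : Ideal S := n.comap φ with hP
  set J : Ideal (T ⊗[R] S) := P.map φ with hJ
  have hJn : J ≤ n := Ideal.map_comap_le
  have hRP : maximalIdeal R ≤ P.comap (algebraMap R S) := by
    intro r hr
    rw [Ideal.mem_comap, hP, Ideal.mem_comap, ← hcomm]
    apply hι_mem
    rw [← h.map_max]
    exact Ideal.mem_map_of_mem _ hr
  have hι_J : ∀ μ ∈ maximalIdeal T, ι μ ∈ J := by
    intro μ hμ
    have h1 : ι μ ∈ (maximalIdeal T).map ι := Ideal.mem_map_of_mem _ hμ
    have h2 : (maximalIdeal T).map ι ≤ J := by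
      rw [← h.map_max, Ideal.map_map]
      have h3 : ι.comp (algebraMap R T) = φ.comp (algebraMap R S) := RingHom.ext hcomm
      rw [h3, ← Ideal.map_map, hJ]
      exact Ideal.map_mono (Ideal.map_le_iff_le_comap.mpr hRP)
    exact h2 h1
  have key : ∀ y : T ⊗[R] S, ∃ s : S, y - φ s ∈ J := by
    intro y
    induction y using TensorProduct.induction_on with
    | zero => exact ⟨0, by rw [map_zero, sub_zero]; exact Ideal.zero_mem _⟩
    | tmul t s =>
      obtain ⟨r, hr⟩ := h.res_surj t
      refine ⟨algebraMap R S r * s, ?_⟩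
      have h1 : t ⊗ₜ[R] s - φ (algebraMap R S r * s) = ι (t - algebraMap R T r) * φ s := by
        rw [map_mul, map_sub, hcomm, sub_mul]
        congr 1
        rw [hιt, hφs, Algebra.TensorProduct.tmul_mul_tmul, mul_one, one_mul]
      rw [h1]
      exact Ideal.mul_mem_right _ _ (hι_J _ hr)
    | add y₁ y₂ ih₁ ih₂ =>
      obtain ⟨s₁, hs₁⟩ := ih₁
      obtain ⟨s₂, hs₂⟩ := ih₂
      refine ⟨s₁ + s₂, ?_⟩
      have : y₁ + y₂ - φ (s₁ + s₂) = (y₁ - φ s₁) + (y₂ - φ s₂) := by rw [map_add]; ring
      rw [this]
      exact Ideal.add_mem _ hs₁ hs₂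
  refine ⟨le_antisymm hJn ?_, fun y => ?_⟩
  · intro y hy
    obtain ⟨s, hs⟩ := key y
    have h1 : φ s ∈ n := by
      have := Ideal.sub_mem _ hy (hJn hs)
      rwa [sub_sub_cancel] at this
    have h2 : φ s ∈ J := Ideal.mem_map_of_mem _ (show s ∈ P from h1)
    have := Ideal.add_mem _ hs h2
    rwa [sub_add_cancel] at this
  · obtain ⟨s, hs⟩ := key y
    exact ⟨s, hJn hs⟩

/-- The localisation of a flat ring map at a prime with `P T' = n` and trivial residue
extension is formal-like. -/
theorem FormalLike.localization {S T' : Type*} [CommRing S] [CommRing T'] [IsNoetherianRing T']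
    (φ : S →+* T') (hφ : φ.Flat) (n : Ideal T') [n.IsPrime] (P : Ideal S) [P.IsPrime]
    (hP : P = n.comap φ) (hmap : P.map φ = n) (hres : ∀ y : T', ∃ s : S, y - φ s ∈ n) :
    @FormalLike (Localization.AtPrime P) (Localization.AtPrime n) _ _ _ _
      (Localization.localRingHom P n φ hP).toAlgebra := by
  letI : Algebra (Localization.AtPrime P) (Localization.AtPrime n) :=
    (Localization.localRingHom P n φ hP).toAlgebra
  have halg : algebraMap (Localization.AtPrime P) (Localization.AtPrime n) =
      Localization.localRingHom P n φ hP := rfl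
  refine ⟨IsLocalization.isNoetherianRing n.primeCompl _ inferInstance, ?_, ?_, ?_⟩
  · exact RingHom.Flat.localRingHom hφ n P hP
  · rw [← Localization.AtPrime.map_eq_maximalIdeal, ← Localization.AtPrime.map_eq_maximalIdeal,
      Ideal.map_map, halg]
    have h1 : (Localization.localRingHom P n φ hP).comp (algebraMap S (Localization.AtPrime P)) =
        (algebraMap T' (Localization.AtPrime n)).comp φ := by
      ext x
      exact Localization.localRingHom_to_map (I := P) n φ hP x
    rw [h1, ← Ideal.map_map, hmap]
  · intro y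
    obtain ⟨a, u, rfl⟩ := IsLocalization.exists_mk'_eq n.primeCompl y
    obtain ⟨sa, hsa⟩ := hres a
    obtain ⟨su, hsu⟩ := hres (u : T')
    have hφsu : φ su ∉ n := by
      intro hmem
      have := Ideal.add_mem _ hsu hmem
      rw [sub_add_cancel] at this
      exact u.2 this
    have hsuP : su ∈ P.primeCompl := by
      intro hmem
      rw [hP] at hmem
      exact hφsu hmem
    refine ⟨IsLocalization.mk' (Localization.AtPrime P) sa ⟨su, hsuP⟩, ?_⟩
    rw [halg, Localization.localRingHom_mk']
    set uW := algebraMap T' (Localization.AtPrime n) (u : T') with huW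
    set vW := algebraMap T' (Localization.AtPrime n) (φ su) with hvW
    have huu : IsUnit uW := IsLocalization.map_units _ u
    have hvu : IsUnit vW := IsLocalization.map_units _ (⟨φ su, hφsu⟩ : n.primeCompl)
    have h1 : (IsLocalization.mk' (Localization.AtPrime n) a u -
        IsLocalization.mk' (Localization.AtPrime n) (φ sa)
          (⟨φ su, hφsu⟩ : n.primeCompl)) *
        (uW * vW) = algebraMap T' (Localization.AtPrime n) (a * φ su - φ sa * u) := by
      have e1 : IsLocalization.mk' (Localization.AtPrime n) a u * uW =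
          algebraMap T' (Localization.AtPrime n) a := IsLocalization.mk'_spec _ a u
      have e2 : IsLocalization.mk' (Localization.AtPrime n) (φ sa)
          (⟨φ su, hφsu⟩ : n.primeCompl) * vW =
          algebraMap T' (Localization.AtPrime n) (φ sa) := IsLocalization.mk'_spec _ (φ sa) _
      rw [map_sub, map_mul, map_mul, ← e1, ← e2]
      ring
    have h2 : a * φ su - φ sa * u ∈ n := by
      have : a * φ su - φ sa * u = (a - φ sa) * φ su - φ sa * (u - φ su) := by ring
      rw [this]
      exact Ideal.sub_mem _ (Ideal.mul_mem_right _ _ hsa) (Ideal.mul_mem_left _ _ hsu)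
    have h3 : algebraMap T' (Localization.AtPrime n) (a * φ su - φ sa * u) ∈
        maximalIdeal (Localization.AtPrime n) := by
      rw [← Localization.AtPrime.map_eq_maximalIdeal]
      exact Ideal.mem_map_of_mem _ h2
    rw [← h1] at h3
    exact (Ideal.mul_unit_mem_iff_mem _ (huu.mul hvu)).mp h3

end Groth.Agent.Lib.Helper12.AUn
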