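import Mathlib
import Groth.Agent.Lib.Helper12.AUnB
import Groth.Agent.S14359

/-!
# Analytic unramifiedness of Nagata local domains, part C: the normal case
-/

set_option autoImplicit false

namespace Groth.Agent.Lib.Helper12.AUn

open TensorProduct IsLocalRing

universe u

/-- The statement for Nagata local domains of dimension `< n`. -/
def Holds (n : ℕ) : Prop :=
  ∀ (R : Type u) [CommRing R] [IsDomain R] [IsLocalRing R], CAlg.IsNagata R →
    ringKrullDim R < n → ∀ (T : Type u) [CommRing T] [IsLocalRing T] [Algebra R T],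
      FormalLike R T → IsReduced T

/-- The statement for normal Nagata local domains of dimension `< n`. -/
def HoldsNormal (n : ℕ) : Prop :=
  ∀ (R : Type u) [CommRing R] [IsDomain R] [IsLocalRing R] [IsIntegrallyClosed R],
    CAlg.IsNagata R →
    ringKrullDim R < n → ∀ (T : Type u) [CommRing T] [IsLocalRing T] [Algebra R T],
      FormalLike R T → IsReduced T

theorem holds_zero : Holds.{u} 0 := by
  intro R _ _ _ _ hdim
  exfalso
  have h0 : (0 : WithBot ℕ∞) ≤ ringKrullDim R := ringKrullDim_nonneg_of_nontrivial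
  have : ringKrullDim R < 0 := by exact_mod_cast hdim
  exact absurd (lt_of_le_of_lt h0 this) (lt_irrefl _)

theorem lt_of_add_one_le_of_lt {a b : WithBot ℕ∞} {n : ℕ} (h1 : a + 1 ≤ b)
    (h2 : b < ((n + 1 : ℕ) : WithBot ℕ∞)) : a < (n : WithBot ℕ∞) := by
  have h3 : a + 1 < ((n + 1 : ℕ) : WithBot ℕ∞) := lt_of_le_of_lt h1 h2
  induction a with
  | bot => exact WithBot.bot_lt_coe _
  | coe a =>
    induction a with
    | top =>
      exfalso
      have : ((⊤ : ℕ∞) : WithBot ℕ∞) + 1 = ((⊤ : ℕ∞) : WithBot ℕ∞) := by
        rw [← WithBot.coe_one, ← WithBot.coe_add, top_add]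
      rw [this] at h3
      have h4 : (((n + 1 : ℕ) : ℕ∞) : WithBot ℕ∞) ≤ ((⊤ : ℕ∞) : WithBot ℕ∞) :=
        WithBot.coe_le_coe.mpr le_top
      exact absurd (lt_of_lt_of_le h3 (by exact_mod_cast h4)) (lt_irrefl _)
    | coe k =>
      have h5 : ((k + 1 : ℕ) : WithBot ℕ∞) < ((n + 1 : ℕ) : WithBot ℕ∞) := by
        exact_mod_cast h3
      have h6 : k + 1 < n + 1 := by exact_mod_cast h5
      have h7 : k < n := by omega
      exact_mod_cast h7

/-- In a Noetherian normal domain, the associated primes of `R/xR` are minimal over `xR`. -/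
theorem ass_subset_minimalPrimes (R : Type u) [CommRing R] [IsDomain R] [IsNoetherianRing R]
    [IsIntegrallyClosed R] (x : R) (hx : x ≠ 0) :
    associatedPrimes R (R ⧸ Ideal.span {x}) ⊆ (Ideal.span {x}).minimalPrimes := by
  intro p hp
  have hht : p.height = 1 := Groth.Agent.S14359.result R x hx p hp
  haveI : p.IsPrime := hp.isPrime
  have hxp : Ideal.span {x} ≤ p := by
    have := hp.annihilator_le
    rwa [Submodule.annihilator_top, Ideal.annihilator_quotient] at this
  refine ⟨⟨inferInstance, hxp⟩, fun p' ⟨hp'prime, hxp'⟩ hle => ?_⟩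
  by_contra hnle
  have hlt : p' < p := lt_of_le_of_ne hle (fun h => hnle (h ▸ le_refl _))
  haveI := hp'prime
  haveI : p.FiniteHeight := (Ideal.finiteHeight_iff p).mpr (Or.inr (by rw [hht]; exact ENat.one_ne_top))
  have h1 : p'.height < p.height := Ideal.height_strict_mono_of_isPrime_of_isPrime hlt
  rw [hht] at h1
  have h2 : p'.height = 0 := by
    have : p'.height < 1 := h1
    exact ENat.lt_one_iff_eq_zero.mp this
  rw [Ideal.height_eq_zero_iff_eq_bot] at h2
  have : x ∈ p' := hxp' (Ideal.mem_span_singleton_self x)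
  rw [h2] at this
  exact hx this

/-- Localisation of a Noetherian normal domain at a height one prime is a DVR. -/
theorem isDiscreteValuationRing_of_height_eq_one (R : Type u) [CommRing R] [IsDomain R]
    [IsNoetherianRing R] [IsIntegrallyClosed R] (q : Ideal R) [q.IsPrime] (hq : q.height = 1) :
    ∃ (_ : IsDomain (Localization.AtPrime q)),
      IsDiscreteValuationRing (Localization.AtPrime q) := by
  have hle : q.primeCompl ≤ nonZeroDivisors R := Ideal.primeCompl_le_nonZeroDivisors q
  haveI hdom : IsDomain (Localization.AtPrime q) := IsLocalization.isDomain_localization hle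
  haveI : IsIntegrallyClosed (Localization.AtPrime q) :=
    isIntegrallyClosed_of_isLocalization (Localization.AtPrime q) q.primeCompl hle
  haveI : IsNoetherianRing (Localization.AtPrime q) :=
    IsLocalization.isNoetherianRing q.primeCompl _ inferInstance
  have hdim : ringKrullDim (Localization.AtPrime q) = 1 := by
    rw [IsLocalization.AtPrime.ringKrullDim_eq_height q, hq]; rfl
  haveI : Ring.KrullDimLE 1 (Localization.AtPrime q) :=
    Ring.krullDimLE_iff.2 (by rw [hdim]; rfl)
  have htfae : (IsIntegrallyClosed (Localization.AtPrime q) ∧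
      ∀ P : Ideal (Localization.AtPrime q), P ≠ ⊥ → P.IsPrime →
        P = maximalIdeal (Localization.AtPrime q)) ↔
      IsPrincipalIdealRing (Localization.AtPrime q) :=
    (tfae_of_isNoetherianRing_of_isLocalRing_of_isDomain (Localization.AtPrime q)).out 3 0
  haveI : IsPrincipalIdealRing (Localization.AtPrime q) := htfae.1 ⟨inferInstance,
    fun P hP hP' => IsLocalRing.eq_maximalIdeal (hP'.isMaximal_of_ne_bot hP)⟩
  refine ⟨hdom, { not_a_field' := ?_ }⟩
  intro hbot
  have hf : IsField (Localization.AtPrime q) := IsLocalRing.isField_iff_maximalIdeal_eq.2 hbot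
  rw [ringKrullDim_eq_zero_of_isField hf] at hdim
  exact zero_ne_one hdim

/-- Step 2: the normal case from the inductive hypothesis. -/
theorem holdsNormal_succ (n : ℕ) (IH : Holds.{u} n) : HoldsNormal.{u} (n + 1) := by
  intro R _ _ _ _ hR hdim T _ _ _ h
  haveI := hR.1
  haveI := h.noeth
  haveI := h.flat
  by_cases hm0 : maximalIdeal R = ⊥
  · have hT0 : maximalIdeal T = ⊥ := by rw [← h.map_max, hm0, Ideal.map_bot]
    have hf : IsField T := IsLocalRing.isField_iff_maximalIdeal_eq.mpr hT0
    haveI : IsDomain T := hf.isDomain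
    infer_instance
  · obtain ⟨x, hxm, hx0⟩ := Submodule.exists_mem_ne_zero_of_ne_bot hm0
    have hxnzd : x ∈ nonZeroDivisors R := mem_nonZeroDivisors_of_ne_zero hx0
    have hemb := ass_subset_minimalPrimes R x hx0
    have hminass : (Ideal.span {x}).minimalPrimes ⊆ associatedPrimes R (R ⧸ Ideal.span {x}) := by
      have := Module.associatedPrimes.minimalPrimes_annihilator_subset_associatedPrimes R
        (R ⧸ Ideal.span {x})
      rwa [Ideal.annihilator_quotient] at this
    refine Zar.isReduced_of_zariski (A := R) (T := T) x hxnzd hemb ?_ ?_ ?_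
    · intro q hq hqmin
      exact isDiscreteValuationRing_of_height_eq_one R q
        (Groth.Agent.S14359.result R x hx0 q (hminass hqmin))
    · intro q hq hqmin
      have hqtop : q ≠ ⊤ := hq.ne_top
      have hxq : x ∈ q := hqmin.1.2 (Ideal.mem_span_singleton_self x)
      haveI : Nontrivial (T ⧸ q.map (algebraMap R T)) :=
        Ideal.Quotient.nontrivial_iff.mpr (h.map_ne_top q hqtop)
      haveI : IsLocalRing (R ⧸ q) :=
        IsLocalRing.of_surjective' (Ideal.Quotient.mk q) Ideal.Quotient.mk_surjective
      haveI : IsLocalRing (T ⧸ q.map (algebraMap R T)) :=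
        IsLocalRing.of_surjective' (Ideal.Quotient.mk _) Ideal.Quotient.mk_surjective
      have hFL := h.quotient q
      have hNq : CAlg.IsNagata (R ⧸ q) :=
        AnUnram.isNagata_of_surjective (Ideal.Quotient.mk q) Ideal.Quotient.mk_surjective hR
      have hdimq : ringKrullDim (R ⧸ q) < (n : WithBot ℕ∞) := by
        have h1 : ringKrullDim (R ⧸ Ideal.span {x}) + 1 ≤ ringKrullDim R :=
          ringKrullDim_quotient_succ_le_of_nonZeroDivisor hxnzd
        have hle : Ideal.span {x} ≤ q := (Ideal.span_singleton_le_iff_mem _).mpr hxq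
        have h2 : ringKrullDim (R ⧸ q) ≤ ringKrullDim (R ⧸ Ideal.span {x}) :=
          ringKrullDim_le_of_surjective (Ideal.Quotient.factor hle)
            (Ideal.Quotient.factor_surjective hle)
        have h3 : ringKrullDim (R ⧸ q) + 1 ≤ ringKrullDim R :=
          le_trans (add_le_add_left h2 1) h1
        exact lt_of_add_one_le_of_lt h3 hdim
      have hred : IsReduced (T ⧸ q.map (algebraMap R T)) :=
        IH (R ⧸ q) hNq hdimq (T ⧸ q.map (algebraMap R T)) hFL
      rw [Ideal.isRadical_iff_quotient_reduced]
      exact hred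
    · intro y hy
      refine Zar.eq_zero_of_forall_mem_span_pow (algebraMap R T x) ?_ y hy
      rw [← h.map_max]
      exact Ideal.mem_map_of_mem _ hxm

end Groth.Agent.Lib.Helper12.AUn
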