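import Mathlib
import Groth.Agent.Lib.Helper12.AUnC
import Groth.Agent.Lib.Helper12.N2ExtA
import Groth.Agent.Lib.Helper29.IntegralDim
import Groth.Agent.S4710

/-!
# Analytic unramifiedness of Nagata local domains, part D: reduction to the normal case and
the main theorem
-/

set_option autoImplicit false

namespace Groth.Agent.Lib.Helper12.AUn

open TensorProduct IsLocalRing

universe u

/-- A finite algebra over a Nagata ring is Nagata. -/
theorem isNagata_of_finite (R S : Type u) [CommRing R] [CommRing S] [Algebra R S]
    [Module.Finite R S] (hR : CAlg.IsNagata R) : CAlg.IsNagata S := by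
  haveI := hR.1
  haveI : IsNoetherianRing S := IsNoetherianRing.of_finite R S
  refine ⟨inferInstance, fun P hP => ?_⟩
  haveI : (P.comap (algebraMap R S)).IsPrime := Ideal.comap_isPrime _ P
  haveI : Module.Finite R (S ⧸ P) := inferInstance
  haveI : Module.Finite (R ⧸ P.comap (algebraMap R S)) (S ⧸ P) :=
    Module.Finite.of_restrictScalars_finite R _ _
  exact N2Ext.isN2_of_finite_of_isN2 (R ⧸ P.comap (algebraMap R S)) (S ⧸ P)
    Ideal.algebraMap_quotient_injective (hR.2 _)

/-- A Nagata domain is N-2. -/
theorem isN2_of_isNagata (R : Type u) [CommRing R] [IsDomain R] (hR : CAlg.IsNagata R) :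
    CAlg.IsN2 R := by
  haveI : (⊥ : Ideal R).IsPrime := Ideal.isPrime_bot
  exact Tate.isN2_of_ringEquiv (RingEquiv.quotientBot R) (hR.2 ⊥)

theorem flat_includeRight (R S T : Type u) [CommRing R] [CommRing S] [CommRing T] [Algebra R S]
    [Algebra R T] [Module.Flat R T] :
    (Algebra.TensorProduct.includeRight (R := R) (A := T) (B := S)).toRingHom.Flat := by
  letI : Algebra S (T ⊗[R] S) := Algebra.TensorProduct.rightAlgebra
  have := RingHom.Flat.isStableUnderBaseChange R T S (T ⊗[R] S)
    (RingHom.flat_algebraMap_iff.mpr inferInstance)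
  exact this

/-- Step 1: reduction to the normal case. -/
theorem holds_of_holdsNormal (n : ℕ) (H : HoldsNormal.{u} n) : Holds.{u} n := by
  intro R _ _ _ hR hdim T _ _ _ h
  haveI := hR.1
  haveI := h.noeth
  haveI := h.flat
  let K := FractionRing R
  let S := integralClosure R K
  have hN2 : CAlg.IsN2 R := isN2_of_isNagata R hR
  haveI hfinS : Module.Finite R S := hN2 K inferInstance
  haveI : IsIntegrallyClosed S := integralClosure.isIntegrallyClosedOfFiniteExtension K
  have hSN : CAlg.IsNagata S := isNagata_of_finite R S hR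
  haveI : IsNoetherianRing S := hSN.1
  haveI : Algebra.IsIntegral R S := inferInstance
  haveI : IsNoetherianRing (T ⊗[R] S) := IsNoetherianRing.of_finite T (T ⊗[R] S)
  have hinjS : Function.Injective (algebraMap R S) := by
    have h1 : Function.Injective (algebraMap R K) := IsFractionRing.injective R K
    intro a b hab
    apply h1
    have := congrArg (Subtype.val) hab
    exact this
  have hinj : Function.Injective
      (Algebra.TensorProduct.includeLeft : T →ₐ[R] T ⊗[R] S) :=
    Algebra.TensorProduct.includeLeft_injective hinjS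
  have hφflat := flat_includeRight R S T
  suffices hred : IsReduced (T ⊗[R] S) from
    isReduced_of_injective (Algebra.TensorProduct.includeLeft : T →ₐ[R] T ⊗[R] S) hinj
  refine isReduced_ofLocalizationMaximal (T ⊗[R] S) fun 𝔫 hn => ?_
  haveI := hn
  obtain ⟨hmap, hres⟩ := baseChange_key (S := S) h 𝔫
  set φ : S →+* T ⊗[R] S :=
    (Algebra.TensorProduct.includeRight (R := R) (A := T) (B := S)).toRingHom with hφ
  haveI hPprime : (𝔫.comap φ).IsPrime := Ideal.comap_isPrime φ 𝔫
  have hFL := FormalLike.localization φ hφflat 𝔫 (𝔫.comap φ) rfl hmap hres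
  have hle : (𝔫.comap φ).primeCompl ≤ nonZeroDivisors S :=
    Ideal.primeCompl_le_nonZeroDivisors _
  haveI : IsDomain (Localization.AtPrime (𝔫.comap φ)) := IsLocalization.isDomain_localization hle
  haveI : IsIntegrallyClosed (Localization.AtPrime (𝔫.comap φ)) :=
    isIntegrallyClosed_of_isLocalization (Localization.AtPrime (𝔫.comap φ)) _ hle
  have hNag : CAlg.IsNagata (Localization.AtPrime (𝔫.comap φ)) :=
    Groth.Agent.S4710.result S hSN (𝔫.comap φ).primeCompl
  have hdim' : ringKrullDim (Localization.AtPrime (𝔫.comap φ)) < (n : WithBot ℕ∞) := by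
    have h1 := IsLocalization.AtPrime.ringKrullDim_eq_height (𝔫.comap φ)
      (Localization.AtPrime (𝔫.comap φ))
    have h2 : ((𝔫.comap φ).height : WithBot ℕ∞) ≤ ringKrullDim S :=
      Ideal.height_le_ringKrullDim_of_isPrime
    have h3 : ringKrullDim S ≤ ringKrullDim R :=
      Groth.Agent.Lib.Helper29.ringKrullDim_le_of_isIntegral (A := R) (A' := S)
    exact lt_of_le_of_lt (le_trans (le_of_eq h1) (le_trans h2 h3)) hdim
  exact @H (Localization.AtPrime (𝔫.comap φ)) _ _ _ _ hNag hdim' (Localization.AtPrime 𝔫) _ _
    (Localization.localRingHom (𝔫.comap φ) 𝔫 φ rfl).toAlgebra hFL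

theorem holds (n : ℕ) : Holds.{u} n := by
  induction n with
  | zero => exact holds_zero
  | succ n ih => exact holds_of_holdsNormal (n + 1) (holdsNormal_succ n ih)

/-- **Main theorem**: a formal-like local algebra over a Nagata local domain is reduced. -/
theorem isReduced_of_formalLike (R : Type u) [CommRing R] [IsDomain R] [IsLocalRing R]
    (hR : CAlg.IsNagata R) (T : Type u) [CommRing T] [IsLocalRing T] [Algebra R T]
    (h : FormalLike R T) : IsReduced T := by
  haveI := hR.1
  have hfin : ringKrullDim R < ⊤ := ringKrullDim_lt_top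
  obtain ⟨n, hn⟩ : ∃ n : ℕ, ringKrullDim R < (n : WithBot ℕ∞) := by
    have h1 : ringKrullDim R ≠ ⊤ := hfin.ne
    induction hd : ringKrullDim R with
    | bot => exact ⟨0, WithBot.bot_lt_coe _⟩
    | coe a =>
      induction a with
      | top => exact absurd hd h1
      | coe k =>
        refine ⟨k + 1, ?_⟩
        have : (k : ℕ) < k + 1 := Nat.lt_succ_self k
        exact_mod_cast this
  exact holds n R hR hn T h

/-- A Nagata local domain is analytically unramified. -/
theorem isReduced_adicCompletion (R : Type u) [CommRing R] [IsDomain R] [IsLocalRing R]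
    (hR : CAlg.IsNagata R) : IsReduced (AdicCompletion (maximalIdeal R) R) := by
  haveI := hR.1
  exact isReduced_of_formalLike R hR _ (FormalLike.cpl R)

end Groth.Agent.Lib.Helper12.AUn
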