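import Mathlib
import Groth.Agent.Lib.Helper12.AUnD

/-!
# Analytic unramifiedness, part E: finite domains over a Nagata local ring, and `p`-th roots
-/

set_option autoImplicit false

namespace Groth.Agent.Lib.Helper12.AUn

open TensorProduct IsLocalRing

universe u

/-- If `R` is a Nagata local ring, `T` is a formal-like `R`-algebra and `S` is a finite
`R`-algebra which is a domain, then `T ⊗[R] S` is reduced. -/
theorem isReduced_tensor_of_finite_domain (R : Type u) [CommRing R] [IsLocalRing R]
    (hR : CAlg.IsNagata R) (T : Type u) [CommRing T] [IsLocalRing T] [Algebra R T]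
    (h : FormalLike R T) (S : Type u) [CommRing S] [IsDomain S] [Algebra R S]
    [Module.Finite R S] : IsReduced (T ⊗[R] S) := by
  haveI := hR.1
  haveI := h.noeth
  haveI := h.flat
  have hSN : CAlg.IsNagata S := isNagata_of_finite R S hR
  haveI : IsNoetherianRing S := hSN.1
  haveI : IsNoetherianRing (T ⊗[R] S) := IsNoetherianRing.of_finite T (T ⊗[R] S)
  have hφflat := flat_includeRight R S T
  refine isReduced_ofLocalizationMaximal (T ⊗[R] S) fun 𝔫 hn => ?_
  haveI := hn
  obtain ⟨hmap, hres⟩ := baseChange_key (S := S) h 𝔫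
  set φ : S →+* T ⊗[R] S :=
    (Algebra.TensorProduct.includeRight (R := R) (A := T) (B := S)).toRingHom with hφ
  haveI hPprime : (𝔫.comap φ).IsPrime := Ideal.comap_isPrime φ 𝔫
  have hFL := FormalLike.localization φ hφflat 𝔫 (𝔫.comap φ) rfl hmap hres
  have hle : (𝔫.comap φ).primeCompl ≤ nonZeroDivisors S :=
    Ideal.primeCompl_le_nonZeroDivisors _
  haveI : IsDomain (Localization.AtPrime (𝔫.comap φ)) := IsLocalization.isDomain_localization hle
  have hNag : CAlg.IsNagata (Localization.AtPrime (𝔫.comap φ)) :=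
    Groth.Agent.S4710.result S hSN (𝔫.comap φ).primeCompl
  exact @isReduced_of_formalLike (Localization.AtPrime (𝔫.comap φ)) _ _ _ hNag
    (Localization.AtPrime 𝔫) _ _ (Localization.localRingHom (𝔫.comap φ) 𝔫 φ rfl).toAlgebra hFL

/-- `p`-th roots descend from the completion of a Nagata local domain. -/
theorem exists_pth_root (A : Type u) [CommRing A] [IsDomain A] [IsLocalRing A]
    (hA : CAlg.IsNagata A) (p : ℕ) [Fact p.Prime] [CharP A p] (a : A)
    (h : ∃ α : AdicCompletion (maximalIdeal A) A,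
      α ^ p = algebraMap A (AdicCompletion (maximalIdeal A) A) a) :
    ∃ b : A, b ^ p = a := by
  haveI := hA.1
  obtain ⟨α, hα⟩ := h
  have hp : p.Prime := Fact.out
  let Ahat := AdicCompletion (maximalIdeal A) A
  haveI hff : Module.FaithfullyFlat A Ahat := AnUnram.faithfullyFlat_cpl A
  let K := FractionRing A
  let L := AlgebraicClosure K
  obtain ⟨β, hβ⟩ := IsAlgClosed.exists_pow_nat_eq (algebraMap A L a) hp.pos
  have hβint : IsIntegral A β := by
    refine ⟨Polynomial.X ^ p - Polynomial.C a, Polynomial.monic_X_pow_sub_C a hp.ne_zero, ?_⟩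
    simp [hβ]
  let B : Subalgebra A L := Algebra.adjoin A {β}
  haveI hBfin : Module.Finite A B :=
    Module.Finite.iff_fg.mpr hβint.fg_adjoin_singleton
  have hβB : β ∈ B := Algebra.subset_adjoin (Set.mem_singleton β)
  let β' : B := ⟨β, hβB⟩
  have hβ' : β' ^ p = algebraMap A B a := by
    apply Subtype.ext
    exact hβ
  have hred : IsReduced (Ahat ⊗[A] B) :=
    isReduced_tensor_of_finite_domain A hA Ahat (FormalLike.cpl A) B
  -- characteristic `p`
  have hinjB : Function.Injective (algebraMap A B) := by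
    have h1 : Function.Injective (algebraMap A L) := by
      rw [IsScalarTower.algebraMap_eq A K L]
      exact (algebraMap K L).injective.comp (IsFractionRing.injective A K)
    intro x y hxy
    exact h1 (congrArg Subtype.val hxy)
  haveI : Nontrivial (Ahat ⊗[A] B) := by
    have hinj : Function.Injective (TensorProduct.mk A Ahat B 1) :=
      Module.FaithfullyFlat.tensorProduct_mk_injective B
    exact hinj.nontrivial
  have hp0 : ((p : ℕ) : Ahat ⊗[A] B) = 0 := by
    have h1 : ((p : ℕ) : A) = 0 := CharP.cast_eq_zero A p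
    have h2 : algebraMap A (Ahat ⊗[A] B) ((p : ℕ) : A) = ((p : ℕ) : Ahat ⊗[A] B) := map_natCast _ p
    rw [← h2, h1, map_zero]
  haveI : CharP (Ahat ⊗[A] B) p := by
    have := CharP.ringChar_of_prime_eq_zero hp hp0
    exact ringChar.of_eq this
  let z : Ahat ⊗[A] B := α ⊗ₜ[A] (1 : B) - (1 : Ahat) ⊗ₜ[A] β'
  have hz : z ^ p = 0 := by
    change (α ⊗ₜ[A] (1 : B) - (1 : Ahat) ⊗ₜ[A] β') ^ p = 0
    rw [sub_pow_char, Algebra.TensorProduct.tmul_pow, Algebra.TensorProduct.tmul_pow, hα, hβ',
      one_pow, one_pow, Algebra.algebraMap_eq_smul_one, Algebra.algebraMap_eq_smul_one,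
      TensorProduct.smul_tmul, sub_self]
  have hz0 : z = 0 := IsReduced.eq_zero z ⟨p, hz⟩
  -- pass to the quotient module `B / A`
  let N : Submodule A B := LinearMap.range (Algebra.linearMap A B)
  let π : B →ₗ[A] B ⧸ N := N.mkQ
  have hπ1 : π 1 = 0 := by
    rw [Submodule.mkQ_apply, Submodule.Quotient.mk_eq_zero]
    exact ⟨1, by simp⟩
  have h3 : (LinearMap.lTensor Ahat π) z = 0 := by rw [hz0, map_zero]
  have h4 : (1 : Ahat) ⊗ₜ[A] (π β') = 0 := by
    change (LinearMap.lTensor Ahat π) (α ⊗ₜ[A] (1 : B) - (1 : Ahat) ⊗ₜ[A] β') = 0 at h3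
    rw [map_sub, LinearMap.lTensor_tmul, LinearMap.lTensor_tmul, hπ1, TensorProduct.tmul_zero,
      zero_sub, neg_eq_zero] at h3
    exact h3
  have h5 : π β' = 0 := by
    have hinj : Function.Injective (TensorProduct.mk A Ahat (B ⧸ N) 1) :=
      Module.FaithfullyFlat.tensorProduct_mk_injective (B ⧸ N)
    apply hinj
    rw [map_zero]
    exact h4
  rw [Submodule.mkQ_apply, Submodule.Quotient.mk_eq_zero] at h5
  obtain ⟨b, hb⟩ := h5
  refine ⟨b, ?_⟩
  apply hinjB
  rw [map_pow]
  have : algebraMap A B b = β' := hb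
  rw [this, hβ']

end Groth.Agent.Lib.Helper12.AUn
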