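import Mathlib
import Groth.Agent.Lib.Helper12.AUnE

/-!
# Analytic unramifiedness, part F: flat extension commutes with finite intersections; reduced
Nagata local rings
-/

set_option autoImplicit false

namespace Groth.Agent.Lib.Helper12.AUn

open TensorProduct IsLocalRing

universe u

/-- Extension of ideals along a flat algebra commutes with binary intersections. -/
theorem map_inf_of_flat {R T : Type*} [CommRing R] [CommRing T] [Algebra R T] [Module.Flat R T]
    (I₁ I₂ : Ideal R) :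
    (I₁ ⊓ I₂).map (algebraMap R T) = I₁.map (algebraMap R T) ⊓ I₂.map (algebraMap R T) := by
  refine le_antisymm (Ideal.map_inf_le _) ?_
  rintro y ⟨hy₁, hy₂⟩
  let f₁ : (R ⧸ (I₁ ⊓ I₂)) →ₗ[R] (R ⧸ I₁) :=
    (Ideal.Quotient.factorₐ R (inf_le_left : I₁ ⊓ I₂ ≤ I₁)).toLinearMap
  let f₂ : (R ⧸ (I₁ ⊓ I₂)) →ₗ[R] (R ⧸ I₂) :=
    (Ideal.Quotient.factorₐ R (inf_le_right : I₁ ⊓ I₂ ≤ I₂)).toLinearMap
  let ψ : (R ⧸ (I₁ ⊓ I₂)) →ₗ[R] (R ⧸ I₁) × (R ⧸ I₂) := LinearMap.prod f₁ f₂
  have hψ : Function.Injective ψ := by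
    rw [injective_iff_map_eq_zero]
    intro x hx
    obtain ⟨r, rfl⟩ := Ideal.Quotient.mk_surjective x
    have h1 : Ideal.Quotient.mk I₁ r = 0 := congrArg Prod.fst hx
    have h2 : Ideal.Quotient.mk I₂ r = 0 := congrArg Prod.snd hx
    rw [Ideal.Quotient.eq_zero_iff_mem] at h1 h2 ⊢
    exact ⟨h1, h2⟩
  have hψT : Function.Injective (LinearMap.lTensor T ψ) :=
    Module.Flat.lTensor_preserves_injective_linearMap ψ hψ
  let e := Algebra.TensorProduct.quotIdealMapEquivTensorQuot T (I₁ ⊓ I₂)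
  let e₁ := Algebra.TensorProduct.quotIdealMapEquivTensorQuot T I₁
  let e₂ := Algebra.TensorProduct.quotIdealMapEquivTensorQuot T I₂
  have he : ∀ w : T, e (Ideal.Quotient.mk _ w) = w ⊗ₜ[R] (1 : R ⧸ (I₁ ⊓ I₂)) := fun w => rfl
  have he₁ : ∀ w : T, e₁ (Ideal.Quotient.mk _ w) = w ⊗ₜ[R] (1 : R ⧸ I₁) := fun w => rfl
  have he₂ : ∀ w : T, e₂ (Ideal.Quotient.mk _ w) = w ⊗ₜ[R] (1 : R ⧸ I₂) := fun w => rfl
  have h1 : y ⊗ₜ[R] (1 : R ⧸ I₁) = 0 := by
    rw [← he₁, Ideal.Quotient.eq_zero_iff_mem.mpr hy₁, map_zero]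
  have h2 : y ⊗ₜ[R] (1 : R ⧸ I₂) = 0 := by
    rw [← he₂, Ideal.Quotient.eq_zero_iff_mem.mpr hy₂, map_zero]
  have h3 : (TensorProduct.prodRight R R T (R ⧸ I₁) (R ⧸ I₂))
      ((LinearMap.lTensor T ψ) (y ⊗ₜ[R] (1 : R ⧸ (I₁ ⊓ I₂)))) = 0 := by
    rw [LinearMap.lTensor_tmul, TensorProduct.prodRight_tmul]
    have hf₁ : (ψ 1).1 = 1 := map_one (Ideal.Quotient.factorₐ R (inf_le_left : I₁ ⊓ I₂ ≤ I₁))
    have hf₂ : (ψ 1).2 = 1 := map_one (Ideal.Quotient.factorₐ R (inf_le_right : I₁ ⊓ I₂ ≤ I₂))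
    rw [hf₁, hf₂, h1, h2]
    rfl
  have h4 : (LinearMap.lTensor T ψ) (y ⊗ₜ[R] (1 : R ⧸ (I₁ ⊓ I₂))) = 0 :=
    (TensorProduct.prodRight R R T (R ⧸ I₁) (R ⧸ I₂)).injective (by rw [h3, map_zero])
  have h5 : y ⊗ₜ[R] (1 : R ⧸ (I₁ ⊓ I₂)) = 0 := hψT (by rw [h4, map_zero])
  rw [← he] at h5
  have h6 : Ideal.Quotient.mk ((I₁ ⊓ I₂).map (algebraMap R T)) y = 0 :=
    e.injective (by rw [h5, map_zero])
  exact Ideal.Quotient.eq_zero_iff_mem.mp h6

/-- Extension of ideals along a flat algebra commutes with finite intersections. -/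
theorem map_finset_inf_of_flat {R T : Type*} [CommRing R] [CommRing T] [Algebra R T]
    [Module.Flat R T] {ι : Type*} (s : Finset ι) (f : ι → Ideal R) :
    (s.inf f).map (algebraMap R T) = s.inf (fun i => (f i).map (algebraMap R T)) := by
  classical
  induction s using Finset.induction_on with
  | empty => simp [Ideal.map_top]
  | insert a s _ ih => rw [Finset.inf_insert, Finset.inf_insert, map_inf_of_flat, ih]

/-- If `T` is flat over the Noetherian ring `R`, `I` is a radical ideal and `P T` is radical for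
all minimal primes `P` of `I`, then `I T` is radical. -/
theorem isRadical_map_of_minimalPrimes {R T : Type*} [CommRing R] [IsNoetherianRing R]
    [CommRing T] [Algebra R T] [Module.Flat R T] (I : Ideal R) (hI : I.IsRadical)
    (h : ∀ P ∈ I.minimalPrimes, (P.map (algebraMap R T)).IsRadical) :
    (I.map (algebraMap R T)).IsRadical := by
  classical
  have hfin : I.minimalPrimes.Finite := I.finite_minimalPrimes_of_isNoetherianRing
  have h1 : I = hfin.toFinset.inf id := by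
    rw [Finset.inf_id_eq_sInf, Set.Finite.coe_toFinset, Ideal.sInf_minimalPrimes, hI.radical]
  rw [h1, map_finset_inf_of_flat, Finset.inf_eq_iInf]
  refine Ideal.isRadical_iInf _ fun P => Ideal.isRadical_iInf _ fun hP => ?_
  exact h P (by simpa using hP)

/-- A formal-like algebra over a reduced Nagata local ring is reduced. -/
theorem isReduced_of_formalLike_of_isReduced (R : Type u) [CommRing R] [IsLocalRing R]
    [IsReduced R] (hR : CAlg.IsNagata R) (T : Type u) [CommRing T] [IsLocalRing T] [Algebra R T]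
    (h : FormalLike R T) : IsReduced T := by
  haveI := hR.1
  haveI := h.noeth
  haveI := h.flat
  have hbot : (⊥ : Ideal R).IsRadical := by
    rw [← Ideal.zero_eq_bot]
    intro x hx
    obtain ⟨n, hn⟩ := hx
    have : x = 0 := IsReduced.eq_zero x ⟨n, by simpa using hn⟩
    rw [this]; exact Ideal.zero_mem _
  have key : ((⊥ : Ideal R).map (algebraMap R T)).IsRadical := by
    refine isRadical_map_of_minimalPrimes ⊥ hbot fun P hP => ?_
    haveI : P.IsPrime := hP.1.1
    have hPtop : P ≠ ⊤ := Ideal.IsPrime.ne_top'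
    haveI : Nontrivial (T ⧸ P.map (algebraMap R T)) :=
      Ideal.Quotient.nontrivial_iff.mpr (h.map_ne_top P hPtop)
    haveI : IsLocalRing (R ⧸ P) :=
      IsLocalRing.of_surjective' (Ideal.Quotient.mk P) Ideal.Quotient.mk_surjective
    haveI : IsLocalRing (T ⧸ P.map (algebraMap R T)) :=
      IsLocalRing.of_surjective' (Ideal.Quotient.mk _) Ideal.Quotient.mk_surjective
    have hFL := h.quotient P
    have hNq : CAlg.IsNagata (R ⧸ P) :=
      AnUnram.isNagata_of_surjective (Ideal.Quotient.mk P) Ideal.Quotient.mk_surjective hR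
    have hred : IsReduced (T ⧸ P.map (algebraMap R T)) :=
      isReduced_of_formalLike (R ⧸ P) hNq _ hFL
    rw [Ideal.isRadical_iff_quotient_reduced]
    exact hred
  rw [Ideal.map_bot] at key
  rw [isReduced_iff]
  intro x hx
  obtain ⟨n, hn⟩ := hx
  have : x ∈ (⊥ : Ideal T) := key ⟨n, by rw [hn]; exact Ideal.zero_mem _⟩
  exact this

end Groth.Agent.Lib.Helper12.AUn
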