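import Mathlib
import Groth.Agent.Lib.Helper12.AUnF

/-!
# Analytic unramifiedness, part G: localisation of formal-like data at a prime (fraction form
of the residue condition) and an identification lemma for localisations
-/

set_option autoImplicit false

namespace Groth.Agent.Lib.Helper12.AUn

open TensorProduct IsLocalRing

universe u

/-- Variant of `FormalLike.localization` where the residue field condition allows fractions. -/
theorem FormalLike.localization' {S T' : Type*} [CommRing S] [CommRing T'] [IsNoetherianRing T']
    (φ : S →+* T') (hφ : φ.Flat) (n : Ideal T') [n.IsPrime] (P : Ideal S) [P.IsPrime]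
    (hP : P = n.comap φ) (hmap : P.map φ = n)
    (hres : ∀ y : T', ∃ s v : S, v ∉ P ∧ φ v * y - φ s ∈ n) :
    @FormalLike (Localization.AtPrime P) (Localization.AtPrime n) _ _ _ _
      (Localization.localRingHom P n φ hP).toAlgebra := by
  letI : Algebra (Localization.AtPrime P) (Localization.AtPrime n) :=
    (Localization.localRingHom P n φ hP).toAlgebra
  have halg : algebraMap (Localization.AtPrime P) (Localization.AtPrime n) =
      Localization.localRingHom P n φ hP := rfl
  refine ⟨IsLocalization.isNoetherianRing n.primeCompl _ inferInstance, ?_, ?_, ?_⟩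
  · exact RingHom.Flat.localRingHom hφ n P hP
  · rw [← Localization.AtPrime.map_eq_maximalIdeal, ← Localization.AtPrime.map_eq_maximalIdeal,
      Ideal.map_map, halg]
    have h1 : (Localization.localRingHom P n φ hP).comp (algebraMap S (Localization.AtPrime P)) =
        (algebraMap T' (Localization.AtPrime n)).comp φ := by
      ext x
      exact Localization.localRingHom_to_map (I := P) n φ hP x
    rw [h1, ← Ideal.map_map, hmap]
  · intro y
    obtain ⟨a, u, rfl⟩ := IsLocalization.exists_mk'_eq n.primeCompl y
    obtain ⟨sa, va, hva, hsa⟩ := hres a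
    obtain ⟨su, vu, hvu, hsu⟩ := hres (u : T')
    have hφva : φ va ∉ n := by
      intro hmem; apply hva; rw [hP]; exact hmem
    have hφvu : φ vu ∉ n := by
      intro hmem; apply hvu; rw [hP]; exact hmem
    have hφsu : φ su ∉ n := by
      intro hmem
      have := Ideal.add_mem _ hsu hmem
      rw [sub_add_cancel] at this
      rcases (Ideal.IsPrime.mem_or_mem inferInstance this) with h | h
      · exact hφvu h
      · exact u.2 h
    have hsuP : su ∉ P := by
      intro hmem; rw [hP] at hmem; exact hφsu hmem
    have hden : va * su ∈ P.primeCompl := by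
      intro hmem
      rcases (Ideal.IsPrime.mem_or_mem inferInstance hmem) with h | h
      · exact hva h
      · exact hsuP h
    have hφden : φ (va * su) ∉ n := by
      intro hmem; apply hden; rw [hP]; exact hmem
    refine ⟨IsLocalization.mk' (Localization.AtPrime P) (sa * vu) ⟨va * su, hden⟩, ?_⟩
    rw [halg]
    set ψ := Localization.localRingHom P n φ hP with hψ
    set r := IsLocalization.mk' (Localization.AtPrime P) (sa * vu)
      (⟨va * su, hden⟩ : P.primeCompl) with hr
    obtain ⟨nd, hnd⟩ : ∃ nd : T', nd = φ (va * su) := ⟨_, rfl⟩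
    obtain ⟨ns, hns⟩ : ∃ ns : T', ns = φ (sa * vu) := ⟨_, rfl⟩
    have hndn : nd ∉ n := by rw [hnd]; exact hφden
    set uW := algebraMap T' (Localization.AtPrime n) (u : T') with huW
    set dW := algebraMap T' (Localization.AtPrime n) nd with hdW
    have huu : IsUnit uW := IsLocalization.map_units _ u
    have hdu : IsUnit dW := IsLocalization.map_units _ (⟨nd, hndn⟩ : n.primeCompl)
    have e2 : ψ r * dW = algebraMap T' (Localization.AtPrime n) ns := by
      rw [hdW, hnd, hns, ← Localization.localRingHom_to_map (I := P) n φ hP,
        ← Localization.localRingHom_to_map (I := P) n φ hP, ← map_mul, hr]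
      congr 1
      exact IsLocalization.mk'_spec _ (sa * vu) (⟨va * su, hden⟩ : P.primeCompl)
    have e1 : IsLocalization.mk' (Localization.AtPrime n) a u * uW =
        algebraMap T' (Localization.AtPrime n) a := IsLocalization.mk'_spec _ a u
    have h1 : (IsLocalization.mk' (Localization.AtPrime n) a u - ψ r) * (uW * dW) =
        algebraMap T' (Localization.AtPrime n) (a * nd - ns * u) := by
      rw [map_sub, map_mul, map_mul, ← e1, ← e2]
      ring
    have h2 : a * nd - ns * u ∈ n := by
      have : a * nd - ns * u =
          (φ va * a - φ sa) * φ su - φ sa * (φ vu * u - φ su) := by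
        rw [hnd, hns, map_mul, map_mul]; ring
      rw [this]
      exact Ideal.sub_mem _ (Ideal.mul_mem_right _ _ hsa) (Ideal.mul_mem_left _ _ hsu)
    have h3 : algebraMap T' (Localization.AtPrime n) (a * nd - ns * u) ∈
        maximalIdeal (Localization.AtPrime n) := by
      rw [← Localization.AtPrime.map_eq_maximalIdeal]
      exact Ideal.mem_map_of_mem _ h2
    rw [← h1] at h3
    exact (Ideal.mul_unit_mem_iff_mem _ (huu.mul hdu)).mp h3

/-- Identification of localisations: if every element of `T'` becomes an element of `T` after
multiplication by some element of `T` outside `p = φ⁻¹(p')`, then `T'_{p'}` is the localisation of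
`T` at `p`. -/
theorem isLocalization_atPrime_of_forall_exists {T T' : Type*} [CommRing T] [CommRing T']
    (φ : T →+* T') (hφ : Function.Injective φ) (p' : Ideal T') [p'.IsPrime] (p : Ideal T)
    [p.IsPrime] (hp : p = p'.comap φ)
    (h : ∀ t' : T', ∃ t v : T, v ∉ p ∧ φ v * t' = φ t) :
    @IsLocalization.AtPrime T _ (Localization.AtPrime p') _
      ((algebraMap T' (Localization.AtPrime p')).comp φ).toAlgebra p _ := by
  letI : Algebra T (Localization.AtPrime p') :=
    ((algebraMap T' (Localization.AtPrime p')).comp φ).toAlgebra
  have halg : ∀ t : T, algebraMap T (Localization.AtPrime p') t =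
      algebraMap T' (Localization.AtPrime p') (φ t) := fun t => rfl
  have hnot : ∀ v : T, v ∉ p → φ v ∉ p' := by
    intro v hv hmem; apply hv; rw [hp]; exact hmem
  refine ⟨?_, ?_, ?_⟩
  · rintro ⟨v, hv⟩
    rw [halg]
    exact IsLocalization.map_units _ (⟨φ v, hnot v hv⟩ : p'.primeCompl)
  · intro z
    obtain ⟨a, w, rfl⟩ := IsLocalization.exists_mk'_eq p'.primeCompl z
    obtain ⟨t₁, v₁, hv₁, h₁⟩ := h a
    obtain ⟨t₂, v₂, hv₂, h₂⟩ := h (w : T')
    have ht₂ : t₂ ∉ p := by
      intro hmem
      have h3 : φ t₂ ∈ p' := by rw [hp] at hmem; exact hmem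
      rw [← h₂] at h3
      rcases (Ideal.IsPrime.mem_or_mem inferInstance h3) with h4 | h4
      · exact hnot v₂ hv₂ h4
      · exact w.2 h4
    have hden : v₁ * t₂ ∈ p.primeCompl := by
      intro hmem
      rcases (Ideal.IsPrime.mem_or_mem inferInstance hmem) with h4 | h4
      · exact hv₁ h4
      · exact ht₂ h4
    refine ⟨(t₁ * v₂, ⟨v₁ * t₂, hden⟩), ?_⟩
    change IsLocalization.mk' _ a w * algebraMap T (Localization.AtPrime p') (v₁ * t₂) =
      algebraMap T (Localization.AtPrime p') (t₁ * v₂)
    rw [halg, halg]
    simp only [map_mul]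
    have e1 : IsLocalization.mk' (Localization.AtPrime p') a w *
        algebraMap T' (Localization.AtPrime p') (w : T') =
        algebraMap T' (Localization.AtPrime p') a := IsLocalization.mk'_spec _ a w
    have e3 : algebraMap T' (Localization.AtPrime p') (φ t₂) =
        algebraMap T' (Localization.AtPrime p') (φ v₂) *
          algebraMap T' (Localization.AtPrime p') (w : T') := by rw [← h₂, map_mul]
    have e4 : algebraMap T' (Localization.AtPrime p') (φ t₁) =
        algebraMap T' (Localization.AtPrime p') (φ v₁) *
          algebraMap T' (Localization.AtPrime p') a := by rw [← h₁, map_mul]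
    rw [e3, e4, ← e1]
    ring
  · intro a b hab
    rw [halg, halg] at hab
    obtain ⟨⟨w, hw⟩, hw'⟩ := (IsLocalization.eq_iff_exists p'.primeCompl _).mp hab
    obtain ⟨t, v, hv, ht⟩ := h w
    have htp : t ∉ p := by
      intro hmem
      have h3 : φ t ∈ p' := by rw [hp] at hmem; exact hmem
      rw [← ht] at h3
      rcases (Ideal.IsPrime.mem_or_mem inferInstance h3) with h4 | h4
      · exact hnot v hv h4
      · exact hw h4
    refine ⟨⟨t, htp⟩, ?_⟩
    apply hφ
    simp only at hw'
    rw [map_mul, map_mul, ← ht, mul_assoc, hw', ← mul_assoc]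

end Groth.Agent.Lib.Helper12.AUn
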