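import Mathlib

/-! The ring `T = A[X_P : P monic of positive degree]/(P(X_P))`. -/

namespace Groth.Agent.Lib.Helper12.AdjoinAllRoots

open Polynomial

universe u

variable (A : Type u) [CommRing A]

abbrev Idx := {P : Polynomial A // P.Monic ∧ 0 < P.natDegree}

noncomputable abbrev J : Ideal (MvPolynomial (Idx A) A) :=
  Ideal.span (Set.range fun P : Idx A => Polynomial.aeval (MvPolynomial.X (R := A) P) P.1)

abbrev T := MvPolynomial (Idx A) A ⧸ J A

/-- The class of `X_P`. -/
noncomputable def root (P : Idx A) : T A := Ideal.Quotient.mk (J A) (MvPolynomial.X P)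

theorem aeval_root (P : Idx A) : Polynomial.aeval (root A P) P.1 = 0 := by
  have h1 : Polynomial.aeval (root A P) P.1 =
      Ideal.Quotient.mkₐ A (J A) (Polynomial.aeval (MvPolynomial.X (R := A) P) P.1) :=
    Polynomial.aeval_algHom_apply (Ideal.Quotient.mkₐ A (J A)) (MvPolynomial.X P) P.1
  rw [h1]
  exact Ideal.Quotient.eq_zero_iff_mem.2 (Ideal.subset_span ⟨P, rfl⟩)

theorem isIntegral_root (P : Idx A) : IsIntegral A (root A P) :=
  ⟨P.1, P.2.1, by rw [← Polynomial.aeval_def]; exact aeval_root A P⟩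

instance isIntegral : Algebra.IsIntegral A (T A) := by
  refine ⟨fun x => ?_⟩
  obtain ⟨m, rfl⟩ := Ideal.Quotient.mk_surjective x
  induction m using MvPolynomial.induction_on with
  | C a => exact isIntegral_algebraMap (R := A) (A := T A) (x := a)
  | add p q hp hq =>
    rw [map_add]
    exact hp.add hq
  | mul_X p i hp =>
    rw [map_mul]
    exact hp.mul (isIntegral_root A i)

/-- A ring hom out of `T A` from a choice of roots. -/
theorem exists_hom {k : Type*} [Field k] [IsAlgClosed k] (φ : A →+* k) :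
    ∃ ψ : T A →+* k, ψ.comp (algebraMap A (T A)) = φ := by
  classical
  letI : Algebra A k := φ.toAlgebra
  have hroot : ∀ P : Idx A, ∃ r : k, Polynomial.aeval r P.1 = 0 := by
    intro P
    have hdeg : (P.1.map φ).degree ≠ 0 := by
      rw [Polynomial.degree_map_eq_of_leadingCoeff_ne_zero]
      · intro h
        have h3 : P.1.natDegree = 0 := Polynomial.natDegree_eq_of_degree_eq_some h
        have h2 := P.2.2
        omega
      · rw [P.2.1.leadingCoeff, map_one]
        exact one_ne_zero
    obtain ⟨r, hr⟩ := IsAlgClosed.exists_root (P.1.map φ) hdeg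
    refine ⟨r, ?_⟩
    rw [Polynomial.aeval_def]
    rwa [Polynomial.IsRoot.def, Polynomial.eval_map] at hr
  choose r hr using hroot
  let ψ₀ : MvPolynomial (Idx A) A →ₐ[A] k := MvPolynomial.aeval r
  have hker : J A ≤ RingHom.ker (ψ₀ : MvPolynomial (Idx A) A →+* k) := by
    rw [Ideal.span_le]
    rintro _ ⟨P, rfl⟩
    rw [SetLike.mem_coe, RingHom.mem_ker]
    have h1 : ψ₀ (Polynomial.aeval (MvPolynomial.X (R := A) P) P.1) =
        Polynomial.aeval (ψ₀ (MvPolynomial.X P)) P.1 :=
      (Polynomial.aeval_algHom_apply ψ₀ (MvPolynomial.X P) P.1).symm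
    show ψ₀ _ = 0
    rw [h1, MvPolynomial.aeval_X]
    exact hr P
  refine ⟨Ideal.Quotient.lift (J A) (ψ₀ : MvPolynomial (Idx A) A →+* k) (fun a ha => hker ha), ?_⟩
  ext a
  have : algebraMap A (T A) a = Ideal.Quotient.mk (J A) (MvPolynomial.C a) := rfl
  rw [RingHom.comp_apply, this, Ideal.Quotient.lift_mk]
  show ψ₀ (MvPolynomial.C a) = φ a
  rw [← MvPolynomial.algebraMap_eq, AlgHom.commutes]
  rfl

theorem comap_surjective :
    Function.Surjective (PrimeSpectrum.comap (algebraMap A (T A))) := by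
  intro p
  let k := AlgebraicClosure p.asIdeal.ResidueField
  let φ : A →+* k := (algebraMap p.asIdeal.ResidueField k).comp (algebraMap A p.asIdeal.ResidueField)
  obtain ⟨ψ, hψ⟩ := exists_hom A φ
  refine ⟨⟨RingHom.ker ψ, RingHom.ker_isPrime ψ⟩, ?_⟩
  ext a
  show algebraMap A (T A) a ∈ RingHom.ker ψ ↔ a ∈ p.asIdeal
  rw [RingHom.mem_ker, ← RingHom.comp_apply, hψ]
  show algebraMap p.asIdeal.ResidueField k (algebraMap A p.asIdeal.ResidueField a) = 0 ↔ _
  rw [map_eq_zero_iff _ (algebraMap p.asIdeal.ResidueField k).injective,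
    Ideal.algebraMap_residueField_eq_zero]

end Groth.Agent.Lib.Helper12.AdjoinAllRoots
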