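import Mathlib
import Groth.Agent.Lib.Helper12.AdjoinAllRootsA

/-! `A → T A` is injective. -/

namespace Groth.Agent.Lib.Helper12.AdjoinAllRoots

open Polynomial

universe u

/-- Finitely many monic polynomials acquire roots in an extension ring. -/
theorem exists_extension (A : Type u) [CommRing A] (s : Finset (Idx A)) :
    ∃ (C : Type u) (_ : CommRing C) (f : A →+* C), Function.Injective f ∧
      ∀ P ∈ s, ∃ c : C, Polynomial.eval₂ f c P.1 = 0 := by
  classical
  induction s using Finset.induction_on with
  | empty => exact ⟨A, inferInstance, RingHom.id A, Function.injective_id, by simp⟩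
  | insert P s hP ih =>
    obtain ⟨C, _, f, hf, hroots⟩ := ih
    have hmonic : (P.1.map f).Monic := P.2.1.map f
    haveI : Module.Free C (AdjoinRoot (P.1.map f)) := hmonic.free_adjoinRoot
    have hinj : Function.Injective (algebraMap C (AdjoinRoot (P.1.map f))) := by
      rcases subsingleton_or_nontrivial C with hC | hC
      · intro a b _
        exact Subsingleton.elim a b
      · haveI : Nontrivial (AdjoinRoot (P.1.map f)) := by
          apply Ideal.Quotient.nontrivial_iff.2
          intro h
          rw [Ideal.span_singleton_eq_top, hmonic.isUnit_iff] at h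
          have h2 : (P.1.map f).natDegree = P.1.natDegree := P.2.1.natDegree_map f
          rw [h, Polynomial.natDegree_one] at h2
          have := P.2.2
          omega
        exact FaithfulSMul.algebraMap_injective C (AdjoinRoot (P.1.map f))
    refine ⟨AdjoinRoot (P.1.map f), inferInstance,
      (algebraMap C (AdjoinRoot (P.1.map f))).comp f, hinj.comp hf, ?_⟩
    intro Q hQ
    rcases Finset.mem_insert.1 hQ with rfl | hQ
    · refine ⟨AdjoinRoot.root _, ?_⟩
      rw [← Polynomial.eval₂_map]
      have := AdjoinRoot.eval₂_root (Q.1.map f)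
      exact this
    · obtain ⟨c, hc⟩ := hroots Q hQ
      refine ⟨algebraMap C _ c, ?_⟩
      rw [← Polynomial.hom_eval₂, hc, map_zero]

theorem algebraMap_injective (A : Type u) [CommRing A] :
    Function.Injective (algebraMap A (T A)) := by
  classical
  rw [injective_iff_map_eq_zero]
  intro a ha
  have h1 : (MvPolynomial.C a : MvPolynomial (Idx A) A) ∈ J A :=
    Ideal.Quotient.eq_zero_iff_mem.1 ha
  obtain ⟨c, hc⟩ := (Finsupp.mem_ideal_span_range_iff_exists_finsupp).1 h1
  obtain ⟨C, _, f, hf, hroots⟩ := exists_extension A c.support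
  choose! ρ hρ using hroots
  let ev : MvPolynomial (Idx A) A →+* C := MvPolynomial.eval₂Hom f ρ
  have h2 : ev (MvPolynomial.C a) = 0 := by
    rw [← hc, Finsupp.sum, map_sum]
    apply Finset.sum_eq_zero
    intro P hP
    rw [map_mul]
    have h3 : ev (Polynomial.aeval (MvPolynomial.X (R := A) P) P.1) = 0 := by
      rw [Polynomial.aeval_def, Polynomial.hom_eval₂]
      have h4 : ev.comp (algebraMap A (MvPolynomial (Idx A) A)) = f := by
        ext x
        simp [ev, MvPolynomial.algebraMap_eq]
      rw [h4]
      have h5 : ev (MvPolynomial.X P) = ρ P := by simp [ev]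
      rw [h5]
      exact hρ P hP
    rw [h3, mul_zero]
  have h6 : ev (MvPolynomial.C a) = f a := by simp [ev]
  rw [h6] at h2
  exact hf (by rw [h2, map_zero])

end Groth.Agent.Lib.Helper12.AdjoinAllRoots
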