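import Mathlib
import Groth.Agent.Lib.Helper12.AdjoinAllRootsA
import Groth.Agent.Lib.Helper12.AdjoinAllRootsC

/-! Every ring embeds into an absolutely integrally closed ring. -/

namespace Groth.Agent.Lib.Helper12.AbsIntClosed

open Polynomial CategoryTheory
open Groth.Agent.Lib.Helper12.AdjoinAllRoots

universe u

/-- If every monic polynomial of positive degree has a root, then every monic polynomial
splits into linear factors. -/
theorem splits_of_roots {B : Type u} [CommRing B]
    (hroot : ∀ f : B[X], f.Monic → 0 < f.natDegree → ∃ b : B, f.IsRoot b) :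
    ∀ f : B[X], f.Monic → ∃ s : Multiset B, f = (s.map fun b => X - C b).prod := by
  rcases subsingleton_or_nontrivial B with hB | hB
  · intro f _
    exact ⟨0, Subsingleton.elim _ _⟩
  · intro f hf
    induction hn : f.natDegree generalizing f with
    | zero =>
      refine ⟨0, ?_⟩
      rw [Multiset.map_zero, Multiset.prod_zero]
      exact Polynomial.eq_one_of_monic_natDegree_zero hf hn
    | succ n ih =>
      obtain ⟨b, hb⟩ := hroot f hf (by omega)
      have h1 : (X - C b) * (f /ₘ (X - C b)) = f := Polynomial.mul_divByMonic_eq_iff_isRoot.2 hb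
      have hQ : (f /ₘ (X - C b)).Monic := by
        apply Polynomial.Monic.of_mul_monic_left (Polynomial.monic_X_sub_C b)
        rw [h1]
        exact hf
      have hdeg : (f /ₘ (X - C b)).natDegree = n := by
        rw [Polynomial.natDegree_divByMonic f (Polynomial.monic_X_sub_C b),
          Polynomial.natDegree_X_sub_C, hn]
        omega
      obtain ⟨s, hs⟩ := ih _ hQ hdeg
      refine ⟨b ::ₘ s, ?_⟩
      rw [Multiset.map_cons, Multiset.prod_cons, ← hs, h1]

variable (A : Type u) [CommRing A]

/-- The tower `A → T A → T (T A) → ⋯`. -/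
noncomputable def Aseq : ℕ → CommRingCat.{u} :=
  Nat.rec (CommRingCat.of A) (fun _ R => CommRingCat.of (T R))

/-- The transition maps. -/
noncomputable def φ (k : ℕ) : Aseq A k ⟶ Aseq A (k + 1) :=
  CommRingCat.ofHom (algebraMap (Aseq A k) (T (Aseq A k)))

/-- The tower as a functor. -/
noncomputable def F : ℕ ⥤ CommRingCat.{u} := Functor.ofSequence (φ A)

/-- The objects of the tower. -/
abbrev G (k : ℕ) : Type u := Aseq A k

/-- The transition maps of the tower. -/
noncomputable def tr (i j : ℕ) (h : i ≤ j) : G A i →+* G A j := ((F A).map (homOfLE h)).hom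

instance : DirectedSystem (G A) (fun i j h => tr A i j h) where
  map_self i x := by
    show ((F A).map (homOfLE (le_refl i))).hom x = x
    have : homOfLE (le_refl i) = 𝟙 i := rfl
    rw [this, (F A).map_id]
    rfl
  map_map k j i hij hjk x := by
    show ((F A).map (homOfLE hjk)).hom (((F A).map (homOfLE hij)).hom x) =
      ((F A).map (homOfLE (hij.trans hjk))).hom x
    have : homOfLE (hij.trans hjk) = homOfLE hij ≫ homOfLE hjk := rfl
    rw [this, (F A).map_comp]
    rfl

theorem tr_succ (i : ℕ) :
    tr A i (i + 1) (Nat.le_add_right i 1) = algebraMap (Aseq A i) (T (Aseq A i)) := by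
  show ((F A).map (homOfLE (Nat.le_add_right i 1))).hom = _
  have : (F A).map (homOfLE (Nat.le_add_right i 1)) = φ A i :=
    Functor.ofSequence_map_homOfLE_succ (φ A) i
  rw [this]
  rfl

/-- The root of `P` in the next stage. -/
noncomputable def rootG (i : ℕ) (P : Idx (Aseq A i)) : G A (i + 1) := root (Aseq A i) P

theorem eval₂_rootG (i : ℕ) (P : Idx (Aseq A i)) :
    Polynomial.eval₂ (tr A i (i + 1) (Nat.le_add_right i 1)) (rootG A i P) P.1 = 0 := by
  have h := aeval_root (Aseq A i) P
  rw [Polynomial.aeval_def] at h
  rw [tr_succ]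
  exact h

theorem tr_injective (i j : ℕ) (h : i ≤ j) : Function.Injective (tr A i j h) := by
  induction j, h using Nat.le_induction with
  | base =>
    intro x y hxy
    have h1 := DirectedSystem.map_self (f := fun i j h => tr A i j h) x
    have h2 := DirectedSystem.map_self (f := fun i j h => tr A i j h) y
    rw [← h1, ← h2]
    exact hxy
  | succ j hij ih =>
    intro x y hxy
    have h1 := DirectedSystem.map_map (f := fun i j h => tr A i j h) hij (Nat.le_add_right j 1) x
    have h2 := DirectedSystem.map_map (f := fun i j h => tr A i j h) hij (Nat.le_add_right j 1) y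
    apply ih
    have h3 : Function.Injective (tr A j (j + 1) (Nat.le_add_right j 1)) := by
      rw [tr_succ]
      exact algebraMap_injective _
    apply h3
    rw [h1, h2]
    exact hxy

/-- The union of the tower. -/
abbrev B : Type u := Ring.DirectLimit (G A) (fun i j h => tr A i j h)

/-- The structure map `A → B`. -/
noncomputable def ι : A →+* B A := Ring.DirectLimit.of (G A) (fun i j h => tr A i j h) 0

theorem ι_injective : Function.Injective (ι A) :=
  Ring.DirectLimit.of_injective (fun i j h => tr A i j h) (fun i j h => tr_injective A i j h) 0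

theorem exists_root (f : (B A)[X]) (hf : f.Monic) (hpos : 0 < f.natDegree) :
    ∃ b : B A, f.IsRoot b := by
  obtain ⟨i, p, hp⟩ := Ring.DirectLimit.Polynomial.exists_of (f' := fun i j h => tr A i j h) f
  obtain ⟨q, hq, hqdeg, hqm⟩ := Polynomial.lifts_and_natDegree_eq_and_monic
    ((Polynomial.mem_lifts _).2 ⟨p, hp⟩) hf
  let P : Idx (Aseq A i) := ⟨q, hqm, by rw [hqdeg]; exact hpos⟩
  let r : G A (i + 1) := rootG A i P
  refine ⟨Ring.DirectLimit.of (G A) (fun i j h => tr A i j h) (i + 1) r, ?_⟩
  rw [Polynomial.IsRoot.def, ← hq, Polynomial.eval_map]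
  have h1 : Ring.DirectLimit.of (G A) (fun i j h => tr A i j h) i =
      (Ring.DirectLimit.of (G A) (fun i j h => tr A i j h) (i + 1)).comp
        (tr A i (i + 1) (Nat.le_add_right i 1)) := by
    ext x
    rw [RingHom.comp_apply]
    exact (Ring.DirectLimit.of_f (f := fun i j h => tr A i j h) (Nat.le_add_right i 1) x).symm
  have h2 : Polynomial.eval₂ (tr A i (i + 1) (Nat.le_add_right i 1)) r q = 0 :=
    eval₂_rootG A i P
  rw [h1, ← Polynomial.hom_eval₂, h2, map_zero]

theorem main :
    ∃ (B : Type u) (_ : CommRing B) (_ : Algebra A B), Function.Injective (algebraMap A B) ∧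
      ∀ f : B[X], f.Monic → ∃ s : Multiset B, f = (s.map fun b => X - C b).prod :=
  ⟨B A, inferInstance, (ι A).toAlgebra, ι_injective A,
    splits_of_roots (fun f hf hpos => exists_root A f hf hpos)⟩

end Groth.Agent.Lib.Helper12.AbsIntClosed
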