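import Mathlib
import Groth.Agent.Lib.Helper12.AdjoinAllRootsA

/-! Residue fields of `T = A[X_P]/(P(X_P))` are algebraic closures of the residue fields of `A`. -/

namespace Groth.Agent.Lib.Helper12.AdjoinAllRoots

open Polynomial

universe u

theorem residueField_of_roots {A B : Type u} [CommRing A] [CommRing B] [Algebra A B]
    [Algebra.IsIntegral A B]
    (hroots : ∀ P : A[X], P.Monic → 0 < P.natDegree → ∃ t : B, Polynomial.aeval t P = 0)
    (Q : Ideal B) [Q.IsPrime] :
    IsAlgClosed Q.ResidueField ∧
      (Ideal.ResidueField.map (Q.comap (algebraMap A B)) Q (algebraMap A B)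
        rfl).IsIntegral := by
  classical
  obtain ⟨p, hp⟩ : ∃ p : Ideal A, p = Q.comap (algebraMap A B) := ⟨_, rfl⟩
  subst hp
  set p := Q.comap (algebraMap A B) with hpdef
  let f := Ideal.ResidueField.map p Q (algebraMap A B) rfl
  letI : Algebra p.ResidueField Q.ResidueField := f.toAlgebra
  have hfa : ∀ a : A, algebraMap p.ResidueField Q.ResidueField (algebraMap A p.ResidueField a) =
      algebraMap A Q.ResidueField a := by
    intro a
    show f (algebraMap A p.ResidueField a) = _
    rw [Ideal.ResidueField.map_algebraMap]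
    exact (IsScalarTower.algebraMap_apply A B Q.ResidueField a).symm
  haveI : IsScalarTower A p.ResidueField Q.ResidueField :=
    IsScalarTower.of_algebraMap_eq (fun a => (hfa a).symm)
  have hint : Algebra.IsIntegral p.ResidueField Q.ResidueField := by
    refine ⟨fun x => ?_⟩
    obtain ⟨a, b, hb, rfl⟩ := @IsFractionRing.div_surjective (B ⧸ Q) _ Q.ResidueField _ _ _ x
    have key : ∀ c : B ⧸ Q,
        IsIntegral p.ResidueField (algebraMap (B ⧸ Q) Q.ResidueField c) := by
      intro c
      obtain ⟨t, rfl⟩ := Ideal.Quotient.mk_surjective c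
      have h1 : IsIntegral A t := Algebra.IsIntegral.isIntegral t
      have h2 : IsIntegral A (algebraMap B Q.ResidueField t) := h1.algebraMap
      exact h2.tower_top
    rw [div_eq_mul_inv]
    exact (key a).mul (key b).inv
  refine ⟨?_, ?_⟩
  · haveI : Algebra.IsAlgebraic p.ResidueField Q.ResidueField := inferInstance
    have hroot : ∀ g : p.ResidueField[X], g.Monic → Irreducible g →
        ∃ x : Q.ResidueField, aeval x g = 0 := by
      intro g hg hirr
      have hdeg : 1 ≤ g.natDegree := hirr.natDegree_pos
      have hinj : Function.Injective (algebraMap (A ⧸ p) p.ResidueField) :=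
        IsFractionRing.injective _ _
      obtain ⟨b, hbM, hb⟩ := IsLocalization.integerNormalization_spec (nonZeroDivisors (A ⧸ p)) g
      obtain ⟨q, hq⟩ : ∃ q, q = IsLocalization.integerNormalization (nonZeroDivisors (A ⧸ p)) g :=
        ⟨_, rfl⟩
      rw [← hq] at hb
      have hb0 : algebraMap (A ⧸ p) p.ResidueField b ≠ 0 := by
        intro h
        have hb1 : b = 0 := hinj (by rw [h, map_zero])
        exact nonZeroDivisors.ne_zero hbM hb1
      have hqmap : q.map (algebraMap (A ⧸ p) p.ResidueField) =
          C (algebraMap (A ⧸ p) p.ResidueField b) * g := by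
        rw [hb, Algebra.smul_def, Polynomial.algebraMap_apply]
      have hqdeg : q.natDegree = g.natDegree := by
        rw [← Polynomial.natDegree_map_eq_of_injective hinj q, hqmap,
          Polynomial.natDegree_C_mul hb0]
      have hq0 : q ≠ 0 := by
        intro h
        rw [h, Polynomial.natDegree_zero] at hqdeg
        omega
      obtain ⟨h, hh⟩ : ∃ h, h = q.integralNormalization := ⟨_, rfl⟩
      have hmonic : h.Monic := hh ▸ Polynomial.monic_integralNormalization hq0
      have hhdeg : h.natDegree = q.natDegree := hh ▸ Polynomial.natDegree_integralNormalization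
      have hlift : h ∈ Polynomial.lifts (Ideal.Quotient.mk p) := by
        rw [Polynomial.mem_lifts]
        exact Polynomial.map_surjective _ Ideal.Quotient.mk_surjective h
      obtain ⟨P, hPmap, hPdeg, hPmonic⟩ :=
        Polynomial.lifts_and_natDegree_eq_and_monic hlift hmonic
      obtain ⟨t₀, ht₀⟩ := hroots P hPmonic (by omega)
      obtain ⟨y₀, hy₀⟩ : ∃ y₀, y₀ = algebraMap B Q.ResidueField t₀ := ⟨_, rfl⟩
      have hy : Polynomial.eval₂ (algebraMap A Q.ResidueField) y₀ P = 0 := by
        rw [← Polynomial.aeval_def, hy₀, Polynomial.aeval_algebraMap_apply, ht₀, map_zero]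
      let ψ : A ⧸ p →+* Q.ResidueField :=
        (algebraMap p.ResidueField Q.ResidueField).comp (algebraMap (A ⧸ p) p.ResidueField)
      have hψ : algebraMap A Q.ResidueField = ψ.comp (Ideal.Quotient.mk p) := by
        ext a
        show _ = algebraMap p.ResidueField Q.ResidueField
          (algebraMap (A ⧸ p) p.ResidueField (Ideal.Quotient.mk p a))
        rw [← hfa a]
        congr 1
      have hy2 : Polynomial.eval₂ ψ y₀ h = 0 := by
        rw [← hPmap, Polynomial.eval₂_map, ← hψ]
        exact hy
      have hψinj : Function.Injective ψ :=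
        (algebraMap p.ResidueField Q.ResidueField).injective.comp hinj
      have hc0 : ψ q.leadingCoeff ≠ 0 := by
        intro h0
        have : q.leadingCoeff = 0 := hψinj (by rw [h0, map_zero])
        exact hq0 (Polynomial.leadingCoeff_eq_zero.1 this)
      obtain ⟨x₀, hx₀⟩ : ∃ x₀, x₀ = (ψ q.leadingCoeff)⁻¹ * y₀ := ⟨_, rfl⟩
      have hyx : y₀ = ψ q.leadingCoeff * x₀ := by
        rw [hx₀, ← mul_assoc, mul_inv_cancel₀ hc0, one_mul]
      have h3 := Polynomial.integralNormalization_eval₂_leadingCoeff_mul (p := q)
        (by omega : 1 ≤ q.natDegree) ψ x₀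
      rw [← hyx, ← hh, hy2] at h3
      have h4 : Polynomial.eval₂ ψ x₀ q = 0 := by
        rcases mul_eq_zero.1 h3.symm with h5 | h5
        · exact absurd h5 (pow_ne_zero _ hc0)
        · exact h5
      have h5 : Polynomial.eval₂ (algebraMap p.ResidueField Q.ResidueField) x₀
          (q.map (algebraMap (A ⧸ p) p.ResidueField)) = 0 := by
        rw [Polynomial.eval₂_map]
        exact h4
      rw [hqmap, Polynomial.eval₂_mul, Polynomial.eval₂_C] at h5
      refine ⟨x₀, ?_⟩
      rw [Polynomial.aeval_def]
      rcases mul_eq_zero.1 h5 with h6 | h6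
      · exfalso
        exact hb0 ((map_eq_zero_iff _ (algebraMap p.ResidueField Q.ResidueField).injective).1 h6)
      · exact h6
    exact (IsAlgClosure.of_exists_root hroot).isAlgClosed
  · intro x
    exact hint.isIntegral x

theorem residueField (A : Type u) [CommRing A] (Q : Ideal (T A)) [Q.IsPrime] :
    IsAlgClosed Q.ResidueField ∧
      (Ideal.ResidueField.map (Q.comap (algebraMap A (T A))) Q (algebraMap A (T A))
        rfl).IsIntegral :=
  residueField_of_roots (fun P h1 h2 => ⟨root A ⟨P, h1, h2⟩, aeval_root A ⟨P, h1, h2⟩⟩) Q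

end Groth.Agent.Lib.Helper12.AdjoinAllRoots
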