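import Mathlib
import Groth.Agent.Lib.Helper12.AdjoinAllRootsB
import Groth.Agent.Lib.Helper9.UnivHomeoRing

/-! An affine quasi-compact surjective cover of a qcqs scheme with algebraically closed residue
fields, algebraic over the residue fields of the base. -/

namespace Groth.Agent.Lib.Helper12.AlgClosedCover

open CategoryTheory AlgebraicGeometry Limits
open Groth.Agent.Lib.Helper12.AdjoinAllRoots

universe u

theorem exists_finite_affine_cover (X : Scheme.{u}) [CompactSpace X] :
    ∃ (ι : Type u) (_ : Finite ι) (R : ι → CommRingCat.{u}) (g : ∀ i, Spec (R i) ⟶ X),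
      (∀ i, IsOpenImmersion (g i)) ∧ ∀ x : X, ∃ i, ∃ y : Spec (R i), g i y = x := by
  let 𝒰 := X.affineCover.finiteSubcover
  have : ∀ i, IsAffine (𝒰.X i) := fun i => by
    dsimp [𝒰]
    infer_instance
  refine ⟨𝒰.I₀, inferInstance, fun i => Γ(𝒰.X i, ⊤), fun i => (𝒰.X i).isoSpec.inv ≫ 𝒰.f i,
    fun i => inferInstance, fun x => ?_⟩
  obtain ⟨i, y, rfl⟩ := 𝒰.exists_eq x
  refine ⟨i, (𝒰.X i).isoSpec.hom y, ?_⟩
  rw [← Scheme.Hom.comp_apply, Iso.hom_inv_id_assoc]

/-- Integral ring homs in `CommRingCat`. -/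
def Int' {A B : CommRingCat.{u}} (h : A ⟶ B) : Prop := h.hom.IsIntegral

theorem int'_of_isIso {A B : CommRingCat.{u}} (h : A ⟶ B) [IsIso h] : Int' h := by
  apply RingHom.isIntegral_of_surjective
  exact ((ConcreteCategory.isIso_iff_bijective h).1 inferInstance).2

theorem int'_comp {A B C : CommRingCat.{u}} (h : A ⟶ B) (k : B ⟶ C) (hh : Int' h) (hk : Int' k) :
    Int' (h ≫ k) := by
  unfold Int' at *
  rw [CommRingCat.hom_comp]
  exact RingHom.IsIntegral.trans _ _ hh hk

theorem int'_of_comp_iso {A B C : CommRingCat.{u}} (h : A ⟶ B) (k : B ⟶ C) [IsIso k]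
    (hhk : Int' (h ≫ k)) : Int' h := by
  have : h = (h ≫ k) ≫ inv k := by simp
  rw [this]
  exact int'_comp _ _ hhk (int'_of_isIso _)

/-- The residue field maps of `Spec T(R) → Spec R`. -/
theorem spec_T (R : CommRingCat.{u}) (z : Spec (CommRingCat.of (T R))) :
    IsAlgClosed ((Spec (CommRingCat.of (T R))).residueField z) ∧
      Int' ((Spec.map (CommRingCat.ofHom (algebraMap R (T R)))).residueFieldMap z) := by
  obtain ⟨h1, h2⟩ := residueField R z.asIdeal
  constructor
  · exact IsAlgClosed.of_ringEquiv _ _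
      (Scheme.Spec.residueFieldIso (CommRingCat.of (T R)) z).symm.commRingCatIsoToRingEquiv
  · have h3 := Groth.Agent.Lib.Helper9.UnivHomeoRing.residueFieldMap_SpecMap
      (CommRingCat.ofHom (algebraMap R (T R))) z
    have h4 : Int' (CommRingCat.ofHom (Ideal.ResidueField.map
        (PrimeSpectrum.comap (CommRingCat.ofHom (algebraMap R (T R))).hom z).asIdeal z.asIdeal
        (CommRingCat.ofHom (algebraMap R (T R))).hom rfl)) := h2
    rw [← h3] at h4
    have h5 : (Spec.map (CommRingCat.ofHom (algebraMap R (T R)))).residueFieldMap z =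
        (Scheme.Spec.residueFieldIso R _).hom ≫
          ((Scheme.Spec.residueFieldIso R _).inv ≫
            (Spec.map (CommRingCat.ofHom (algebraMap R (T R)))).residueFieldMap z ≫
            (Scheme.Spec.residueFieldIso (CommRingCat.of (T R)) z).hom) ≫
          (Scheme.Spec.residueFieldIso (CommRingCat.of (T R)) z).inv := by
      simp
    rw [h5]
    exact int'_comp _ _ (int'_of_isIso _) (int'_comp _ _ h4 (int'_of_isIso _))

theorem main (X : Scheme.{u}) [CompactSpace X] [QuasiSeparatedSpace X] :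
    ∃ (X' : Scheme.{u}) (f : X' ⟶ X), IsAffine X' ∧ QuasiCompact f ∧ Surjective f ∧
      ∀ x' : X', IsAlgClosed (X'.residueField x') ∧ (f.residueFieldMap x').hom.IsIntegral := by
  obtain ⟨ι, hfin, R, g, hg, hcov⟩ := exists_finite_affine_cover X
  let Y : ι → Scheme.{u} := fun i => Spec (CommRingCat.of (T (R i)))
  let φ : ∀ i, Y i ⟶ Spec (R i) := fun i => Spec.map (CommRingCat.ofHom (algebraMap (R i) (T (R i))))
  let f : ∐ Y ⟶ X := Sigma.desc (fun i => φ i ≫ g i)
  have hf : ∀ i, Sigma.ι Y i ≫ f = φ i ≫ g i := fun i => Sigma.ι_desc _ _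
  refine ⟨∐ Y, f, inferInstance, inferInstance, ⟨fun x => ?_⟩, fun x' => ?_⟩
  · obtain ⟨i, y, rfl⟩ := hcov x
    obtain ⟨z, hz⟩ := comap_surjective (R i) y
    refine ⟨Sigma.ι Y i z, ?_⟩
    rw [← Scheme.Hom.comp_apply, hf i, Scheme.Hom.comp_apply]
    congr 1
  · obtain ⟨i, z, rfl⟩ := (sigmaOpenCover Y).exists_eq x'
    have hι : (sigmaOpenCover Y).f i = Sigma.ι Y i := rfl
    rw [hι]
    obtain ⟨h1, h2⟩ := spec_T (R i) z
    constructor
    · exact IsAlgClosed.of_ringEquiv _ _
        (asIso ((Sigma.ι Y i).residueFieldMap z)).symm.commRingCatIsoToRingEquiv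
    · show Int' (f.residueFieldMap (Sigma.ι Y i z))
      apply int'_of_comp_iso _ ((Sigma.ι Y i).residueFieldMap z)
      rw [← Scheme.residueFieldMap_comp, Scheme.Hom.residueFieldMap_congr (hf i),
        Scheme.residueFieldMap_comp]
      haveI := hg i
      have e1 : Int' ((g i).residueFieldMap ((φ i) z)) := int'_of_isIso _
      exact int'_comp _ _ (int'_of_isIso _) (int'_comp _ _ e1 h2)

end Groth.Agent.Lib.Helper12.AlgClosedCover
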