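import Mathlib
import Groth.Agent.Lib.Helper12.ZarA

/-!
# A Noetherian local ring whose maximal ideal is generated by a non-zero-divisor is a DVR
-/

set_option autoImplicit false

namespace Groth.Agent.Lib.Helper12.AnUnDvr

open IsLocalRing

theorem isDiscreteValuationRing_of_maximalIdeal_eq_span {W : Type*} [CommRing W]
    [IsNoetherianRing W] [IsLocalRing W] (ϖ : W) (hmax : maximalIdeal W = Ideal.span {ϖ})
    (hreg : ∀ w : W, ϖ * w = 0 → w = 0) :
    ∃ (_ : IsDomain W), IsDiscreteValuationRing W := by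
  have hϖ0 : ϖ ≠ 0 := by
    intro h0
    have := hreg 1 (by rw [h0, zero_mul])
    exact one_ne_zero this
  have hregpow : ∀ (n : ℕ) (w : W), ϖ ^ n * w = 0 → w = 0 := by
    intro n
    induction n with
    | zero => intro w hw; simpa using hw
    | succ n ih =>
      intro w hw
      apply ih
      apply hreg
      rw [← mul_assoc, ← pow_succ']
      exact hw
  -- factorisation
  have hfact : ∀ w : W, w ≠ 0 → ∃ (n : ℕ) (u : W), IsUnit u ∧ w = ϖ ^ n * u := by
    intro w hw
    have hne : Ideal.span {ϖ} ≠ ⊤ := by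
      rw [← hmax]; exact (maximalIdeal.isMaximal W).ne_top
    have hkrull := Ideal.iInf_pow_eq_bot_of_isLocalRing (Ideal.span {ϖ}) hne
    have hex : ∃ n : ℕ, w ∉ Ideal.span {ϖ} ^ n := by
      by_contra hcon
      push_neg at hcon
      have : w ∈ ⨅ n : ℕ, Ideal.span {ϖ} ^ n := by
        rw [Ideal.mem_iInf]; exact hcon
      rw [hkrull] at this
      exact hw this
    classical
    let n := Nat.find hex
    have hn : w ∉ Ideal.span {ϖ} ^ n := Nat.find_spec hex
    have hn0 : n ≠ 0 := by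
      intro h0
      rw [h0, pow_zero, Ideal.one_eq_top] at hn
      exact hn trivial
    obtain ⟨m, hm⟩ := Nat.exists_eq_succ_of_ne_zero hn0
    have hm' : w ∈ Ideal.span {ϖ} ^ m := by
      by_contra hcon
      have := Nat.find_min' hex hcon
      omega
    rw [Ideal.span_singleton_pow, Ideal.mem_span_singleton'] at hm'
    obtain ⟨u, hu⟩ := hm'
    refine ⟨m, u, ?_, by rw [← hu, mul_comm]⟩
    by_contra hnu
    have humax : u ∈ maximalIdeal W := hnu
    rw [hmax, Ideal.mem_span_singleton'] at humax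
    obtain ⟨v, hv⟩ := humax
    apply hn
    rw [hm, Ideal.span_singleton_pow, Ideal.mem_span_singleton']
    exact ⟨v, by rw [← hu, ← hv, pow_succ]; ring⟩
  haveI : NoZeroDivisors W := by
    refine ⟨fun {a b} hab => ?_⟩
    by_contra hcon
    push_neg at hcon
    obtain ⟨n₁, u₁, hu₁, rfl⟩ := hfact a hcon.1
    obtain ⟨n₂, u₂, hu₂, rfl⟩ := hfact b hcon.2
    have h1 : ϖ ^ (n₁ + n₂) * (u₁ * u₂) = 0 := by
      rw [pow_add]; rw [← hab]; ring
    have h2 := hregpow _ _ h1
    exact (hu₁.mul hu₂).ne_zero h2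
  haveI hdom : IsDomain W := NoZeroDivisors.to_isDomain W
  refine ⟨hdom, ?_⟩
  have hnf : ¬ IsField W := by
    rw [IsLocalRing.isField_iff_maximalIdeal_eq, hmax, Ideal.span_singleton_eq_bot]
    exact hϖ0
  refine ((IsDiscreteValuationRing.TFAE W hnf).out 0 4).mpr ?_
  rw [hmax]
  exact ⟨⟨ϖ, rfl⟩⟩

end Groth.Agent.Lib.Helper12.AnUnDvr
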