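import Mathlib
import Groth.Agent.Lib.Helper12.AnUnDvrA
import Groth.Agent.Lib.Helper12.AnUnramD

/-!
# Analytically unramified primes: localisations of the completion at associated primes are DVRs
-/

set_option autoImplicit false

namespace Groth.Agent.Lib.Helper12.AnUnDvr

open IsLocalRing

universe u

theorem main (R : Type u) [CommRing R] [IsLocalRing R] [IsNoetherianRing R] (p : Ideal R)
    [p.IsPrime] [IsDomain (Localization.AtPrime p)]
    [IsDiscreteValuationRing (Localization.AtPrime p)]
    (hp : IsReduced (AdicCompletion (maximalIdeal R) R ⧸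
      p.map (algebraMap R (AdicCompletion (maximalIdeal R) R))))
    (q : Ideal (AdicCompletion (maximalIdeal R) R)) [q.IsPrime]
    (hq : q ∈ associatedPrimes (AdicCompletion (maximalIdeal R) R)
      (AdicCompletion (maximalIdeal R) R ⧸
        p.map (algebraMap R (AdicCompletion (maximalIdeal R) R)))) :
    ∃ _ : IsDomain (Localization.AtPrime q), IsDiscreteValuationRing (Localization.AtPrime q) := by
  set Rh := AdicCompletion (maximalIdeal R) R with hRh
  haveI : IsNoetherianRing Rh := AnUnram.isNoetherianRing_cpl R
  haveI hff : Module.FaithfullyFlat R Rh := AnUnram.faithfullyFlat_cpl R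
  set I : Ideal Rh := p.map (algebraMap R Rh) with hI
  have hIrad : I.IsRadical := (Ideal.isRadical_iff_quotient_reduced I).mpr hp
  -- Step 1
  obtain ⟨-, ybar, hqy⟩ := (isAssociatedPrime_iff.mp hq)
  obtain ⟨y, rfl⟩ := Ideal.Quotient.mk_surjective ybar
  have hmem : ∀ a : Rh, a ∈ q ↔ a * y ∈ I := by
    intro a
    rw [hqy, Submodule.mem_colon_singleton, Submodule.mem_bot]
    have : a • (Ideal.Quotient.mk I y) = Ideal.Quotient.mk I (a * y) := rfl
    rw [this, Ideal.Quotient.eq_zero_iff_mem]
  have hyI : y ∉ I := by
    intro hy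
    have : (1 : Rh) ∈ q := (hmem 1).mpr (by rw [one_mul]; exact hy)
    exact (Ideal.IsPrime.ne_top inferInstance) ((Ideal.eq_top_iff_one q).mpr this)
  have hyq : y ∉ q := by
    intro hy
    have h1 : y * y ∈ I := (hmem y).mp hy
    exact hyI (hIrad ⟨2, by rw [pow_two]; exact h1⟩)
  have hIq : I ≤ q := by
    intro a ha
    exact (hmem a).mpr (Ideal.mul_mem_right _ _ ha)
  -- Step 2
  have hcomap : p = q.comap (algebraMap R Rh) := by
    apply le_antisymm
    · intro r hr
      exact hIq (Ideal.mem_map_of_mem _ hr)
    · intro r hr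
      by_contra hrp
      have h1 : algebraMap R Rh r * y ∈ I := (hmem _).mp hr
      have h2 : r • y ∈ p.map (algebraMap R Rh) := by rw [Algebra.smul_def]; exact h1
      have h3 := Zar.mem_map_of_smul_mem_map p r
        (fun x hx => (Ideal.IsPrime.mem_or_mem inferInstance hx).resolve_left hrp) y h2
      exact hyI h3
  -- Step 3
  let V := Localization.AtPrime p
  let W := Localization.AtPrime q
  let ψ : V →+* W := Localization.localRingHom p q (algebraMap R Rh) hcomap
  have hψflat : ψ.Flat :=
    RingHom.Flat.localRingHom (RingHom.flat_algebraMap_iff.mpr inferInstance) q p hcomap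
  haveI : IsNoetherianRing W := IsLocalization.isNoetherianRing q.primeCompl W inferInstance
  obtain ⟨π, hπ⟩ := IsDiscreteValuationRing.exists_irreducible V
  have hπ0 : π ≠ 0 := hπ.ne_zero
  have hmaxV : maximalIdeal V = Ideal.span {π} := hπ.maximalIdeal_eq
  have hyunit : IsUnit (algebraMap Rh W y) :=
    IsLocalization.map_units W (⟨y, hyq⟩ : q.primeCompl)
  have hqI : q.map (algebraMap Rh W) = I.map (algebraMap Rh W) := by
    apply le_antisymm
    · rw [Ideal.map_le_iff_le_comap]
      intro a ha
      rw [Ideal.mem_comap]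
      have h1 : algebraMap Rh W (a * y) ∈ I.map (algebraMap Rh W) :=
        Ideal.mem_map_of_mem _ ((hmem a).mp ha)
      rw [map_mul] at h1
      exact (Ideal.mul_unit_mem_iff_mem _ hyunit).mp h1
    · exact Ideal.map_mono hIq
  have hmaxW : maximalIdeal W = Ideal.span {ψ π} := by
    rw [← Localization.AtPrime.map_eq_maximalIdeal (I := q), hqI, hI, Ideal.map_map]
    have h1 : (algebraMap Rh W).comp (algebraMap R Rh) = ψ.comp (algebraMap R V) := by
      ext x
      exact (Localization.localRingHom_to_map (I := p) q (algebraMap R Rh) hcomap x).symm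
    rw [h1, ← Ideal.map_map, Localization.AtPrime.map_eq_maximalIdeal, hmaxV, Ideal.map_span,
      Set.image_singleton]
  have hreg : ∀ w : W, ψ π * w = 0 → w = 0 := by
    letI : Algebra V W := ψ.toAlgebra
    haveI : Module.Flat V W := hψflat
    have h1 : IsSMulRegular W π :=
      Module.Flat.isSMulRegular_of_nonZeroDivisors (mem_nonZeroDivisors_of_ne_zero hπ0)
    intro w hw
    apply h1
    change π • w = π • (0 : W)
    rw [smul_zero, Algebra.smul_def]
    exact hw
  exact isDiscreteValuationRing_of_maximalIdeal_eq_span (ψ π) hmaxW hreg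

end Groth.Agent.Lib.Helper12.AnUnDvr
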