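import Mathlib
import Groth.Prelude.Def_Found
import Groth.Prelude.Def_EGA4b
import Groth.Agent.Lib.Helper12.AnUnramD

/-!
# Applications: N-2 from geometric reducedness of the generic formal fibre
-/

set_option autoImplicit false

namespace Groth.Agent.Lib.Helper12.AnUnram

open TensorProduct IsLocalRing

universe u

theorem isN2_of_geomReduced_fractionRing_completion {A R : Type u}
    [CommRing A] [IsDomain A] [IsLocalRing A] [IsNoetherianRing A]
    [CommRing R] [Algebra (AdicCompletion (maximalIdeal A) A) R]
    [IsFractionRing (AdicCompletion (maximalIdeal A) A) R] [Algebra A R]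
    [IsScalarTower A (AdicCompletion (maximalIdeal A) A) R]
    [Algebra (FractionRing A) R] [IsScalarTower A (FractionRing A) R]
    (h : Algebra.IsGeometricallyReduced (FractionRing A) R) : CAlg.IsN2 A := by
  haveI := faithfullyFlat_cpl A
  refine isN2_of_reduced_tensor A (AdicCompletion (maximalIdeal A) A) (isNagata_cpl A) ?_
  intro L _ _ _ _ hfin
  haveI := hfin
  exact isReduced_tensor_of_geomReduced A _ R (FractionRing A) L (IsFractionRing.injective _ _)

end Groth.Agent.Lib.Helper12.AnUnram
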