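import Mathlib
import Groth.Prelude.Def_Found
import Groth.Prelude.Def_EGA4b
import Groth.Agent.Lib.Helper12.AnUnramD

/-!
# A Noetherian local ring with geometrically reduced formal fibres is Nagata
-/

set_option autoImplicit false

namespace Groth.Agent.Lib.Helper12.AnUnram

open TensorProduct IsLocalRing

universe u

theorem isNagata_of_geomReducedFormalFibres (A : Type u) [CommRing A] [IsNoetherianRing A]
    [IsLocalRing A] (hA : EGA4.HasGeomReducedFormalFibres A) : CAlg.IsNagata A := by
  refine ⟨inferInstance, fun p hp => ?_⟩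
  haveI := faithfullyFlat_cpl A
  have hC : CAlg.IsNagata ((A ⧸ p) ⊗[A] EGA4.Cpl A) :=
    isNagata_of_surjective
      (Algebra.TensorProduct.includeRight : EGA4.Cpl A →ₐ[A] (A ⧸ p) ⊗[A] EGA4.Cpl A).toRingHom
      (Algebra.TensorProduct.includeRight_surjective _ Ideal.Quotient.mk_surjective)
      (isNagata_cpl A)
  refine isN2_of_reduced_tensor (A ⧸ p) ((A ⧸ p) ⊗[A] EGA4.Cpl A) hC ?_
  intro L _ _ _ _ hfin
  haveI := hfin
  letI : Algebra A L := ((algebraMap (A ⧸ p) L).comp (algebraMap A (A ⧸ p))).toAlgebra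
  haveI : IsScalarTower A (A ⧸ p) L := .of_algebraMap_eq fun _ => rfl
  let e : FractionRing (A ⧸ p) ≃ₐ[A ⧸ p] p.ResidueField :=
    FractionRing.algEquiv (A ⧸ p) p.ResidueField
  letI : Algebra p.ResidueField L :=
    ((algebraMap (FractionRing (A ⧸ p)) L).comp e.symm.toRingEquiv.toRingHom).toAlgebra
  haveI : IsScalarTower (A ⧸ p) p.ResidueField L := .of_algebraMap_eq fun d => by
    change algebraMap (A ⧸ p) L d =
      algebraMap (FractionRing (A ⧸ p)) L (e.symm (algebraMap (A ⧸ p) p.ResidueField d))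
    rw [e.symm.commutes, ← IsScalarTower.algebraMap_apply]
  haveI : IsScalarTower A p.ResidueField L := .of_algebraMap_eq fun a => by
    rw [IsScalarTower.algebraMap_apply A (A ⧸ p) L,
      IsScalarTower.algebraMap_apply (A ⧸ p) p.ResidueField L,
      ← IsScalarTower.algebraMap_apply A (A ⧸ p) p.ResidueField]
  haveI : Algebra.IsAlgebraic p.ResidueField L := by
    have h1 : Algebra.IsAlgebraic (FractionRing (A ⧸ p)) L := inferInstance
    have h2 : Algebra.IsAlgebraic (A ⧸ p) L :=
      (IsFractionRing.comap_isAlgebraic_iff (A := A ⧸ p) (K := FractionRing (A ⧸ p))).mpr h1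
    exact (IsFractionRing.comap_isAlgebraic_iff (A := A ⧸ p) (K := p.ResidueField)).mp h2
  haveI : Algebra.IsGeometricallyReduced p.ResidueField (p.ResidueField ⊗[A] EGA4.Cpl A) := hA p
  haveI : IsReduced (L ⊗[p.ResidueField] (p.ResidueField ⊗[A] EGA4.Cpl A)) := inferInstance
  let e1 := Algebra.TensorProduct.comm (A ⧸ p) ((A ⧸ p) ⊗[A] EGA4.Cpl A) L
  let e2 := Algebra.TensorProduct.cancelBaseChange A (A ⧸ p) (A ⧸ p) L (EGA4.Cpl A)
  let e3 := Algebra.TensorProduct.cancelBaseChange A p.ResidueField p.ResidueField L (EGA4.Cpl A)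
  exact isReduced_of_injective
    ((e3.symm.toRingEquiv.toRingHom.comp e2.toRingEquiv.toRingHom).comp e1.toRingEquiv.toRingHom)
    ((e3.symm.injective.comp e2.injective).comp e1.injective)

end Groth.Agent.Lib.Helper12.AnUnram
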