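import Mathlib
import Groth.Prelude.Def_Found
import Groth.Agent.Lib.Helper12.AnUnramD

/-!
# Analytically unramified local domains are N-1
-/

set_option autoImplicit false

namespace Groth.Agent.Lib.Helper12.AnUnram

open TensorProduct IsLocalRing

universe u

theorem isN1_of_isReduced_adicCompletion {R : Type u} [CommRing R] [IsDomain R] [IsLocalRing R]
    [IsNoetherianRing R] [IsReduced (AdicCompletion (maximalIdeal R) R)] : CAlg.IsN1 R := by
  haveI := faithfullyFlat_cpl R
  haveI : IsReduced (AdicCompletion (maximalIdeal R) R ⊗[R] FractionRing R) :=
    isReduced_localizationPreserves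
      (Algebra.algebraMapSubmonoid (AdicCompletion (maximalIdeal R) R) (nonZeroDivisors R)) _
      inferInstance
  exact finite_integralClosure_of_reduced_tensor R (AdicCompletion (maximalIdeal R) R)
    (FractionRing R) (FractionRing R) (isNagata_cpl R)

end Groth.Agent.Lib.Helper12.AnUnram
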