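import Mathlib
import Groth.Prelude.Def_Found
import Groth.Agent.Lib.Helper13.NagataFT

/-!
# Normalization of a reduced Nagata ring in its total ring of fractions is finite
-/

set_option autoImplicit false

namespace Groth.Agent.Lib.Helper12.AnUnram

universe u

theorem finite_integralClosure_fractionRing_of_isNagata (A : Type u) [CommRing A] [IsReduced A]
    (hA : CAlg.IsNagata A) : Module.Finite A (integralClosure A (FractionRing A)) := by
  classical
  haveI : IsNoetherianRing A := hA.1
  have hfinite : (minimalPrimes A).Finite := minimalPrimes.finite_of_isNoetherianRing A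
  haveI : Finite (minimalPrimes A) := hfinite
  haveI hprime : ∀ P : minimalPrimes A, P.1.IsPrime := fun P => P.2.1.1
  -- the maps `Q(A) → Frac (A/P)`
  have hunits : ∀ (P : minimalPrimes A) (y : nonZeroDivisors A),
      IsUnit ((Algebra.ofId A (FractionRing (A ⧸ P.1))) y) := by
    intro P y
    rw [isUnit_iff_ne_zero]
    change algebraMap A (FractionRing (A ⧸ P.1)) y ≠ 0
    rw [IsScalarTower.algebraMap_apply A (A ⧸ P.1) (FractionRing (A ⧸ P.1)), Ne,
      map_eq_zero_iff _ (IsFractionRing.injective _ _)]
    intro h0
    have hyP : (y : A) ∈ P.1 := Ideal.Quotient.eq_zero_iff_mem.mp h0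
    exact Set.disjoint_left.mp (Ideal.disjoint_nonZeroDivisors_of_mem_minimalPrimes P.2) hyP y.2
  let ψ : ∀ P : minimalPrimes A, FractionRing A →ₐ[A] FractionRing (A ⧸ P.1) := fun P =>
    IsLocalization.liftAlgHom (M := nonZeroDivisors A) (hunits P)
  have hψ : ∀ (P : minimalPrimes A) (a : A),
      ψ P (algebraMap A (FractionRing A) a) = algebraMap A (FractionRing (A ⧸ P.1)) a :=
    fun P a => (ψ P).commutes a
  -- each factor is finite
  have hfinP : ∀ P : minimalPrimes A,
      Module.Finite A (integralClosure A (FractionRing (A ⧸ P.1))) := by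
    intro P
    have h1 : Module.Finite (A ⧸ P.1) (integralClosure (A ⧸ P.1) (FractionRing (A ⧸ P.1))) :=
      hA.2 P.1 (FractionRing (A ⧸ P.1)) inferInstance
    exact Groth.Agent.Lib.Helper13.NagataFT.finite_integralClosure_of_surjective A (A ⧸ P.1) _
      Ideal.Quotient.mk_surjective h1
  let Ψ : integralClosure A (FractionRing A) →ₗ[A]
      (∀ P : minimalPrimes A, integralClosure A (FractionRing (A ⧸ P.1))) :=
    LinearMap.pi fun P =>
      LinearMap.codRestrict
        (Subalgebra.toSubmodule (integralClosure A (FractionRing (A ⧸ P.1))))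
        ((ψ P).toLinearMap.comp (Subalgebra.val _).toLinearMap) (fun x => x.2.map (ψ P))
  have hΨ : Function.Injective Ψ := by
    rw [← LinearMap.ker_eq_bot, LinearMap.ker_eq_bot']
    intro x hx
    apply Subtype.ext
    change (x : FractionRing A) = 0
    obtain ⟨⟨a, s⟩, has⟩ := IsLocalization.surj (nonZeroDivisors A) (x : FractionRing A)
    have ha : a = 0 := by
      have hmem : a ∈ sInf (minimalPrimes A) := by
        rw [Ideal.mem_sInf]
        intro P hP
        have h1 := congrArg Subtype.val (congrFun hx ⟨P, hP⟩)
        change ψ ⟨P, hP⟩ (x : FractionRing A) = 0 at h1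
        have h2 : ψ ⟨P, hP⟩ ((x : FractionRing A) * algebraMap A (FractionRing A) s) = 0 := by
          rw [map_mul, h1, zero_mul]
        rw [has, hψ, IsScalarTower.algebraMap_apply A (A ⧸ P) (FractionRing (A ⧸ P)),
          map_eq_zero_iff _ (IsFractionRing.injective _ _)] at h2
        exact Ideal.Quotient.eq_zero_iff_mem.mp h2
      rw [minimalPrimes, Ideal.sInf_minimalPrimes] at hmem
      have h2 : (⊥ : Ideal A).radical = ⊥ := by
        have := nilradical_eq_zero A
        rwa [nilradical, Ideal.zero_eq_bot] at this
      rw [h2] at hmem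
      exact hmem
    rw [ha, map_zero] at has
    exact (IsUnit.mul_left_eq_zero (IsLocalization.map_units _ s)).mp has
  haveI := hfinP
  haveI : Module.Finite A (∀ P : minimalPrimes A,
      integralClosure A (FractionRing (A ⧸ P.1))) := by
    haveI : Fintype (minimalPrimes A) := Fintype.ofFinite _
    exact Module.Finite.pi
  haveI : IsNoetherian A (∀ P : minimalPrimes A,
      integralClosure A (FractionRing (A ⧸ P.1))) :=
    isNoetherian_of_isNoetherianRing_of_finite A _
  exact Module.Finite.of_injective Ψ hΨ

end Groth.Agent.Lib.Helper12.AnUnram
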