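import Mathlib
import Groth.Prelude.Def_Found
import Groth.Prelude.Def_EGA4b
import Groth.Agent.Lib.helper19.RegularLocal
import Groth.Agent.Lib.Helper12.AnUnramF

/-!
# G-rings have Nagata local rings
-/

set_option autoImplicit false

namespace Groth.Agent.Lib.Helper12.QExc

open TensorProduct IsLocalRing

universe u

/-- A regular ring is reduced. -/
theorem isReduced_of_isRegularRing (R : Type*) [CommRing R] [IsRegularRing R] : IsReduced R := by
  apply isReduced_ofLocalizationMaximal
  intro J hJ
  haveI : IsRegularLocalRing (Localization.AtPrime J) := inferInstance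
  haveI : IsDomain (Localization.AtPrime J) :=
    Groth.Agent.Lib.helper19.isDomain_of_isRegularLocalRing _
  infer_instance

/-- every element of `k̄ ⊗ F` comes from `E ⊗ F` for a finite subextension `E` -/
theorem exists_finite_intermediateField (k F : Type u) [Field k] [CommRing F] [Algebra k F]
    (z : AlgebraicClosure k ⊗[k] F) :
    ∃ E : IntermediateField k (AlgebraicClosure k), FiniteDimensional k E ∧
      z ∈ (Algebra.TensorProduct.map E.val (AlgHom.id k F)).range := by
  induction z using TensorProduct.induction_on with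
  | zero => exact ⟨⊥, inferInstance, Subalgebra.zero_mem _⟩
  | tmul a x =>
    refine ⟨IntermediateField.adjoin k {a}, ?_, ?_⟩
    · exact IntermediateField.adjoin.finiteDimensional (Algebra.IsIntegral.isIntegral a)
    · exact ⟨(⟨a, IntermediateField.mem_adjoin_simple_self k a⟩ :
        IntermediateField.adjoin k {a}) ⊗ₜ x, rfl⟩
  | add z₁ z₂ h₁ h₂ =>
    obtain ⟨E₁, hE₁, ⟨w₁, hw₁⟩⟩ := h₁
    obtain ⟨E₂, hE₂, ⟨w₂, hw₂⟩⟩ := h₂
    refine ⟨E₁ ⊔ E₂, inferInstance, ?_⟩
    have key : ∀ (E E' : IntermediateField k (AlgebraicClosure k)) (h : E ≤ E'),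
        (Algebra.TensorProduct.map E.val (AlgHom.id k F)).range ≤
          (Algebra.TensorProduct.map E'.val (AlgHom.id k F)).range := by
      rintro E E' h _ ⟨w, rfl⟩
      refine ⟨Algebra.TensorProduct.map (IntermediateField.inclusion h) (AlgHom.id k F) w, ?_⟩
      have hcomp : (Algebra.TensorProduct.map E'.val (AlgHom.id k F)).comp
          (Algebra.TensorProduct.map (IntermediateField.inclusion h) (AlgHom.id k F)) =
          Algebra.TensorProduct.map E.val (AlgHom.id k F) :=
        Algebra.TensorProduct.ext' fun a b => rfl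
      exact DFunLike.congr_fun hcomp w
    refine Subalgebra.add_mem _ (key E₁ _ le_sup_left ⟨w₁, hw₁⟩) (key E₂ _ le_sup_right ⟨w₂, hw₂⟩)

/-- geometrically regular ⇒ geometrically reduced -/
theorem isGeometricallyReduced_of_isGeometricallyRegular (k F : Type u) [Field k] [CommRing F]
    [Algebra k F] (h : CAlg.IsGeometricallyRegular k F) : Algebra.IsGeometricallyReduced k F := by
  rw [Algebra.isGeometricallyReduced_field_iff]
  constructor
  intro z hz
  obtain ⟨E, hE, w, rfl⟩ := exists_finite_intermediateField k F z
  haveI : IsRegularRing (E ⊗[k] F) := h E hE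
  haveI : IsReduced (E ⊗[k] F) := isReduced_of_isRegularRing (E ⊗[k] F)
  have hinj : Function.Injective (Algebra.TensorProduct.map E.val (AlgHom.id k F)) := by
    have : Function.Injective (LinearMap.rTensor F E.val.toLinearMap) :=
      Module.Flat.rTensor_preserves_injective_linearMap _ Subtype.val_injective
    exact this
  have hw : IsNilpotent w := by
    obtain ⟨n, hn⟩ := hz
    refine ⟨n, hinj ?_⟩
    rw [map_pow, map_zero]
    exact hn
  rw [hw.eq_zero, map_zero]

/-- The local rings of a G-ring have geometrically reduced formal fibres. -/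
theorem hasGeomReducedFormalFibres_of_isGRing (A : Type u) [CommRing A] (hA : CAlg.IsGRing A)
    (𝔪 : Ideal A) [𝔪.IsPrime] :
    EGA4.HasGeomReducedFormalFibres (Localization.AtPrime 𝔪) := by
  intro p hp
  exact isGeometricallyReduced_of_isGeometricallyRegular _ _ ((hA.2 𝔪).2 p).2

/-- The local rings of a G-ring are Nagata. -/
theorem isNagata_localization_of_isGRing (A : Type u) [CommRing A] (hA : CAlg.IsGRing A)
    (𝔪 : Ideal A) [𝔪.IsPrime] : CAlg.IsNagata (Localization.AtPrime 𝔪) := by
  haveI := hA.1
  haveI : IsNoetherianRing (Localization.AtPrime 𝔪) :=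
    IsLocalization.isNoetherianRing 𝔪.primeCompl _ inferInstance
  exact AnUnram.isNagata_of_geomReducedFormalFibres _
    (hasGeomReducedFormalFibres_of_isGRing A hA 𝔪)

end Groth.Agent.Lib.Helper12.QExc
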