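import Mathlib
import Groth.Prelude.Def_Found
import Groth.Agent.Lib.Helper12.AnUnramD

/-!
# Finiteness of the integral closure from reducedness of `R ⊗ K'`, `R` the total fraction ring
of the completion
-/

set_option autoImplicit false

namespace Groth.Agent.Lib.Helper12.AnUnram

open TensorProduct IsLocalRing

universe u

theorem finite_integralClosure_of_isReduced_tensor_fractionRing_completion {A K' R : Type u}
    [CommRing A] [IsDomain A] [IsLocalRing A] [IsNoetherianRing A]
    [CommRing R] [Algebra (AdicCompletion (maximalIdeal A) A) R]
    [IsFractionRing (AdicCompletion (maximalIdeal A) A) R] [Algebra A R]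
    [IsScalarTower A (AdicCompletion (maximalIdeal A) A) R]
    [Field K'] [Algebra A K'] [Algebra (FractionRing A) K'] [IsScalarTower A (FractionRing A) K']
    [FiniteDimensional (FractionRing A) K'] (h : IsReduced (R ⊗[A] K')) :
    Module.Finite A (integralClosure A K') := by
  haveI := faithfullyFlat_cpl A
  haveI : Module.Flat A (FractionRing A) := IsLocalization.flat _ (nonZeroDivisors A)
  haveI : Module.Flat A K' := Module.Flat.trans A (FractionRing A) K'
  let f : AdicCompletion (maximalIdeal A) A ⊗[A] K' →ₐ[A] R ⊗[A] K' :=
    Algebra.TensorProduct.map
      (IsScalarTower.toAlgHom A (AdicCompletion (maximalIdeal A) A) R) (AlgHom.id A K')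
  have hf : Function.Injective f := by
    have : Function.Injective (LinearMap.rTensor K'
        (IsScalarTower.toAlgHom A (AdicCompletion (maximalIdeal A) A) R).toLinearMap) :=
      Module.Flat.rTensor_preserves_injective_linearMap _ (IsFractionRing.injective _ _)
    exact this
  haveI : IsReduced (AdicCompletion (maximalIdeal A) A ⊗[A] K') :=
    isReduced_of_injective f.toRingHom hf
  exact finite_integralClosure_of_reduced_tensor A (AdicCompletion (maximalIdeal A) A)
    (FractionRing A) K' (isNagata_cpl A)

end Groth.Agent.Lib.Helper12.AnUnram
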