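import Mathlib

set_option autoImplicit false
universe u

/-!
# Associated primes along a flat map with zero-dimensional fibres

For a flat map `R → S` of noetherian rings all of whose fibre rings `κ(p) ⊗ S` are
zero-dimensional, a prime `P` of `S` is associated to `S` iff `P ∩ R` is associated to `R`.
-/

namespace Groth.Agent.Lib.Helper12.AssFlat

open TensorProduct

variable (R S : Type u) [CommRing R] [CommRing S] [Algebra R S]

/-- Incomparability from zero-dimensional fibres. -/
theorem eq_of_le_of_comap_eq
    (hfib : ∀ (p : Ideal R) [p.IsPrime], Ring.KrullDimLE 0 (p.ResidueField ⊗[R] S))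
    (Q P : Ideal S) [Q.IsPrime] [P.IsPrime] (hle : Q ≤ P)
    (h : Q.comap (algebraMap R S) = P.comap (algebraMap R S)) : Q = P := by
  set p : Ideal R := P.comap (algebraMap R S) with hp
  haveI : p.IsPrime := Ideal.comap_isPrime _ _
  haveI := hfib p
  let e := PrimeSpectrum.primesOverOrderIsoFiber R S p
  let Q' : p.primesOver S := ⟨Q, ‹_›, ⟨h.symm⟩⟩
  let P' : p.primesOver S := ⟨P, ‹_›, ⟨rfl⟩⟩
  have hle' : Q' ≤ P' := hle
  have h1 : e Q' ≤ e P' := e.monotone hle'
  haveI : (e Q').asIdeal.IsMaximal := Ideal.isMaximal_of_isPrime _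
  have h2 : (e Q').asIdeal = (e P').asIdeal :=
    Ideal.IsMaximal.eq_of_le ‹_› (e P').2.ne_top h1
  have h3 : e Q' = e P' := PrimeSpectrum.ext h2
  exact congrArg Subtype.val (e.injective h3)

variable {R S}

/-- For a flat algebra, the annihilator of the image of `x` is the extension of the
annihilator of `x`. -/
theorem mem_map_of_mul_eq_zero [Module.Flat R S] (x : R) (I : Ideal R)
    (hI : ∀ r : R, r * x = 0 ↔ r ∈ I) (s : S) (hs : algebraMap R S x * s = 0) :
    s ∈ I.map (algebraMap R S) := by
  let f : I →ₗ[R] R := I.subtype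
  let g : R →ₗ[R] R := LinearMap.mulRight R x
  have hex : Function.Exact f g := by
    intro r
    constructor
    · intro hr
      exact ⟨⟨r, (hI r).mp (by simpa [g] using hr)⟩, rfl⟩
    · rintro ⟨a, rfl⟩
      simpa [g, f] using (hI a).mpr a.2
  have hex' := Module.Flat.rTensor_exact S hex
  have h1 : g.rTensor S ((1 : R) ⊗ₜ[R] s) = 0 := by
    rw [LinearMap.rTensor_tmul]
    simp only [g, LinearMap.mulRight_apply, one_mul]
    have : x ⊗ₜ[R] s = (1 : R) ⊗ₜ[R] (x • s) := by
      rw [TensorProduct.tmul_smul, TensorProduct.smul_tmul', smul_eq_mul, mul_one]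
    rw [this, Algebra.smul_def, hs, TensorProduct.tmul_zero]
  obtain ⟨t, ht⟩ := (hex' _).mp h1
  have h2 : s = TensorProduct.lid R S (f.rTensor S t) := by
    rw [ht, TensorProduct.lid_tmul, one_smul]
  rw [h2]
  clear ht h2
  induction t using TensorProduct.induction_on with
  | zero => simp
  | tmul a s' =>
    rw [LinearMap.rTensor_tmul, TensorProduct.lid_tmul, Algebra.smul_def]
    exact Ideal.mul_mem_right _ _ (Ideal.mem_map_of_mem _ a.2)
  | add a b ha hb =>
    rw [map_add, map_add]
    exact Ideal.add_mem _ ha hb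

variable (R S)

/-- `⇐`: a prime of `S` over an associated prime of `R` is associated, when fibres are
zero-dimensional. -/
theorem mem_associatedPrimes_of_comap_mem [IsNoetherianRing R] [IsNoetherianRing S]
    [Module.Flat R S]
    (hfib : ∀ (p : Ideal R) [p.IsPrime], Ring.KrullDimLE 0 (p.ResidueField ⊗[R] S))
    (P : Ideal S) [hP : P.IsPrime]
    (h : P.comap (algebraMap R S) ∈ associatedPrimes R R) : P ∈ associatedPrimes S S := by
  set p : Ideal R := P.comap (algebraMap R S) with hp
  obtain ⟨hprime, x, hx⟩ := (isAssociatedPrime_iff (R := R)).1 h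
  set pS : Ideal S := p.map (algebraMap R S) with hpS
  have hpSP : pS ≤ P := Ideal.map_comap_le
  have hmin : P ∈ pS.minimalPrimes := by
    refine ⟨⟨hP, hpSP⟩, ?_⟩
    intro Q hQ hle
    haveI := hQ.1
    have h2 : Q.comap (algebraMap R S) = P.comap (algebraMap R S) := by
      refine le_antisymm (Ideal.comap_mono hle) ?_
      rw [← Ideal.map_le_iff_le_comap]
      exact hQ.2
    exact (eq_of_le_of_comap_eq R S hfib Q P hle h2).ge
  have hass : P ∈ associatedPrimes S (S ⧸ pS) := by
    apply Module.associatedPrimes.minimalPrimes_annihilator_subset_associatedPrimes S (S ⧸ pS)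
    rwa [Ideal.annihilator_quotient]
  -- the injection `S/pS → S`, multiplication by `x`
  have hxI : ∀ r : R, r * x = 0 ↔ r ∈ p := by
    intro r
    rw [hx, Submodule.mem_colon_singleton, Submodule.mem_bot, smul_eq_mul]
  let m : S →ₗ[S] S := LinearMap.mulLeft S (algebraMap R S x)
  have hker : pS ≤ LinearMap.ker m := by
    rw [hpS, Ideal.map_le_iff_le_comap]
    intro a ha
    rw [Ideal.mem_comap, LinearMap.mem_ker]
    simp only [m, LinearMap.mulLeft_apply]
    rw [← map_mul, mul_comm, (hxI a).mpr ha, map_zero]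
  let f : (S ⧸ pS) →ₗ[S] S := Submodule.liftQ pS m hker
  have hf : Function.Injective f := by
    rw [← LinearMap.ker_eq_bot]
    apply Submodule.ker_liftQ_eq_bot
    intro s hs
    rw [LinearMap.mem_ker] at hs
    exact mem_map_of_mul_eq_zero x p hxI s hs
  exact associatedPrimes.subset_of_injective hf hass

end Groth.Agent.Lib.Helper12.AssFlat
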