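import Mathlib
import Groth.Agent.Lib.Helper2.LocalCrit
import Groth.Agent.Lib.helper19.CompletionNoetherian

/-!
Helper library (helper12): flatness and noetherianity of adic completions of
(possibly non-noetherian) rings, via quotients by powers of the ideal.
-/

set_option autoImplicit false

namespace Groth.Agent.Lib.Helper12.ComplTensor

open TensorProduct

universe u

/-- Stacks 0523: if `S` is a noetherian `A`-algebra, `J ⊆ rad S` and `S/J^n` is `A`-flat for all
`n`, then `S` is `A`-flat. -/
theorem flat_of_flat_quotient_pow {A S : Type u} [CommRing A] [CommRing S] [Algebra A S]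
    [IsNoetherianRing S] (J : Ideal S) (hJ : J ≤ Ideal.jacobson ⊥)
    (h : ∀ n : ℕ, Module.Flat A (S ⧸ J ^ n)) : Module.Flat A S := by
  rw [Module.Flat.iff_lTensor_injective]
  intro 𝔞 h𝔞
  rw [injective_iff_map_eq_zero]
  intro x hx
  haveI : Module.Finite A 𝔞 := Module.Finite.iff_fg.mpr h𝔞
  haveI : Module.Finite S (S ⊗[A] 𝔞) :=
    Helper2.LocalCrit.finite_tensor_left (S := S) (M := S) 𝔞
  have hkrull : (⨅ i : ℕ, J ^ i • ⊤ : Submodule S (S ⊗[A] 𝔞)) = ⊥ :=
    Ideal.iInf_pow_smul_eq_bot_of_le_jacobson J hJ
  have hmem : x ∈ (⨅ i : ℕ, J ^ i • ⊤ : Submodule S (S ⊗[A] 𝔞)) := by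
    rw [Submodule.mem_iInf]
    intro n
    let q : S →ₗ[A] S ⧸ J ^ n := (Ideal.Quotient.mkₐ A (J ^ n)).toLinearMap
    let ι : ((J ^ n).restrictScalars A) →ₗ[A] S := ((J ^ n).restrictScalars A).subtype
    have hex : Function.Exact ι q := by
      intro s
      constructor
      · intro hs
        exact ⟨⟨s, Ideal.Quotient.eq_zero_iff_mem.mp hs⟩, rfl⟩
      · rintro ⟨⟨s', hs'⟩, rfl⟩
        exact Ideal.Quotient.eq_zero_iff_mem.mpr hs'
    have hq : Function.Surjective q := Ideal.Quotient.mk_surjective
    have h1 : q.rTensor 𝔞 x = 0 := by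
      have hinj : Function.Injective (𝔞.subtype.lTensor (S ⧸ J ^ n)) :=
        Module.Flat.iff_lTensor_injective.mp (h n) h𝔞
      apply hinj
      rw [map_zero, ← LinearMap.comp_apply, LinearMap.lTensor_comp_rTensor,
        ← LinearMap.rTensor_comp_lTensor, LinearMap.comp_apply, hx, map_zero]
    have key : ∀ y : ((J ^ n).restrictScalars A) ⊗[A] 𝔞,
        ι.rTensor 𝔞 y ∈ (J ^ n • ⊤ : Submodule S (S ⊗[A] 𝔞)) := by
      intro y
      induction y using TensorProduct.induction_on with
      | zero => rw [map_zero]; exact zero_mem _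
      | tmul j a =>
        rw [LinearMap.rTensor_tmul]
        have : (ι j) ⊗ₜ[A] a = (j : S) • ((1 : S) ⊗ₜ[A] a) := by
          rw [TensorProduct.smul_tmul', smul_eq_mul, mul_one]
          rfl
        rw [this]
        exact Submodule.smul_mem_smul j.2 Submodule.mem_top
      | add y z hy hz => rw [map_add]; exact add_mem hy hz
    obtain ⟨y, rfl⟩ := (rTensor_exact 𝔞 hex hq x).mp h1
    exact key y
  rw [hkrull, Submodule.mem_bot] at hmem
  exact hmem

theorem ker_evalₐ_eq_map_pow {T : Type u} [CommRing T] (J : Ideal T) (hJ : J.FG) (n : ℕ) :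
    RingHom.ker (AdicCompletion.evalₐ J n).toRingHom =
      (J.map (algebraMap T (AdicCompletion J T))) ^ n := by
  ext x
  trans x ∈ (AdicCompletion.eval J T n).ker
  · have h : (J ^ n • ⊤ : Ideal T) = J ^ n := by ext x; simp
    rw [RingHom.mem_ker, LinearMap.mem_ker]
    have : (AdicCompletion.evalₐ J n).toRingHom x =
        Ideal.quotientEquivAlgOfEq T h (AdicCompletion.eval J T n x) := rfl
    rw [this, map_eq_zero_iff _ (Ideal.quotientEquivAlgOfEq T h).injective]
  · rw [← AdicCompletion.pow_smul_top_eq_ker_eval hJ, ← Ideal.map_pow, Ideal.smul_top_eq_map]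
    rfl

/-- If `T/J^n` is `A`-flat for all `n`, `J` is finitely generated and the `J`-adic completion of
`T` is noetherian, then the completion is `A`-flat. -/
theorem flat_adicCompletion_of_flat_quotient_pow {A T : Type u} [CommRing A] [CommRing T]
    [Algebra A T] (J : Ideal T) (hJ : J.FG) [IsNoetherianRing (AdicCompletion J T)]
    (h : ∀ n : ℕ, Module.Flat A (T ⧸ J ^ n)) : Module.Flat A (AdicCompletion J T) := by
  have hcomp := AdicCompletion.isAdicComplete_self J hJ
  have hrad : J.map (algebraMap T (AdicCompletion J T)) ≤ Ideal.jacobson ⊥ :=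
    hcomp.le_jacobson_bot
  refine flat_of_flat_quotient_pow (J.map (algebraMap T (AdicCompletion J T))) hrad (fun n => ?_)
  haveI := h n
  haveI : IsScalarTower A T (AdicCompletion J T) := IsScalarTower.of_algebraMap_eq (fun _ => rfl)
  let φ : AdicCompletion J T →ₐ[A] T ⧸ J ^ n := (AdicCompletion.evalₐ J n).restrictScalars A
  have hφ : Function.Surjective φ := AdicCompletion.surjective_evalₐ J n
  have hker : RingHom.ker φ.toRingHom = (J.map (algebraMap T (AdicCompletion J T))) ^ n :=
    ker_evalₐ_eq_map_pow J hJ n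
  let e : (AdicCompletion J T ⧸ RingHom.ker φ.toRingHom) ≃ₐ[A] T ⧸ J ^ n :=
    Ideal.quotientKerAlgEquivOfSurjective hφ
  let e' : (AdicCompletion J T ⧸ (J.map (algebraMap T (AdicCompletion J T))) ^ n) ≃ₐ[A]
      (AdicCompletion J T ⧸ RingHom.ker φ.toRingHom) :=
    Ideal.quotientEquivAlgOfEq A hker.symm
  exact Module.Flat.of_linearEquiv (e'.trans e).toLinearEquiv

/-- If `J` is finitely generated and `A → T/J` is surjective with `A` noetherian, then the
`J`-adic completion of `T` is noetherian (a quotient of a power series ring over `A`). -/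
theorem isNoetherianRing_adicCompletion_of_surjective {A T : Type u} [CommRing A] [CommRing T]
    [IsNoetherianRing A] [Algebra A T] (J : Ideal T) (hJ : J.FG)
    (hsurj : Function.Surjective ((Ideal.Quotient.mk J).comp (algebraMap A T))) :
    IsNoetherianRing (AdicCompletion J T) := by
  obtain ⟨n, a, ha⟩ := Submodule.fg_iff_exists_fin_generating_family.mp hJ
  change Ideal.span (Set.range a) = J at ha
  subst ha
  let ψ : MvPowerSeries (Fin n) A →+* AdicCompletion (Ideal.span (Set.range a)) T :=
    (helper19.psToCompletion a).comp (MvPowerSeries.map (algebraMap A T))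
  refine isNoetherianRing_of_surjective _ _ ψ ?_
  have hcomp := AdicCompletion.isAdicComplete_self (Ideal.span (Set.range a)) hJ
  have hmap : (Ideal.span (Set.range
      (MvPowerSeries.X : Fin n → MvPowerSeries (Fin n) A))).map ψ =
      (Ideal.span (Set.range a)).map
        (algebraMap T (AdicCompletion (Ideal.span (Set.range a)) T)) := by
    rw [← Ideal.map_map, Ideal.map_span, ← Set.range_comp]
    have : (MvPowerSeries.map (algebraMap A T)) ∘
        (MvPowerSeries.X : Fin n → MvPowerSeries (Fin n) A) = MvPowerSeries.X := by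
      ext i : 1
      simp [MvPowerSeries.map_X]
    rw [this, helper19.map_psToCompletion_span_X]
  have haus : IsHausdorff ((Ideal.span (Set.range
      (MvPowerSeries.X : Fin n → MvPowerSeries (Fin n) A))).map ψ)
      (AdicCompletion (Ideal.span (Set.range a)) T) := by
    rw [hmap]
    exact hcomp.toIsHausdorff
  apply surjective_of_mk_map_comp_surjective ψ
    (I := Ideal.span (Set.range (MvPowerSeries.X : Fin n → MvPowerSeries (Fin n) A)))
  intro z
  obtain ⟨y, rfl⟩ := Ideal.Quotient.mk_surjective z
  obtain ⟨a', ha'⟩ := hsurj (AdicCompletion.evalOneₐ (Ideal.span (Set.range a)) y)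
  refine ⟨MvPowerSeries.C a', ?_⟩
  have hψC : ψ (MvPowerSeries.C a') =
      algebraMap T (AdicCompletion (Ideal.span (Set.range a)) T) (algebraMap A T a') := by
    show helper19.psToCompletion a (MvPowerSeries.map (algebraMap A T) (MvPowerSeries.C a')) = _
    rw [MvPowerSeries.map_C, helper19.psToCompletion_C]
  rw [RingHom.comp_apply, hψC, Ideal.Quotient.mk_eq_mk_iff_sub_mem, hmap,
    ← AdicCompletion.ker_evalOneₐ_eq_map _ hJ, RingHom.mem_ker]
  simp only [AlgHom.toRingHom_eq_coe, RingHom.coe_coe, map_sub, AlgHom.commutes]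
  rw [← ha', sub_eq_zero]
  rfl

end Groth.Agent.Lib.Helper12.ComplTensor
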