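import Mathlib.RingTheory.Flat.FaithfullyFlat.Algebra
import Mathlib.RingTheory.Filtration
import Mathlib.RingTheory.Henselian
import Mathlib.RingTheory.Noetherian.Basic

set_option autoImplicit false

namespace Groth.Agent.Lib.Helper12

open IsLocalRing

/-- Noetherianity descends along faithfully flat ring maps. -/
theorem isNoetherianRing_of_faithfullyFlat (R S : Type*) [CommRing R] [CommRing S] [Algebra R S]
    [Module.FaithfullyFlat R S] [IsNoetherianRing S] : IsNoetherianRing R := by
  rw [isNoetherianRing_iff, isNoetherian_iff'] at *
  let emb : Ideal R ↪o Ideal S :=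
    { toFun := Ideal.map (algebraMap R S)
      inj' := Ideal.map_injective_of_faithfullyFlat
      map_rel_iff' := by
        intro I J
        constructor
        · intro h
          have h' : Ideal.map (algebraMap R S) I ≤ Ideal.map (algebraMap R S) J := h
          have := Ideal.comap_mono (f := algebraMap R S) h'
          rwa [Ideal.comap_map_eq_self_of_faithfullyFlat,
            Ideal.comap_map_eq_self_of_faithfullyFlat] at this
        · exact fun h => Ideal.map_mono h }
  exact emb.wellFoundedGT

/-- A local ring which is henselian along its maximal ideal is a henselian local ring. -/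
theorem henselianLocalRing_of_henselianRing (R : Type*) [CommRing R] [IsLocalRing R]
    [HenselianRing R (maximalIdeal R)] : HenselianLocalRing R where
  is_henselian f hf a₀ h₁ h₂ :=
    HenselianRing.is_henselian f hf a₀ h₁ (h₂.map _)

/-- Ideals of a noetherian local ring are closed in the adic topology. -/
theorem mem_of_forall_mem_sup_pow {R : Type*} [CommRing R] [IsLocalRing R] [IsNoetherianRing R]
    (J : Ideal R) (a : R) (h : ∀ n : ℕ, a ∈ J ⊔ maximalIdeal R ^ n) : a ∈ J := by
  have key := Ideal.iInf_pow_smul_eq_bot_of_le_jacobson (R := R) (M := R ⧸ J) (maximalIdeal R)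
    (maximalIdeal_le_jacobson _)
  have hmem : (Ideal.Quotient.mk J a) ∈
      (⨅ i : ℕ, maximalIdeal R ^ i • ⊤ : Submodule R (R ⧸ J)) := by
    rw [Submodule.mem_iInf]
    intro n
    obtain ⟨j, hj, c, hc, rfl⟩ := Submodule.mem_sup.mp (h n)
    have h1 : Ideal.Quotient.mk J (j + c) = c • (1 : R ⧸ J) := by
      rw [map_add, Ideal.Quotient.eq_zero_iff_mem.mpr hj, zero_add, Algebra.smul_def, mul_one]
      rfl
    rw [h1]
    exact Submodule.smul_mem_smul hc Submodule.mem_top
  rw [key, Submodule.mem_bot] at hmem
  exact Ideal.Quotient.eq_zero_iff_mem.mp hmem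

end Groth.Agent.Lib.Helper12
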