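import Groth.Agent.Lib.Helper12.FComplA
import Groth.Agent.Lib.Helper12.NoetherianAux
import Groth.Agent.Lib.Helper12.FlatDescent
import Mathlib.RingTheory.Flat.EquationalCriterion
import Mathlib.RingTheory.AdicCompletion.LocalRing
import Mathlib.RingTheory.Henselian
import Mathlib.RingTheory.Localization.LocalizationLocalization

/-!
# The stalk ring `A_{S}` of a formal spectrum (EGA 0_I 7.6.17-18)
-/

set_option autoImplicit false
universe u

namespace Groth.Agent.Lib.Helper12.FComplB

open FSch Groth.Agent.Lib.Helper12.FComplA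

section Units

variable {R : Type u} [CommRing R] (I : Ideal R)

theorem map_le_jacobson (fg : I.FG) :
    I.map (algebraMap R (AdicCompletion I R)) ≤ Ideal.jacobson ⊥ := by
  haveI := AdicCompletion.isAdicComplete_self I fg
  exact IsAdicComplete.le_jacobson_bot _

theorem isUnit_sub_of_mem_jacobson {S : Type*} [CommRing S] {u j : S} (hu : IsUnit u)
    (hj : j ∈ Ideal.jacobson (⊥ : Ideal S)) : IsUnit (u - j) := by
  obtain ⟨v, rfl⟩ := hu
  have h1 : IsUnit (1 - (↑v⁻¹ : S) * j) := by
    apply Ideal.isUnit_of_sub_one_mem_jacobson_bot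
    have : 1 - (↑v⁻¹ : S) * j - 1 = -((↑v⁻¹ : S) * j) := by ring
    rw [this]
    exact Ideal.neg_mem_iff _ |>.mpr (Ideal.mul_mem_left _ _ hj)
  have h2 : (v : S) - j = v * (1 - (↑v⁻¹ : S) * j) := by
    rw [mul_sub, mul_one, ← mul_assoc, Units.mul_inv, one_mul]
  rw [h2]
  exact v.isUnit.mul h1

theorem isUnit_of_isUnit_evalOne (fg : I.FG) (y : AdicCompletion I R)
    (h : IsUnit (AdicCompletion.evalOneₐ I y)) : IsUnit y := by
  obtain ⟨u, hu⟩ := h
  obtain ⟨z, hz⟩ := AdicCompletion.evalOneₐ_surjective I (↑u⁻¹ : R ⧸ I)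
  have h1 : y * z - 1 ∈ Ideal.jacobson (⊥ : Ideal (AdicCompletion I R)) := by
    apply map_le_jacobson I fg
    rw [← AdicCompletion.ker_evalOneₐ_eq_map I fg, RingHom.mem_ker]
    show AdicCompletion.evalOneₐ I (y * z - 1) = 0
    rw [map_sub, map_mul, map_one, hz, ← hu, Units.mul_inv, sub_self]
  exact isUnit_of_mul_isUnit_left (Ideal.isUnit_of_sub_one_mem_jacobson_bot _ h1)

theorem evalOne_algebraMap (r : R) :
    AdicCompletion.evalOneₐ I (algebraMap R (AdicCompletion I R) r) = Ideal.Quotient.mk I r := by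
  rw [AlgHom.commutes]; rfl

theorem isLocalRing_adicCompletion [IsLocalRing R] (fg : I.FG)
    (hI : I ≤ IsLocalRing.maximalIdeal R) : IsLocalRing (AdicCompletion I R) := by
  have hne : I ≠ ⊤ := fun h => (IsLocalRing.maximalIdeal.isMaximal R).ne_top (top_le_iff.mp (h ▸ hI))
  haveI : Nontrivial (R ⧸ I) := Ideal.Quotient.nontrivial_iff.mpr hne
  haveI : Nontrivial (AdicCompletion I R) := (AdicCompletion.evalOneₐ_surjective I).nontrivial
  haveI : IsLocalRing (R ⧸ I) :=
    IsLocalRing.of_surjective' (Ideal.Quotient.mk I) Ideal.Quotient.mk_surjective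
  refine IsLocalRing.of_isUnit_or_isUnit_one_sub_self fun a => ?_
  rcases IsLocalRing.isUnit_or_isUnit_one_sub_self (AdicCompletion.evalOneₐ I a) with h | h
  · exact Or.inl (isUnit_of_isUnit_evalOne I fg a h)
  · refine Or.inr (isUnit_of_isUnit_evalOne I fg _ ?_)
    rwa [map_sub, map_one]

theorem isUnit_of_isUnit_algebraMap [IsLocalRing R] (hI : I ≤ IsLocalRing.maximalIdeal R)
    (x : R) (h : IsUnit (algebraMap R (AdicCompletion I R) x)) : IsUnit x := by
  have h1 : IsUnit (Ideal.Quotient.mk I x) := by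
    have := h.map (AdicCompletion.evalOneₐ I)
    rwa [evalOne_algebraMap] at this
  haveI := isLocalHom_of_le_jacobson_bot I (hI.trans (IsLocalRing.maximalIdeal_le_jacobson ⊥))
  exact isUnit_of_map_unit (Ideal.Quotient.mk I) x h1

end Units

section FlatUnion

theorem flat_of_forall_finset {B M : Type u} [CommRing B] [AddCommGroup M] [Module B M]
    (h : ∀ s : Finset B, ∃ (E : Type u) (_ : CommRing E) (_ : Module E M) (ψ : E →+* B),
      (∀ (e : E) (m : M), e • m = ψ e • m) ∧ Module.Flat E M ∧ ∀ x ∈ s, x ∈ ψ.range) :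
    Module.Flat B M := by
  classical
  rw [Module.Flat.iff_forall_isTrivialRelation]
  intro l f x hfx
  obtain ⟨E, _, _, ψ, hsm, hflat, hψ⟩ := h (Finset.univ.image f)
  have hex : ∀ i, ∃ e : E, ψ e = f i := fun i =>
    hψ (f i) (Finset.mem_image_of_mem f (Finset.mem_univ i))
  choose e he using hex
  have hrel : ∑ i, e i • x i = 0 := by
    rw [← hfx]
    refine Finset.sum_congr rfl fun i _ => ?_
    rw [hsm, he]
  obtain ⟨k, a, y, hx, ha⟩ := Module.Flat.isTrivialRelation_of_sum_smul_eq_zero hrel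
  refine ⟨k, fun i j => ψ (a i j), y, ?_, ?_⟩
  · intro i
    rw [hx i]
    exact Finset.sum_congr rfl fun j _ => hsm _ _
  · intro j
    have := congrArg ψ (ha j)
    rw [map_sum, map_zero] at this
    rw [← this]
    refine Finset.sum_congr rfl fun i _ => ?_
    rw [map_mul, he]

end FlatUnion

end Groth.Agent.Lib.Helper12.FComplB
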