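import Mathlib
import Groth.Agent.Lib.Helper12.FComplB
import Groth.Agent.Lib.Helper12.ComplTensorA

/-!
# Idempotents of `Â[1/t]` for a Henselian pair `(A, tA)` — basic approximation lemmas
-/

set_option autoImplicit false
universe u

namespace Groth.Agent.Lib.Helper12.AwayIdem

open Polynomial

variable {A : Type u} [CommRing A] (t : A)

theorem span_singleton_fg : (Ideal.span ({t} : Set A)).FG := ⟨{t}, by simp⟩

theorem ker_evalₐ (N : ℕ) :
    RingHom.ker (AdicCompletion.evalₐ (Ideal.span ({t} : Set A)) N).toRingHom =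
      Ideal.span {(algebraMap A (AdicCompletion (Ideal.span ({t} : Set A)) A) t) ^ N} := by
  rw [ComplTensor.ker_evalₐ_eq_map_pow _ (span_singleton_fg t), Ideal.map_span,
    Set.image_singleton, Ideal.span_singleton_pow]

/-- Every element of the completion is approximated modulo `t^N` by an element of `A`. -/
theorem exists_approx (x : AdicCompletion (Ideal.span ({t} : Set A)) A) (N : ℕ) :
    ∃ (a : A) (y : AdicCompletion (Ideal.span ({t} : Set A)) A),
      x = algebraMap A (AdicCompletion (Ideal.span ({t} : Set A)) A) a +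
        (algebraMap A (AdicCompletion (Ideal.span ({t} : Set A)) A) t) ^ N * y := by
  obtain ⟨a, ha⟩ := Ideal.Quotient.mk_surjective
    (AdicCompletion.evalₐ (Ideal.span ({t} : Set A)) N x)
  have hker : x - algebraMap A (AdicCompletion (Ideal.span ({t} : Set A)) A) a ∈
      RingHom.ker (AdicCompletion.evalₐ (Ideal.span ({t} : Set A)) N).toRingHom := by
    rw [RingHom.mem_ker]
    change AdicCompletion.evalₐ (Ideal.span ({t} : Set A)) N
      (x - algebraMap A (AdicCompletion (Ideal.span ({t} : Set A)) A) a) = 0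
    rw [map_sub, AlgHom.commutes, ← ha, Ideal.Quotient.algebraMap_eq, sub_self]
  rw [ker_evalₐ, Ideal.mem_span_singleton'] at hker
  obtain ⟨y, hy⟩ := hker
  exact ⟨a, y, by rw [mul_comm, hy]; ring⟩

/-- If the image of `x ∈ A` in the completion is divisible by `t^N`, so is `x`. -/
theorem exists_eq_pow_mul_of_algebraMap_eq (x : A) (N : ℕ)
    (y : AdicCompletion (Ideal.span ({t} : Set A)) A)
    (h : algebraMap A (AdicCompletion (Ideal.span ({t} : Set A)) A) x =
      (algebraMap A (AdicCompletion (Ideal.span ({t} : Set A)) A) t) ^ N * y) :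
    ∃ c : A, x = t ^ N * c := by
  have h1 : algebraMap A (AdicCompletion (Ideal.span ({t} : Set A)) A) x ∈
      RingHom.ker (AdicCompletion.evalₐ (Ideal.span ({t} : Set A)) N).toRingHom := by
    rw [ker_evalₐ, Ideal.mem_span_singleton']
    exact ⟨y, by rw [h]; ring⟩
  rw [RingHom.mem_ker] at h1
  change AdicCompletion.evalₐ (Ideal.span ({t} : Set A)) N
    (algebraMap A (AdicCompletion (Ideal.span ({t} : Set A)) A) x) = 0 at h1
  rw [AlgHom.commutes, Ideal.Quotient.algebraMap_eq, Ideal.Quotient.eq_zero_iff_mem,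
    Ideal.span_singleton_pow, Ideal.mem_span_singleton'] at h1
  obtain ⟨c, hc⟩ := h1
  exact ⟨c, by rw [← hc]; ring⟩

/-- `1 - t̂ y` is a unit of the completion. -/
theorem isUnit_one_sub_mul (y : AdicCompletion (Ideal.span ({t} : Set A)) A) :
    IsUnit (1 - algebraMap A (AdicCompletion (Ideal.span ({t} : Set A)) A) t * y) := by
  have hj : algebraMap A (AdicCompletion (Ideal.span ({t} : Set A)) A) t ∈
      Ideal.jacobson (⊥ : Ideal (AdicCompletion (Ideal.span ({t} : Set A)) A)) :=
    FComplB.map_le_jacobson _ (span_singleton_fg t)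
      (Ideal.mem_map_of_mem _ (Ideal.subset_span (Set.mem_singleton t)))
  have := Ideal.mem_jacobson_bot.mp hj (-y)
  have h2 : algebraMap A (AdicCompletion (Ideal.span ({t} : Set A)) A) t * -y + 1 =
      1 - algebraMap A (AdicCompletion (Ideal.span ({t} : Set A)) A) t * y := by ring
  rwa [h2] at this

/-- Two idempotents whose difference `d` has `1 - d²` invertible are equal. -/
theorem eq_of_isIdempotentElem_of_isUnit {S : Type*} [CommRing S] {e₁ e₂ : S}
    (h₁ : IsIdempotentElem e₁) (h₂ : IsIdempotentElem e₂)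
    (hu : IsUnit (1 - (e₁ - e₂) ^ 2)) : e₁ = e₂ := by
  have h3 : (e₁ - e₂) * (1 - (e₁ - e₂) ^ 2) = 0 := by
    linear_combination (-(e₁ + 1) + 3 * e₂) * h₁.eq + ((e₂ + 1) - 3 * e₁) * h₂.eq
  exact sub_eq_zero.mp ((hu.mul_left_eq_zero).mp h3)

end Groth.Agent.Lib.Helper12.AwayIdem
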