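import Mathlib
import Groth.Agent.Lib.Helper12.AwayIdemA

/-!
# Idempotents of `Â[1/t]` for a Henselian pair `(A, tA)` come from unique idempotents of `A[1/t]`
-/

set_option autoImplicit false
universe u

namespace Groth.Agent.Lib.Helper12.AwayIdem

open Polynomial

variable {A : Type u} [CommRing A] (t : A)

/-- the `t`-adic completion -/
abbrev Ah : Type u := AdicCompletion (Ideal.span ({t} : Set A)) A

/-- In a localization away from `t`, `algebraMap a = 0` when `t^k * a = 0`. -/
theorem algebraMap_eq_zero_of_pow_mul {R : Type*} [CommRing R] (r : R) (L : Type*) [CommRing L]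
    [Algebra R L] [IsLocalization.Away r L] {a : R} {k : ℕ} (h : r ^ k * a = 0) :
    algebraMap R L a = 0 := by
  have hu : IsUnit (algebraMap R L (r ^ k)) := by
    rw [map_pow]; exact (IsLocalization.Away.algebraMap_isUnit r).pow k
  have h2 := congrArg (algebraMap R L) h
  rw [map_mul, map_zero] at h2
  exact (hu.mul_right_eq_zero).mp h2

/-- In a localization away from `r`, `algebraMap a = 0` implies `r^k * a = 0` for some `k`. -/
theorem exists_pow_mul_eq_zero {R : Type*} [CommRing R] (r : R) (L : Type*) [CommRing L]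
    [Algebra R L] [IsLocalization.Away r L] {a : R} (h : algebraMap R L a = 0) :
    ∃ k : ℕ, r ^ k * a = 0 := by
  obtain ⟨⟨_, k, rfl⟩, hk⟩ := (IsLocalization.map_eq_zero_iff (Submonoid.powers r) L a).mp h
  exact ⟨k, hk⟩

section existence

variable [HenselianRing A (Ideal.span ({t} : Set A))]

theorem isUnit_one_add_mul (c : A) : IsUnit (1 + t * c) := by
  have hj : t ∈ Ideal.jacobson (⊥ : Ideal A) :=
    HenselianRing.jac (Ideal.subset_span (Set.mem_singleton t))
  have := Ideal.mem_jacobson_bot.mp hj c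
  rwa [add_comm] at this

/-- Lifting an approximate solution of `X² = tⁿ X`. -/
theorem exists_root (n : ℕ) (a c : A) (hc : a * a - t ^ n * a = t ^ (3 * n + 1) * c) :
    ∃ (a' h' : A), a' * a' = t ^ n * a' ∧ a' = a + (2 * a - t ^ n) * (t ^ (n + 1) * h') := by
  obtain ⟨u, hu⟩ := isUnit_one_add_mul t (4 * t ^ n * c)
  -- the polynomial `Y² + Y + s`
  have key : ∀ s ∈ Ideal.span ({t} : Set A), ∃ h : A, h ^ 2 + h + s = 0 ∧
      h ∈ Ideal.span ({t} : Set A) := by
    intro s hs
    have hmonic : (X ^ 2 + X + C s : A[X]).Monic := by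
      have h1 : (X ^ 2 + X + C s : A[X]) = X ^ 2 + (X + C s) := by ring
      rw [h1]
      apply Polynomial.monic_X_pow_add
      refine (Polynomial.degree_add_le _ _).trans_lt ?_
      refine (max_le Polynomial.degree_X_le (Polynomial.degree_C_le.trans zero_le_one)).trans_lt ?_
      norm_num
    obtain ⟨h, hroot, hmem⟩ := HenselianRing.is_henselian (X ^ 2 + X + C s : A[X]) hmonic (0 : A)
      (by simpa using hs) (by simp)
    rw [Polynomial.IsRoot.def] at hroot
    simp only [eval_add, eval_pow, eval_X, eval_C] at hroot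
    rw [sub_zero] at hmem
    exact ⟨h, hroot, hmem⟩
  have hs : (↑u⁻¹ : A) * (t ^ (n + 1) * c) ∈ Ideal.span ({t} : Set A) := by
    rw [Ideal.mem_span_singleton']
    exact ⟨(↑u⁻¹ : A) * t ^ n * c, by ring⟩
  obtain ⟨h, hroot, hmem⟩ := key _ hs
  rw [Ideal.mem_span_singleton'] at hmem
  obtain ⟨h₀, hh₀⟩ := hmem
  -- `1 + h` is a unit
  obtain ⟨v, hv⟩ := isUnit_one_add_mul t h₀
  have hv' : (v : A) = 1 + h := by rw [hv, ← hh₀]; ring
  -- `h = t^(n+1) * h'`
  have hh' : h = t ^ (n + 1) * (-(↑u⁻¹ : A) * c * (↑v⁻¹ : A)) := by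
    have h1 : h * (v : A) = -((↑u⁻¹ : A) * (t ^ (n + 1) * c)) := by
      rw [hv']; linear_combination hroot
    have h2 : h = h * (v : A) * (↑v⁻¹ : A) := by
      rw [mul_assoc, Units.mul_inv, mul_one]
    rw [h2, h1]; ring
  refine ⟨a + (2 * a - t ^ n) * h, -(↑u⁻¹ : A) * c * (↑v⁻¹ : A), ?_, by rw [← hh']⟩
  have hsq : (2 * a - t ^ n) ^ 2 = t ^ (2 * n) * (u : A) := by
    rw [hu]
    have : t ^ (3 * n + 1) = t ^ (2 * n) * (t * t ^ n) := by
      rw [← pow_succ', ← pow_add]; congr 1; ring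
    rw [this] at hc
    linear_combination 4 * hc
  have huu : (u : A) * (↑u⁻¹ : A) = 1 := Units.mul_inv u
  have hpow : t ^ (3 * n + 1) = t ^ (2 * n) * t ^ (n + 1) := by
    rw [← pow_add]; congr 1; ring
  rw [hpow] at hc
  linear_combination hc + (2 * a - t ^ n) ^ 2 * hroot - ((↑u⁻¹ : A) * (t ^ (n + 1) * c)) * hsq
    - (t ^ (2 * n) * t ^ (n + 1) * c) * huu

end existence

end Groth.Agent.Lib.Helper12.AwayIdem
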