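import Mathlib
import Groth.Agent.Lib.Helper12.AwayIdemB

/-!
# Idempotents of `Â[1/t]` for a Henselian pair `(A, tA)` come from unique idempotents of `A[1/t]`
-/

set_option autoImplicit false
universe u

namespace Groth.Agent.Lib.Helper12.AwayIdem

variable {A : Type u} [CommRing A] (t : A) [HenselianRing A (Ideal.span ({t} : Set A))]
  (L : Type*) [CommRing L] [Algebra A L] [IsLocalization.Away t L]
  (Lh : Type*) [CommRing Lh] [Algebra (Ah t) Lh] [IsLocalization.Away (algebraMap A (Ah t) t) Lh]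
  (φ : L →+* Lh)
  (hφ : ∀ a : A, φ (algebraMap A L a) = algebraMap (Ah t) Lh (algebraMap A (Ah t) a))

include hφ in
theorem exists_idempotent (e : Lh) (he : IsIdempotentElem e) :
    ∃ e₀ : L, IsIdempotentElem e₀ ∧ φ e₀ = e := by
  obtain ⟨W, hW⟩ : IsUnit (algebraMap (Ah t) Lh (algebraMap A (Ah t) t)) :=
    IsLocalization.Away.algebraMap_isUnit (algebraMap A (Ah t) t)
  obtain ⟨n₀, x₀, hx₀⟩ := IsLocalization.Away.surj (algebraMap A (Ah t) t) e
  rw [← hW] at hx₀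
  have h0 : algebraMap (Ah t) Lh (x₀ * x₀ - (algebraMap A (Ah t) t) ^ n₀ * x₀) = 0 := by
    rw [map_sub, map_mul, map_mul, map_pow, ← hx₀, ← hW]
    linear_combination ((W : Lh) ^ n₀ * (W : Lh) ^ n₀) * he.eq
  obtain ⟨l, hl⟩ := exists_pow_mul_eq_zero (algebraMap A (Ah t) t) Lh h0
  have hxx : ((algebraMap A (Ah t) t) ^ l * x₀) * ((algebraMap A (Ah t) t) ^ l * x₀) =
      (algebraMap A (Ah t) t) ^ (n₀ + l) * ((algebraMap A (Ah t) t) ^ l * x₀) := by
    rw [pow_add]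
    linear_combination ((algebraMap A (Ah t) t) ^ l) * hl
  have hex : e * (W : Lh) ^ (n₀ + l) =
      algebraMap (Ah t) Lh ((algebraMap A (Ah t) t) ^ l * x₀) := by
    rw [pow_add, ← mul_assoc, hx₀, map_mul, map_pow, hW]
    exact mul_comm _ _
  generalize (algebraMap A (Ah t) t) ^ l * x₀ = x at hxx hex
  generalize n₀ + l = n at hxx hex
  obtain ⟨a, y, hxy⟩ := exists_approx t x (3 * n + 1)
  have hfa : algebraMap A (Ah t) (a * a - t ^ n * a) = (algebraMap A (Ah t) t) ^ (3 * n + 1) *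
      (-(2 * x * y) + (algebraMap A (Ah t) t) ^ (3 * n + 1) * y * y +
        (algebraMap A (Ah t) t) ^ n * y) := by
    rw [map_sub, map_mul, map_mul, map_pow]
    have h1 : algebraMap A (Ah t) a = x - (algebraMap A (Ah t) t) ^ (3 * n + 1) * y := by
      rw [hxy]; ring
    rw [h1]
    linear_combination hxx
  obtain ⟨c, hc⟩ := exists_eq_pow_mul_of_algebraMap_eq t _ _ _ hfa
  obtain ⟨a', h', ha', ha'def⟩ := exists_root t n a c hc
  obtain ⟨W₀, hW₀⟩ : IsUnit (algebraMap A L t) := IsLocalization.Away.algebraMap_isUnit t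
  have hφW : φ (↑W₀⁻¹ : L) = (↑W⁻¹ : Lh) := by
    have h1 : φ (↑W₀⁻¹ : L) * (W : Lh) = 1 := by
      rw [hW, ← hφ, ← hW₀, ← map_mul, Units.inv_mul, map_one]
    calc φ (↑W₀⁻¹ : L) = φ (↑W₀⁻¹ : L) * (W : Lh) * (↑W⁻¹ : Lh) := by
          rw [mul_assoc, Units.mul_inv, mul_one]
      _ = (↑W⁻¹ : Lh) := by rw [h1, one_mul]
  have hidem : IsIdempotentElem (algebraMap A L a' * (↑W₀⁻¹ : L) ^ n) := by
    have h1 : algebraMap A L a' * algebraMap A L a' = (W₀ : L) ^ n * algebraMap A L a' := by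
      rw [← map_mul, ha', map_mul, map_pow, hW₀]
    have h2 : (W₀ : L) ^ n * (↑W₀⁻¹ : L) ^ n = 1 := by rw [← mul_pow, Units.mul_inv, one_pow]
    unfold IsIdempotentElem
    linear_combination ((↑W₀⁻¹ : L) ^ n * (↑W₀⁻¹ : L) ^ n) * h1 +
      (algebraMap A L a' * (↑W₀⁻¹ : L) ^ n) * h2
  refine ⟨algebraMap A L a' * (↑W₀⁻¹ : L) ^ n, hidem, ?_⟩
  apply eq_of_isIdempotentElem_of_isUnit (hidem.map φ) he
  have hWW : (W : Lh) ^ n * (↑W⁻¹ : Lh) ^ n = 1 := by rw [← mul_pow, Units.mul_inv, one_pow]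
  have he' : e = algebraMap (Ah t) Lh x * (↑W⁻¹ : Lh) ^ n := by
    rw [← hex]; linear_combination (-e) * hWW
  have hιa' : algebraMap A (Ah t) a' = x + (algebraMap A (Ah t) t) ^ (n + 1) *
      (-((algebraMap A (Ah t) t) ^ (2 * n) * y) + algebraMap A (Ah t) ((2 * a - t ^ n) * h')) := by
    have hp : (algebraMap A (Ah t) t) ^ (3 * n + 1) =
        (algebraMap A (Ah t) t) ^ (n + 1) * (algebraMap A (Ah t) t) ^ (2 * n) := by
      rw [← pow_add]; congr 1; ring
    have h1 : algebraMap A (Ah t) a = x - (algebraMap A (Ah t) t) ^ (3 * n + 1) * y := by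
      rw [hxy]; ring
    rw [ha'def, map_add, h1, hp]
    simp only [map_mul, map_pow]
    ring
  have hd : φ (algebraMap A L a' * (↑W₀⁻¹ : L) ^ n) - e = (W : Lh) * algebraMap (Ah t) Lh
      (-((algebraMap A (Ah t) t) ^ (2 * n) * y) + algebraMap A (Ah t) ((2 * a - t ^ n) * h')) := by
    rw [map_mul, map_pow, hφW, hφ, hιa', he', map_add, map_mul, map_pow, ← hW, pow_succ]
    linear_combination ((W : Lh) * algebraMap (Ah t) Lh
      (-((algebraMap A (Ah t) t) ^ (2 * n) * y) + algebraMap A (Ah t) ((2 * a - t ^ n) * h'))) * hWW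
  rw [hd]
  generalize (-((algebraMap A (Ah t) t) ^ (2 * n) * y) +
    algebraMap A (Ah t) ((2 * a - t ^ n) * h')) = z
  have hu := (isUnit_one_sub_mul t ((algebraMap A (Ah t) t) * z * z)).map (algebraMap (Ah t) Lh)
  have : algebraMap (Ah t) Lh (1 - algebraMap A (Ah t) t * (algebraMap A (Ah t) t * z * z)) =
      1 - ((W : Lh) * algebraMap (Ah t) Lh z) ^ 2 := by
    rw [map_sub, map_one, map_mul, map_mul, map_mul, hW]; ring
  rwa [this] at hu

include hφ in
theorem idempotent_unique (e₀ e₁ : L) (h₀ : IsIdempotentElem e₀) (h₁ : IsIdempotentElem e₁)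
    (h : φ e₀ = φ e₁) : e₀ = e₁ := by
  obtain ⟨W₀, hW₀⟩ : IsUnit (algebraMap A L t) := IsLocalization.Away.algebraMap_isUnit t
  -- `g = (e₀ - e₁)²` is an idempotent killed by `φ`
  have hd3 : (e₀ - e₁) ^ 3 = e₀ - e₁ := by
    linear_combination ((e₀ + 1) - 3 * e₁) * h₀.eq + (-(e₁ + 1) + 3 * e₀) * h₁.eq
  have hg : ((e₀ - e₁) ^ 2) * ((e₀ - e₁) ^ 2) = (e₀ - e₁) ^ 2 := by
    linear_combination (e₀ - e₁) * hd3
  have hφg : φ ((e₀ - e₁) ^ 2) = 0 := by rw [map_pow, map_sub, h, sub_self]; ring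
  suffices hg0 : (e₀ - e₁) ^ 2 = 0 by
    have : e₀ - e₁ = 0 := by rw [← hd3, pow_succ, hg0, zero_mul]
    exact sub_eq_zero.mp this
  generalize (e₀ - e₁) ^ 2 = g at hg hφg ⊢
  obtain ⟨m, b, hb⟩ := IsLocalization.Away.surj t g
  rw [← hW₀] at hb
  -- `ι b` is killed by a power of `t̂`
  have h1 : algebraMap (Ah t) Lh (algebraMap A (Ah t) b) = 0 := by
    rw [← hφ, ← hb, map_mul, hφg, zero_mul]
  obtain ⟨j, hj⟩ := exists_pow_mul_eq_zero (algebraMap A (Ah t) t) Lh h1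
  have h2 : algebraMap A (Ah t) (t ^ j * b) = (algebraMap A (Ah t) t) ^ (m + j + 1) * 0 := by
    rw [map_mul, map_pow, hj, mul_zero]
  obtain ⟨c, hc⟩ := exists_eq_pow_mul_of_algebraMap_eq t _ _ _ h2
  -- `g * W₀^(m+j) = alg (t^(m+j+1) c)`
  have hb' : g * (W₀ : L) ^ (m + j) = algebraMap A L (t ^ (m + j + 1) * c) := by
    rw [← hc, map_mul, map_pow, ← hb, hW₀]; ring
  have h3 : algebraMap A L ((t ^ (m + j + 1) * c) * (t ^ (m + j + 1) * c) -
      t ^ (m + j) * (t ^ (m + j + 1) * c)) = 0 := by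
    rw [map_sub, map_mul (algebraMap A L) (t ^ (m + j + 1) * c) (t ^ (m + j + 1) * c),
      map_mul (algebraMap A L) (t ^ (m + j)) (t ^ (m + j + 1) * c), ← hb', map_pow, ← hW₀]
    linear_combination ((W₀ : L) ^ (m + j) * (W₀ : L) ^ (m + j)) * hg
  obtain ⟨l, hl⟩ := exists_pow_mul_eq_zero t L h3
  obtain ⟨v, hv⟩ := isUnit_one_add_mul t (-c)
  have h4 : t ^ (l + (2 * (m + j) + 1)) * c = 0 := by
    have h5 : t ^ (l + (2 * (m + j) + 1)) * c * (v : A) = 0 := by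
      rw [hv]
      have hp : t ^ (l + (2 * (m + j) + 1)) = t ^ l * (t ^ (m + j) * t ^ (m + j) * t) := by
        rw [← pow_add, ← pow_succ, ← pow_add]; congr 1; ring
      have hp' : t ^ (m + j + 1) = t ^ (m + j) * t := pow_succ _ _
      rw [hp]; rw [hp'] at hl
      linear_combination (-1 : A) * hl
    have := congrArg (· * (↑v⁻¹ : A)) h5
    simp only [zero_mul] at this
    rwa [mul_assoc, Units.mul_inv, mul_one] at this
  have h6 : algebraMap A L c = 0 := algebraMap_eq_zero_of_pow_mul t L h4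
  have h7 : g * (W₀ : L) ^ (m + j) = 0 := by rw [hb', map_mul, h6, mul_zero]
  have hWW : (W₀ : L) ^ (m + j) * (↑W₀⁻¹ : L) ^ (m + j) = 1 := by
    rw [← mul_pow, Units.mul_inv, one_pow]
  calc g = g * ((W₀ : L) ^ (m + j) * (↑W₀⁻¹ : L) ^ (m + j)) := by rw [hWW, mul_one]
    _ = 0 := by rw [← mul_assoc, h7, zero_mul]

end Groth.Agent.Lib.Helper12.AwayIdem
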