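import Mathlib

/-!
# Approximation of matrix identities along a dense ring map

The setting: `L → Lh` a ring map with dense image into a topological ring, and an open
neighbourhood `W` of `0` in `Lh` such that square matrices congruent to `1` modulo `W`
(after mapping to `Lh`, resp. in `Lh`) are invertible.
-/

set_option autoImplicit false
universe u

namespace Groth.Agent.Lib.Helper12.BC

open Matrix

variable {L Lh : Type u} [CommRing L] [CommRing Lh] [Algebra L Lh]

/-- The matrices all of whose entries differ from those of `1` by an element of `W`. -/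
def nbhdOne (W : Set Lh) (n : ℕ) : Set (Matrix (Fin n) (Fin n) Lh) :=
  {U | ∀ i j, U i j - (1 : Matrix (Fin n) (Fin n) Lh) i j ∈ W}

theorem one_mem_nbhdOne {W : Set Lh} (hW0 : (0 : Lh) ∈ W) (n : ℕ) :
    (1 : Matrix (Fin n) (Fin n) Lh) ∈ nbhdOne W n := by
  intro i j
  rw [sub_self]
  exact hW0

section Top

variable [TopologicalSpace Lh] [IsTopologicalRing Lh]

theorem isOpen_nbhdOne {W : Set Lh} (hWo : IsOpen W) (n : ℕ) : IsOpen (nbhdOne W n) := by
  have h : nbhdOne W n = ⋂ i : Fin n, ⋂ j : Fin n,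
      (fun U : Matrix (Fin n) (Fin n) Lh => U i j - (1 : Matrix (Fin n) (Fin n) Lh) i j) ⁻¹' W := by
    ext U
    simp [nbhdOne]
  rw [h]
  refine isOpen_iInter_of_finite fun i => isOpen_iInter_of_finite fun j => hWo.preimage ?_
  exact (continuous_id.matrix_elem i j).sub continuous_const

theorem denseRange_map (hd : DenseRange (algebraMap L Lh)) (m n : ℕ) :
    DenseRange (fun X : Matrix (Fin m) (Fin n) L => X.map (algebraMap L Lh)) :=
  DenseRange.piMap (fun _ => DenseRange.piMap (fun _ => hd))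

/-- Approximating a pair of matrices. -/
theorem exists_pair_mem (hd : DenseRange (algebraMap L Lh)) {a b c d : ℕ}
    (O : Set (Matrix (Fin a) (Fin b) Lh × Matrix (Fin c) (Fin d) Lh)) (hO : IsOpen O)
    (x : Matrix (Fin a) (Fin b) Lh × Matrix (Fin c) (Fin d) Lh) (hx : x ∈ O) :
    ∃ (X : Matrix (Fin a) (Fin b) L) (Y : Matrix (Fin c) (Fin d) L),
      (X.map (algebraMap L Lh), Y.map (algebraMap L Lh)) ∈ O := by
  have hdense := (denseRange_map hd a b).prodMap (denseRange_map hd c d)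
  obtain ⟨⟨X, Y⟩, hXY⟩ := hdense.exists_mem_open hO ⟨x, hx⟩
  exact ⟨X, Y, hXY⟩

end Top

theorem map_sub_one {n : ℕ} (U : Matrix (Fin n) (Fin n) L) (i j : Fin n) :
    (U.map (algebraMap L Lh)) i j - (1 : Matrix (Fin n) (Fin n) Lh) i j =
      algebraMap L Lh (U i j - (1 : Matrix (Fin n) (Fin n) L) i j) := by
  rw [map_sub, Matrix.map_apply]
  congr 1
  by_cases h : i = j
  · subst h; simp
  · simp [Matrix.one_apply_ne h]

variable [TopologicalSpace Lh] [IsTopologicalRing Lh]

/-- Part 1 at the level of matrices. -/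
theorem part1_matrix (hd : DenseRange (algebraMap L Lh)) (W : Set Lh) (hWo : IsOpen W)
    (hW0 : (0 : Lh) ∈ W)
    (hL : ∀ (n : ℕ) (U : Matrix (Fin n) (Fin n) L),
      U.map (algebraMap L Lh) ∈ nbhdOne W n → IsUnit U)
    {m m' : ℕ} (p : Matrix (Fin m) (Fin m) L) (q : Matrix (Fin m') (Fin m') L)
    (hp : p * p = p) (hq : q * q = q)
    (Xh : Matrix (Fin m') (Fin m) Lh) (Yh : Matrix (Fin m) (Fin m') Lh)
    (h1 : Yh * Xh = p.map (algebraMap L Lh)) (h2 : Xh * Yh = q.map (algebraMap L Lh))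
    (h3 : q.map (algebraMap L Lh) * Xh * p.map (algebraMap L Lh) = Xh)
    (h4 : p.map (algebraMap L Lh) * Yh * q.map (algebraMap L Lh) = Yh) :
    ∃ (x : Matrix (Fin m') (Fin m) L) (y₁ y₂ : Matrix (Fin m) (Fin m') L),
      y₁ * x = p ∧ x * y₂ = q ∧ q * x = x ∧ x * p = x := by
  set ph := p.map (algebraMap L Lh) with hph
  set qh := q.map (algebraMap L Lh) with hqh
  let f : Matrix (Fin m') (Fin m) Lh × Matrix (Fin m) (Fin m') Lh →
      Matrix (Fin m) (Fin m) Lh × Matrix (Fin m') (Fin m') Lh := fun z =>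
    (ph * z.2 * qh * (qh * z.1 * ph) + (1 - ph), qh * z.1 * ph * (ph * z.2 * qh) + (1 - qh))
  have hf : Continuous f := by
    refine Continuous.prodMk ?_ ?_
    · exact (((continuous_const.matrix_mul continuous_snd).matrix_mul continuous_const).matrix_mul
        ((continuous_const.matrix_mul continuous_fst).matrix_mul continuous_const)).add
          continuous_const
    · exact (((continuous_const.matrix_mul continuous_fst).matrix_mul continuous_const).matrix_mul
        ((continuous_const.matrix_mul continuous_snd).matrix_mul continuous_const)).add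
          continuous_const
  have hO : IsOpen (f ⁻¹' (nbhdOne W m ×ˢ nbhdOne W m')) :=
    ((isOpen_nbhdOne hWo m).prod (isOpen_nbhdOne hWo m')).preimage hf
  have hmem : (Xh, Yh) ∈ f ⁻¹' (nbhdOne W m ×ˢ nbhdOne W m') := by
    have hf1 : f (Xh, Yh) = (1, 1) := by
      simp only [f]
      rw [h3, h4, h1, h2]
      simp
    rw [Set.mem_preimage, hf1]
    exact ⟨one_mem_nbhdOne hW0 m, one_mem_nbhdOne hW0 m'⟩
  obtain ⟨X₀, Y₀, hXY⟩ := exists_pair_mem hd _ hO (Xh, Yh) hmem
  set x := q * X₀ * p with hx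
  set y := p * Y₀ * q with hy
  have hqx : q * x = x := by rw [hx, ← Matrix.mul_assoc, ← Matrix.mul_assoc, hq]
  have hxp : x * p = x := by rw [hx, Matrix.mul_assoc, hp]
  have hpy : p * y = y := by rw [hy, ← Matrix.mul_assoc, ← Matrix.mul_assoc, hp]
  have hyq : y * q = y := by rw [hy, Matrix.mul_assoc, hq]
  have hU : IsUnit (y * x + (1 - p)) := by
    apply hL
    have : (y * x + (1 - p)).map (algebraMap L Lh) = (f (X₀.map (algebraMap L Lh),
        Y₀.map (algebraMap L Lh))).1 := by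
      simp only [f, hx, hy, Matrix.map_add, Matrix.map_sub, Matrix.map_mul, map_add, map_sub,
        map_zero, map_one, implies_true, Matrix.map_one, hph, hqh]
    rw [this]
    exact hXY.1
  have hV : IsUnit (x * y + (1 - q)) := by
    apply hL
    have : (x * y + (1 - q)).map (algebraMap L Lh) = (f (X₀.map (algebraMap L Lh),
        Y₀.map (algebraMap L Lh))).2 := by
      simp only [f, hx, hy, Matrix.map_add, Matrix.map_sub, Matrix.map_mul, map_add, map_sub,
        map_zero, map_one, implies_true, Matrix.map_one, hph, hqh]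
    rw [this]
    exact hXY.2
  obtain ⟨U', hU'⟩ := hU.exists_left_inv
  obtain ⟨V', hV'⟩ := hV.exists_right_inv
  have hUp : (y * x + (1 - p)) * p = y * x := by
    rw [Matrix.add_mul, Matrix.mul_assoc, hxp, Matrix.sub_mul, Matrix.one_mul, hp, sub_self,
      add_zero]
  have hqV : q * (x * y + (1 - q)) = x * y := by
    rw [Matrix.mul_add, ← Matrix.mul_assoc, hqx, Matrix.mul_sub, Matrix.mul_one, hq, sub_self,
      add_zero]
  refine ⟨x, U' * y, y * V', ?_, ?_, hqx, hxp⟩
  · rw [Matrix.mul_assoc, ← hUp, ← Matrix.mul_assoc, hU', Matrix.one_mul]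
  · rw [← Matrix.mul_assoc, ← hqV, Matrix.mul_assoc, hV', Matrix.mul_one]

/-- Part 2 at the level of matrices. -/
theorem part2_matrix (hd : DenseRange (algebraMap L Lh)) (W : Set Lh) (hWo : IsOpen W)
    (hW0 : (0 : Lh) ∈ W)
    (hL : ∀ (n : ℕ) (U : Matrix (Fin n) (Fin n) L),
      U.map (algebraMap L Lh) ∈ nbhdOne W n → IsUnit U)
    (hLh : ∀ (n : ℕ) (U : Matrix (Fin n) (Fin n) Lh), U ∈ nbhdOne W n → IsUnit U)
    {n m : ℕ} (Xh : Matrix (Fin m) (Fin n) Lh) (Yh : Matrix (Fin n) (Fin m) Lh)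
    (h : Yh * Xh = 1) :
    ∃ (X₀ : Matrix (Fin m) (Fin n) L) (Y₀ : Matrix (Fin n) (Fin m) L)
      (G : Matrix (Fin m) (Fin m) Lh), Y₀ * X₀ = 1 ∧ IsUnit G ∧
        Yh * G = Y₀.map (algebraMap L Lh) := by
  let f : Matrix (Fin m) (Fin n) Lh × Matrix (Fin n) (Fin m) Lh →
      Matrix (Fin n) (Fin n) Lh × Matrix (Fin m) (Fin m) Lh := fun z =>
    (z.2 * z.1, 1 + Xh * (z.2 - Yh))
  have hf : Continuous f := by
    refine Continuous.prodMk ?_ ?_
    · exact continuous_snd.matrix_mul continuous_fst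
    · exact continuous_const.add (continuous_const.matrix_mul (continuous_snd.sub continuous_const))
  have hO : IsOpen (f ⁻¹' (nbhdOne W n ×ˢ nbhdOne W m)) :=
    ((isOpen_nbhdOne hWo n).prod (isOpen_nbhdOne hWo m)).preimage hf
  have hmem : (Xh, Yh) ∈ f ⁻¹' (nbhdOne W n ×ˢ nbhdOne W m) := by
    have hf1 : f (Xh, Yh) = (1, 1) := by
      simp only [f]
      rw [h, sub_self, Matrix.mul_zero, add_zero]
    rw [Set.mem_preimage, hf1]
    exact ⟨one_mem_nbhdOne hW0 n, one_mem_nbhdOne hW0 m⟩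
  obtain ⟨X₀, Y₀, hXY⟩ := exists_pair_mem hd _ hO (Xh, Yh) hmem
  have hU : IsUnit (Y₀ * X₀) := by
    apply hL
    have : (Y₀ * X₀).map (algebraMap L Lh) = (f (X₀.map (algebraMap L Lh),
        Y₀.map (algebraMap L Lh))).1 := by
      simp only [f, Matrix.map_mul]
    rw [this]
    exact hXY.1
  have hG : IsUnit (1 + Xh * (Y₀.map (algebraMap L Lh) - Yh)) := hLh _ _ hXY.2
  obtain ⟨U', hU'⟩ := hU.exists_right_inv
  refine ⟨X₀ * U', Y₀, _, ?_, hG, ?_⟩
  · rw [← Matrix.mul_assoc, hU']
  · rw [Matrix.mul_add, Matrix.mul_one, ← Matrix.mul_assoc, h, Matrix.one_mul]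
    abel

end Groth.Agent.Lib.Helper12.BC
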