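import Mathlib

/-!
# Matrices congruent to `1` modulo `τ S₀` are invertible when `1 + τ S₀` consists of units
-/

set_option autoImplicit false
universe u

namespace Groth.Agent.Lib.Helper12.BC

open Matrix

theorem isUnit_of_sub_one_mem {R : Type*} [CommRing R] (S₀ : Subring R) (τ : R) (hτ : τ ∈ S₀)
    (hunit : ∀ s ∈ S₀, IsUnit (1 + τ * s)) {n : ℕ} (U : Matrix (Fin n) (Fin n) R)
    (hU : ∀ i j, ∃ s ∈ S₀, U i j - (1 : Matrix (Fin n) (Fin n) R) i j = τ * s) : IsUnit U := by
  classical
  choose s hs hsU using hU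
  let E : Matrix (Fin n) (Fin n) S₀ := fun i j => ⟨s i j, hs i j⟩
  let τ₀ : S₀ := ⟨τ, hτ⟩
  let V : Matrix (Fin n) (Fin n) S₀ := 1 + τ₀ • E
  have hUV : U = S₀.subtype.mapMatrix V := by
    ext i j
    have h1 := hsU i j
    rw [sub_eq_iff_eq_add] at h1
    rw [h1]
    simp only [V, RingHom.mapMatrix_apply, Matrix.map_apply, Matrix.add_apply, Matrix.smul_apply,
      smul_eq_mul, map_add, map_mul, Subring.coe_subtype, E, τ₀]
    by_cases h : i = j
    · subst h; simp [add_comm]
    · simp [Matrix.one_apply_ne h]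
  have hdet : V.det - 1 ∈ Ideal.span {τ₀} := by
    rw [← Ideal.Quotient.eq_zero_iff_mem, map_sub, map_one, RingHom.map_det]
    have : (Ideal.Quotient.mk (Ideal.span {τ₀})).mapMatrix V = 1 := by
      ext i j
      simp only [V, RingHom.mapMatrix_apply, Matrix.map_apply, Matrix.add_apply,
        Matrix.smul_apply, smul_eq_mul, map_add, map_mul]
      rw [Ideal.Quotient.eq_zero_iff_mem.mpr (Ideal.mem_span_singleton_self τ₀), zero_mul,
        add_zero]
      by_cases h : i = j
      · subst h; simp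
      · simp [Matrix.one_apply_ne h]
    rw [this, Matrix.det_one, sub_self]
  obtain ⟨c, hc⟩ := Ideal.mem_span_singleton'.mp hdet
  have hdetU : U.det = 1 + τ * (c : R) := by
    rw [hUV, ← RingHom.map_det]
    have h2 : V.det = 1 + τ₀ * c := by
      rw [mul_comm, hc]; ring
    rw [h2]
    simp [τ₀]
  rw [Matrix.isUnit_iff_isUnit_det, hdetU]
  exact hunit _ c.2

end Groth.Agent.Lib.Helper12.BC
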