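import Mathlib
import Groth.Agent.Lib.Helper12.BCMatA
import Groth.Agent.Lib.Helper12.BCMatB

/-!
# Lattice pairs: an algebraic axiomatisation of `A[1/t] → Â[1/t]` and `R(t) → R((t))`
-/

set_option autoImplicit false
set_option linter.style.haveILetI false
universe u

namespace Groth.Agent.Lib.Helper12.BC

open Matrix

/-- The algebraic data making `L → Lh` look like `A[1/t] → Â[1/t]`: integral lattices `S₀ ⊆ L`,
`Sh ⊆ Lh`, an element `τ` such that `Lh = Sh[1/τ]`, density of `L` in `Lh` for the `τ`-adic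
topology, closedness of `τ S₀` and the unit conditions. -/
structure LatticePair (L Lh : Type u) [CommRing L] [CommRing Lh] [Algebra L Lh] where
  S₀ : Subring L
  Sh : Subring Lh
  τ : L
  τ_mem : τ ∈ S₀
  map_mem : ∀ x ∈ S₀, algebraMap L Lh x ∈ Sh
  bounded : ∀ x : Lh, ∃ k : ℕ, algebraMap L Lh τ ^ k * x ∈ Sh
  dense : ∀ (x : Lh) (k : ℕ), ∃ y : L, ∃ s ∈ Sh, x = algebraMap L Lh y + algebraMap L Lh τ ^ k * s
  closed : ∀ x : L, (∃ s ∈ Sh, algebraMap L Lh x = algebraMap L Lh τ * s) → ∃ s ∈ S₀, x = τ * s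
  unit₀ : ∀ s ∈ S₀, IsUnit (1 + τ * s)
  unith : ∀ s ∈ Sh, IsUnit (1 + algebraMap L Lh τ * s)

namespace LatticePair

variable {L Lh : Type u} [CommRing L] [CommRing Lh] [Algebra L Lh] (P : LatticePair L Lh)

/-- `τ̂`. -/
def τh : Lh := algebraMap L Lh P.τ

theorem τh_mem : P.τh ∈ P.Sh := P.map_mem _ P.τ_mem

/-- The subgroups `τ̂ ^ k Sh`. -/
def B (k : ℕ) : AddSubgroup Lh :=
  P.Sh.toAddSubgroup.map (AddMonoidHom.mulLeft (P.τh ^ k))

theorem mem_B {k : ℕ} {x : Lh} : x ∈ P.B k ↔ ∃ s ∈ P.Sh, P.τh ^ k * s = x := by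
  simp [B, AddSubgroup.mem_map]

theorem B_le {i j : ℕ} (h : i ≤ j) : P.B j ≤ P.B i := by
  intro x hx
  obtain ⟨s, hs, rfl⟩ := P.mem_B.mp hx
  obtain ⟨d, rfl⟩ := Nat.exists_eq_add_of_le h
  refine P.mem_B.mpr ⟨P.τh ^ d * s, P.Sh.mul_mem (P.Sh.pow_mem P.τh_mem d) hs, ?_⟩
  rw [pow_add]; ring

theorem ringSubgroupsBasis : RingSubgroupsBasis P.B := by
  refine RingSubgroupsBasis.of_comm P.B ?_ ?_ ?_
  · intro i j
    exact ⟨max i j, le_inf (P.B_le (le_max_left i j)) (P.B_le (le_max_right i j))⟩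
  · intro i
    refine ⟨i, ?_⟩
    rintro _ ⟨x, hx, y, hy, rfl⟩
    obtain ⟨s, hs, rfl⟩ := P.mem_B.mp hx
    obtain ⟨s', hs', rfl⟩ := P.mem_B.mp hy
    refine P.mem_B.mpr ⟨s * (P.τh ^ i * s'),
      P.Sh.mul_mem hs (P.Sh.mul_mem (P.Sh.pow_mem P.τh_mem i) hs'), ?_⟩
    ring
  · intro x i
    obtain ⟨c, hc⟩ := P.bounded x
    refine ⟨i + c, ?_⟩
    intro y hy
    obtain ⟨s, hs, rfl⟩ := P.mem_B.mp hy
    refine P.mem_B.mpr ⟨(algebraMap L Lh P.τ ^ c * x) * s, P.Sh.mul_mem hc hs, ?_⟩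
    change P.τh ^ i * (P.τh ^ c * x * s) = x * (P.τh ^ (i + c) * s)
    rw [pow_add]; ring

/-- The `τ`-adic topology on `Lh`. -/
@[reducible] def topology : TopologicalSpace Lh := P.ringSubgroupsBasis.topology

theorem isTopologicalRing : @IsTopologicalRing Lh P.topology _ :=
  @NonarchimedeanRing.toIsTopologicalRing Lh _ P.topology P.ringSubgroupsBasis.nonarchimedean

theorem isOpen_B (k : ℕ) : @IsOpen Lh P.topology (P.B k : Set Lh) := by
  letI := P.topology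
  exact (P.ringSubgroupsBasis.openAddSubgroup k).isOpen'

theorem denseRange : @DenseRange Lh P.topology L (algebraMap L Lh) := by
  letI := P.topology
  intro x
  rw [mem_closure_iff_nhds_basis (P.ringSubgroupsBasis.hasBasis_nhds x)]
  intro k _
  obtain ⟨y, s, hs, hx⟩ := P.dense x k
  refine ⟨algebraMap L Lh y, ⟨y, rfl⟩, ?_⟩
  change algebraMap L Lh y - x ∈ P.B k
  rw [hx]
  refine P.mem_B.mpr ⟨-s, P.Sh.neg_mem hs, ?_⟩
  change algebraMap L Lh P.τ ^ k * -s = _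
  ring

theorem isUnit_of_map_mem (n : ℕ) (U : Matrix (Fin n) (Fin n) L)
    (hU : U.map (algebraMap L Lh) ∈ nbhdOne (P.B 1 : Set Lh) n) : IsUnit U := by
  apply isUnit_of_sub_one_mem P.S₀ P.τ P.τ_mem P.unit₀
  intro i j
  apply P.closed
  have h := hU i j
  rw [map_sub_one] at h
  obtain ⟨s, hs, hs'⟩ := P.mem_B.mp h
  refine ⟨s, hs, ?_⟩
  rw [← hs', pow_one]
  rfl

theorem isUnit_of_mem (n : ℕ) (U : Matrix (Fin n) (Fin n) Lh)
    (hU : U ∈ nbhdOne (P.B 1 : Set Lh) n) : IsUnit U := by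
  apply isUnit_of_sub_one_mem P.Sh P.τh P.τh_mem P.unith
  intro i j
  obtain ⟨s, hs, hs'⟩ := P.mem_B.mp (hU i j)
  refine ⟨s, hs, ?_⟩
  rw [← hs', pow_one]

end LatticePair

end Groth.Agent.Lib.Helper12.BC
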