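import Mathlib
import Groth.Agent.Lib.Helper12.BCLattice
import Groth.Agent.Lib.Helper12.AwayIdemB

/-!
# The lattice pair `A[1/t] → Â[1/t]` for `t` in the Jacobson radical
-/

set_option autoImplicit false
set_option linter.unusedSectionVars false
universe u

namespace Groth.Agent.Lib.Helper12.BC

open Groth.Agent.Lib.Helper12.AwayIdem

variable {A : Type u} [CommRing A] (t : A)
  [Algebra (Localization.Away t) (Localization.Away (algebraMap A (Ah t) t))]
  (halg : algebraMap (Localization.Away t) (Localization.Away (algebraMap A (Ah t) t)) =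
    Localization.awayMap (algebraMap A (Ah t)) t)

include halg in
theorem away_map_algebraMap (a : A) :
    algebraMap (Localization.Away t) (Localization.Away (algebraMap A (Ah t) t))
      (algebraMap A (Localization.Away t) a) =
    algebraMap (Ah t) (Localization.Away (algebraMap A (Ah t) t)) (algebraMap A (Ah t) a) := by
  rw [halg]
  simp [Localization.awayMap, IsLocalization.Away.map]

theorem isUnit_tau : IsUnit (algebraMap A (Localization.Away t) t) :=
  IsLocalization.Away.algebraMap_isUnit t

theorem isUnit_tauh : IsUnit (algebraMap (Ah t) (Localization.Away (algebraMap A (Ah t) t))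
    (algebraMap A (Ah t) t)) :=
  IsLocalization.Away.algebraMap_isUnit _

include halg in
/-- The lattice pair of `A[1/t] → Â[1/t]`. -/
noncomputable def awayLatticePair (ht : t ∈ (⊥ : Ideal A).jacobson) :
    LatticePair (Localization.Away t) (Localization.Away (algebraMap A (Ah t) t)) where
  S₀ := (algebraMap A (Localization.Away t)).range
  Sh := (algebraMap (Ah t) (Localization.Away (algebraMap A (Ah t) t))).range
  τ := algebraMap A (Localization.Away t) t
  τ_mem := ⟨t, rfl⟩
  map_mem := by
    rintro _ ⟨a, rfl⟩
    exact ⟨algebraMap A (Ah t) a, (away_map_algebraMap t halg a).symm⟩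
  bounded := by
    intro x
    obtain ⟨k, a, ha⟩ := IsLocalization.Away.surj (algebraMap A (Ah t) t) x
    refine ⟨k, a, ?_⟩
    rw [away_map_algebraMap t halg, ← ha, mul_comm]
  dense := by
    intro x k
    obtain ⟨j, a, ha⟩ := IsLocalization.Away.surj (algebraMap A (Ah t) t) x
    obtain ⟨a₀, y, hy⟩ := exists_approx t a (k + j)
    obtain ⟨u, hu⟩ := isUnit_tau t
    obtain ⟨uh, huh⟩ := isUnit_tauh t
    refine ⟨algebraMap A (Localization.Away t) a₀ * ((u⁻¹ : (Localization.Away t)ˣ) : _) ^ j,
      algebraMap (Ah t) _ y, ⟨y, rfl⟩, ?_⟩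
    have hφu : algebraMap (Localization.Away t) (Localization.Away (algebraMap A (Ah t) t))
        (u : Localization.Away t) = uh := by
      rw [hu, huh, away_map_algebraMap t halg]
    have hφuinv : algebraMap (Localization.Away t) (Localization.Away (algebraMap A (Ah t) t))
        ((u⁻¹ : (Localization.Away t)ˣ) : Localization.Away t) = ((uh⁻¹ : _ˣ) : _) := by
      have h1 : algebraMap (Localization.Away t) (Localization.Away (algebraMap A (Ah t) t))
          ((u⁻¹ : (Localization.Away t)ˣ) : Localization.Away t) * (uh : _) = 1 := by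
        rw [← hφu, ← map_mul, Units.inv_mul, map_one]
      rw [mul_comm] at h1
      exact (Units.eq_inv_of_mul_eq_one_left h1)
    rw [away_map_algebraMap t halg, map_mul, map_pow, hφuinv, away_map_algebraMap t halg, ← huh]
    have hx : x = algebraMap (Ah t) _ a * ((uh⁻¹ : _ˣ) : _) ^ j := by
      rw [← ha, ← huh, mul_assoc, ← mul_pow, Units.mul_inv, one_pow, mul_one]
    rw [hx, hy, map_add, map_mul, map_pow, ← huh, pow_add]
    have h2 : ∀ (w : (Localization.Away (algebraMap A (Ah t) t))ˣ) (b c : Localization.Away
        (algebraMap A (Ah t) t)) (k j : ℕ), (b + (w : _) ^ k * (w : _) ^ j * c) *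
          ((w⁻¹ : _ˣ) : _) ^ j = b * ((w⁻¹ : _ˣ) : _) ^ j + (w : _) ^ k * c := by
      intro w b c k j
      have : ((w : Localization.Away (algebraMap A (Ah t) t))) ^ j * ((w⁻¹ : _ˣ) : _) ^ j = 1 := by
        rw [← mul_pow, Units.mul_inv, one_pow]
      linear_combination ((w : Localization.Away (algebraMap A (Ah t) t))) ^ k * c * this
    exact h2 uh _ _ k j
  closed := by
    rintro x ⟨_, ⟨s, rfl⟩, hs⟩
    obtain ⟨j, a, ha⟩ := IsLocalization.Away.surj t x
    rw [away_map_algebraMap t halg] at hs
    -- image of `a` in `Lh`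
    have h1 : algebraMap (Ah t) (Localization.Away (algebraMap A (Ah t) t))
        (algebraMap A (Ah t) a - (algebraMap A (Ah t) t) ^ (j + 1) * s) = 0 := by
      rw [map_sub, ← away_map_algebraMap t halg, ← ha, map_mul, hs, map_mul, map_pow, map_pow,
        away_map_algebraMap t halg]
      ring
    obtain ⟨N, hN⟩ := exists_pow_mul_eq_zero (algebraMap A (Ah t) t) _ h1
    have h2 : algebraMap A (Ah t) (t ^ N * a) =
        (algebraMap A (Ah t) t) ^ (N + j + 1) * s := by
      rw [map_mul, map_pow]
      linear_combination hN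
    obtain ⟨c, hc⟩ := exists_eq_pow_mul_of_algebraMap_eq t (t ^ N * a) (N + j + 1) s h2
    refine ⟨algebraMap A _ c, ⟨c, rfl⟩, ?_⟩
    have h3 := congrArg (algebraMap A (Localization.Away t)) hc
    rw [map_mul, map_mul, map_pow, map_pow, ← ha] at h3
    obtain ⟨u, hu⟩ := isUnit_tau t
    rw [← hu] at h3 ⊢
    have h4 : (u : Localization.Away t) ^ (N + j) * x =
        (u : Localization.Away t) ^ (N + j) * (u * algebraMap A _ c) := by
      linear_combination h3
    exact (Units.isUnit (u ^ (N + j))).mul_left_cancel (by simpa using h4)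
  unit₀ := by
    rintro _ ⟨a, rfl⟩
    have h1 : IsUnit (t * a + 1) := Ideal.mem_jacobson_bot.mp ht a
    have h2 := h1.map (algebraMap A (Localization.Away t))
    rwa [map_add, map_mul, map_one, add_comm] at h2
  unith := by
    rintro _ ⟨s, rfl⟩
    have h1 : IsUnit (1 - algebraMap A (Ah t) t * (-s)) := isUnit_one_sub_mul t (-s)
    have h2 := h1.map (algebraMap (Ah t) (Localization.Away (algebraMap A (Ah t) t)))
    rw [away_map_algebraMap t halg]
    rwa [mul_neg, sub_neg_eq_add, map_add, map_mul, map_one] at h2

end Groth.Agent.Lib.Helper12.BC
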