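import Groth.Agent.Lib.Helper12.IdemLiftConverse

set_option autoImplicit false
universe u v

/-!
# Operations on henselian pairs: integral algebras, quotients, sums, directed unions
-/

namespace Groth.Agent.Lib.Helper12

open Polynomial

/-- An integral algebra over a henselian pair is henselian. -/
theorem henselianRing_map_of_isIntegral (A : Type u) [CommRing A] (I : Ideal A) [HenselianRing A I]
    (B : Type u) [CommRing B] [Algebra A B] [Algebra.IsIntegral A B] :
    HenselianRing B (Ideal.map (algebraMap A B) I) := by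
  apply henselianRing_of_idemLiftFinite
  intro C _ _ hfin
  haveI := hfin
  letI : Algebra A C := Algebra.compHom C (algebraMap A B)
  haveI : IsScalarTower A B C := IsScalarTower.of_algebraMap_eq (fun _ => rfl)
  haveI : Algebra.IsIntegral B C := inferInstance
  haveI : Algebra.IsIntegral A C := Algebra.IsIntegral.trans B
  have key : Ideal.map (algebraMap B C) (Ideal.map (algebraMap A B) I) =
      Ideal.map (algebraMap A C) I := by
    rw [Ideal.map_map, ← IsScalarTower.algebraMap_eq]
  have transport : ∀ (J J' : Ideal C), J' = J →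
      Set.BijOn (Ideal.Quotient.mk J) {e : C | IsIdempotentElem e} {e | IsIdempotentElem e} →
      Set.BijOn (Ideal.Quotient.mk J') {e : C | IsIdempotentElem e} {e | IsIdempotentElem e} := by
    intro J J' h hb
    subst h
    exact hb
  exact transport _ _ key
    (bijOn_idempotents_of_isIntegral HenselianRing.jac (factorLift_of_henselianRing (I := I)) C)

/-- A quotient of a henselian pair is henselian. -/
theorem henselianRing_quotient (A : Type u) [CommRing A] (I : Ideal A) [HenselianRing A I]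
    (K : Ideal A) : HenselianRing (A ⧸ K) (I.map (Ideal.Quotient.mk K)) := by
  haveI : Algebra.IsIntegral A (A ⧸ K) :=
    Algebra.isIntegral_of_surjective Ideal.Quotient.mk_surjective
  exact henselianRing_map_of_isIntegral A I (A ⧸ K)

variable {A : Type u} [CommRing A]

theorem isUnit_mk_iff {K : Ideal A} {x : A} :
    IsUnit (Ideal.Quotient.mk K x) ↔ ∃ b, x * b - 1 ∈ K := by
  constructor
  · intro h
    obtain ⟨y, hy⟩ := h.exists_right_inv
    obtain ⟨b, rfl⟩ := Ideal.Quotient.mk_surjective y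
    refine ⟨b, ?_⟩
    rw [← Ideal.Quotient.eq, map_mul, hy, map_one]
  · rintro ⟨b, hb⟩
    apply IsUnit.of_mul_eq_one (Ideal.Quotient.mk K b)
    rw [← map_mul, ← map_one (Ideal.Quotient.mk K)]
    exact Ideal.Quotient.eq.mpr hb

theorem henselianRing_bot : HenselianRing A (⊥ : Ideal A) := by
  refine ⟨bot_le, ?_⟩
  intro f _ a₀ h0 _
  exact ⟨a₀, by rwa [Ideal.mem_bot] at h0, by simp⟩

/-- The sum of two henselian ideals is henselian. -/
theorem henselianRing_sup (I J : Ideal A) [hI : HenselianRing A I] [hJ : HenselianRing A J] :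
    HenselianRing A (I ⊔ J) := by
  haveI hq : HenselianRing (A ⧸ I) (J.map (Ideal.Quotient.mk I)) := henselianRing_quotient A J I
  have hjacI : I ≤ Ideal.jacobson ⊥ := HenselianRing.jac
  have hjacq : J.map (Ideal.Quotient.mk I) ≤ Ideal.jacobson ⊥ := HenselianRing.jac
  -- image of `I ⊔ J` in `A / I`
  have hmapmem : ∀ x ∈ I ⊔ J, Ideal.Quotient.mk I x ∈ J.map (Ideal.Quotient.mk I) := by
    intro x hx
    obtain ⟨i, hi, j, hj, rfl⟩ := Submodule.mem_sup.mp hx
    rw [map_add, Ideal.Quotient.eq_zero_iff_mem.mpr hi, zero_add]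
    exact Ideal.mem_map_of_mem _ hj
  refine ⟨?_, ?_⟩
  · intro x hx
    rw [Ideal.mem_jacobson_bot]
    intro y
    apply isUnit_of_isUnit_mk hjacI
    rw [map_add, map_mul, map_one]
    exact Ideal.mem_jacobson_bot.mp (hjacq (hmapmem x hx)) _
  · intro f hf a₀ h0 h1
    set mkI := Ideal.Quotient.mk I with hmkI
    set f' := f.map mkI with hf'
    have hevalmap : ∀ (p : A[X]) (a : A), (p.map mkI).eval (mkI a) = mkI (p.eval a) :=
      fun p a => eval_map_apply mkI a
    -- first lift modulo `I`
    have h0' : f'.eval (mkI a₀) ∈ J.map mkI := by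
      rw [hf', hevalmap]
      exact hmapmem _ h0
    obtain ⟨b, hb⟩ := isUnit_mk_iff.mp h1
    have h1' : IsUnit (Ideal.Quotient.mk (J.map mkI) (f'.derivative.eval (mkI a₀))) := by
      rw [isUnit_mk_iff]
      refine ⟨mkI b, ?_⟩
      rw [hf', derivative_map, hevalmap, ← map_mul, ← map_one mkI, ← map_sub]
      exact hmapmem _ hb
    obtain ⟨a₁', hroot₁, hdiff₁⟩ := HenselianRing.is_henselian f' (hf.map mkI) (mkI a₀) h0' h1'
    obtain ⟨j', hj', hj'eq⟩ :=
      (Ideal.mem_map_iff_of_surjective mkI Ideal.Quotient.mk_surjective).mp hdiff₁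
    set a₁ := a₀ + j' with ha₁
    have ha₁' : mkI a₁ = a₁' := by
      rw [ha₁, map_add, hj'eq]
      ring
    have h0'' : f.eval a₁ ∈ I := by
      rw [← Ideal.Quotient.eq_zero_iff_mem, ← hmkI, ← hevalmap, ha₁']
      exact hroot₁
    have h1'' : IsUnit (Ideal.Quotient.mk I (f.derivative.eval a₁)) := by
      apply isUnit_of_isUnit_mk hjacq
      rw [← hmkI, ← hevalmap, ← derivative_map, ← hf', ha₁']
      -- `f'.derivative.eval a₁' ≡ f'.derivative.eval (mkI a₀)`
      have hcong : Ideal.Quotient.mk (J.map mkI) (f'.derivative.eval a₁') =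
          Ideal.Quotient.mk (J.map mkI) (f'.derivative.eval (mkI a₀)) := by
        rw [Ideal.Quotient.eq]
        exact Ideal.mem_of_dvd _ (Polynomial.sub_dvd_eval_sub _ _ _) hdiff₁
      rw [hcong]
      exact h1'
    obtain ⟨a, hroot, hdiff⟩ := HenselianRing.is_henselian f hf a₁ h0'' h1''
    refine ⟨a, hroot, ?_⟩
    have : a - a₀ = (a - a₁) + j' := by rw [ha₁]; ring
    rw [this]
    exact Submodule.add_mem_sup hdiff hj'

/-- A directed union of henselian ideals is henselian. -/
theorem henselianRing_sSup_of_directed (S : Set (Ideal A)) (hne : S.Nonempty)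
    (hdir : DirectedOn (· ≤ ·) S) (hS : ∀ J ∈ S, HenselianRing A J) :
    HenselianRing A (sSup S) := by
  refine ⟨sSup_le fun J hJ => (hS J hJ).jac, ?_⟩
  intro f hf a₀ h0 h1
  obtain ⟨K₁, hK₁, h0K⟩ := (Submodule.mem_sSup_of_directed hne hdir).mp h0
  obtain ⟨b, hb⟩ := isUnit_mk_iff.mp h1
  obtain ⟨K₂, hK₂, hbK⟩ := (Submodule.mem_sSup_of_directed hne hdir).mp hb
  obtain ⟨K, hK, h1K, h2K⟩ := hdir K₁ hK₁ K₂ hK₂
  haveI := hS K hK
  obtain ⟨a, hroot, hdiff⟩ := HenselianRing.is_henselian (I := K) f hf a₀ (h1K h0K)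
    (isUnit_mk_iff.mpr ⟨b, h2K hbK⟩)
  exact ⟨a, hroot, le_sSup hK hdiff⟩

/-- Every ring has a largest henselian ideal. -/
theorem exists_largest_henselian_ideal (A : Type u) [CommRing A] :
    ∃ I : Ideal A, HenselianRing A I ∧ ∀ J : Ideal A, HenselianRing A J → J ≤ I := by
  set S : Set (Ideal A) := {J | HenselianRing A J} with hS
  refine ⟨sSup S, ?_, fun J hJ => le_sSup hJ⟩
  apply henselianRing_sSup_of_directed S ⟨⊥, henselianRing_bot⟩
  · intro J₁ h₁ J₂ h₂
    haveI : HenselianRing A J₁ := h₁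
    haveI : HenselianRing A J₂ := h₂
    exact ⟨J₁ ⊔ J₂, henselianRing_sup J₁ J₂, le_sup_left, le_sup_right⟩
  · intro J hJ
    exact hJ

end Groth.Agent.Lib.Helper12
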