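import Mathlib
import Groth.Agent.Lib.Helper12.HenselPairOps

/-!
# Lifting a nearly idempotent matrix to an idempotent along a Henselian pair
-/

set_option autoImplicit false
set_option linter.unusedSectionVars false
set_option linter.deprecated false
set_option linter.style.haveILetI false
universe u

namespace Groth.Agent.Lib.Helper12.BC

open Polynomial

/-- The Newton correction of a nearly idempotent element, in a possibly noncommutative ring,
given commuting solutions of the auxiliary equations. -/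
theorem isIdempotentElem_of_root {𝒜 : Type*} [Ring 𝒜] (P h w : 𝒜) (hPh : Commute P h)
    (hPw : Commute P w) (hhw : Commute h w)
    (hw : (1 + ((P * P - P) + (P * P - P) + (P * P - P) + (P * P - P))) * w = 1)
    (hroot : h * h + h + (P * P - P) * w = 0) :
    IsIdempotentElem (P + (P + P - 1) * h) := by
  let s : Set 𝒜 := {P, h, w}
  have hcomm : ∀ a ∈ s, ∀ b ∈ s, a * b = b * a := by
    rintro a (rfl | rfl | rfl) b (rfl | rfl | rfl)
    · rfl
    · exact hPh.eq
    · exact hPw.eq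
    · exact hPh.eq.symm
    · rfl
    · exact hhw.eq
    · exact hPw.eq.symm
    · exact hhw.eq.symm
    · rfl
  letI : CommRing (Algebra.adjoin ℤ s) := Algebra.adjoinCommRingOfComm ℤ hcomm
  let P' : Algebra.adjoin ℤ s := ⟨P, Algebra.subset_adjoin (by simp [s])⟩
  let h' : Algebra.adjoin ℤ s := ⟨h, Algebra.subset_adjoin (by simp [s])⟩
  let w' : Algebra.adjoin ℤ s := ⟨w, Algebra.subset_adjoin (by simp [s])⟩
  have hw' : (1 + ((P' * P' - P') + (P' * P' - P') + (P' * P' - P') + (P' * P' - P'))) * w' = 1 :=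
    Subtype.ext hw
  have hroot' : h' * h' + h' + (P' * P' - P') * w' = 0 := Subtype.ext hroot
  have key : (P' + (P' + P' - 1) * h') * (P' + (P' + P' - 1) * h') = P' + (P' + P' - 1) * h' := by
    linear_combination (1 + 4 * (P' * P' - P')) * hroot' - (P' * P' - P') * hw'
  exact congrArg Subtype.val key

/-- Roots of `Y² + Y + s` for `s` in a Henselian ideal. -/
theorem exists_root_quadratic {R : Type*} [CommRing R] (I : Ideal R) [HenselianRing R I]
    (s : R) (hs : s ∈ I) : ∃ h : R, h * h + h + s = 0 ∧ h ∈ I := by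
  have hmonic : (X ^ 2 + X + C s : R[X]).Monic := by
    have h1 : (X ^ 2 + X + C s : R[X]) = X ^ 2 + (X + C s) := by ring
    rw [h1]
    apply Polynomial.monic_X_pow_add
    refine (Polynomial.degree_add_le _ _).trans_lt ?_
    refine (max_le Polynomial.degree_X_le (Polynomial.degree_C_le.trans zero_le_one)).trans_lt ?_
    norm_num
  obtain ⟨h, hroot, hmem⟩ := HenselianRing.is_henselian (X ^ 2 + X + C s : R[X]) hmonic (0 : R)
    (by simpa using hs) (by simp)
  rw [Polynomial.IsRoot.def] at hroot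
  simp only [eval_add, eval_pow, eval_X, eval_C] at hroot
  rw [sub_zero] at hmem
  exact ⟨h, by linear_combination hroot, hmem⟩

theorem isUnit_one_add_of_mem {R : Type*} [CommRing R] (I : Ideal R) [HenselianRing R I]
    {x : R} (hx : x ∈ I) : IsUnit (1 + x) := by
  have := Ideal.mem_jacobson_bot.mp (HenselianRing.jac hx) 1
  rwa [mul_one, add_comm] at this

variable {A L : Type u} [CommRing A] [CommRing L] [Algebra A L]

theorem commute_aeval {𝒜 : Type*} [Ring 𝒜] [Algebra A 𝒜] {P N : 𝒜} (h : Commute P N) (q : A[X]) :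
    Commute P (aeval N q) := by
  have h1 : aeval N q ∈ Algebra.adjoin A {N} := Polynomial.aeval_mem_adjoin_singleton A N
  have h2 : Algebra.adjoin A {N} ≤ Subalgebra.centralizer A {P} := by
    apply Algebra.adjoin_le
    rintro _ rfl
    rw [SetLike.mem_coe, Subalgebra.mem_centralizer_iff]
    rintro _ rfl
    exact h.eq
  exact (Subalgebra.mem_centralizer_iff A).mp (h2 h1) P rfl

/-- Lifting a nearly idempotent matrix `P₀` over `L`, with `P₀² - P₀ = t N` for a matrix `N`
coming from `A` and commuting with `P₀`, to an idempotent. -/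
theorem exists_idempotent_near (I : Ideal A) [HenselianRing A I] (t : A) (ht : t ∈ I) {m : ℕ}
    (P₀ : Matrix (Fin m) (Fin m) L) (N : Matrix (Fin m) (Fin m) A)
    (hν : P₀ * P₀ - P₀ = algebraMap A L t • N.map (algebraMap A L))
    (hcomm : Commute P₀ (N.map (algebraMap A L))) :
    ∃ (p : Matrix (Fin m) (Fin m) L) (c : Matrix (Fin m) (Fin m) A), IsIdempotentElem p ∧
      p = P₀ + (P₀ + P₀ - 1) * ((P₀ * P₀ - P₀) * c.map (algebraMap A L)) := by
  classical
  set χ := N.charpoly with hχ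
  have hmonic : χ.Monic := Matrix.charpoly_monic N
  haveI : Module.Finite A (A[X] ⧸ Ideal.span {χ}) := hmonic.finite_quotient
  haveI : Algebra.IsIntegral A (A[X] ⧸ Ideal.span {χ}) := Algebra.IsIntegral.of_finite A _
  haveI hH : HenselianRing (A[X] ⧸ Ideal.span {χ}) (I.map (algebraMap A (A[X] ⧸ Ideal.span {χ}))) :=
    henselianRing_map_of_isIntegral A I (A[X] ⧸ Ideal.span {χ})
  set J := I.map (algebraMap A (A[X] ⧸ Ideal.span {χ})) with hJ
  let Θ₀ : (A[X] ⧸ Ideal.span {χ}) →ₐ[A] Matrix (Fin m) (Fin m) A :=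
    Ideal.Quotient.liftₐ (Ideal.span {χ}) (aeval N) (by
      intro a ha
      obtain ⟨b, rfl⟩ := Ideal.mem_span_singleton'.mp ha
      rw [map_mul, hχ, Matrix.aeval_self_charpoly, mul_zero])
  let mM : Matrix (Fin m) (Fin m) A →ₐ[A] Matrix (Fin m) (Fin m) L := (Algebra.ofId A L).mapMatrix
  have hmM : ∀ Z, mM Z = Z.map (algebraMap A L) := fun Z => rfl
  let Θ : (A[X] ⧸ Ideal.span {χ}) →ₐ[A] Matrix (Fin m) (Fin m) L := mM.comp Θ₀
  have hΘcomm : ∀ x, Commute P₀ (Θ x) := by
    intro x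
    obtain ⟨q, rfl⟩ := Ideal.Quotient.mk_surjective x
    have h1 : Θ (Ideal.Quotient.mk _ q) = aeval (mM N) q := by
      change mM (aeval N q) = _
      rw [aeval_algHom_apply]
    rw [h1]
    exact commute_aeval (by rw [hmM]; exact hcomm) q
  set ρ : A[X] ⧸ Ideal.span {χ} := Ideal.Quotient.mk _ X with hρ
  have hΘρ : Θ ρ = N.map (algebraMap A L) := by
    change mM (aeval N X) = _
    rw [aeval_X, hmM]
  set νQ : A[X] ⧸ Ideal.span {χ} := algebraMap A _ t * ρ with hνQ
  have hΘν : Θ νQ = P₀ * P₀ - P₀ := by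
    rw [hνQ, map_mul, AlgHom.commutes, hΘρ, hν, Algebra.algebraMap_eq_smul_one, smul_mul_assoc,
      one_mul, algebraMap_smul]
  have hνmem : νQ ∈ J := Ideal.mul_mem_right _ _ (Ideal.mem_map_of_mem _ ht)
  have h4mem : νQ + νQ + νQ + νQ ∈ J := J.add_mem (J.add_mem (J.add_mem hνmem hνmem) hνmem) hνmem
  obtain ⟨u, hu⟩ := isUnit_one_add_of_mem J h4mem
  have hsmem : νQ * (↑u⁻¹ : A[X] ⧸ Ideal.span {χ}) ∈ J := Ideal.mul_mem_right _ _ hνmem
  obtain ⟨h, hroot, hhmem⟩ := exists_root_quadratic J _ hsmem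
  obtain ⟨v, hv⟩ := isUnit_one_add_of_mem J hhmem
  have hhc : h = νQ * (-((↑u⁻¹ : A[X] ⧸ Ideal.span {χ}) * (↑v⁻¹ : A[X] ⧸ Ideal.span {χ}))) := by
    have h1 : h * (v : A[X] ⧸ Ideal.span {χ}) = -(νQ * (↑u⁻¹ : A[X] ⧸ Ideal.span {χ})) := by
      rw [hv]; linear_combination hroot
    have h2 : h = h * (v : A[X] ⧸ Ideal.span {χ}) * (↑v⁻¹ : A[X] ⧸ Ideal.span {χ}) := by
      rw [mul_assoc, Units.mul_inv, mul_one]
    rw [h2, h1]; ring
  refine ⟨P₀ + (P₀ + P₀ - 1) * Θ h,
    Θ₀ (-((↑u⁻¹ : A[X] ⧸ Ideal.span {χ}) * (↑v⁻¹ : A[X] ⧸ Ideal.span {χ}))), ?_, ?_⟩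
  · apply isIdempotentElem_of_root P₀ (Θ h) (Θ (↑u⁻¹ : A[X] ⧸ Ideal.span {χ})) (hΘcomm _)
      (hΘcomm _)
    · change Θ h * Θ _ = Θ _ * Θ h
      rw [← map_mul, ← map_mul, mul_comm]
    · rw [← hΘν, ← map_add, ← map_add, ← map_add, ← map_one Θ, ← map_add, ← map_mul, ← hu,
        Units.mul_inv]
    · rw [← hΘν, ← map_mul, ← map_mul, ← map_add, ← map_add, hroot, map_zero]
  · conv_lhs => rw [hhc]
    rw [map_mul, hΘν]
    rfl

end Groth.Agent.Lib.Helper12.BC
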