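import Mathlib
import Groth.Agent.Lib.Helper12.BCLattice

/-!
# Base change of retracts of finite free modules, in coordinates
-/

set_option autoImplicit false
set_option linter.unusedSectionVars false
universe u

namespace Groth.Agent.Lib.Helper12.BC

open Matrix TensorProduct

variable (L Lh : Type u) [CommRing L] [CommRing Lh] [Algebra L Lh]

/-- `Lh ⊗ L^n ≃ Lh^n`. -/
noncomputable def beta (n : ℕ) : Lh ⊗[L] (Fin n → L) ≃ₗ[Lh] (Fin n → Lh) :=
  TensorProduct.piScalarRight L Lh Lh (Fin n)

variable {L Lh}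

theorem beta_tmul {n : ℕ} (c : Lh) (v : Fin n → L) :
    beta L Lh n (c ⊗ₜ v) = fun i => v i • c := by
  rw [beta, TensorProduct.piScalarRight_apply, TensorProduct.piScalarRightHom_tmul]

theorem beta_baseChange {a b : ℕ} (Q : Matrix (Fin a) (Fin b) L) (t : Lh ⊗[L] (Fin b → L)) :
    beta L Lh a ((Matrix.toLin' Q).baseChange Lh t) =
      (Q.map (algebraMap L Lh)) *ᵥ (beta L Lh b t) := by
  induction t using TensorProduct.induction_on with
  | zero => simp
  | add x y hx hy => rw [map_add, map_add, hx, hy, map_add, Matrix.mulVec_add]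
  | tmul c v =>
    rw [LinearMap.baseChange_tmul, beta_tmul, beta_tmul]
    ext i
    simp only [Matrix.toLin'_apply, Matrix.mulVec, dotProduct, Matrix.map_apply,
      Algebra.smul_def, map_sum, map_mul, Finset.sum_mul]
    refine Finset.sum_congr rfl (fun j _ => ?_)
    ring

section Retract

variable {M : Type u} [AddCommGroup M] [Module L M] {m : ℕ}
  (i : M →ₗ[L] (Fin m → L)) (r : (Fin m → L) →ₗ[L] M)

/-- The coordinate embedding of `Lh ⊗ M`. -/
noncomputable def retA : Lh ⊗[L] M →ₗ[Lh] (Fin m → Lh) :=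
  (beta L Lh m).toLinearMap ∘ₗ i.baseChange Lh

/-- The coordinate retraction onto `Lh ⊗ M`. -/
noncomputable def retC : (Fin m → Lh) →ₗ[Lh] Lh ⊗[L] M :=
  r.baseChange Lh ∘ₗ (beta L Lh m).symm.toLinearMap

theorem retC_retA (hri : r ∘ₗ i = LinearMap.id) (t : Lh ⊗[L] M) :
    retC r (retA i t) = t := by
  simp only [retC, retA, LinearMap.comp_apply, LinearEquiv.coe_coe, LinearEquiv.symm_apply_apply]
  rw [← LinearMap.comp_apply, ← LinearMap.baseChange_comp, hri, LinearMap.baseChange_id,
    LinearMap.id_apply]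

theorem retA_retC (v : Fin m → Lh) :
    retA i (retC r v) = ((LinearMap.toMatrix' (i ∘ₗ r)).map (algebraMap L Lh)) *ᵥ v := by
  simp only [retC, retA, LinearMap.comp_apply, LinearEquiv.coe_coe]
  rw [← LinearMap.comp_apply (LinearMap.baseChange Lh i), ← LinearMap.baseChange_comp]
  conv_lhs => rw [← Matrix.toLin'_toMatrix' (i ∘ₗ r)]
  rw [beta_baseChange, LinearEquiv.apply_symm_apply]

theorem mulVec_retA {k : ℕ} (Q : Matrix (Fin k) (Fin m) L) (t : Lh ⊗[L] M) :
    (Q.map (algebraMap L Lh)) *ᵥ (retA i t) =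
      beta L Lh k ((Matrix.toLin' Q ∘ₗ i).baseChange Lh t) := by
  simp only [retA, LinearMap.comp_apply, LinearEquiv.coe_coe]
  rw [← beta_baseChange, LinearMap.baseChange_comp, LinearMap.comp_apply]

end Retract

/-- A finite projective module is a retract of a finite free module. -/
theorem exists_retract (M : Type u) [AddCommGroup M] [Module L M] [Module.Finite L M]
    [Module.Projective L M] :
    ∃ (m : ℕ) (i : M →ₗ[L] (Fin m → L)) (r : (Fin m → L) →ₗ[L] M), r ∘ₗ i = LinearMap.id := by
  obtain ⟨m, r, hr⟩ := Module.Finite.exists_fin' L M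
  obtain ⟨i, hi⟩ := Module.projective_lifting_property r LinearMap.id hr
  exact ⟨m, i, r, hi⟩

end Groth.Agent.Lib.Helper12.BC
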