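import Mathlib
import Groth.Agent.Lib.Helper12.BCHensA
import Groth.Agent.Lib.Helper12.BCModA

/-!
# Finite projective modules over `Lh` are extended from `L` for a Henselian lattice pair
-/

set_option autoImplicit false
set_option linter.unusedSectionVars false
set_option linter.style.haveILetI false
universe u

namespace Groth.Agent.Lib.Helper12.BC

open Matrix TensorProduct

section Top

variable {Lh : Type u} [CommRing Lh] [TopologicalSpace Lh]

theorem isOpen_entries {W : Set Lh} (hW : IsOpen W) (a b : ℕ) :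
    IsOpen {E : Matrix (Fin a) (Fin b) Lh | ∀ i j, E i j ∈ W} := by
  have h : {E : Matrix (Fin a) (Fin b) Lh | ∀ i j, E i j ∈ W} = ⋂ i : Fin a, ⋂ j : Fin b,
      (fun U : Matrix (Fin a) (Fin b) Lh => U i j) ⁻¹' W := by
    ext U
    simp
  rw [h]
  exact isOpen_iInter_of_finite fun i => isOpen_iInter_of_finite fun j =>
    hW.preimage (continuous_id.matrix_elem i j)

end Top

variable {L Lh : Type u} [CommRing L] [CommRing Lh] [Algebra L Lh] (P : LatticePair L Lh)

namespace LatticePair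

theorem mul_mem_B_of_mem_Sh {k : ℕ} {x y : Lh} (hx : x ∈ P.B k) (hy : y ∈ P.Sh) :
    x * y ∈ P.B k := by
  obtain ⟨s, hs, rfl⟩ := P.mem_B.mp hx
  exact P.mem_B.mpr ⟨s * y, P.Sh.mul_mem hs hy, by ring⟩

theorem entries_mul_Sh {a b c : ℕ} {k : ℕ} {E : Matrix (Fin a) (Fin b) Lh}
    {F : Matrix (Fin b) (Fin c) Lh} (hE : ∀ i j, E i j ∈ P.B k) (hF : ∀ i j, F i j ∈ P.Sh) :
    ∀ i j, (E * F) i j ∈ P.B k := by
  intro i j
  rw [Matrix.mul_apply]
  exact (P.B k).sum_mem fun l _ => P.mul_mem_B_of_mem_Sh (hE i l) (hF l j)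

theorem entries_mul_bounded {a b c : ℕ} {d : ℕ} {E : Matrix (Fin a) (Fin b) Lh}
    {F : Matrix (Fin b) (Fin c) Lh} (hE : ∀ i j, E i j ∈ P.B (d + 1))
    (hF : ∀ i j, P.τh ^ d * F i j ∈ P.Sh) :
    ∀ i j, (E * F) i j ∈ P.B 1 := by
  intro i j
  rw [Matrix.mul_apply]
  refine (P.B 1).sum_mem fun l _ => ?_
  obtain ⟨s, hs, hs'⟩ := P.mem_B.mp (hE i l)
  refine P.mem_B.mpr ⟨s * (P.τh ^ d * F l j), P.Sh.mul_mem hs (hF l j), ?_⟩
  rw [← hs', pow_succ]
  ring

theorem exists_bound {a b : ℕ} (F : Matrix (Fin a) (Fin b) Lh) :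
    ∃ d : ℕ, ∀ i j, P.τh ^ d * F i j ∈ P.Sh := by
  choose k hk using fun i j => P.bounded (F i j)
  refine ⟨∑ i, ∑ j, k i j, fun i j => ?_⟩
  have h1 : k i j ≤ ∑ i, ∑ j, k i j :=
    (Finset.single_le_sum (f := fun j => k i j) (fun _ _ => Nat.zero_le _)
      (Finset.mem_univ j)).trans
      (Finset.single_le_sum (f := fun i => ∑ j, k i j) (fun _ _ => Nat.zero_le _)
        (Finset.mem_univ i))
  obtain ⟨e, he⟩ := Nat.exists_eq_add_of_le h1
  rw [he, pow_add, mul_comm (P.τh ^ k i j), mul_assoc]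
  exact P.Sh.mul_mem (P.Sh.pow_mem P.τh_mem e) (hk i j)

end LatticePair

theorem conj_of_idempotents {𝒜 : Type*} [Ring 𝒜] (e f : 𝒜) (he : e * e = e) (hf : f * f = f) :
    (1 + (e - f) * (f + f - 1)) * f = e * (1 + (e - f) * (f + f - 1)) := by
  have h1 : (1 + (e - f) * (f + f - 1)) * f = e * f := by
    have : (f + f - 1) * f = f := by
      rw [sub_mul, add_mul, hf, one_mul, add_sub_cancel_right]
    rw [add_mul, one_mul, mul_assoc, this, sub_mul, hf]
    abel
  have h2 : e * (1 + (e - f) * (f + f - 1)) = e * f := by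
    have : e * (e - f) = e - e * f := by rw [mul_sub, he]
    rw [mul_add, mul_one, ← mul_assoc, this, sub_mul, mul_sub, mul_sub, mul_add, mul_add, mul_one,
      mul_one, mul_assoc, hf]
    abel
  rw [h1, h2]

include P in
/-- Part 3: for a Henselian lattice pair, finite projective modules over `Lh` are extended. -/
theorem part3 (A : Type u) [CommRing A] [Algebra A L] (I : Ideal A) [HenselianRing A I] (t : A)
    (ht : t ∈ I) (hτ : P.τ = algebraMap A L t) (hτu : IsUnit P.τ)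
    (hS₀ : ∀ x ∈ P.S₀, ∃ a, algebraMap A L a = x) (hS₀' : ∀ a, algebraMap A L a ∈ P.S₀)
    (M' : Type u) [AddCommGroup M'] [Module Lh M'] [Module.Finite Lh M']
    [Module.Projective Lh M'] :
    ∃ (M : Type u) (_ : AddCommGroup M) (_ : Module L M), Module.Finite L M ∧
      Module.Projective L M ∧ Nonempty (Lh ⊗[L] M ≃ₗ[Lh] M') := by
  classical
  obtain ⟨m, i', r', hr'⟩ := exists_retract (L := Lh) M'
  set ph := LinearMap.toMatrix' (i' ∘ₗ r') with hph
  have hpp : ph * ph = ph := by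
    rw [hph, ← LinearMap.toMatrix'_comp]
    congr 1
    rw [LinearMap.comp_assoc, ← LinearMap.comp_assoc r', hr', LinearMap.id_comp]
  obtain ⟨d, hd⟩ := P.exists_bound (ph + ph - 1)
  letI := P.topology
  haveI := P.isTopologicalRing
  -- the open condition
  let O : Set (Matrix (Fin m) (Fin m) Lh) :=
    {Z | (∀ i j, (Z - ph) i j ∈ P.B (d + 1)) ∧ (∀ i j, (Z * Z - Z) i j ∈ P.B 1) ∧
      (∀ i j, ((Z + Z - 1) * (Z * Z - Z)) i j ∈ P.B (d + 1))}
  have hO : IsOpen O := by
    have h1 : IsOpen {Z : Matrix (Fin m) (Fin m) Lh | ∀ i j, (Z - ph) i j ∈ P.B (d + 1)} :=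
      (isOpen_entries (P.isOpen_B (d + 1)) m m).preimage (continuous_id.sub continuous_const)
    have h2 : IsOpen {Z : Matrix (Fin m) (Fin m) Lh | ∀ i j, (Z * Z - Z) i j ∈ P.B 1} :=
      (isOpen_entries (P.isOpen_B 1) m m).preimage
        ((continuous_id.matrix_mul continuous_id).sub continuous_id)
    have h3 : IsOpen {Z : Matrix (Fin m) (Fin m) Lh |
        ∀ i j, ((Z + Z - 1) * (Z * Z - Z)) i j ∈ P.B (d + 1)} :=
      (isOpen_entries (P.isOpen_B (d + 1)) m m).preimage
        (((continuous_id.add continuous_id).sub continuous_const).matrix_mul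
          ((continuous_id.matrix_mul continuous_id).sub continuous_id))
    exact h1.inter (h2.inter h3)
  have hphO : ph ∈ O := by
    refine ⟨fun i j => ?_, fun i j => ?_, fun i j => ?_⟩
    · rw [sub_self]; exact (P.B (d + 1)).zero_mem
    · rw [hpp, sub_self]; exact (P.B 1).zero_mem
    · rw [hpp, sub_self, Matrix.mul_zero]; exact (P.B (d + 1)).zero_mem
  obtain ⟨P₀, hP₀⟩ := (denseRange_map P.denseRange m m).exists_mem_open hO ⟨ph, hphO⟩
  obtain ⟨hO1, hO2, hO3⟩ := hP₀
  set Ph := P₀.map (algebraMap L Lh) with hPh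
  -- the matrix `N`
  have hνmap : (P₀ * P₀ - P₀).map (algebraMap L Lh) = Ph * Ph - Ph := by
    rw [Matrix.map_sub (f := algebraMap L Lh) (by simp), Matrix.map_mul]
  have hentry : ∀ i j, ∃ a : A, (P₀ * P₀ - P₀) i j = P.τ * algebraMap A L a := by
    intro i j
    have h1 := hO2 i j
    rw [← hνmap, Matrix.map_apply] at h1
    obtain ⟨s, hs, hs'⟩ := P.mem_B.mp h1
    obtain ⟨s₀, hs₀, hs₀'⟩ := P.closed _ ⟨s, hs, by rw [← hs', pow_one]; rfl⟩
    obtain ⟨a, rfl⟩ := hS₀ s₀ hs₀
    exact ⟨a, hs₀'⟩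
  choose N hN using hentry
  have hν : P₀ * P₀ - P₀ = algebraMap A L t • (Matrix.of N).map (algebraMap A L) := by
    ext i j
    rw [hN i j, hτ]
    simp
  have hcomm : Commute P₀ ((Matrix.of N).map (algebraMap A L)) := by
    have h1 : P₀ * (P₀ * P₀ - P₀) = (P₀ * P₀ - P₀) * P₀ := by
      rw [mul_sub, sub_mul, mul_assoc]
    rw [hν, Matrix.mul_smul, Matrix.smul_mul] at h1
    obtain ⟨u, hu⟩ := hτu
    rw [← hτ, ← hu] at h1
    have h2 : (u : L) • (P₀ * (Matrix.of N).map (algebraMap A L)) =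
        (u : L) • ((Matrix.of N).map (algebraMap A L) * P₀) := h1
    have h3 := congrArg (fun Z => ((u⁻¹ : Lˣ) : L) • Z) h2
    simp only [smul_smul, Units.inv_mul, one_smul] at h3
    exact h3
  obtain ⟨p, c, hpid, hpeq⟩ := exists_idempotent_near I t ht P₀ (Matrix.of N) hν hcomm
  -- closeness
  set ch := (c.map (algebraMap A L)).map (algebraMap L Lh) with hch
  have hchSh : ∀ i j, ch i j ∈ P.Sh := fun i j => P.map_mem _ (hS₀' _)
  have hpmap : p.map (algebraMap L Lh) - ph =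
      (Ph - ph) + ((Ph + Ph - 1) * (Ph * Ph - Ph)) * ch := by
    rw [hpeq]
    simp only [Matrix.map_add, Matrix.map_sub, Matrix.map_mul, map_add, map_sub, map_zero, map_one,
      implies_true, Matrix.map_one, ← hPh, ← hch]
    rw [Matrix.mul_assoc]
    abel
  have hD : ∀ i j, (p.map (algebraMap L Lh) - ph) i j ∈ P.B (d + 1) := by
    intro i j
    rw [hpmap, Matrix.add_apply]
    exact (P.B (d + 1)).add_mem (hO1 i j) (P.entries_mul_Sh hO3 hchSh i j)
  have hDF := P.entries_mul_bounded hD hd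
  set G := 1 + (p.map (algebraMap L Lh) - ph) * (ph + ph - 1) with hG
  have hGmem : G ∈ nbhdOne (P.B 1 : Set Lh) m := by
    intro i j
    rw [hG, Matrix.add_apply, add_sub_cancel_left]
    exact hDF i j
  have hGunit : IsUnit G := P.isUnit_of_mem m G hGmem
  obtain ⟨G', hGG', hG'G⟩ : ∃ G' : Matrix (Fin m) (Fin m) Lh, G * G' = 1 ∧ G' * G = 1 :=
    ⟨↑hGunit.unit⁻¹, hGunit.mul_val_inv, hGunit.val_inv_mul⟩
  have hpmapid : p.map (algebraMap L Lh) * p.map (algebraMap L Lh) = p.map (algebraMap L Lh) := by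
    rw [← Matrix.map_mul, hpid.eq]
  have hconj : G * ph = p.map (algebraMap L Lh) * G := conj_of_idempotents _ _ hpmapid hpp
  -- the module
  let K : Submodule L (Fin m → L) := LinearMap.range (Matrix.toLin' p)
  let i : K →ₗ[L] (Fin m → L) := K.subtype
  let r : (Fin m → L) →ₗ[L] K := (Matrix.toLin' p).rangeRestrict
  have hir : i ∘ₗ r = Matrix.toLin' p := LinearMap.subtype_comp_codRestrict _ _ _
  have hri : r ∘ₗ i = LinearMap.id := by
    refine LinearMap.ext fun z => ?_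
    apply Subtype.ext
    obtain ⟨v, hv⟩ := z.2
    change Matrix.toLin' p (z : Fin m → L) = z
    rw [← hv, ← LinearMap.comp_apply, ← Matrix.toLin'_mul, hpid.eq]
  haveI : Module.Projective L K := Module.Projective.of_split i r hri
  refine ⟨K, inferInstance, inferInstance, inferInstance, inferInstance, ?_⟩
  have hpm : (LinearMap.toMatrix' (i ∘ₗ r)).map (algebraMap L Lh) = p.map (algebraMap L Lh) := by
    rw [hir, LinearMap.toMatrix'_toLin']
  have hphapp : ∀ v, i' (r' v) = ph *ᵥ v := fun v => by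
    rw [hph, ← Matrix.toLin'_apply, Matrix.toLin'_toMatrix']; rfl
  let α : Lh ⊗[L] K →ₗ[Lh] M' := r' ∘ₗ Matrix.toLin' G' ∘ₗ retA i
  let γ : M' →ₗ[Lh] Lh ⊗[L] K := retC r ∘ₗ Matrix.toLin' G ∘ₗ i'
  have hG'p : G' * p.map (algebraMap L Lh) = ph * G' := by
    have h1 : G' * (G * ph) * G' = G' * (p.map (algebraMap L Lh) * G) * G' := by rw [hconj]
    rw [← Matrix.mul_assoc, hG'G, Matrix.one_mul, Matrix.mul_assoc, Matrix.mul_assoc, hGG',
      Matrix.mul_one] at h1
    exact h1.symm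
  have hαγ : α ∘ₗ γ = LinearMap.id := by
    refine LinearMap.ext fun z => ?_
    simp only [α, γ, LinearMap.comp_apply, Matrix.toLin'_apply, LinearMap.id_apply]
    rw [retA_retC, hpm, Matrix.mulVec_mulVec, Matrix.mulVec_mulVec, hG'p,
      Matrix.mul_assoc, hG'G, Matrix.mul_one, ← hphapp]
    rw [← LinearMap.comp_apply r' i', hr', LinearMap.id_apply, ← LinearMap.comp_apply r' i', hr',
      LinearMap.id_apply]
  have hγα : γ ∘ₗ α = LinearMap.id := by
    refine LinearMap.ext fun z => ?_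
    simp only [α, γ, LinearMap.comp_apply, Matrix.toLin'_apply, LinearMap.id_apply]
    rw [hphapp, Matrix.mulVec_mulVec, Matrix.mulVec_mulVec, hconj,
      Matrix.mul_assoc, hGG', Matrix.mul_one, ← hpm, ← retA_retC i r, retC_retA i r hri,
      retC_retA i r hri]
  exact ⟨LinearEquiv.ofLinearMap α γ hαγ hγα⟩

end Groth.Agent.Lib.Helper12.BC
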