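import Mathlib
import Groth.Agent.Lib.Helper12.BCLattice

/-!
# The lattice pair `R(t) → R((t))`
-/

set_option autoImplicit false
set_option linter.unusedSectionVars false
universe u

namespace Groth.Agent.Lib.Helper12.BC

open Polynomial

section PS

variable {R : Type u} [CommRing R]

theorem isUnit_coe_of_coeff_zero {s : R[X]} (hs : s.coeff 0 = 1) :
    IsUnit (s : PowerSeries R) := by
  rw [PowerSeries.isUnit_iff_constantCoeff, Polynomial.constantCoeff_coe, hs]
  exact isUnit_one

theorem exists_trunc_add (f : PowerSeries R) (N : ℕ) :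
    ∃ (p : R[X]) (g : PowerSeries R), f = (p : PowerSeries R) + PowerSeries.X ^ N * g := by
  have h : PowerSeries.X ^ N ∣ f - ((PowerSeries.trunc N f : R[X]) : PowerSeries R) := by
    rw [PowerSeries.X_pow_dvd_iff]
    intro m hm
    rw [map_sub, Polynomial.coeff_coe, PowerSeries.coeff_trunc, if_pos hm, sub_self]
  obtain ⟨g, hg⟩ := h
  exact ⟨PowerSeries.trunc N f, g, by rw [← hg]; ring⟩

theorem X_pow_dvd_of_coe_eq {p : R[X]} {n : ℕ} {h : PowerSeries R}
    (hp : (p : PowerSeries R) = PowerSeries.X ^ n * h) : X ^ n ∣ p := by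
  rw [Polynomial.X_pow_dvd_iff]
  intro d hd
  rw [← Polynomial.coeff_coe, hp, PowerSeries.coeff_X_pow_mul', if_neg (not_le.mpr hd)]

theorem exists_eq_mul_X_pow {w : R[X]}
    (hw : w ∈ Submonoid.closure ({f : R[X] | f.coeff 0 = 1} ∪ {X})) :
    ∃ (s : R[X]) (c : ℕ), s.coeff 0 = 1 ∧ w = s * X ^ c := by
  induction hw using Submonoid.closure_induction with
  | mem x hx =>
    rcases hx with hx | hx
    · exact ⟨x, 0, hx, by rw [pow_zero, mul_one]⟩
    · rw [Set.mem_singleton_iff] at hx
      exact ⟨1, 1, by simp, by rw [hx, pow_one, one_mul]⟩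
  | one => exact ⟨1, 0, by simp, by simp⟩
  | mul x y _ _ hx hy =>
    obtain ⟨s, c, hs, rfl⟩ := hx
    obtain ⟨s', c', hs', rfl⟩ := hy
    exact ⟨s * s', c + c', by rw [Polynomial.mul_coeff_zero, hs, hs', one_mul], by
      rw [pow_add]; ring⟩

end PS

variable (R : Type u) [CommRing R] (L : Type u) [CommRing L] [Algebra R[X] L]
    [IsLocalization (Submonoid.closure ({f : R[X] | f.coeff 0 = 1} ∪ {X})) L]
    (L' : Type u) [CommRing L'] [Algebra L L'] (e : L' ≃+* LaurentSeries R)
    (he : ∀ p : R[X], e (algebraMap L L' (algebraMap R[X] L p)) =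
      HahnSeries.ofPowerSeries ℤ R (Polynomial.coeToPowerSeries.ringHom p))

/-- The embedding of power series into `L'`. -/
noncomputable def psi : PowerSeries R →+* L' :=
  (e.symm : LaurentSeries R →+* L').comp (HahnSeries.ofPowerSeries ℤ R)

theorem e_psi (f : PowerSeries R) : e (psi R L' e f) = HahnSeries.ofPowerSeries ℤ R f := by
  simp [psi]

theorem psi_injective : Function.Injective (psi R L' e) := by
  intro f g h
  have := congrArg e h
  rw [e_psi, e_psi] at this
  exact HahnSeries.ofPowerSeries_injective this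

include he in
theorem map_algebraMap (p : R[X]) :
    algebraMap L L' (algebraMap R[X] L p) = psi R L' e (p : PowerSeries R) := by
  apply e.injective
  rw [he, e_psi]
  rfl

theorem isUnit_algebraMap_of_coeff_zero {s : R[X]} (hs : s.coeff 0 = 1) :
    IsUnit (algebraMap R[X] L s) :=
  IsLocalization.map_units L (⟨s, Submonoid.subset_closure (Or.inl hs)⟩ :
    Submonoid.closure ({f : R[X] | f.coeff 0 = 1} ∪ {X}))

theorem isUnit_algebraMap_X : IsUnit (algebraMap R[X] L X) :=
  IsLocalization.map_units L (⟨X, Submonoid.subset_closure (Or.inr rfl)⟩ :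
    Submonoid.closure ({f : R[X] | f.coeff 0 = 1} ∪ {X}))

theorem exists_mul_psi_X_pow (x : L') :
    ∃ (n : ℕ) (f : PowerSeries R), x * psi R L' e PowerSeries.X ^ n = psi R L' e f := by
  obtain ⟨n, f, hf⟩ := IsLocalization.Away.surj (PowerSeries.X : PowerSeries R) (e x)
  refine ⟨n, f, e.injective ?_⟩
  rw [map_mul, map_pow, e_psi, e_psi]
  exact hf

theorem isUnit_psi_X : IsUnit (psi R L' e PowerSeries.X) := by
  have h : IsUnit (algebraMap (PowerSeries R) (LaurentSeries R) PowerSeries.X) :=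
    IsLocalization.Away.algebraMap_isUnit _
  have h2 := h.map (e.symm : LaurentSeries R →+* L')
  exact h2

/-- The lattice `S₀` of `R(t)`: fractions with denominator of constant term `1`. -/
def laurentS₀ : Subring L where
  carrier := {x | ∃ p s : R[X], s.coeff 0 = 1 ∧ x * algebraMap R[X] L s = algebraMap R[X] L p}
  zero_mem' := ⟨0, 1, by simp, by simp⟩
  one_mem' := ⟨1, 1, by simp, by simp⟩
  add_mem' := by
    rintro x y ⟨p, s, hs, hx⟩ ⟨p', s', hs', hy⟩
    refine ⟨p * s' + p' * s, s * s', by rw [Polynomial.mul_coeff_zero, hs, hs', one_mul], ?_⟩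
    simp only [map_add, map_mul]
    linear_combination (algebraMap R[X] L s') * hx + (algebraMap R[X] L s) * hy
  mul_mem' := by
    rintro x y ⟨p, s, hs, hx⟩ ⟨p', s', hs', hy⟩
    refine ⟨p * p', s * s', by rw [Polynomial.mul_coeff_zero, hs, hs', one_mul], ?_⟩
    simp only [map_mul]
    linear_combination (y * algebraMap R[X] L s') * hx + (algebraMap R[X] L p) * hy
  neg_mem' := by
    rintro x ⟨p, s, hs, hx⟩
    refine ⟨-p, s, hs, ?_⟩
    simp only [map_neg]
    linear_combination -hx

include he in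
/-- The lattice pair of `R(t) → R((t))`. -/
noncomputable def laurentLatticePair : LatticePair L L' where
  S₀ := laurentS₀ R L
  Sh := (psi R L' e).range
  τ := algebraMap R[X] L X
  τ_mem := ⟨X, 1, by simp, by simp⟩
  map_mem := by
    rintro x ⟨p, s, hs, hx⟩
    obtain ⟨v, hv⟩ := (isUnit_coe_of_coeff_zero hs).exists_right_inv
    refine ⟨(p : PowerSeries R) * v, ?_⟩
    have h1 := congrArg (algebraMap L L') hx
    rw [map_mul, map_algebraMap R L L' e he, map_algebraMap R L L' e he] at h1
    rw [map_mul, ← h1, mul_assoc, ← map_mul, hv, map_one, mul_one]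
  bounded := by
    intro x
    obtain ⟨n, f, hf⟩ := exists_mul_psi_X_pow R L' e x
    refine ⟨n, f, ?_⟩
    rw [map_algebraMap R L L' e he, Polynomial.coe_X, ← hf, mul_comm]
  dense := by
    intro x k
    obtain ⟨n, f, hf⟩ := exists_mul_psi_X_pow R L' e x
    obtain ⟨p, g, hpg⟩ := exists_trunc_add f (k + n)
    obtain ⟨u, hu⟩ := isUnit_algebraMap_X R L
    obtain ⟨uh, huh⟩ := isUnit_psi_X R L' e
    refine ⟨algebraMap R[X] L p * ((u⁻¹ : Lˣ) : L) ^ n, psi R L' e g, ⟨g, rfl⟩, ?_⟩
    have hφu : algebraMap L L' (u : L) = uh := by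
      rw [hu, huh, map_algebraMap R L L' e he, Polynomial.coe_X]
    have hφuinv : algebraMap L L' ((u⁻¹ : Lˣ) : L) = ((uh⁻¹ : L'ˣ) : L') := by
      have h1 : algebraMap L L' ((u⁻¹ : Lˣ) : L) * (uh : L') = 1 := by
        rw [← hφu, ← map_mul, Units.inv_mul, map_one]
      rw [mul_comm] at h1
      exact Units.eq_inv_of_mul_eq_one_left h1
    rw [map_algebraMap R L L' e he, Polynomial.coe_X, map_mul, map_pow, hφuinv,
      map_algebraMap R L L' e he, ← huh]
    have hx : x = psi R L' e f * ((uh⁻¹ : L'ˣ) : L') ^ n := by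
      rw [← hf, ← huh, mul_assoc, ← mul_pow, Units.mul_inv, one_pow, mul_one]
    rw [hx, hpg, map_add, map_mul, map_pow, ← huh, pow_add]
    have h2 : ∀ (w : L'ˣ) (b c : L') (k j : ℕ), (b + (w : L') ^ k * (w : L') ^ j * c) *
          ((w⁻¹ : L'ˣ) : L') ^ j = b * ((w⁻¹ : L'ˣ) : L') ^ j + (w : L') ^ k * c := by
      intro w b c k j
      have : ((w : L')) ^ j * ((w⁻¹ : L'ˣ) : L') ^ j = 1 := by
        rw [← mul_pow, Units.mul_inv, one_pow]
      linear_combination ((w : L')) ^ k * c * this
    exact h2 uh _ _ k n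
  closed := by
    rintro x ⟨_, ⟨g, rfl⟩, hs⟩
    obtain ⟨⟨p, w, hw⟩, hx⟩ := IsLocalization.surj
      (Submonoid.closure ({f : R[X] | f.coeff 0 = 1} ∪ {X})) x
    obtain ⟨s, c, hs1, rfl⟩ := exists_eq_mul_X_pow hw
    change x * algebraMap R[X] L (s * X ^ c) = algebraMap R[X] L p at hx
    have h1 := congrArg (algebraMap L L') hx
    rw [map_mul, map_algebraMap R L L' e he, map_algebraMap R L L' e he, hs,
      map_algebraMap R L L' e he, ← map_mul, ← map_mul] at h1
    have h2 := psi_injective R L' e h1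
    have h3 : (p : PowerSeries R) = PowerSeries.X ^ (c + 1) * (g * (s : PowerSeries R)) := by
      rw [← h2, Polynomial.coe_X, Polynomial.coe_mul, Polynomial.coe_pow, Polynomial.coe_X,
        pow_succ]
      ring
    obtain ⟨p', rfl⟩ := X_pow_dvd_of_coe_eq h3
    obtain ⟨us, hus⟩ := isUnit_algebraMap_of_coeff_zero R L hs1
    obtain ⟨u, hu⟩ := isUnit_algebraMap_X R L
    refine ⟨algebraMap R[X] L p' * ((us⁻¹ : Lˣ) : L), ⟨p', s, hs1, ?_⟩, ?_⟩
    · rw [← hus, mul_assoc, Units.inv_mul, mul_one]
    · rw [map_mul, map_pow, map_mul, map_pow, ← hus, ← hu] at hx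
      have h4 : (u : L) ^ c * (us : L) * x = (u : L) ^ c * (us : L) *
          (u * (algebraMap R[X] L p' * ((us⁻¹ : Lˣ) : L))) := by
        have h5 : (us : L) * ((us⁻¹ : Lˣ) : L) = 1 := Units.mul_inv us
        linear_combination hx - (u : L) ^ (c + 1) * algebraMap R[X] L p' * h5
      have h6 : IsUnit ((u : L) ^ c * (us : L)) := ((Units.isUnit u).pow c).mul (Units.isUnit us)
      rw [← hu]
      exact h6.mul_left_cancel h4
  unit₀ := by
    rintro x ⟨p, s, hs, hx⟩
    have h1 : (1 + algebraMap R[X] L X * x) * algebraMap R[X] L s =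
        algebraMap R[X] L (s + X * p) := by
      rw [map_add, map_mul]
      linear_combination algebraMap R[X] L X * hx
    have h2 : IsUnit (algebraMap R[X] L (s + X * p)) := by
      apply isUnit_algebraMap_of_coeff_zero
      simp [hs]
    rw [← h1] at h2
    exact isUnit_of_mul_isUnit_left h2
  unith := by
    rintro _ ⟨g, rfl⟩
    rw [map_algebraMap R L L' e he, Polynomial.coe_X]
    have h1 : IsUnit (1 + PowerSeries.X * g : PowerSeries R) := by
      rw [PowerSeries.isUnit_iff_constantCoeff]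
      simp
    have h2 := h1.map (psi R L' e)
    rwa [map_add, map_one, map_mul] at h2

end Groth.Agent.Lib.Helper12.BC
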