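import Groth.Agent.Lib.Helper12.GabberFactor

set_option autoImplicit false
universe u

/-!
# Henselian pairs and lifting of factorizations
-/

namespace Groth.Agent.Lib.Helper12

open Polynomial

theorem isCoprime_X_sub_C_divByMonic {R : Type*} [CommRing R] (f : R[X]) (a : R)
    (hu : IsUnit (f.derivative.eval a)) : IsCoprime (X - C a) (f /ₘ (X - C a)) := by
  set q := f /ₘ (X - C a) with hq
  have h1 : q.eval a = f.derivative.eval a := by
    have := congrArg (eval a) (divByMonic_add_X_sub_C_mul_derivative_divByMonic_eq_derivative f a)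
    simpa using this
  have h2 : q %ₘ (X - C a) + (X - C a) * (q /ₘ (X - C a)) = q :=
    modByMonic_add_div q (X - C a)
  rw [modByMonic_X_sub_C_eq_C_eval, h1] at h2
  obtain ⟨v, hv⟩ := hu.exists_left_inv
  have hv' : C v * C (f.derivative.eval a) = 1 := by rw [← C_mul, hv, C_1]
  refine ⟨-(C v * (q /ₘ (X - C a))), C v, ?_⟩
  linear_combination hv' - (C v) * h2

variable {A : Type u} [CommRing A] {I : Ideal A}

/-- The factorization lifting property. -/
def FactorLift (I : Ideal A) : Prop :=
  ∀ f : A[X], f.Monic → ∀ g₀ h₀ : (A ⧸ I)[X], g₀.Monic → h₀.Monic →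
    IsCoprime g₀ h₀ → f.map (Ideal.Quotient.mk I) = g₀ * h₀ →
    ∃ g h : A[X], g.Monic ∧ h.Monic ∧ f = g * h ∧
      g.map (Ideal.Quotient.mk I) = g₀ ∧ h.map (Ideal.Quotient.mk I) = h₀

theorem factorLift_of_henselianRing [HenselianRing A I] : FactorLift I :=
  fun f hf g₀ h₀ hg₀ hh₀ hcop hfac =>
    exists_factor_lift_of_gabber HenselianRing.jac gabberRoots_of_henselianRing f hf g₀ h₀ hg₀ hh₀
      hcop hfac

theorem henselianRing_of_factorLift (hjac : I ≤ Ideal.jacobson ⊥) (hfl : FactorLift I) :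
    HenselianRing A I := by
  refine ⟨hjac, ?_⟩
  intro f hf a₀ h0 h1
  rcases subsingleton_or_nontrivial A with hA | hA
  · exact ⟨a₀, Subsingleton.elim _ _, by simp⟩
  have hItop : I ≠ ⊤ := by
    intro h
    rw [h, top_le_iff, Ideal.jacobson_eq_top_iff] at hjac
    exact bot_ne_top hjac
  haveI : Nontrivial (A ⧸ I) := Ideal.Quotient.nontrivial_iff.mpr hItop
  set f' := f.map (Ideal.Quotient.mk I) with hf'
  set a' := Ideal.Quotient.mk I a₀ with ha'
  have hroot : f'.IsRoot a' := by
    rw [IsRoot.def, hf', ha', eval_map_apply]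
    exact Ideal.Quotient.eq_zero_iff_mem.mpr h0
  have hder : IsUnit (f'.derivative.eval a') := by
    rw [hf', derivative_map, ha', eval_map_apply]
    exact h1
  have hcop := isCoprime_X_sub_C_divByMonic f' a' hder
  have hfac : f' = (X - C a') * (f' /ₘ (X - C a')) :=
    (mul_divByMonic_eq_iff_isRoot.mpr hroot).symm
  have hqm : (f' /ₘ (X - C a')).Monic := by
    apply Monic.of_mul_monic_left (monic_X_sub_C a')
    rw [← hfac]
    exact hf.map _
  obtain ⟨g, h, hg, hh, hfgh, hgmap, hhmap⟩ := hfl f hf _ _ (monic_X_sub_C a') hqm hcop hfac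
  have hgdeg : g.natDegree = 1 := by
    rw [← hg.natDegree_map (Ideal.Quotient.mk I), hgmap, natDegree_X_sub_C]
  have hg' : g = X + C (g.coeff 0) := hg.eq_X_add_C hgdeg
  refine ⟨-g.coeff 0, ?_, ?_⟩
  · have e : g.eval (-g.coeff 0) = 0 := by
      conv_lhs => rw [hg']
      simp
    rw [IsRoot.def, hfgh, eval_mul, e, zero_mul]
  · have : Ideal.Quotient.mk I (g.coeff 0) = -a' := by
      rw [← coeff_map, hgmap]
      simp
    rw [← Ideal.Quotient.eq_zero_iff_mem, map_sub, map_neg, this, neg_neg, ← ha', sub_self]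

end Groth.Agent.Lib.Helper12
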