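import Mathlib
import Groth.Agent.Lib.Helper12.IdemLiftConverse
import Groth.Agent.Lib.Helper12.GabberHensel

/-!
# Being a henselian pair only depends on the radical of the ideal (one direction)
-/

set_option autoImplicit false
universe u

namespace Groth.Agent.Lib.Helper12

variable {T : Type u} [CommRing T]

theorem radical_le_jacobson_bot_of_le {K : Ideal T} (hK : K ≤ Ideal.jacobson ⊥) :
    K.radical ≤ Ideal.jacobson ⊥ := by
  calc K.radical ≤ K.jacobson := Ideal.radical_le_jacobson
    _ ≤ (Ideal.jacobson (⊥ : Ideal T)).jacobson := Ideal.jacobson_mono hK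
    _ = Ideal.jacobson ⊥ := Ideal.jacobson_idem

/-- If `(T, K)` is a henselian pair and `K ≤ K' ≤ √K` then `(T, K')` is a henselian pair. -/
theorem henselianRing_of_le_radical (K K' : Ideal T) [HenselianRing T K] (h1 : K ≤ K')
    (h2 : K' ≤ K.radical) : HenselianRing T K' := by
  have hjac : K ≤ Ideal.jacobson ⊥ := HenselianRing.jac
  have hjac' : K' ≤ Ideal.jacobson ⊥ := h2.trans (radical_le_jacobson_bot_of_le hjac)
  apply henselianRing_of_idemLiftFinite
  intro C _ _ hfin
  haveI := hfin
  haveI : Algebra.IsIntegral T C := inferInstance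
  have hle : K.map (algebraMap T C) ≤ K'.map (algebraMap T C) := Ideal.map_mono h1
  have hrad : K'.map (algebraMap T C) ≤ (K.map (algebraMap T C)).radical :=
    (Ideal.map_mono h2).trans (Ideal.map_radical_le _)
  refine ⟨?_, ?_, ?_⟩
  · intro e he
    exact IsIdempotentElem.map he _
  · intro e he e' he' h
    apply idempotent_eq_of_sub_mem (map_le_jacobson_of_isIntegral hjac' C) he he'
    rw [← Ideal.Quotient.eq_zero_iff_mem, map_sub, sub_eq_zero]
    exact h
  · intro ē hē
    -- lift along `C/KC → C/K'C`, whose kernel is nil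
    let q : C ⧸ K.map (algebraMap T C) →+* C ⧸ K'.map (algebraMap T C) :=
      Ideal.Quotient.factor hle
    have hq : ∀ c : C, q (Ideal.Quotient.mk _ c) = Ideal.Quotient.mk _ c := fun c =>
      Ideal.Quotient.factor_mk hle c
    have hnil : ∀ x ∈ RingHom.ker q, IsNilpotent x := by
      intro x hx
      obtain ⟨c, rfl⟩ := Ideal.Quotient.mk_surjective x
      rw [RingHom.mem_ker, hq, Ideal.Quotient.eq_zero_iff_mem] at hx
      obtain ⟨n, hn⟩ := hrad hx
      refine ⟨n, ?_⟩
      rw [← map_pow, Ideal.Quotient.eq_zero_iff_mem]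
      exact hn
    have hrange : ē ∈ q.range := by
      obtain ⟨c, rfl⟩ := Ideal.Quotient.mk_surjective ē
      exact ⟨Ideal.Quotient.mk _ c, hq c⟩
    obtain ⟨e₁, he₁, he₁ē⟩ := exists_isIdempotentElem_eq_of_ker_isNilpotent q hnil ē hrange hē
    obtain ⟨e, he, hee⟩ :=
      (bijOn_idempotents_of_isIntegral hjac (factorLift_of_henselianRing (I := K)) C).surjOn he₁
    refine ⟨e, he, ?_⟩
    rw [← he₁ē, ← hee, hq]

end Groth.Agent.Lib.Helper12
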