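import Mathlib
import Groth.Prelude.Def_Hens2
import Groth.Agent.Lib.Helper12.HenselRadical
import Groth.Agent.Lib.Helper12.HenselPairOps

/-!
# Formal consequences of the universal property of the henselization of a pair
-/

set_option autoImplicit false
universe u

namespace Groth.Agent.Lib.Helper12.PairUnique

variable {A : Type u} [CommRing A] {I : Ideal A}

/-- The unique `A`-algebra map from a henselization to a henselian pair. -/
theorem exists_algHom {B : Type u} [CommRing B] [Algebra A B]
    (hB : Hens2.IsPairHenselization A I B) {D : Type u} [CommRing D] [Algebra A D] (J : Ideal D)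
    [HenselianRing D J] (hle : I.map (algebraMap A D) ≤ J) :
    ∃ φ : B →ₐ[A] D, ∀ φ' : B →ₐ[A] D, φ' = φ := by
  obtain ⟨g, hg, huniq⟩ := hB.2 D J (algebraMap A D) inferInstance hle
  refine ⟨{ g with commutes' := fun a => RingHom.congr_fun hg a }, ?_⟩
  intro φ'
  have : (φ' : B →+* D) = g := huniq _ φ'.comp_algebraMap
  ext b
  exact RingHom.congr_fun this b

/-- Two henselizations of the same pair are isomorphic. -/
theorem nonempty_algEquiv {B B' : Type u} [CommRing B] [Algebra A B] [CommRing B'] [Algebra A B']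
    (hB : Hens2.IsPairHenselization A I B) (hB' : Hens2.IsPairHenselization A I B') :
    Nonempty (B ≃ₐ[A] B') := by
  haveI := hB.1
  haveI := hB'.1
  obtain ⟨φ, -⟩ := exists_algHom hB (I.map (algebraMap A B')) le_rfl
  obtain ⟨ψ, -⟩ := exists_algHom hB' (I.map (algebraMap A B)) le_rfl
  obtain ⟨ι, hι⟩ := exists_algHom hB (I.map (algebraMap A B)) le_rfl
  obtain ⟨ι', hι'⟩ := exists_algHom hB' (I.map (algebraMap A B')) le_rfl
  exact ⟨AlgEquiv.ofAlgHom φ ψ ((hι' _).trans (hι' _).symm) ((hι _).trans (hι _).symm)⟩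

/-- A pair with nilpotent ideal is henselian. -/
theorem henselianRing_of_pow_eq_bot {T : Type u} [CommRing T] (K : Ideal T) (n : ℕ)
    (h : K ^ n = ⊥) : HenselianRing T K := by
  haveI : HenselianRing T ⊥ := henselianRing_bot
  apply henselianRing_of_le_radical ⊥ K bot_le
  intro x hx
  refine ⟨n, ?_⟩
  rw [← h]
  exact Ideal.pow_mem_pow hx n

/-- `A / I^n → B / I^n B` is bijective for a henselization `B` of `(A, I)`. -/
theorem quotientMap_pow_bijective {B : Type u} [CommRing B] [Algebra A B]
    (hB : Hens2.IsPairHenselization A I B) (n : ℕ) :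
    Function.Bijective
      (Ideal.quotientMap ((I ^ n).map (algebraMap A B)) (algebraMap A B) Ideal.le_comap_map) := by
  classical
  -- the quotient `A / I^n` is a henselian pair
  have hA : HenselianRing (A ⧸ I ^ n) (I.map (Ideal.Quotient.mk (I ^ n))) := by
    apply henselianRing_of_pow_eq_bot _ n
    rw [← Ideal.map_pow, Ideal.map_quotient_self]
  obtain ⟨ρ, hρ, -⟩ := hB.2 (A ⧸ I ^ n) (I.map (Ideal.Quotient.mk (I ^ n)))
    (Ideal.Quotient.mk (I ^ n)) hA le_rfl
  have hρ' : ∀ a : A, ρ (algebraMap A B a) = Ideal.Quotient.mk (I ^ n) a := fun a =>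
    RingHom.congr_fun hρ a
  let q := Ideal.quotientMap ((I ^ n).map (algebraMap A B)) (algebraMap A B) Ideal.le_comap_map
  have hq : ∀ a : A, q (Ideal.Quotient.mk (I ^ n) a) =
      Ideal.Quotient.mk ((I ^ n).map (algebraMap A B)) (algebraMap A B a) := fun a =>
    Ideal.quotientMap_mk
  constructor
  · -- injectivity
    rw [injective_iff_map_eq_zero]
    intro x hx
    obtain ⟨a, rfl⟩ := Ideal.Quotient.mk_surjective x
    change q (Ideal.Quotient.mk (I ^ n) a) = 0 at hx
    rw [hq, Ideal.Quotient.eq_zero_iff_mem] at hx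
    have h1 : ρ (algebraMap A B a) ∈ ((I ^ n).map (algebraMap A B)).map ρ :=
      Ideal.mem_map_of_mem ρ hx
    rw [Ideal.map_map, hρ, Ideal.map_quotient_self, Ideal.mem_bot, hρ'] at h1
    exact h1
  · -- surjectivity
    have hBq : HenselianRing (B ⧸ (I ^ n).map (algebraMap A B))
        ((I.map (algebraMap A B)).map (Ideal.Quotient.mk ((I ^ n).map (algebraMap A B)))) := by
      apply henselianRing_of_pow_eq_bot _ n
      rw [← Ideal.map_pow, ← Ideal.map_pow, Ideal.map_quotient_self]
    let f : A →+* B ⧸ (I ^ n).map (algebraMap A B) :=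
      (Ideal.Quotient.mk ((I ^ n).map (algebraMap A B))).comp (algebraMap A B)
    have hle : I.map f ≤
        (I.map (algebraMap A B)).map (Ideal.Quotient.mk ((I ^ n).map (algebraMap A B))) := by
      rw [Ideal.map_map]
    obtain ⟨k, -, hkuniq⟩ := hB.2 _ _ f hBq hle
    have e1 : Ideal.Quotient.mk ((I ^ n).map (algebraMap A B)) = k := hkuniq _ rfl
    have e2 : q.comp ρ = k := hkuniq _ (by
      ext a
      show q (ρ (algebraMap A B a)) = _
      rw [hρ', hq]
      rfl)
    intro y
    obtain ⟨b, rfl⟩ := Ideal.Quotient.mk_surjective y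
    refine ⟨ρ b, ?_⟩
    have := RingHom.congr_fun (e2.trans e1.symm) b
    exact this

end Groth.Agent.Lib.Helper12.PairUnique
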