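import Groth.Agent.Lib.Helper12.FiniteEtaleHom

set_option autoImplicit false
universe u v w

/-!
# Maps from étale algebras into henselian pairs
-/

namespace Groth.Agent.Lib.Helper12

open TensorProduct

/-- Maps from an étale `R`-algebra `S` to `C / J` lift to `C` when `(C, J)` is a henselian pair. -/
theorem exists_algHom_lift_of_etale_of_henselianRing {R : Type u} [CommRing R] {S : Type v}
    [CommRing S] [Algebra R S] [Algebra.Etale R S] {C : Type w} [CommRing C] [Algebra R C]
    (J : Ideal C) [HenselianRing C J] (g : S →ₐ[R] C ⧸ J) :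
    ∃ φ : S →ₐ[R] C, ∀ x, Ideal.Quotient.mk J (φ x) = g x := by
  let σ : C ⊗[R] S →ₐ[C] C ⧸ J :=
    Algebra.TensorProduct.lift (Algebra.ofId C (C ⧸ J)) g (fun _ _ => Commute.all _ _)
  obtain ⟨τ, hτ⟩ := exists_lift_of_etale (HenselianRing.jac (I := J))
    (gabberRoots_of_henselianRing (I := J)) σ
  refine ⟨(τ.restrictScalars R).comp Algebra.TensorProduct.includeRight, ?_⟩
  intro x
  have := AlgHom.congr_fun hτ ((1 : C) ⊗ₜ[R] x)
  have hσ : σ ((1 : C) ⊗ₜ[R] x) = g x := by
    show Algebra.TensorProduct.lift (Algebra.ofId C (C ⧸ J)) g _ ((1 : C) ⊗ₜ[R] x) = g x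
    rw [Algebra.TensorProduct.lift_tmul, map_one, one_mul]
  rw [hσ] at this
  exact this

/-- Uniqueness of such lifts. -/
theorem algHom_eq_of_henselianRing {R : Type u} [CommRing R] {S : Type v}
    [CommRing S] [Algebra R S] [Algebra.Etale R S] {C : Type w} [CommRing C] [Algebra R C]
    (J : Ideal C) [HenselianRing C J] (φ φ' : S →ₐ[R] C) (h : ∀ x, φ x - φ' x ∈ J) : φ = φ' :=
  algHom_eq_of_sub_mem_of_unramified (HenselianRing.jac (I := J)) φ φ' h

end Groth.Agent.Lib.Helper12
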