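import Mathlib.RingTheory.Henselian
import Mathlib.Algebra.Polynomial.Taylor
import Mathlib.Algebra.Polynomial.Identities
import Mathlib.RingTheory.Jacobson.Ideal

set_option autoImplicit false

/-!
# Gabber's criterion for henselian pairs: `(1) ⇔ (5)` of Stacks 09XI
-/

namespace Groth.Agent.Lib.Helper12

open Polynomial

variable {A : Type*} [CommRing A] {I : Ideal A}

theorem isUnit_of_sub_one_mem (hI : I ≤ Ideal.jacobson ⊥) {u : A} (h : u - 1 ∈ I) : IsUnit u := by
  have := (Ideal.mem_jacobson_bot.mp (hI h)) 1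
  simpa using this

theorem isUnit_of_isUnit_mk (hI : I ≤ Ideal.jacobson ⊥) {x : A}
    (h : IsUnit (Ideal.Quotient.mk I x)) : IsUnit x := by
  obtain ⟨y', hy'⟩ := h.exists_right_inv
  obtain ⟨y, rfl⟩ := Ideal.Quotient.mk_surjective y'
  have h1 : x * y - 1 ∈ I := by
    rw [← Ideal.Quotient.eq_zero_iff_mem, map_sub, map_mul, hy', map_one, sub_self]
  exact isUnit_of_mul_isUnit_left (isUnit_of_sub_one_mem hI h1)

theorem eval_mem_of_coeff_mem {p : A[X]} (h : ∀ i, p.coeff i ∈ I) (x : A) : p.eval x ∈ I := by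
  rw [eval_eq_sum_range]
  exact Submodule.sum_mem _ fun i _ => Ideal.mul_mem_right _ _ (h i)

theorem map_mk_eq_zero_of_coeff_mem {p : A[X]} (h : ∀ i, p.coeff i ∈ I) :
    p.map (Ideal.Quotient.mk I) = 0 := by
  ext i
  rw [coeff_map, coeff_zero, Ideal.Quotient.eq_zero_iff_mem]
  exact h i

/-- Two roots of a polynomial which are congruent modulo an ideal in the Jacobson radical, one of
them having a derivative which is a unit, are equal. -/
theorem root_unique_of_isUnit_derivative_of_le_jacobson (hI : I ≤ Ideal.jacobson ⊥) (f : A[X])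
    (x y : A) (hx : f.eval x = 0) (hy : f.eval y = 0) (hxy : x - y ∈ I)
    (hu : IsUnit (f.derivative.eval y)) : x = y := by
  obtain ⟨c, hc⟩ := f.binomExpansion y (x - y)
  rw [add_sub_cancel, hx, hy, zero_add] at hc
  have h1 : (x - y) * (f.derivative.eval y + c * (x - y)) = 0 := by
    linear_combination -hc
  have h2 : IsUnit (f.derivative.eval y + c * (x - y)) := by
    obtain ⟨v, hv⟩ := hu.exists_right_inv
    have h3 : (f.derivative.eval y + c * (x - y)) * v - 1 ∈ I := by
      have : (f.derivative.eval y + c * (x - y)) * v - 1 = (c * v) * (x - y) := by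
        linear_combination hv
      rw [this]
      exact Ideal.mul_mem_left _ _ hxy
    exact isUnit_of_mul_isUnit_left (isUnit_of_sub_one_mem hI h3)
  have := (h2.mul_left_eq_zero).1 h1
  exact sub_eq_zero.1 this

theorem gabber_monic {n : ℕ} {p : A[X]} (hp : p.natDegree ≤ n) :
    (X ^ n * (X - 1) + p).Monic := by
  nontriviality A
  have h1 : (X ^ n * (X - 1 : A[X])).Monic := (monic_X_pow n).mul (monic_X_sub_C 1)
  apply h1.add_of_left
  have h3 : (X ^ n * (X - 1 : A[X])).natDegree = n + 1 := by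
    have : (X - 1 : A[X]) = X - C 1 := by rw [C_1]
    rw [this, (monic_X_pow n).natDegree_mul (monic_X_sub_C 1), natDegree_X_pow,
      natDegree_X_sub_C]
  have h2 : (X ^ n * (X - 1 : A[X])).degree = ((n + 1 : ℕ) : WithBot ℕ) := by
    rw [degree_eq_natDegree h1.ne_zero, h3]
  rw [h2]
  calc p.degree ≤ (p.natDegree : WithBot ℕ) := degree_le_natDegree
    _ ≤ (n : WithBot ℕ) := by exact_mod_cast hp
    _ < ((n + 1 : ℕ) : WithBot ℕ) := by exact_mod_cast Nat.lt_succ_self n

/-- `(1) ⇒ (5)`: in a henselian pair, Gabber polynomials have a unique root congruent to `1`. -/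
theorem existsUnique_root_of_henselianRing [HenselianRing A I] (n : ℕ) (p : A[X])
    (hp : p.natDegree ≤ n) (hpI : ∀ i, p.coeff i ∈ I) :
    ∃! α : A, α - 1 ∈ I ∧ (X ^ n * (X - 1) + p).IsRoot α := by
  have hjac : I ≤ Ideal.jacobson ⊥ := HenselianRing.jac
  set f : A[X] := X ^ n * (X - 1) + p with hf
  have hmap : f.map (Ideal.Quotient.mk I) = X ^ n * (X - 1) := by
    rw [hf, Polynomial.map_add, map_mk_eq_zero_of_coeff_mem hpI, add_zero]
    simp
  have hder : ∀ a : A, a - 1 ∈ I →
      Ideal.Quotient.mk I (f.derivative.eval a) = 1 := by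
    intro a ha
    have ha' : Ideal.Quotient.mk I a = 1 := by
      rw [← sub_eq_zero, ← map_one (Ideal.Quotient.mk I), ← map_sub,
        Ideal.Quotient.eq_zero_iff_mem]
      exact ha
    rw [← eval_map_apply, ← derivative_map, hmap, ha']
    simp
  have h0 : f.eval 1 ∈ I := by
    rw [← Ideal.Quotient.eq_zero_iff_mem, ← eval_map_apply, hmap]
    simp
  obtain ⟨a, ha, ha1⟩ := HenselianRing.is_henselian f (gabber_monic hp) 1 h0
    (by rw [hder 1 (by simp)]; exact isUnit_one)
  refine ⟨a, ⟨ha1, ha⟩, ?_⟩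
  rintro b ⟨hb1, hb⟩
  apply root_unique_of_isUnit_derivative_of_le_jacobson hjac f b a hb ha
  · have : b - a = (b - 1) - (a - 1) := by ring
    rw [this]
    exact I.sub_mem hb1 ha1
  · apply isUnit_of_isUnit_mk hjac
    rw [hder a ha1]
    exact isUnit_one

/-- `(5) ⇒ (1)`: Gabber's criterion. -/
theorem henselianRing_of_gabber (hjac : I ≤ Ideal.jacobson ⊥)
    (hG : ∀ (n : ℕ), 0 < n → ∀ p : A[X], p.natDegree ≤ n → (∀ i, p.coeff i ∈ I) →
      ∃ α : A, α - 1 ∈ I ∧ (X ^ n * (X - 1) + p).IsRoot α) : HenselianRing A I := by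
  refine ⟨hjac, ?_⟩
  intro f hf a₀ h0 h1
  set g := taylor a₀ f with hg
  have hgm : g.Monic := by
    rw [Monic, hg, leadingCoeff_taylor]
    exact hf
  have hb0 : g.coeff 0 ∈ I := by
    rw [hg, taylor_coeff_zero]
    exact h0
  have hb1 : IsUnit (g.coeff 1) := by
    rw [hg, taylor_coeff_one]
    exact isUnit_of_isUnit_mk hjac h1
  suffices ∃ t, g.eval t = 0 ∧ t ∈ I by
    obtain ⟨t, ht, htI⟩ := this
    refine ⟨t + a₀, ?_, by simpa using htI⟩
    rw [IsRoot, ← taylor_eval]
    exact ht
  rcases Nat.eq_zero_or_pos g.natDegree with hN | hN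
  · have h1' : g = 1 := hgm.natDegree_eq_zero.mp hN
    rw [h1', coeff_one_zero] at hb0
    have h := Ideal.mem_jacobson_bot.mp (hjac hb0) (-1)
    have h2 : IsUnit (0 : A) := by simpa using h
    haveI : Subsingleton A := subsingleton_of_zero_eq_one (isUnit_zero_iff.mp h2)
    exact ⟨0, Subsingleton.elim _ _, zero_mem _⟩
  · obtain ⟨M, hM⟩ : ∃ M, g.natDegree = M + 1 := Nat.exists_eq_succ_of_ne_zero hN.ne'
    obtain ⟨v, hv⟩ := hb1.exists_right_inv
    set b : ℕ → A := fun k => g.coeff k with hb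
    have hwdef : ∃ w : A, w = -(b 0 * v) := ⟨_, rfl⟩
    obtain ⟨w, hw⟩ := hwdef
    have hwI : w ∈ I := by
      rw [hw]
      exact I.neg_mem (I.mul_mem_right _ hb0)
    set c : ℕ → A := fun j => -(v * b (j + 2) * w ^ (j + 1)) with hc
    have hcI : ∀ j, c j ∈ I := fun j =>
      I.neg_mem (I.mul_mem_left _ (Ideal.pow_mem_of_mem I hwI (j + 1) (Nat.succ_pos j)))
    set p : A[X] := ∑ j ∈ Finset.range M, C (c j) * X ^ (M - j) with hp
    have hpdeg : p.natDegree ≤ M + 1 := by
      apply natDegree_sum_le_of_forall_le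
      intro j _
      exact (natDegree_C_mul_X_pow_le _ _).trans (by omega)
    have hpI : ∀ i, p.coeff i ∈ I := by
      intro i
      rw [hp, finset_sum_coeff]
      apply Submodule.sum_mem
      intro j _
      rw [coeff_C_mul_X_pow]
      split_ifs
      · exact hcI j
      · exact zero_mem _
    obtain ⟨u, hu1, hu⟩ := hG (M + 1) (Nat.succ_pos M) p hpdeg hpI
    have huu : IsUnit u := isUnit_of_sub_one_mem hjac hu1
    obtain ⟨u', hu'⟩ := huu.exists_right_inv
    refine ⟨w * u', ?_, I.mul_mem_right _ hwI⟩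
    have hterm : ∀ j ∈ Finset.range M,
        u ^ (M + 2) * (b (j + 2) * (w * u') ^ (j + 2)) = b 0 * (c j * u ^ (M - j)) := by
      intro j hj
      obtain ⟨d, rfl⟩ := Nat.exists_eq_add_of_le (le_of_lt (Finset.mem_range.mp hj))
      rw [Nat.add_sub_cancel_left]
      have e1 : (w * u') ^ (j + 2) * u ^ (j + 2) = w ^ (j + 2) := by
        rw [← mul_pow, mul_assoc, mul_comm u' u, hu', mul_one]
      simp only [hc]
      linear_combination (b (j + 2) * u ^ d) * e1 + (b (j + 2) * u ^ d * w ^ (j + 1)) * hw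
    have key : u ^ (M + 2) * g.eval (w * u') =
        b 0 * (X ^ (M + 1) * (X - 1) + p).eval u := by
      rw [eval_eq_sum_range, hM, Finset.sum_range_succ', Finset.sum_range_succ', mul_add, mul_add,
        Finset.mul_sum, Finset.sum_congr rfl hterm, eval_add, eval_mul, eval_pow, eval_sub, eval_X,
        eval_one, hp, eval_finset_sum, mul_add, Finset.mul_sum]
      simp only [eval_mul, eval_C, eval_pow, eval_X]
      have e2 : (w * u') * u = w := by rw [mul_assoc, mul_comm u' u, hu', mul_one]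
      have e3 : u ^ (M + 2) * (g.coeff (0 + 1) * (w * u') ^ (0 + 1)) = -(b 0 * u ^ (M + 1)) := by
        simp only [zero_add, pow_one]
        linear_combination (g.coeff 1 * u ^ (M + 1)) * e2 + (g.coeff 1 * u ^ (M + 1)) * hw
          - (b 0 * u ^ (M + 1)) * hv
      rw [e3]
      simp only [hb, pow_zero, mul_one]
      ring
    rw [hu, mul_zero] at key
    exact (huu.pow _).mul_right_eq_zero.mp key

end Groth.Agent.Lib.Helper12
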