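import Mathlib
import Groth.Agent.Lib.Helper12.GabberCrit

/-!
# Direct limits of henselian pairs are henselian pairs
-/

set_option autoImplicit false
universe u v

namespace Groth.Agent.Lib.Helper12

open Polynomial

namespace PairDirectLimit

variable {ι : Type v} [Preorder ι] [IsDirectedOrder ι] [Nonempty ι]
  (G : ι → Type u) [∀ i, CommRing (G i)] (f : ∀ i j : ι, i ≤ j → (G i →+* G j))
  [DirectedSystem G (fun i j h => f i j h)]

local notation "of" => DirectLimit.Ring.of G f

theorem of_eq_of_iff {i j : ι} (x : G i) (y : G j) :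
    of i x = of j y ↔ ∃ (k : ι) (hik : i ≤ k) (hjk : j ≤ k), f i k hik x = f j k hjk y := by
  show (⟦⟨i, x⟩⟧ : DirectLimit G f) = ⟦⟨j, y⟩⟧ ↔ _
  rw [Quotient.eq]
  rfl

theorem of_eq_zero_iff {i : ι} (x : G i) :
    of i x = 0 ↔ ∃ (k : ι) (hik : i ≤ k), f i k hik x = 0 := by
  constructor
  · intro h
    rw [← map_zero (of i), of_eq_of_iff] at h
    obtain ⟨k, hik, hik', hk⟩ := h
    exact ⟨k, hik, by rw [hk, map_zero]⟩
  · rintro ⟨k, hik, hk⟩
    rw [← DirectLimit.Ring.of_f (f := f) hik x, hk, map_zero]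

theorem exists_of (x : DirectLimit G f) : ∃ (i : ι) (y : G i), of i y = x := by
  obtain ⟨i, y, rfl⟩ := DirectLimit.exists_eq_mk (f := fun i j h => f i j h) x
  exact ⟨i, y, rfl⟩

variable (J : ∀ i, Ideal (G i)) (hJ : ∀ (i j : ι) (h : i ≤ j), (J i).map (f i j h) ≤ J j)

/-- The ideal of the direct limit generated by the images of the `J i`. -/
noncomputable def limIdeal : Ideal (DirectLimit G f) := ⨆ i, (J i).map (of i)

include hJ in
theorem mem_limIdeal_iff (x : DirectLimit G f) :
    x ∈ limIdeal G f J ↔ ∃ (i : ι) (y : G i), y ∈ J i ∧ of i y = x := by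
  constructor
  · intro hx
    -- the set of such `x` is an ideal containing all the `(J i).map (of i)`
    let K : Ideal (DirectLimit G f) :=
      { carrier := {x | ∃ (i : ι) (y : G i), y ∈ J i ∧ of i y = x}
        zero_mem' := by
          obtain ⟨i⟩ := ‹Nonempty ι›
          exact ⟨i, 0, (J i).zero_mem, map_zero _⟩
        add_mem' := by
          rintro a b ⟨i, y, hy, rfl⟩ ⟨j, z, hz, rfl⟩
          obtain ⟨k, hik, hjk⟩ := exists_ge_ge i j
          refine ⟨k, f i k hik y + f j k hjk z, ?_, ?_⟩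
          · exact (J k).add_mem (hJ i k hik (Ideal.mem_map_of_mem _ hy))
              (hJ j k hjk (Ideal.mem_map_of_mem _ hz))
          · rw [map_add, DirectLimit.Ring.of_f, DirectLimit.Ring.of_f]
        smul_mem' := by
          rintro c b ⟨i, y, hy, rfl⟩
          obtain ⟨j, z, rfl⟩ := exists_of G f c
          obtain ⟨k, hik, hjk⟩ := exists_ge_ge i j
          refine ⟨k, f j k hjk z * f i k hik y, ?_, ?_⟩
          · exact (J k).mul_mem_left _ (hJ i k hik (Ideal.mem_map_of_mem _ hy))
          · rw [map_mul, DirectLimit.Ring.of_f, DirectLimit.Ring.of_f, smul_eq_mul] }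
    have hle : limIdeal G f J ≤ K := by
      apply iSup_le
      intro i
      rw [Ideal.map_le_iff_le_comap]
      intro y hy
      exact ⟨i, y, hy, rfl⟩
    exact hle hx
  · rintro ⟨i, y, hy, rfl⟩
    exact (le_iSup (fun i => (J i).map (of i)) i) (Ideal.mem_map_of_mem _ hy)

include hJ in
theorem exists_common_stage (t : Finset ℕ) (c : ℕ → DirectLimit G f)
    (hc : ∀ i ∈ t, c i ∈ limIdeal G f J) :
    ∃ s : ι, ∀ i ∈ t, ∃ y : G s, y ∈ J s ∧ of s y = c i := by
  classical
  induction t using Finset.induction_on with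
  | empty =>
    obtain ⟨s⟩ := ‹Nonempty ι›
    exact ⟨s, fun i hi => absurd hi (Finset.notMem_empty i)⟩
  | insert a t hat ih =>
    obtain ⟨s, hs⟩ := ih (fun i hi => hc i (Finset.mem_insert_of_mem hi))
    obtain ⟨j, y, hy, hya⟩ := (mem_limIdeal_iff G f J hJ _).mp (hc a (Finset.mem_insert_self a t))
    obtain ⟨k, hsk, hjk⟩ := exists_ge_ge s j
    refine ⟨k, fun i hi => ?_⟩
    rcases Finset.mem_insert.mp hi with rfl | hi
    · exact ⟨f j k hjk y, hJ j k hjk (Ideal.mem_map_of_mem _ hy), by
        rw [DirectLimit.Ring.of_f, hya]⟩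
    · obtain ⟨z, hz, hzi⟩ := hs i hi
      exact ⟨f s k hsk z, hJ s k hsk (Ideal.mem_map_of_mem _ hz), by
        rw [DirectLimit.Ring.of_f, hzi]⟩

include hJ in
theorem limIdeal_le_jacobson (hjac : ∀ i, J i ≤ Ideal.jacobson ⊥) :
    limIdeal G f J ≤ Ideal.jacobson ⊥ := by
  intro x hx
  obtain ⟨i, y, hy, rfl⟩ := (mem_limIdeal_iff G f J hJ x).mp hx
  rw [Ideal.mem_jacobson_bot]
  intro z
  obtain ⟨j, w, rfl⟩ := exists_of G f z
  obtain ⟨k, hik, hjk⟩ := exists_ge_ge i j
  have hyk : f i k hik y ∈ J k := hJ i k hik (Ideal.mem_map_of_mem _ hy)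
  have hu : IsUnit (f i k hik y * f j k hjk w + 1) :=
    Ideal.mem_jacobson_bot.mp (hjac k hyk) _
  have := hu.map (of k)
  rwa [map_add, map_mul, map_one, DirectLimit.Ring.of_f, DirectLimit.Ring.of_f] at this

include hJ in
/-- The direct limit of a directed system of henselian pairs is a henselian pair. -/
theorem henselianRing_limIdeal [∀ i, HenselianRing (G i) (J i)] :
    HenselianRing (DirectLimit G f) (limIdeal G f J) := by
  classical
  have hjac : limIdeal G f J ≤ Ideal.jacobson ⊥ :=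
    limIdeal_le_jacobson G f J hJ (fun i => HenselianRing.jac)
  apply henselianRing_of_gabber hjac
  intro n _ p hp hpI
  obtain ⟨s, hs⟩ := exists_common_stage G f J hJ (Finset.range (n + 1)) (fun i => p.coeff i)
    (fun i _ => hpI i)
  choose! y hyJ hy using hs
  let p₀ : (G s)[X] := ∑ i ∈ Finset.range (n + 1), C (y i) * X ^ i
  have hp₀deg : p₀.natDegree ≤ n := by
    apply natDegree_sum_le_of_forall_le
    intro i hi
    refine (natDegree_C_mul_X_pow_le _ _).trans ?_
    exact Nat.lt_succ_iff.mp (Finset.mem_range.mp hi)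
  have hp₀coeff : ∀ i, p₀.coeff i = if i ∈ Finset.range (n + 1) then y i else 0 := by
    intro i
    simp only [p₀, finsetSum_coeff, coeff_C_mul_X_pow]
    rw [Finset.sum_ite_eq]
  have hp₀I : ∀ i, p₀.coeff i ∈ J s := by
    intro i
    rw [hp₀coeff]
    split_ifs with hi
    · exact hyJ i hi
    · exact (J s).zero_mem
  have hp₀map : p₀.map (of s) = p := by
    ext i
    rw [coeff_map, hp₀coeff]
    split_ifs with hi
    · exact hy i hi
    · rw [map_zero]
      symm
      apply coeff_eq_zero_of_natDegree_lt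
      rw [Finset.mem_range, not_lt] at hi
      omega
  obtain ⟨α, ⟨hα1, hαroot⟩, -⟩ := existsUnique_root_of_henselianRing (I := J s) n p₀ hp₀deg hp₀I
  refine ⟨of s α, ?_, ?_⟩
  · rw [← map_one (of s), ← map_sub]
    exact (mem_limIdeal_iff G f J hJ _).mpr ⟨s, _, hα1, rfl⟩
  · rw [IsRoot.def] at hαroot ⊢
    rw [← hp₀map]
    have : (X ^ n * (X - 1) + p₀.map (of s) : (DirectLimit G f)[X]) =
        (X ^ n * (X - 1) + p₀).map (of s) := by
      simp
    rw [this, eval_map_apply, hαroot, map_zero]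

end PairDirectLimit

end Groth.Agent.Lib.Helper12
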