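import Mathlib
import Groth.Agent.Lib.Helper12.PairDirectLimit

/-!
# A direct limit of Zariski pairs in which Gabber roots appear at later stages is henselian
-/

set_option autoImplicit false
universe u v

namespace Groth.Agent.Lib.Helper12

open Polynomial

namespace PairDirectLimit

variable {ι : Type v} [Preorder ι] [IsDirectedOrder ι] [Nonempty ι]
  (G : ι → Type u) [∀ i, CommRing (G i)] (f : ∀ i j : ι, i ≤ j → (G i →+* G j))
  [DirectedSystem G (fun i j h => f i j h)]
  (J : ∀ i, Ideal (G i)) (hJ : ∀ (i j : ι) (h : i ≤ j), (J i).map (f i j h) ≤ J j)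

local notation "of" => DirectLimit.Ring.of G f

include hJ in
theorem henselianRing_limIdeal_of_exists_root (hjac : ∀ i, J i ≤ Ideal.jacobson ⊥)
    (hroot : ∀ (i : ι) (n : ℕ) (p : (G i)[X]), 0 < n → p.natDegree ≤ n →
      (∀ k, p.coeff k ∈ J i) →
      ∃ (j : ι) (hij : i ≤ j) (α : G j), α - 1 ∈ J j ∧
        ((X ^ n * (X - 1) + p).map (f i j hij)).IsRoot α) :
    HenselianRing (DirectLimit G f) (limIdeal G f J) := by
  classical
  have hjac' : limIdeal G f J ≤ Ideal.jacobson ⊥ := limIdeal_le_jacobson G f J hJ hjac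
  apply henselianRing_of_gabber hjac'
  intro n hn p hp hpI
  obtain ⟨s, hs⟩ := exists_common_stage G f J hJ (Finset.range (n + 1)) (fun i => p.coeff i)
    (fun i _ => hpI i)
  choose! y hyJ hy using hs
  let p₀ : (G s)[X] := ∑ i ∈ Finset.range (n + 1), C (y i) * X ^ i
  have hp₀deg : p₀.natDegree ≤ n := by
    apply natDegree_sum_le_of_forall_le
    intro i hi
    refine (natDegree_C_mul_X_pow_le _ _).trans ?_
    exact Nat.lt_succ_iff.mp (Finset.mem_range.mp hi)
  have hp₀coeff : ∀ i, p₀.coeff i = if i ∈ Finset.range (n + 1) then y i else 0 := by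
    intro i
    simp only [p₀, finsetSum_coeff, coeff_C_mul_X_pow]
    rw [Finset.sum_ite_eq]
  have hp₀I : ∀ i, p₀.coeff i ∈ J s := by
    intro i
    rw [hp₀coeff]
    split_ifs with hi
    · exact hyJ i hi
    · exact (J s).zero_mem
  have hp₀map : p₀.map (of s) = p := by
    ext i
    rw [coeff_map, hp₀coeff]
    split_ifs with hi
    · exact hy i hi
    · rw [map_zero]
      symm
      apply coeff_eq_zero_of_natDegree_lt
      rw [Finset.mem_range, not_lt] at hi
      omega
  obtain ⟨j, hsj, α, hα1, hαroot⟩ := hroot s n p₀ hn hp₀deg hp₀I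
  refine ⟨of j α, ?_, ?_⟩
  · rw [← map_one (of j), ← map_sub]
    exact (mem_limIdeal_iff G f J hJ _).mpr ⟨j, _, hα1, rfl⟩
  · rw [IsRoot.def] at hαroot ⊢
    rw [← hp₀map]
    have hof : (of s : G s →+* DirectLimit G f) = (of j).comp (f s j hsj) := by
      ext x
      exact (DirectLimit.Ring.of_f (f := f) hsj x).symm
    have : (X ^ n * (X - 1) + p₀.map (of s) : (DirectLimit G f)[X]) =
        ((X ^ n * (X - 1) + p₀).map (f s j hsj)).map (of j) := by
      rw [Polynomial.map_map, ← hof]
      simp
    rw [this, eval_map_apply, hαroot, map_zero]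

end PairDirectLimit

end Groth.Agent.Lib.Helper12
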