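import Groth.Agent.Lib.Helper12.EtaleLift
import Groth.Agent.Lib.Helper12.HenselPairOps
import Mathlib.RingTheory.TensorProduct.Quotient

set_option autoImplicit false
universe u v

/-!
# Homomorphisms out of étale algebras over a henselian pair
-/

namespace Groth.Agent.Lib.Helper12

open TensorProduct

/-- Two algebra maps from an unramified algebra which agree modulo an ideal contained in the
Jacobson radical are equal. -/
theorem algHom_eq_of_sub_mem_of_unramified {A B₁ C : Type*} [CommRing A] [CommRing B₁]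
    [CommRing C] [Algebra A B₁] [Algebra A C] [Algebra.EssFiniteType A B₁]
    [Algebra.FormallyUnramified A B₁] {J : Ideal C} (hJ : J ≤ Ideal.jacobson ⊥)
    (φ φ' : B₁ →ₐ[A] C) (h : ∀ x, φ x - φ' x ∈ J) : φ = φ' := by
  obtain ⟨e, he, hsp⟩ := exists_idempotent_kaehlerIdeal A B₁
  let μ : B₁ ⊗[A] B₁ →ₐ[A] C := Algebra.TensorProduct.lift φ φ' (fun _ _ => Commute.all _ _)
  have hμt : ∀ x y : B₁, μ (x ⊗ₜ[A] y) = φ x * φ' y := fun x y =>
    Algebra.TensorProduct.lift_tmul _ _ _ _ _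
  have hμ : ∀ z ∈ KaehlerDifferential.ideal A B₁, μ z ∈ J := by
    rw [← KaehlerDifferential.span_range_eq_ideal]
    intro z hz
    have hle : Ideal.span (Set.range fun s : B₁ => (1 : B₁) ⊗ₜ[A] s - s ⊗ₜ[A] (1 : B₁)) ≤
        J.comap (μ : B₁ ⊗[A] B₁ →+* C) := by
      rw [Ideal.span_le]
      rintro _ ⟨s, rfl⟩
      show μ ((1 : B₁) ⊗ₜ[A] s - s ⊗ₜ[A] (1 : B₁)) ∈ J
      rw [map_sub, hμt, hμt, map_one, map_one, one_mul, mul_one]
      have := J.neg_mem (h s)
      rwa [neg_sub] at this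
    exact hle hz
  have hε : μ e = 0 := by
    have hid : IsIdempotentElem (μ e) := he.map μ
    have hmem : μ e ∈ J := hμ e (hsp ▸ Ideal.mem_span_singleton_self e)
    exact idempotent_eq_of_sub_mem hJ hid IsIdempotentElem.zero (by simpa using hmem)
  ext x
  have hx : (1 : B₁) ⊗ₜ[A] x - x ⊗ₜ[A] (1 : B₁) ∈ KaehlerDifferential.ideal A B₁ :=
    KaehlerDifferential.one_smul_sub_smul_one_mem_ideal A x
  rw [hsp, Ideal.mem_span_singleton'] at hx
  obtain ⟨c, hc⟩ := hx
  have := congrArg μ hc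
  rw [map_mul, hε, mul_zero, map_sub, hμt, hμt, map_one, map_one, one_mul, mul_one] at this
  exact (sub_eq_zero.mp this.symm).symm

/-- Over a henselian pair `(A, I)`, maps from an étale algebra to the reduction of an integral
algebra lift. -/
theorem exists_algHom_lift_of_etale_of_isIntegral (A : Type u) [CommRing A] (I : Ideal A)
    [HenselianRing A I] (B₁ : Type u) [CommRing B₁] [Algebra A B₁] [Algebra.Etale A B₁]
    (B₂ : Type u) [CommRing B₂] [Algebra A B₂] [Algebra.IsIntegral A B₂]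
    (g : B₁ →ₐ[A] B₂ ⧸ I.map (algebraMap A B₂)) :
    ∃ φ : B₁ →ₐ[A] B₂, ∀ x, Ideal.Quotient.mk (I.map (algebraMap A B₂)) (φ x) = g x := by
  haveI : HenselianRing B₂ (I.map (algebraMap A B₂)) := henselianRing_map_of_isIntegral A I B₂
  let σ : B₂ ⊗[A] B₁ →ₐ[B₂] B₂ ⧸ I.map (algebraMap A B₂) :=
    Algebra.TensorProduct.lift (Algebra.ofId B₂ (B₂ ⧸ I.map (algebraMap A B₂))) g
      (fun _ _ => Commute.all _ _)
  obtain ⟨τ, hτ⟩ := exists_lift_of_etale (HenselianRing.jac (I := I.map (algebraMap A B₂)))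
    (gabberRoots_of_henselianRing (I := I.map (algebraMap A B₂))) σ
  refine ⟨(τ.restrictScalars A).comp Algebra.TensorProduct.includeRight, ?_⟩
  intro x
  have := AlgHom.congr_fun hτ ((1 : B₂) ⊗ₜ[A] x)
  have hσ : σ ((1 : B₂) ⊗ₜ[A] x) = g x := by
    show Algebra.TensorProduct.lift (Algebra.ofId B₂ (B₂ ⧸ I.map (algebraMap A B₂))) g _
      ((1 : B₂) ⊗ₜ[A] x) = g x
    rw [Algebra.TensorProduct.lift_tmul, map_one, one_mul]
  rw [hσ] at this
  exact this

end Groth.Agent.Lib.Helper12
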