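import Mathlib
import Groth.Agent.Lib.Helper12.FiniteEtaleHom

/-!
# Pointed algebras and their Zariski localizations

For an `A`-algebra `C` with a "point" `σ : C →ₐ[A] Q`, the ring `Zar C σ` is the localization of
`C` at the elements whose image under `σ` is a unit.  The pair `(Zar C σ, ker σ)` is a Zariski pair.
-/

set_option autoImplicit false
universe u

namespace Groth.Agent.Lib.Helper12.PairNbhd

variable {A : Type u} [CommRing A] {Q : Type u} [CommRing Q] [Algebra A Q]

section
variable (C : Type u) [CommRing C] [Algebra A C] (σ : C →ₐ[A] Q)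

/-- The elements which are units at the point. -/
def unitSub : Submonoid C := (IsUnit.submonoid Q).comap (σ : C →* Q)

theorem mem_unitSub {c : C} : c ∈ unitSub C σ ↔ IsUnit (σ c) := Iff.rfl

/-- The Zariski localization of the pointed algebra `(C, σ)`. -/
abbrev Zar : Type u := Localization (unitSub C σ)

/-- The point of the Zariski localization. -/
noncomputable def zarPt : Zar C σ →ₐ[A] Q :=
  IsLocalization.liftAlgHom (M := unitSub C σ) (f := σ) (fun y => y.2)

@[simp] theorem zarPt_algebraMap (c : C) : zarPt C σ (algebraMap C (Zar C σ) c) = σ c := by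
  unfold zarPt
  exact IsLocalization.lift_eq _ c

theorem isUnit_iff_isUnit_zarPt (z : Zar C σ) : IsUnit z ↔ IsUnit (zarPt C σ z) := by
  constructor
  · intro h
    exact h.map _
  · intro h
    obtain ⟨c, s, rfl⟩ := IsLocalization.exists_mk'_eq (unitSub C σ) z
    have h1 : IsLocalization.mk' (Zar C σ) c s * algebraMap C (Zar C σ) s =
        algebraMap C (Zar C σ) c := IsLocalization.mk'_spec _ c s
    have hs : IsUnit (algebraMap C (Zar C σ) s) := IsLocalization.map_units _ s
    have h2 : zarPt C σ (IsLocalization.mk' (Zar C σ) c s) * σ s = σ c := by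
      rw [← zarPt_algebraMap C σ s, ← map_mul, h1, zarPt_algebraMap]
    have hc : IsUnit (σ c) := by
      rw [← h2]
      exact h.mul s.2
    have hc' : IsUnit (algebraMap C (Zar C σ) c) :=
      IsLocalization.map_units (M := unitSub C σ) _ ⟨c, hc⟩
    rw [← h1] at hc'
    exact isUnit_of_mul_isUnit_left hc'

theorem ker_zarPt_le_jacobson : RingHom.ker (zarPt C σ) ≤ Ideal.jacobson ⊥ := by
  intro x hx
  rw [Ideal.mem_jacobson_bot]
  intro y
  rw [isUnit_iff_isUnit_zarPt, map_add, map_mul, (RingHom.mem_ker).mp hx, zero_mul, zero_add,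
    map_one]
  exact isUnit_one

theorem isUnit_algebraMap_iff (c : C) : IsUnit (algebraMap C (Zar C σ) c) ↔ IsUnit (σ c) := by
  rw [isUnit_iff_isUnit_zarPt, zarPt_algebraMap]

/-- Every element of the kernel of `zarPt` is a fraction with numerator in the kernel of `σ`. -/
theorem exists_mk'_of_mem_ker {z : Zar C σ} (hz : zarPt C σ z = 0) :
    ∃ (c : C) (s : unitSub C σ), σ c = 0 ∧ IsLocalization.mk' (Zar C σ) c s = z := by
  obtain ⟨c, s, rfl⟩ := IsLocalization.exists_mk'_eq (unitSub C σ) z
  refine ⟨c, s, ?_, rfl⟩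
  have h1 : IsLocalization.mk' (Zar C σ) c s * algebraMap C (Zar C σ) s =
      algebraMap C (Zar C σ) c := IsLocalization.mk'_spec _ c s
  have h2 : zarPt C σ (IsLocalization.mk' (Zar C σ) c s) * σ s = σ c := by
    rw [← zarPt_algebraMap C σ s, ← map_mul, h1, zarPt_algebraMap]
  rw [← h2, hz, zero_mul]

end

section Maps
variable {C : Type u} [CommRing C] [Algebra A C] {σ : C →ₐ[A] Q}
variable {C' : Type u} [CommRing C'] [Algebra A C'] {σ' : C' →ₐ[A] Q}

/-- A pointed map induces a map of Zariski localizations. -/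
noncomputable def zarMap (φ : C →ₐ[A] C') (h : σ'.comp φ = σ) : Zar C σ →ₐ[A] Zar C' σ' :=
  IsLocalization.liftAlgHom (M := unitSub C σ)
    (f := (IsScalarTower.toAlgHom A C' (Zar C' σ')).comp φ) (by
      rintro ⟨y, hy⟩
      show IsUnit (algebraMap C' (Zar C' σ') (φ y))
      rw [isUnit_algebraMap_iff]
      have : σ' (φ y) = σ y := by rw [← h]; rfl
      rw [this]
      exact hy)

theorem zarMap_algebraMap (φ : C →ₐ[A] C') (h : σ'.comp φ = σ) (c : C) :
    zarMap φ h (algebraMap C (Zar C σ) c) = algebraMap C' (Zar C' σ') (φ c) := by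
  unfold zarMap
  rw [IsLocalization.liftAlgHom_apply, IsLocalization.lift_eq]
  rfl

theorem zarPt_comp_zarMap (φ : C →ₐ[A] C') (h : σ'.comp φ = σ) :
    (zarPt C' σ').comp (zarMap φ h) = zarPt C σ := by
  apply AlgHom.coe_ringHom_injective
  apply IsLocalization.ringHom_ext (unitSub C σ)
  ext c
  simp only [RingHom.comp_apply, AlgHom.coe_toRingHom, AlgHom.comp_apply]
  rw [zarMap_algebraMap, zarPt_algebraMap, zarPt_algebraMap, ← h]
  rfl

/-- Algebra maps out of `Zar C σ` are determined by their restriction to `C`. -/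
theorem zar_algHom_ext {D : Type*} [CommRing D] [Algebra A D] (φ₁ φ₂ : Zar C σ →ₐ[A] D)
    (h : ∀ c : C, φ₁ (algebraMap C (Zar C σ) c) = φ₂ (algebraMap C (Zar C σ) c)) : φ₁ = φ₂ := by
  apply AlgHom.coe_ringHom_injective
  apply IsLocalization.ringHom_ext (unitSub C σ)
  ext c
  exact h c

/-- Two algebra maps from the Zariski localization of an unramified pointed algebra which agree
modulo an ideal contained in the Jacobson radical are equal. -/
theorem zar_algHom_eq_of_sub_mem [Algebra.FiniteType A C] [Algebra.FormallyUnramified A C]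
    {D : Type*} [CommRing D] [Algebra A D] {J : Ideal D} (hJ : J ≤ Ideal.jacobson ⊥)
    (φ₁ φ₂ : Zar C σ →ₐ[A] D)
    (h : ∀ c : C, φ₁ (algebraMap C (Zar C σ) c) - φ₂ (algebraMap C (Zar C σ) c) ∈ J) :
    φ₁ = φ₂ := by
  apply zar_algHom_ext
  have := algHom_eq_of_sub_mem_of_unramified hJ
    (φ₁.comp (IsScalarTower.toAlgHom A C (Zar C σ))) (φ₂.comp (IsScalarTower.toAlgHom A C (Zar C σ)))
    h
  intro c
  exact AlgHom.congr_fun this c

/-- Pointed algebra maps between Zariski localizations of unramified pointed algebras are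
unique. -/
theorem zar_algHom_eq_of_pt [Algebra.FiniteType A C] [Algebra.FormallyUnramified A C]
    (φ₁ φ₂ : Zar C σ →ₐ[A] Zar C' σ')
    (h₁ : (zarPt C' σ').comp φ₁ = zarPt C σ) (h₂ : (zarPt C' σ').comp φ₂ = zarPt C σ) :
    φ₁ = φ₂ := by
  apply zar_algHom_eq_of_sub_mem (ker_zarPt_le_jacobson C' σ')
  intro c
  rw [RingHom.mem_ker, map_sub, sub_eq_zero]
  have e1 := AlgHom.congr_fun h₁ (algebraMap C (Zar C σ) c)
  have e2 := AlgHom.congr_fun h₂ (algebraMap C (Zar C σ) c)
  simp only [AlgHom.comp_apply] at e1 e2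
  rw [e1, e2]

/-- An isomorphism of pointed algebras induces an isomorphism of Zariski localizations. -/
noncomputable def zarEquiv (e : C ≃ₐ[A] C') (h : σ'.comp (e : C →ₐ[A] C') = σ) :
    Zar C σ ≃ₐ[A] Zar C' σ' :=
  have h' : σ.comp (e.symm : C' →ₐ[A] C) = σ' := by
    ext c
    rw [← h]
    simp
  AlgEquiv.ofAlgHom (zarMap (e : C →ₐ[A] C') h) (zarMap (e.symm : C' →ₐ[A] C) h')
    (by
      apply zar_algHom_ext
      intro c
      simp only [AlgHom.comp_apply, AlgHom.id_apply]
      rw [zarMap_algebraMap, zarMap_algebraMap]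
      simp)
    (by
      apply zar_algHom_ext
      intro c
      simp only [AlgHom.comp_apply, AlgHom.id_apply]
      rw [zarMap_algebraMap, zarMap_algebraMap]
      simp)

theorem zarPt_comp_zarEquiv (e : C ≃ₐ[A] C') (h : σ'.comp (e : C →ₐ[A] C') = σ) :
    (zarPt C' σ').comp (zarEquiv e h : Zar C σ →ₐ[A] Zar C' σ') = zarPt C σ :=
  zarPt_comp_zarMap _ h

theorem zarEquiv_algebraMap (e : C ≃ₐ[A] C') (h : σ'.comp (e : C →ₐ[A] C') = σ) (c : C) :
    zarEquiv e h (algebraMap C (Zar C σ) c) = algebraMap C' (Zar C' σ') (e c) :=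
  zarMap_algebraMap _ h c

end Maps

end Groth.Agent.Lib.Helper12.PairNbhd
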