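import Mathlib
import Groth.Agent.Lib.Helper12.PairNbhd

/-!
# The henselization of a pair: index system

The index type `PNbhd A I` is a small skeleton of the pointed étale `A`-algebras
`(C, σ : C → A / I)`.  The rings `G i = Zar C σ` form a directed system indexed by the
preorder `i ≤ j ↔ ∃ pointed map G i → G j`.
-/

set_option autoImplicit false
universe u

namespace Groth.Agent.Lib.Helper12.PairNbhd

open TensorProduct

/-- A small skeleton of pointed étale algebras of the pair `(A, I)`. -/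
structure PNbhd (A : Type u) [CommRing A] (I : Ideal A) : Type u where
  n : ℕ
  K : Ideal (MvPolynomial (Fin n) A)
  etale : Algebra.Etale A (MvPolynomial (Fin n) A ⧸ K)
  σ : (MvPolynomial (Fin n) A ⧸ K) →ₐ[A] A ⧸ I

namespace PNbhd

variable {A : Type u} [CommRing A] {I : Ideal A}

/-- The étale algebra of the neighbourhood. -/
abbrev Ring (i : PNbhd A I) : Type u := MvPolynomial (Fin i.n) A ⧸ i.K

instance (i : PNbhd A I) : Algebra.Etale A i.Ring := i.etale

/-- The Zariski localization of the neighbourhood. -/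
abbrev G (i : PNbhd A I) : Type u := Zar i.Ring i.σ

/-- The point of the Zariski localization of the neighbourhood. -/
noncomputable abbrev pt (i : PNbhd A I) : i.G →ₐ[A] A ⧸ I := zarPt i.Ring i.σ

theorem algHom_eq_of_pt {i j : PNbhd A I} (φ₁ φ₂ : i.G →ₐ[A] j.G)
    (h₁ : j.pt.comp φ₁ = i.pt) (h₂ : j.pt.comp φ₂ = i.pt) : φ₁ = φ₂ :=
  zar_algHom_eq_of_pt φ₁ φ₂ h₁ h₂

instance : Preorder (PNbhd A I) where
  le i j := ∃ φ : i.G →ₐ[A] j.G, j.pt.comp φ = i.pt
  le_refl i := ⟨AlgHom.id A _, AlgHom.comp_id _⟩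
  le_trans _ _ _ := fun ⟨f, hf⟩ ⟨g, hg⟩ => ⟨g.comp f, by rw [← AlgHom.comp_assoc, hg, hf]⟩

/-- The transition maps. -/
noncomputable def trans (i j : PNbhd A I) (h : i ≤ j) : i.G →ₐ[A] j.G := h.choose

theorem pt_comp_trans (i j : PNbhd A I) (h : i ≤ j) : j.pt.comp (trans i j h) = i.pt :=
  h.choose_spec

theorem pt_trans (i j : PNbhd A I) (h : i ≤ j) (x : i.G) : j.pt (trans i j h x) = i.pt x :=
  AlgHom.congr_fun (pt_comp_trans i j h) x

theorem trans_eq {i j : PNbhd A I} (h : i ≤ j) (φ : i.G →ₐ[A] j.G) (hφ : j.pt.comp φ = i.pt) :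
    trans i j h = φ :=
  algHom_eq_of_pt _ _ (pt_comp_trans i j h) hφ

/-- The transition maps as ring homomorphisms. -/
noncomputable def transR (i j : PNbhd A I) (h : i ≤ j) : i.G →+* j.G := (trans i j h).toRingHom

instance : DirectedSystem (fun i : PNbhd A I => i.G) (fun i j h => transR i j h) where
  map_self i x := by
    have : trans i i le_rfl = AlgHom.id A _ := trans_eq _ _ (AlgHom.comp_id _)
    show trans i i le_rfl x = x
    rw [this]; rfl
  map_map k j i hij hjk x := by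
    have : trans i k (hij.trans hjk) = (trans j k hjk).comp (trans i j hij) :=
      trans_eq _ _ (by rw [← AlgHom.comp_assoc, pt_comp_trans, pt_comp_trans])
    show trans j k hjk (trans i j hij x) = trans i k (hij.trans hjk) x
    rw [this]; rfl

/-- Every pointed étale algebra (in the same universe) is isomorphic to one in the skeleton. -/
theorem exists_equiv (C : Type u) [CommRing C] [Algebra A C] [Algebra.Etale A C]
    (σ : C →ₐ[A] A ⧸ I) :
    ∃ (i : PNbhd A I) (e : C ≃ₐ[A] i.Ring), i.σ.comp (e : C →ₐ[A] i.Ring) = σ := by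
  obtain ⟨n, f, hf, -⟩ :=
    (Algebra.FinitePresentation.out : ∃ n, ∃ f : MvPolynomial (Fin n) A →ₐ[A] C, _)
  let e : (MvPolynomial (Fin n) A ⧸ RingHom.ker f.toRingHom) ≃ₐ[A] C :=
    Ideal.quotientKerAlgEquivOfSurjective hf
  refine ⟨⟨n, RingHom.ker f.toRingHom, Algebra.Etale.of_equiv e.symm,
    σ.comp (e : _ →ₐ[A] C)⟩, e.symm, ?_⟩
  ext c
  simp

/-- The Zariski localization of any pointed étale algebra is isomorphic, compatibly with the
points, to one in the skeleton. -/
theorem exists_zar_equiv (C : Type u) [CommRing C] [Algebra A C] [Algebra.Etale A C]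
    (σ : C →ₐ[A] A ⧸ I) : ∃ (i : PNbhd A I) (e : Zar C σ ≃ₐ[A] i.G),
      i.pt.comp (e : Zar C σ →ₐ[A] i.G) = zarPt C σ := by
  obtain ⟨i, e, he⟩ := exists_equiv C σ
  exact ⟨i, zarEquiv e he, zarPt_comp_zarEquiv e he⟩

/-- Any pointed étale algebra maps to a member of the skeleton. -/
theorem exists_zar_map (C : Type u) [CommRing C] [Algebra A C] [Algebra.Etale A C]
    (σ : C →ₐ[A] A ⧸ I) : ∃ (i : PNbhd A I) (e : C ≃ₐ[A] i.Ring),
      i.σ.comp (e : C →ₐ[A] i.Ring) = σ :=
  exists_equiv C σ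

instance : Nonempty (PNbhd A I) := by
  obtain ⟨i, -⟩ := exists_equiv (A := A) (I := I) A (Algebra.ofId A (A ⧸ I))
  exact ⟨i⟩

/-- A pointed map from a member of the skeleton to a pointed étale algebra gives an inequality. -/
theorem le_of_zar_equiv {C : Type u} [CommRing C] [Algebra A C]
    (σ : C →ₐ[A] A ⧸ I) (k : PNbhd A I) (e : Zar C σ ≃ₐ[A] k.G)
    (he : k.pt.comp (e : Zar C σ →ₐ[A] k.G) = zarPt C σ) (i : PNbhd A I)
    (φ : i.Ring →ₐ[A] C) (h : σ.comp φ = i.σ) : i ≤ k :=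
  ⟨(e : _ →ₐ[A] k.G).comp (zarMap φ h), by
    rw [← AlgHom.comp_assoc, he]
    exact zarPt_comp_zarMap φ h⟩

theorem exists_ge_ge_aux (i j : PNbhd A I) {C : Type u} [CommRing C] [Algebra A C]
    [Algebra.Etale A C] (σ : C →ₐ[A] A ⧸ I) (ιl : i.Ring →ₐ[A] C) (ιr : j.Ring →ₐ[A] C)
    (h1 : σ.comp ιl = i.σ) (h2 : σ.comp ιr = j.σ) : ∃ k, i ≤ k ∧ j ≤ k := by
  obtain ⟨k, e, he⟩ := exists_zar_equiv C σ
  exact ⟨k, le_of_zar_equiv σ k e he i ιl h1, le_of_zar_equiv σ k e he j ιr h2⟩

instance : IsDirectedOrder (PNbhd A I) where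
  directed i j := by
    haveI : Algebra.Etale A (i.Ring ⊗[A] j.Ring) := Algebra.Etale.comp A i.Ring (i.Ring ⊗[A] j.Ring)
    have h1 : (Algebra.TensorProduct.productMap i.σ j.σ).comp
        (Algebra.TensorProduct.includeLeft : i.Ring →ₐ[A] i.Ring ⊗[A] j.Ring) = i.σ :=
      Algebra.TensorProduct.productMap_left _ _
    have h2 : (Algebra.TensorProduct.productMap i.σ j.σ).comp
        (Algebra.TensorProduct.includeRight : j.Ring →ₐ[A] i.Ring ⊗[A] j.Ring) = j.σ :=
      Algebra.TensorProduct.productMap_right _ _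
    exact exists_ge_ge_aux i j (C := i.Ring ⊗[A] j.Ring)
      (Algebra.TensorProduct.productMap i.σ j.σ)
      (Algebra.TensorProduct.includeLeft : i.Ring →ₐ[A] i.Ring ⊗[A] j.Ring)
      (Algebra.TensorProduct.includeRight : j.Ring →ₐ[A] i.Ring ⊗[A] j.Ring) h1 h2

end PNbhd

end Groth.Agent.Lib.Helper12.PairNbhd
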