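import Mathlib
import Groth.Agent.Lib.Helper12.PairCore
import Groth.Agent.Lib.Helper12.PairDirectLimit
import Groth.Agent.Lib.Helper12.FlatDirected

/-!
# The limit of the pointed étale neighbourhoods of a pair `(A, I)`
-/

set_option autoImplicit false
universe u

namespace Groth.Agent.Lib.Helper12.PairNbhd

open TensorProduct

variable (A : Type u) [CommRing A] (I : Ideal A)

/-- The limit of the Zariski localizations of the pointed étale neighbourhoods. -/
abbrev Lim : Type u :=
  DirectLimit (fun i : PNbhd A I => i.G) (fun i j h => PNbhd.transR i j h)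

namespace Lim

/-- The canonical ring map from the Zariski localization of a neighbourhood. -/
noncomputable abbrev of (i : PNbhd A I) : i.G →+* Lim A I :=
  DirectLimit.Ring.of (fun i : PNbhd A I => i.G) (fun i j h => PNbhd.transR i j h) i

variable {A I}

theorem of_trans {i j : PNbhd A I} (h : i ≤ j) (x : i.G) :
    of A I j (PNbhd.trans i j h x) = of A I i x :=
  DirectLimit.Ring.of_f (G := fun i : PNbhd A I => i.G) (f := fun i j h => PNbhd.transR i j h) h x

theorem of_algHom {i j : PNbhd A I} (φ : i.G →ₐ[A] j.G) (hφ : j.pt.comp φ = i.pt) (x : i.G) :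
    of A I j (φ x) = of A I i x := by
  rw [← PNbhd.trans_eq ⟨φ, hφ⟩ φ hφ, of_trans]

theorem of_algebraMap_eq (i j : PNbhd A I) (a : A) :
    of A I i (algebraMap A i.G a) = of A I j (algebraMap A j.G a) := by
  obtain ⟨k, hik, hjk⟩ := exists_ge_ge i j
  rw [← of_trans hik, ← of_trans hjk, AlgHom.commutes, AlgHom.commutes]

variable (A I)

noncomputable instance algebra : Algebra A (Lim A I) :=
  ((of A I (Classical.arbitrary (PNbhd A I))).comp
    (algebraMap A (Classical.arbitrary (PNbhd A I)).G)).toAlgebra

variable {A I}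

theorem algebraMap_eq (i : PNbhd A I) (a : A) :
    algebraMap A (Lim A I) a = of A I i (algebraMap A i.G a) :=
  of_algebraMap_eq _ i a

variable (A I)

/-- The canonical algebra map from the Zariski localization of a neighbourhood. -/
noncomputable def ofₐ (i : PNbhd A I) : i.G →ₐ[A] Lim A I :=
  { of A I i with commutes' := fun a => (algebraMap_eq i a).symm }

variable {A I}

@[simp] theorem ofₐ_apply (i : PNbhd A I) (x : i.G) : ofₐ A I i x = of A I i x := rfl

theorem exists_of (x : Lim A I) : ∃ (i : PNbhd A I) (a : i.G), of A I i a = x :=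
  PairDirectLimit.exists_of _ _ x

theorem of_eq_zero_iff {i : PNbhd A I} (x : i.G) :
    of A I i x = 0 ↔ ∃ (j : PNbhd A I) (h : i ≤ j), PNbhd.trans i j h x = 0 :=
  PairDirectLimit.of_eq_zero_iff _ _ x

variable (A I)

/-- The point of the limit, as a ring homomorphism. -/
noncomputable def ptR : Lim A I →+* A ⧸ I :=
  DirectLimit.Ring.lift (fun i : PNbhd A I => i.G) (fun i j h => PNbhd.transR i j h) (A ⧸ I)
    (fun i => i.pt.toRingHom) (fun i j hij x => PNbhd.pt_trans i j hij x)

variable {A I}

theorem ptR_of (i : PNbhd A I) (x : i.G) : ptR A I (of A I i x) = i.pt x := rfl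

variable (A I)

/-- The point of the limit. -/
noncomputable def pt : Lim A I →ₐ[A] A ⧸ I :=
  { ptR A I with
    commutes' := fun a => by
      rw [algebraMap_eq (Classical.arbitrary (PNbhd A I)) a]
      show ptR A I (of A I _ _) = _
      rw [ptR_of]
      exact (PNbhd.pt _).commutes a }

variable {A I}

@[simp] theorem pt_of (i : PNbhd A I) (x : i.G) : pt A I (of A I i x) = i.pt x :=
  ptR_of i x

theorem pt_surjective : Function.Surjective (pt A I) := by
  intro q
  obtain ⟨a, rfl⟩ := Ideal.Quotient.mk_surjective q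
  exact ⟨algebraMap A (Lim A I) a, (pt A I).commutes a⟩

variable (A I)

/-- The kernels of the points form a compatible family of ideals. -/
noncomputable def kerFam (i : PNbhd A I) : Ideal i.G := RingHom.ker i.pt

variable {A I}

theorem kerFam_map_le (i j : PNbhd A I) (h : i ≤ j) :
    (kerFam A I i).map (PNbhd.transR i j h) ≤ kerFam A I j := by
  rw [Ideal.map_le_iff_le_comap]
  intro x hx
  rw [Ideal.mem_comap]
  show j.pt (PNbhd.trans i j h x) = 0
  rw [PNbhd.pt_trans]
  exact hx

theorem ker_pt_eq_limIdeal :
    RingHom.ker (pt A I) = PairDirectLimit.limIdeal (fun i : PNbhd A I => i.G)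
      (fun i j h => PNbhd.transR i j h) (kerFam A I) := by
  ext x
  rw [PairDirectLimit.mem_limIdeal_iff _ _ _ kerFam_map_le]
  constructor
  · intro hx
    obtain ⟨i, a, rfl⟩ := exists_of x
    refine ⟨i, a, ?_, rfl⟩
    rw [RingHom.mem_ker, pt_of] at hx
    exact hx
  · rintro ⟨i, a, ha, rfl⟩
    rw [RingHom.mem_ker, pt_of]
    exact ha

theorem ker_pt_le_jacobson : RingHom.ker (pt A I) ≤ Ideal.jacobson ⊥ := by
  rw [ker_pt_eq_limIdeal]
  exact PairDirectLimit.limIdeal_le_jacobson _ _ _ kerFam_map_le
    (fun i => ker_zarPt_le_jacobson i.Ring i.σ)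

variable (A I)

instance _root_.Groth.Agent.Lib.Helper12.PairNbhd.PNbhd.flat_G (i : PNbhd A I) :
    Module.Flat A i.G :=
  Module.Flat.trans A i.Ring i.G

instance flat : Module.Flat A (Lim A I) :=
  flat_of_directed_system (fun i : PNbhd A I => i.G) (fun i j h => PNbhd.trans i j h)
    (fun i => ofₐ A I i) (fun _ _ h x => of_trans h x) (fun x => exists_of x)
    (fun i a ha => (of_eq_zero_iff a).mp ha)

end Lim

end Groth.Agent.Lib.Helper12.PairNbhd
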