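import Mathlib
import Groth.Agent.Lib.Helper12.PairLimit
import Groth.Agent.Lib.Helper12.PairDirectLimit2

/-!
# The limit of the pointed étale neighbourhoods of a pair is henselian
-/

set_option autoImplicit false
universe u

namespace Groth.Agent.Lib.Helper12.PairNbhd

open TensorProduct Polynomial

section Root

variable {A : Type u} [CommRing A] {Q : Type u} [CommRing Q] [Algebra A Q]

/-- Standard étale step: a Gabber polynomial over a pointed étale algebra acquires a root
congruent to `1` in a further pointed étale algebra. -/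
theorem exists_nbhd_gabber_root (C : Type u) [CommRing C] [Algebra A C] [Algebra.Etale A C]
    (σ : C →ₐ[A] Q) (n : ℕ) (p : C[X]) (hp : p.natDegree ≤ n) (hpI : ∀ k, σ (p.coeff k) = 0) :
    ∃ (C' : Type u) (_ : CommRing C') (_ : Algebra A C') (_ : Algebra.Etale A C')
      (σ' : C' →ₐ[A] Q) (φ : C →ₐ[A] C') (_ : σ'.comp φ = σ) (α : C'),
      ((X ^ n * (X - 1) + p).map φ.toRingHom).eval α = 0 ∧ σ' α = 1 := by
  let P : StandardEtalePair C :=
    ⟨X ^ n * (X - 1) + p, gabber_monic hp, derivative (X ^ n * (X - 1) + p), ⟨1, 0, 1, by simp⟩⟩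
  letI : Algebra A P.Ring := ((algebraMap C P.Ring).comp (algebraMap A C)).toAlgebra
  haveI : IsScalarTower A C P.Ring := IsScalarTower.of_algebraMap_eq (fun _ => rfl)
  haveI : Algebra.Etale A P.Ring := Algebra.Etale.comp A C P.Ring
  letI : Algebra C Q := σ.toRingHom.toAlgebra
  haveI : IsScalarTower A C Q :=
    IsScalarTower.of_algebraMap_eq (fun a => (σ.commutes a).symm)
  have hpmap : p.map σ.toRingHom = 0 := by
    ext k
    rw [coeff_map, coeff_zero]
    exact hpI k
  have hmap : P.HasMap (1 : Q) := by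
    have e : ∀ q : C[X], aeval (1 : Q) q = (q.map σ.toRingHom).eval 1 := by
      intro q
      rw [aeval_def, eval_map]
      rfl
    refine ⟨?_, ?_⟩
    · rw [e]
      show ((X ^ n * (X - 1) + p).map σ.toRingHom).eval 1 = 0
      rw [Polynomial.map_add, hpmap]
      simp
    · rw [e]
      show IsUnit ((derivative (X ^ n * (X - 1) + p)).map σ.toRingHom |>.eval 1)
      rw [← derivative_map, Polynomial.map_add, hpmap]
      simp
  let σ'C : P.Ring →ₐ[C] Q := P.lift 1 hmap
  let σ' : P.Ring →ₐ[A] Q := σ'C.restrictScalars A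
  refine ⟨P.Ring, inferInstance, inferInstance, inferInstance, σ',
    IsScalarTower.toAlgHom A C P.Ring, ?_, P.X, ?_, ?_⟩
  · ext c
    show σ'C (algebraMap C P.Ring c) = σ c
    rw [σ'C.commutes]
    rfl
  · have := (StandardEtalePair.hasMap_X (P := P)).1
    rw [← this]
    show eval P.X ((X ^ n * (X - 1) + p).map (algebraMap C P.Ring)) = _
    rw [eval_map_algebraMap]
  · show σ'C P.X = 1
    exact P.lift_X _ hmap

end Root

variable {A : Type u} [CommRing A] {I : Ideal A}

/-- Clearing denominators: finitely many elements of the Zariski localization of a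
neighbourhood come from the étale algebra of a further neighbourhood. -/
theorem exists_ge_ring_lift (i : PNbhd A I) (t : Finset ℕ) (z : ℕ → i.G) :
    ∃ (j : PNbhd A I) (hij : i ≤ j) (c : ℕ → j.Ring),
      ∀ k ∈ t, algebraMap j.Ring j.G (c k) = PNbhd.trans i j hij (z k) := by
  classical
  obtain ⟨b, hb⟩ := IsLocalization.exist_integer_multiples (unitSub i.Ring i.σ) t z
  choose! c₀ hc₀ using hb
  -- the localization away from `b`
  let C' := Localization.Away (b : i.Ring)
  have hbu : IsUnit (i.σ (b : i.Ring)) := b.2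
  let σ' : C' →ₐ[A] A ⧸ I :=
    IsLocalization.liftAlgHom (M := Submonoid.powers (b : i.Ring)) (f := i.σ) (by
      rintro ⟨y, m, rfl⟩
      show IsUnit (i.σ ((b : i.Ring) ^ m))
      rw [map_pow]
      exact hbu.pow m)
  let φ : i.Ring →ₐ[A] C' := IsScalarTower.toAlgHom A i.Ring C'
  have hφ : σ'.comp φ = i.σ := by
    ext x
    show σ' (algebraMap i.Ring C' x) = i.σ x
    exact IsLocalization.lift_eq _ x
  obtain ⟨j, e, he⟩ := PNbhd.exists_equiv C' σ'
  let φ' : i.Ring →ₐ[A] j.Ring := (e : C' →ₐ[A] j.Ring).comp φ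
  have hφ' : j.σ.comp φ' = i.σ := by
    rw [← AlgHom.comp_assoc, he, hφ]
  have hij : i ≤ j := ⟨zarMap φ' hφ', zarPt_comp_zarMap φ' hφ'⟩
  have htr : PNbhd.trans i j hij = zarMap φ' hφ' :=
    PNbhd.trans_eq hij _ (zarPt_comp_zarMap φ' hφ')
  refine ⟨j, hij, fun k => e (IsLocalization.mk' C' (c₀ k) ⟨(b : i.Ring), Submonoid.mem_powers _⟩),
    ?_⟩
  intro k hk
  rw [htr]
  have hu : IsUnit (algebraMap j.Ring j.G (φ' b)) := by
    rw [isUnit_algebraMap_iff]
    have : j.σ (φ' b) = i.σ b := AlgHom.congr_fun hφ' b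
    rw [this]
    exact hbu
  apply hu.mul_left_cancel
  have h1 : algebraMap j.Ring j.G (φ' b) *
      algebraMap j.Ring j.G (e (IsLocalization.mk' C' (c₀ k) ⟨(b : i.Ring), Submonoid.mem_powers _⟩)) =
      algebraMap j.Ring j.G (φ' (c₀ k)) := by
    rw [← map_mul]
    congr 1
    show e (algebraMap i.Ring C' b) * e _ = e (algebraMap i.Ring C' (c₀ k))
    rw [← map_mul]
    congr 1
    exact IsLocalization.mk'_spec' C' (c₀ k) ⟨(b : i.Ring), Submonoid.mem_powers _⟩
  have h2 : algebraMap j.Ring j.G (φ' b) * zarMap φ' hφ' (z k) =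
      algebraMap j.Ring j.G (φ' (c₀ k)) := by
    rw [← zarMap_algebraMap φ' hφ', ← map_mul, ← zarMap_algebraMap φ' hφ']
    congr 1
    rw [← Algebra.smul_def]
    exact (hc₀ k hk).symm
  rw [h1, h2]

namespace Lim

variable (A I)

variable {A I} in
/-- Gabber roots appear at a later stage. -/
theorem exists_root_stage (i : PNbhd A I) (n : ℕ) (p : (i.G)[X]) (hdeg : p.natDegree ≤ n)
    (hcoef : ∀ k, i.pt (p.coeff k) = 0) :
    ∃ (l : PNbhd A I) (hil : i ≤ l) (α : l.G), α - 1 ∈ kerFam A I l ∧
      ((X ^ n * (X - 1) + p).map (PNbhd.transR i l hil)).IsRoot α := by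
  classical
  obtain ⟨j, hij, c, hc⟩ := exists_ge_ring_lift i (Finset.range (n + 1)) (fun k => p.coeff k)
  let p' : j.Ring[X] := ∑ k ∈ Finset.range (n + 1), C (c k) * X ^ k
  have hp'deg : p'.natDegree ≤ n := by
    apply natDegree_sum_le_of_forall_le
    intro k hk
    refine (natDegree_C_mul_X_pow_le _ _).trans ?_
    exact Nat.lt_succ_iff.mp (Finset.mem_range.mp hk)
  have hp'coeff : ∀ k, p'.coeff k = if k ∈ Finset.range (n + 1) then c k else 0 := by
    intro k
    simp only [p', finsetSum_coeff, coeff_C_mul_X_pow]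
    rw [Finset.sum_ite_eq]
  have hp'map : p'.map (algebraMap j.Ring j.G) = p.map (PNbhd.transR i j hij) := by
    ext k
    rw [coeff_map, coeff_map, hp'coeff]
    split_ifs with hk
    · exact hc k hk
    · rw [map_zero]
      have : p.coeff k = 0 := by
        apply coeff_eq_zero_of_natDegree_lt
        rw [Finset.mem_range, not_lt] at hk
        omega
      rw [this, map_zero]
  have hp'I : ∀ k, j.σ (p'.coeff k) = 0 := by
    intro k
    rw [hp'coeff]
    split_ifs with hk
    · rw [← zarPt_algebraMap j.Ring j.σ, hc k hk]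
      show j.pt (PNbhd.trans i j hij (p.coeff k)) = 0
      rw [PNbhd.pt_trans]
      exact hcoef k
    · exact map_zero _
  obtain ⟨C', _, _, _, σ', φ, hφ, α, hαroot, hα1⟩ :=
    exists_nbhd_gabber_root j.Ring j.σ n p' hp'deg hp'I
  obtain ⟨l, e, he⟩ := PNbhd.exists_equiv C' σ'
  let φ' : j.Ring →ₐ[A] l.Ring := (e : C' →ₐ[A] l.Ring).comp φ
  have hφ' : l.σ.comp φ' = j.σ := by
    rw [← AlgHom.comp_assoc, he, hφ]
  have hjl : j ≤ l := ⟨zarMap φ' hφ', zarPt_comp_zarMap φ' hφ'⟩
  have htr : PNbhd.trans j l hjl = zarMap φ' hφ' :=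
    PNbhd.trans_eq hjl _ (zarPt_comp_zarMap φ' hφ')
  refine ⟨l, hij.trans hjl, algebraMap l.Ring l.G (e α), ?_, ?_⟩
  · show _ ∈ RingHom.ker l.pt
    rw [RingHom.mem_ker, map_sub, map_one, zarPt_algebraMap, sub_eq_zero]
    have : l.σ (e α) = σ' α := AlgHom.congr_fun he α
    rw [this, hα1]
  · rw [IsRoot.def]
    have hcomp : PNbhd.transR i l (hij.trans hjl) =
        (PNbhd.transR j l hjl).comp (PNbhd.transR i j hij) := by
      ext x
      exact (DirectedSystem.map_map' (f := fun i j h => PNbhd.transR (A := A) (I := I) i j h)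
        hij hjl x).symm
    have hcomp2 : (PNbhd.transR j l hjl).comp (algebraMap j.Ring j.G) =
        ((algebraMap l.Ring l.G).comp (e : C' →+* l.Ring)).comp φ.toRingHom := by
      refine RingHom.ext fun x => ?_
      show PNbhd.trans j l hjl (algebraMap j.Ring j.G x) = algebraMap l.Ring l.G (e (φ x))
      rw [htr, zarMap_algebraMap]
      rfl
    have hpoly : (X ^ n * (X - 1) + p).map (PNbhd.transR i l (hij.trans hjl)) =
        (((X ^ n * (X - 1) + p').map φ.toRingHom).map (e : C' →+* l.Ring)).map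
          (algebraMap l.Ring l.G) := by
      rw [Polynomial.map_map, Polynomial.map_map, ← hcomp2, ← Polynomial.map_map, hcomp,
        ← Polynomial.map_map]
      congr 1
      rw [Polynomial.map_add, Polynomial.map_add, hp'map]
      simp
    have hcoe : e α = (e : C' →+* l.Ring) α := rfl
    rw [hpoly, eval_map_apply, hcoe, eval_map_apply, hαroot, map_zero, map_zero]

/-- The limit is henselian along the kernel of its point. -/
theorem henselianRing_ker_pt : HenselianRing (Lim A I) (RingHom.ker (pt A I)) := by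
  rw [ker_pt_eq_limIdeal]
  exact PairDirectLimit.henselianRing_limIdeal_of_exists_root
    (G := fun i : PNbhd A I => i.G) (f := fun i j h => PNbhd.transR i j h)
    (J := kerFam A I) kerFam_map_le
    (fun i => ker_zarPt_le_jacobson i.Ring i.σ)
    (fun i n p _ hdeg hcoef => exists_root_stage i n p hdeg hcoef)

end Lim

end Groth.Agent.Lib.Helper12.PairNbhd
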