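import Mathlib
import Groth.Agent.Lib.Helper12.PairHens

/-!
# The kernel of the point of the limit is the extension of `I`
-/

set_option autoImplicit false
universe u

namespace Groth.Agent.Lib.Helper12.PairNbhd

open TensorProduct

variable {A : Type u} [CommRing A] {I : Ideal A}

/-- For a pointed étale algebra `(C, σ : C → A / I)` the kernel of `σ` is, modulo `I C`, cut out
by an idempotent: there is `c₀` with `σ c₀ = 1` and `ker σ * c₀ ⊆ I C`. -/
theorem exists_ker_mul_mem (C : Type u) [CommRing C] [Algebra A C] [Algebra.Etale A C]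
    (σ : C →ₐ[A] A ⧸ I) :
    ∃ c₀ : C, σ c₀ = 1 ∧ ∀ x, σ x = 0 → x * c₀ ∈ I.map (algebraMap A C) := by
  classical
  let σT : (A ⧸ I) ⊗[A] C →ₐ[A ⧸ I] A ⧸ I :=
    Algebra.TensorProduct.lift (AlgHom.id (A ⧸ I) (A ⧸ I)) σ (fun _ _ => Commute.all _ _)
  have hσT : ∀ (q : A ⧸ I) (c : C), σT (q ⊗ₜ[A] c) = q * σ c := fun q c =>
    Algebra.TensorProduct.lift_tmul _ _ _ _ _
  have hsurj : Function.Surjective σT := fun q => ⟨q ⊗ₜ[A] 1, by rw [hσT, map_one, mul_one]⟩
  have hfg : (RingHom.ker σT.toRingHom).FG :=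
    Algebra.FinitePresentation.ker_fG_of_surjective σT hsurj
  letI : Algebra ((A ⧸ I) ⊗[A] C) (A ⧸ I) := σT.toRingHom.toAlgebra
  haveI : IsScalarTower (A ⧸ I) ((A ⧸ I) ⊗[A] C) (A ⧸ I) :=
    IsScalarTower.of_algebraMap_eq (fun q => (σT.commutes q).symm)
  haveI : Algebra.FormallyEtale ((A ⧸ I) ⊗[A] C) (A ⧸ I) :=
    Algebra.FormallyEtale.of_restrictScalars (R := A ⧸ I)
  have hidem : IsIdempotentElem (RingHom.ker σT.toRingHom) :=
    (Algebra.FormallyEtale.iff_of_surjective
      (R := (A ⧸ I) ⊗[A] C) (S := A ⧸ I) hsurj).mp inferInstance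
  obtain ⟨e, he, hker⟩ := (Ideal.isIdempotentElem_iff_of_fg _ hfg).mp hidem
  have heker : σT e = 0 := by
    have : e ∈ RingHom.ker σT.toRingHom := by
      rw [hker]
      exact Submodule.mem_span_singleton_self e
    exact this
  let Φ := Algebra.TensorProduct.quotIdealMapEquivQuotTensor C I
  obtain ⟨c₀, hc₀⟩ := Ideal.Quotient.mk_surjective (Φ.symm (1 - e))
  have hc₀' : (1 : A ⧸ I) ⊗ₜ[A] c₀ = 1 - e := by
    have : Φ (Ideal.Quotient.mk _ c₀) = 1 ⊗ₜ[A] c₀ :=
      Algebra.TensorProduct.quotIdealMapEquivQuotTensor_mk C I c₀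
    rw [← this, hc₀, AlgEquiv.apply_symm_apply]
  refine ⟨c₀, ?_, ?_⟩
  · have := hσT 1 c₀
    rw [one_mul] at this
    rw [← this, hc₀', map_sub, map_one, heker, sub_zero]
  · intro x hx
    have hxker : (1 : A ⧸ I) ⊗ₜ[A] x ∈ RingHom.ker σT.toRingHom := by
      show σT ((1 : A ⧸ I) ⊗ₜ[A] x) = 0
      rw [hσT, hx, mul_zero]
    rw [hker] at hxker
    obtain ⟨t, ht⟩ := Submodule.mem_span_singleton.mp hxker
    have h0 : ((1 : A ⧸ I) ⊗ₜ[A] x) * ((1 : A ⧸ I) ⊗ₜ[A] c₀) = 0 := by
      rw [hc₀', ← ht, smul_eq_mul, mul_assoc]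
      have : e * (1 - e) = 0 := by
        rw [mul_sub, mul_one, he.eq, sub_self]
      rw [this, mul_zero]
    rw [Algebra.TensorProduct.tmul_mul_tmul, one_mul] at h0
    have h1 : Φ (Ideal.Quotient.mk _ (x * c₀)) = 0 := by
      rw [Algebra.TensorProduct.quotIdealMapEquivQuotTensor_mk]
      exact h0
    have h2 : Ideal.Quotient.mk (I.map (algebraMap A C)) (x * c₀) = 0 := by
      have := congrArg Φ.symm h1
      rwa [AlgEquiv.symm_apply_apply, map_zero] at this
    exact Ideal.Quotient.eq_zero_iff_mem.mp h2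

/-- In the Zariski localization of a pointed étale algebra, the kernel of the point is the
extension of `I`. -/
theorem ker_zarPt_le_map (C : Type u) [CommRing C] [Algebra A C] [Algebra.Etale A C]
    (σ : C →ₐ[A] A ⧸ I) :
    RingHom.ker (zarPt C σ) ≤ I.map (algebraMap A (Zar C σ)) := by
  intro z hz
  obtain ⟨c₀, hc₀1, hc₀⟩ := exists_ker_mul_mem C σ
  obtain ⟨c, s, hc, rfl⟩ := exists_mk'_of_mem_ker C σ hz
  have hmem : algebraMap C (Zar C σ) (c * c₀) ∈ I.map (algebraMap A (Zar C σ)) := by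
    have := Ideal.mem_map_of_mem (algebraMap C (Zar C σ)) (hc₀ c hc)
    rwa [Ideal.map_map, ← IsScalarTower.algebraMap_eq] at this
  have hs : IsUnit (algebraMap C (Zar C σ) s) := IsLocalization.map_units _ s
  have hc₀u : IsUnit (algebraMap C (Zar C σ) c₀) := by
    rw [isUnit_algebraMap_iff, hc₀1]
    exact isUnit_one
  have h1 : IsLocalization.mk' (Zar C σ) c s * algebraMap C (Zar C σ) s =
      algebraMap C (Zar C σ) c := IsLocalization.mk'_spec _ c s
  have h2 : IsLocalization.mk' (Zar C σ) c s *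
      (algebraMap C (Zar C σ) s * algebraMap C (Zar C σ) c₀) ∈ I.map (algebraMap A (Zar C σ)) := by
    rw [← mul_assoc, h1, ← map_mul]
    exact hmem
  obtain ⟨u, hu⟩ := hs.mul hc₀u
  rw [← hu] at h2
  have := Ideal.mul_mem_right (↑u⁻¹ : Zar C σ) _ h2
  rwa [mul_assoc, Units.mul_inv, mul_one] at this

namespace Lim

variable (A I)

theorem ker_pt_eq_map : RingHom.ker (pt A I) = I.map (algebraMap A (Lim A I)) := by
  apply le_antisymm
  · intro x hx
    obtain ⟨i, z, rfl⟩ := exists_of x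
    rw [RingHom.mem_ker, pt_of] at hx
    have hz : z ∈ I.map (algebraMap A i.G) := ker_zarPt_le_map i.Ring i.σ hx
    have := Ideal.mem_map_of_mem (of A I i) hz
    rw [Ideal.map_map] at this
    have hcomp : (of A I i).comp (algebraMap A i.G) = algebraMap A (Lim A I) := by
      ext a
      exact (algebraMap_eq i a).symm
    rwa [hcomp] at this
  · rw [Ideal.map_le_iff_le_comap]
    intro a ha
    rw [Ideal.mem_comap, RingHom.mem_ker, AlgHom.commutes, Ideal.Quotient.algebraMap_eq,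
      Ideal.Quotient.eq_zero_iff_mem]
    exact ha

/-- The limit is henselian along the extension of `I`. -/
theorem henselianRing : HenselianRing (Lim A I) (I.map (algebraMap A (Lim A I))) := by
  rw [← ker_pt_eq_map]
  exact henselianRing_ker_pt A I

end Lim

end Groth.Agent.Lib.Helper12.PairNbhd
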