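import Mathlib
import Groth.Prelude.Def_Hens2
import Groth.Agent.Lib.Helper12.PairKer
import Groth.Agent.Lib.Helper12.EtaleHomLift

/-!
# The universal property of the limit of pointed étale neighbourhoods of a pair
-/

set_option autoImplicit false
universe u

namespace Groth.Agent.Lib.Helper12.PairNbhd

open TensorProduct

variable {A : Type u} [CommRing A] {I : Ideal A}

namespace Lim

section Univ

variable {D : Type u} [CommRing D] [Algebra A D] (J : Ideal D) [HenselianRing D J]
  (hf : I ≤ J.comap (Algebra.ofId A D))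

/-- The induced map `A / I → D / J`. -/
noncomputable def gbar : A ⧸ I →ₐ[A] D ⧸ J := Ideal.quotientMapₐ J (Algebra.ofId A D) hf

/-- Compatibility of a map `G i → D` with the points. -/
def Compat (i : PNbhd A I) (χ : i.G →ₐ[A] D) : Prop :=
  ∀ z : i.G, Ideal.Quotient.mk J (χ z) = gbar J hf (i.pt z)

theorem existsUnique_compat (i : PNbhd A I) : ∃! χ : i.G →ₐ[A] D, Compat J hf i χ := by
  have hjac : J ≤ Ideal.jacobson ⊥ := HenselianRing.jac
  obtain ⟨ψ, hψ⟩ := exists_algHom_lift_of_etale_of_henselianRing J ((gbar J hf).comp i.σ)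
  have hunits : ∀ y : unitSub i.Ring i.σ, IsUnit (ψ y) := by
    rintro ⟨y, hy⟩
    apply isUnit_of_isUnit_mk hjac
    rw [hψ]
    exact hy.map (gbar J hf)
  let χ : i.G →ₐ[A] D := IsLocalization.liftAlgHom (M := unitSub i.Ring i.σ) (f := ψ) hunits
  have hχ : ∀ c : i.Ring, χ (algebraMap i.Ring i.G c) = ψ c := fun c =>
    IsLocalization.lift_eq _ c
  have hcompat : Compat J hf i χ := by
    have : (Ideal.Quotient.mkₐ A J).comp χ = (gbar J hf).comp i.pt := by
      apply zar_algHom_ext
      intro c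
      simp only [AlgHom.comp_apply]
      rw [hχ, zarPt_algebraMap]
      exact hψ c
    intro z
    exact AlgHom.congr_fun this z
  refine ⟨χ, hcompat, ?_⟩
  intro χ' hχ'
  apply zar_algHom_eq_of_sub_mem hjac
  intro c
  rw [← Ideal.Quotient.eq_zero_iff_mem, map_sub, hχ', hcompat, sub_self]

/-- The compatible maps. -/
noncomputable def ψ (i : PNbhd A I) : i.G →ₐ[A] D := (existsUnique_compat J hf i).choose

theorem ψ_compat (i : PNbhd A I) : Compat J hf i (ψ J hf i) :=
  (existsUnique_compat J hf i).choose_spec.1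

theorem ψ_unique (i : PNbhd A I) (χ : i.G →ₐ[A] D) (hχ : Compat J hf i χ) : χ = ψ J hf i :=
  (existsUnique_compat J hf i).choose_spec.2 χ hχ

theorem ψ_trans (i j : PNbhd A I) (h : i ≤ j) (x : i.G) :
    ψ J hf j (PNbhd.trans i j h x) = ψ J hf i x := by
  have : (ψ J hf j).comp (PNbhd.trans i j h) = ψ J hf i := by
    apply ψ_unique
    intro z
    rw [AlgHom.comp_apply, ψ_compat J hf j, PNbhd.pt_trans]
  exact AlgHom.congr_fun this x

/-- The induced map out of the limit. -/
noncomputable def Ψ : Lim A I →+* D :=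
  DirectLimit.Ring.lift (fun i : PNbhd A I => i.G) (fun i j h => PNbhd.transR i j h) D
    (fun i => (ψ J hf i).toRingHom) (fun i j hij x => ψ_trans J hf i j hij x)

theorem Ψ_of (i : PNbhd A I) (x : i.G) : Ψ J hf (of A I i x) = ψ J hf i x := rfl

theorem Ψ_algebraMap (a : A) : Ψ J hf (algebraMap A (Lim A I) a) = algebraMap A D a := by
  rw [algebraMap_eq (Classical.arbitrary (PNbhd A I)) a, Ψ_of, AlgHom.commutes]

theorem Ψ_unique (Ψ' : Lim A I →+* D)
    (hΨ' : ∀ a : A, Ψ' (algebraMap A (Lim A I) a) = algebraMap A D a) : Ψ' = Ψ J hf := by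
  -- `Ψ'` is compatible with the points
  have hmem : ∀ x ∈ I.map (algebraMap A (Lim A I)), Ψ' x ∈ J := by
    have : I.map (algebraMap A (Lim A I)) ≤ J.comap Ψ' := by
      rw [Ideal.map_le_iff_le_comap]
      intro a ha
      rw [Ideal.mem_comap, Ideal.mem_comap, hΨ']
      exact hf ha
    exact fun x hx => this hx
  have hpt : ∀ x : Lim A I, Ideal.Quotient.mk J (Ψ' x) = gbar J hf (pt A I x) := by
    intro x
    obtain ⟨a, ha⟩ := Ideal.Quotient.mk_surjective (pt A I x)
    have hker : x - algebraMap A (Lim A I) a ∈ RingHom.ker (pt A I) := by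
      rw [RingHom.mem_ker, map_sub, AlgHom.commutes, Ideal.Quotient.algebraMap_eq, ha, sub_self]
    rw [ker_pt_eq_map] at hker
    have h1 := hmem _ hker
    rw [map_sub, hΨ', ← Ideal.Quotient.eq_zero_iff_mem, map_sub, sub_eq_zero] at h1
    rw [h1, ← ha]
    show _ = gbar J hf (algebraMap A (A ⧸ I) a)
    rw [AlgHom.commutes]
    rfl
  apply DirectLimit.Ring.hom_ext
  intro i
  let χ : i.G →ₐ[A] D :=
    { Ψ'.comp (of A I i) with
      commutes' := fun a => by
        show Ψ' (of A I i (algebraMap A i.G a)) = algebraMap A D a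
        rw [← algebraMap_eq i a, hΨ'] }
  have hχ : χ = ψ J hf i := by
    apply ψ_unique
    intro z
    show Ideal.Quotient.mk J (Ψ' (of A I i z)) = _
    rw [hpt, pt_of]
  ext x
  show χ x = ψ J hf i x
  rw [hχ]

end Univ

variable (A I)

/-- The limit of the pointed étale neighbourhoods is a henselization of the pair. -/
theorem isPairHenselization : Hens2.IsPairHenselization A I (Lim A I) := by
  refine ⟨henselianRing A I, ?_⟩
  intro D _ J f hJ hle
  letI : Algebra A D := f.toAlgebra
  have hf : I ≤ J.comap (Algebra.ofId A D) := by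
    intro a ha
    rw [Ideal.mem_comap]
    exact hle (Ideal.mem_map_of_mem f ha)
  refine ⟨Ψ J hf, ?_, ?_⟩
  · ext a
    exact Ψ_algebraMap J hf a
  · intro Ψ' hΨ'
    apply Ψ_unique J hf Ψ'
    intro a
    exact RingHom.congr_fun hΨ' a

end Lim

end Groth.Agent.Lib.Helper12.PairNbhd
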