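import Mathlib
import Groth.Agent.Lib.Helper12.PairUniv
import Groth.Agent.Lib.Helper12.PairUnique

/-!
# Truncations and flatness of henselizations of pairs
-/

set_option autoImplicit false
universe u

namespace Groth.Agent.Lib.Helper12.PairUnique

open TensorProduct

/-- A henselization of a pair is flat. -/
theorem flat_of_isPairHenselization {A : Type u} [CommRing A] {I : Ideal A} {B : Type u}
    [CommRing B] [Algebra A B] (hB : Hens2.IsPairHenselization A I B) : Module.Flat A B := by
  obtain ⟨e⟩ := nonempty_algEquiv (PairNbhd.Lim.isPairHenselization A I) hB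
  exact Module.Flat.of_linearEquiv e.toLinearEquiv.symm

theorem quotientMap_bijective_aux {R : Type u} [CommRing R] {IR : Ideal R} {B : Type u}
    [CommRing B] [Algebra R B] (hB : Hens2.IsPairHenselization R IR B) (n : ℕ)
    (K : Ideal R) (K' : Ideal B) (hK : K = IR ^ n) (hK' : K' = K.map (algebraMap R B))
    (hle : K ≤ K'.comap (algebraMap R B)) :
    Function.Bijective (Ideal.quotientMap K' (algebraMap R B) hle) := by
  subst hK
  subst hK'
  exact quotientMap_pow_bijective hB n

variable (A : Type u) [CommRing A] (I : Ideal A) (R : Type u) [CommRing R] [Algebra A R]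
  (B : Type u) [CommRing B] [Algebra R B] [Algebra A B] [IsScalarTower A R B]

/-- For a henselization `B` of `(R, IR)` the truncations `R / I^r R → B / I^r B` are
isomorphisms of `A / I^r`-algebras. -/
theorem nonempty_truncation_algEquiv
    (hB : Hens2.IsPairHenselization R (I.map (algebraMap A R)) B) (r : ℕ) :
    Nonempty ((R ⧸ (I ^ r).map (algebraMap A R)) ≃ₐ[A ⧸ I ^ r]
      (B ⧸ (I ^ r).map (algebraMap A B))) := by
  have hK : (I ^ r).map (algebraMap A R) = (I.map (algebraMap A R)) ^ r := Ideal.map_pow _ _ _
  have hK' : (I ^ r).map (algebraMap A B) =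
      ((I ^ r).map (algebraMap A R)).map (algebraMap R B) := by
    rw [Ideal.map_map, ← IsScalarTower.algebraMap_eq]
  have hle : (I ^ r).map (algebraMap A R) ≤
      ((I ^ r).map (algebraMap A B)).comap (algebraMap R B) := by
    rw [hK']
    exact Ideal.le_comap_map
  have hbij := quotientMap_bijective_aux hB r _ _ hK hK' hle
  let q : (R ⧸ (I ^ r).map (algebraMap A R)) →ₐ[A ⧸ I ^ r] (B ⧸ (I ^ r).map (algebraMap A B)) :=
    { Ideal.quotientMap ((I ^ r).map (algebraMap A B)) (algebraMap R B) hle with
      commutes' := by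
        intro x
        obtain ⟨a, rfl⟩ := Ideal.Quotient.mk_surjective x
        show Ideal.quotientMap ((I ^ r).map (algebraMap A B)) (algebraMap R B) hle
          (algebraMap (A ⧸ I ^ r) (R ⧸ (I ^ r).map (algebraMap A R)) (Ideal.Quotient.mk _ a)) = _
        rw [Ideal.Quotient.algebraMap_quotient_map_quotient, Ideal.quotientMap_mk,
          ← IsScalarTower.algebraMap_apply, Ideal.Quotient.algebraMap_quotient_map_quotient] }
  exact ⟨AlgEquiv.ofBijective q hbij⟩

/-- Truncations of a henselization of an étale algebra are étale. -/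
theorem etale_truncation [Algebra.Etale A R]
    (hB : Hens2.IsPairHenselization R (I.map (algebraMap A R)) B) (r : ℕ) :
    Algebra.Etale (A ⧸ I ^ r) (B ⧸ (I ^ r).map (algebraMap A B)) := by
  obtain ⟨e⟩ := nonempty_truncation_algEquiv A I R B hB r
  haveI : Algebra.Etale (A ⧸ I ^ r) (R ⧸ (I ^ r).map (algebraMap A R)) :=
    Algebra.Etale.of_equiv (Algebra.TensorProduct.quotIdealMapEquivQuotTensor R (I ^ r)).symm
  exact Algebra.Etale.of_equiv e

/-- Truncations of a henselization of a smooth algebra are smooth. -/
theorem smooth_truncation [Algebra.Smooth A R]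
    (hB : Hens2.IsPairHenselization R (I.map (algebraMap A R)) B) (r : ℕ) :
    Algebra.Smooth (A ⧸ I ^ r) (B ⧸ (I ^ r).map (algebraMap A B)) := by
  obtain ⟨e⟩ := nonempty_truncation_algEquiv A I R B hB r
  haveI : Algebra.Smooth (A ⧸ I ^ r) (R ⧸ (I ^ r).map (algebraMap A R)) :=
    Algebra.Smooth.of_equiv (Algebra.TensorProduct.quotIdealMapEquivQuotTensor R (I ^ r)).symm
  exact Algebra.Smooth.of_equiv e

/-- A henselization of a flat algebra is flat over the base. -/
theorem flat_of_flat [Module.Flat A R]
    (hB : Hens2.IsPairHenselization R (I.map (algebraMap A R)) B) : Module.Flat A B := by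
  haveI := flat_of_isPairHenselization hB
  exact Module.Flat.trans A R B

end Groth.Agent.Lib.Helper12.PairUnique
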