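import Mathlib
import Groth.Prelude.Def_Hens2
import Groth.Agent.Lib.Helper12.BCLaurent
import Groth.Agent.Lib.Helper12.PairTrunc

/-!
# The lattice pair `R{t}[1/t] → R((t))`
-/

set_option autoImplicit false
set_option linter.unusedSectionVars false
set_option linter.style.haveILetI false
universe u

namespace Groth.Agent.Lib.Helper12.BC

open Polynomial

variable (R : Type u) [CommRing R] (B : Type u) [CommRing B] [Algebra R[X] B]
    (hB : Hens2.IsPairHenselization R[X] (Ideal.span {(X : R[X])}) B)
    (ψ : B →ₐ[R[X]] PowerSeries R)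
    (L' : Type u) [CommRing L'] [Algebra (Localization.Away (algebraMap R[X] B X)) L']
    (e : L' ≃+* LaurentSeries R)
    (he : ∀ b : B, e (algebraMap (Localization.Away (algebraMap R[X] B X)) L'
      (algebraMap B (Localization.Away (algebraMap R[X] B X)) b)) =
      HahnSeries.ofPowerSeries ℤ R (ψ b))

theorem psiB_algebraMap (p : R[X]) : ψ (algebraMap R[X] B p) = (p : PowerSeries R) := by
  rw [AlgHom.commutes, PowerSeries.algebraMap_apply', Algebra.algebraMap_self, PowerSeries.map_id]
  rfl

include he in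
theorem map_iota (b : B) :
    algebraMap (Localization.Away (algebraMap R[X] B X)) L'
      (algebraMap B (Localization.Away (algebraMap R[X] B X)) b) = psi R L' e (ψ b) := by
  apply e.injective
  rw [he, e_psi]

include hB in
theorem map_span_X_pow (n : ℕ) :
    ((Ideal.span {(X : R[X])}) ^ n).map (algebraMap R[X] B) =
      Ideal.span {(algebraMap R[X] B X) ^ n} := by
  rw [Ideal.span_singleton_pow, Ideal.map_span, Set.image_singleton, map_pow]

include hB in
/-- An element of `B` whose image in `R⟦t⟧` is divisible by `t ^ n` is divisible by `t ^ n`. -/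
theorem exists_eq_pow_mul_of_psi (n : ℕ) (b : B) (g : PowerSeries R)
    (hb : ψ b = PowerSeries.X ^ n * g) : ∃ b' : B, b = (algebraMap R[X] B X) ^ n * b' := by
  have hbij := Groth.Agent.Lib.Helper12.PairUnique.quotientMap_pow_bijective hB n
  obtain ⟨pbar, hp⟩ := hbij.2 (Ideal.Quotient.mk _ b)
  obtain ⟨p, rfl⟩ := Ideal.Quotient.mk_surjective pbar
  rw [Ideal.quotientMap_mk, Ideal.Quotient.mk_eq_mk_iff_sub_mem, map_span_X_pow R B hB,
    Ideal.mem_span_singleton'] at hp
  obtain ⟨c, hc⟩ := hp
  -- apply ψ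
  have h1 := congrArg ψ hc
  rw [map_mul, map_pow, psiB_algebraMap, map_sub, psiB_algebraMap, hb, Polynomial.coe_X] at h1
  have h2 : (p : PowerSeries R) = PowerSeries.X ^ n * (g + ψ c) := by
    linear_combination -h1
  obtain ⟨p', rfl⟩ := X_pow_dvd_of_coe_eq h2
  refine ⟨algebraMap R[X] B p' - c, ?_⟩
  rw [map_mul, map_pow] at hc
  linear_combination hc

include hB he in
/-- The lattice pair of `R{t}[1/t] → R((t))`. -/
noncomputable def hensLaurentLatticePair :
    LatticePair (Localization.Away (algebraMap R[X] B X)) L' where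
  S₀ := (algebraMap B (Localization.Away (algebraMap R[X] B X))).range
  Sh := (psi R L' e).range
  τ := algebraMap B (Localization.Away (algebraMap R[X] B X)) (algebraMap R[X] B X)
  τ_mem := ⟨_, rfl⟩
  map_mem := by
    rintro _ ⟨b, rfl⟩
    exact ⟨ψ b, (map_iota R B ψ L' e he b).symm⟩
  bounded := by
    intro x
    obtain ⟨n, f, hf⟩ := exists_mul_psi_X_pow R L' e x
    refine ⟨n, f, ?_⟩
    rw [map_iota R B ψ L' e he, psiB_algebraMap, Polynomial.coe_X, ← hf, mul_comm]
  dense := by
    intro x k
    obtain ⟨n, f, hf⟩ := exists_mul_psi_X_pow R L' e x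
    obtain ⟨p, g, hpg⟩ := exists_trunc_add f (k + n)
    obtain ⟨u, hu⟩ : IsUnit (algebraMap B (Localization.Away (algebraMap R[X] B X))
        (algebraMap R[X] B X)) := IsLocalization.Away.algebraMap_isUnit _
    obtain ⟨uh, huh⟩ := isUnit_psi_X R L' e
    refine ⟨algebraMap B (Localization.Away (algebraMap R[X] B X)) (algebraMap R[X] B p) *
      ((u⁻¹ : (Localization.Away (algebraMap R[X] B X))ˣ) :
        Localization.Away (algebraMap R[X] B X)) ^ n, psi R L' e g, ⟨g, rfl⟩, ?_⟩
    have hφu : algebraMap (Localization.Away (algebraMap R[X] B X)) L' (u : _) = uh := by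
      rw [hu, huh, map_iota R B ψ L' e he, psiB_algebraMap, Polynomial.coe_X]
    have hφuinv : algebraMap (Localization.Away (algebraMap R[X] B X)) L'
        ((u⁻¹ : (Localization.Away (algebraMap R[X] B X))ˣ) : _) = ((uh⁻¹ : L'ˣ) : L') := by
      have h1 : algebraMap (Localization.Away (algebraMap R[X] B X)) L'
          ((u⁻¹ : (Localization.Away (algebraMap R[X] B X))ˣ) : _) * (uh : L') = 1 := by
        rw [← hφu, ← map_mul, Units.inv_mul, map_one]
      rw [mul_comm] at h1
      exact Units.eq_inv_of_mul_eq_one_left h1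
    rw [map_iota R B ψ L' e he, psiB_algebraMap, Polynomial.coe_X, map_mul, map_pow, hφuinv,
      map_iota R B ψ L' e he, psiB_algebraMap, ← huh]
    have hx : x = psi R L' e f * ((uh⁻¹ : L'ˣ) : L') ^ n := by
      rw [← hf, ← huh, mul_assoc, ← mul_pow, Units.mul_inv, one_pow, mul_one]
    rw [hx, hpg, map_add, map_mul, map_pow, ← huh, pow_add]
    have h2 : ∀ (w : L'ˣ) (b c : L') (k j : ℕ), (b + (w : L') ^ k * (w : L') ^ j * c) *
          ((w⁻¹ : L'ˣ) : L') ^ j = b * ((w⁻¹ : L'ˣ) : L') ^ j + (w : L') ^ k * c := by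
      intro w b c k j
      have : ((w : L')) ^ j * ((w⁻¹ : L'ˣ) : L') ^ j = 1 := by
        rw [← mul_pow, Units.mul_inv, one_pow]
      linear_combination ((w : L')) ^ k * c * this
    exact h2 uh _ _ k n
  closed := by
    rintro x ⟨_, ⟨g, rfl⟩, hs⟩
    obtain ⟨n, b, hx⟩ := IsLocalization.Away.surj (algebraMap R[X] B X) x
    have h1 := congrArg (algebraMap (Localization.Away (algebraMap R[X] B X)) L') hx
    rw [map_mul, map_pow, hs, map_iota R B ψ L' e he, map_iota R B ψ L' e he, psiB_algebraMap,
      Polynomial.coe_X, ← map_pow, ← map_mul, ← map_mul] at h1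
    have h2 := psi_injective R L' e h1
    have h3 : ψ b = PowerSeries.X ^ (n + 1) * g := by
      rw [← h2, pow_succ]; ring
    obtain ⟨b', rfl⟩ := exists_eq_pow_mul_of_psi R B hB ψ (n + 1) b g h3
    refine ⟨algebraMap B (Localization.Away (algebraMap R[X] B X)) b', ⟨b', rfl⟩, ?_⟩
    obtain ⟨u, hu⟩ : IsUnit (algebraMap B (Localization.Away (algebraMap R[X] B X))
        (algebraMap R[X] B X)) := IsLocalization.Away.algebraMap_isUnit _
    rw [map_mul, map_pow, ← hu] at hx
    rw [← hu]
    have h6 : IsUnit ((u : Localization.Away (algebraMap R[X] B X)) ^ n) :=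
      (Units.isUnit u).pow n
    apply h6.mul_left_cancel
    linear_combination hx
  unit₀ := by
    rintro _ ⟨b, rfl⟩
    haveI := hB.1
    have hmem : algebraMap R[X] B X * b ∈ (Ideal.span {(X : R[X])}).map (algebraMap R[X] B) :=
      Ideal.mul_mem_right _ _ (Ideal.mem_map_of_mem _ (Ideal.subset_span rfl))
    have hjac := HenselianRing.jac (R := B) hmem
    have h1 : IsUnit (1 + algebraMap R[X] B X * b) := by
      have := (Ideal.mem_jacobson_bot.mp hjac) 1
      rwa [mul_one, add_comm] at this
    have h2 := h1.map (algebraMap B (Localization.Away (algebraMap R[X] B X)))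
    rwa [map_add, map_one, map_mul] at h2
  unith := by
    rintro _ ⟨g, rfl⟩
    rw [map_iota R B ψ L' e he, psiB_algebraMap, Polynomial.coe_X]
    have h1 : IsUnit (1 + PowerSeries.X * g : PowerSeries R) := by
      rw [PowerSeries.isUnit_iff_constantCoeff]
      simp
    have h2 := h1.map (psi R L' e)
    rwa [map_add, map_one, map_mul] at h2

end Groth.Agent.Lib.Helper12.BC
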