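import Mathlib
import Groth.Agent.Lib.Helper12.BCModA

/-!
# Descent of isomorphisms of finite projective modules along a lattice pair, and
extension of stably free modules
-/

set_option autoImplicit false
set_option linter.unusedSectionVars false
set_option linter.style.haveILetI false
universe u

namespace Groth.Agent.Lib.Helper12.BC

open Matrix TensorProduct

variable {L Lh : Type u} [CommRing L] [CommRing Lh] [Algebra L Lh] (P : LatticePair L Lh)

include P in
/-- Part 1: finite projective modules that become isomorphic over `Lh` are isomorphic. -/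
theorem part1 (M N : Type u) [AddCommGroup M] [Module L M] [Module.Finite L M]
    [Module.Projective L M] [AddCommGroup N] [Module L N] [Module.Finite L N]
    [Module.Projective L N]
    (h : Nonempty (Lh ⊗[L] M ≃ₗ[Lh] Lh ⊗[L] N)) : Nonempty (M ≃ₗ[L] N) := by
  classical
  obtain ⟨F⟩ := h
  obtain ⟨m, iM, rM, hM⟩ := exists_retract (L := L) M
  obtain ⟨m', iN, rN, hN⟩ := exists_retract (L := L) N
  letI := P.topology
  haveI := P.isTopologicalRing
  set p := LinearMap.toMatrix' (iM ∘ₗ rM) with hp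
  set q := LinearMap.toMatrix' (iN ∘ₗ rN) with hq
  have hpp : p * p = p := by
    rw [hp, ← LinearMap.toMatrix'_comp]
    congr 1
    rw [LinearMap.comp_assoc, ← LinearMap.comp_assoc rM, hM, LinearMap.id_comp]
  have hqq : q * q = q := by
    rw [hq, ← LinearMap.toMatrix'_comp]
    congr 1
    rw [LinearMap.comp_assoc, ← LinearMap.comp_assoc rN, hN, LinearMap.id_comp]
  let Xl : (Fin m → Lh) →ₗ[Lh] (Fin m' → Lh) := retA iN ∘ₗ F.toLinearMap ∘ₗ retC rM
  let Yl : (Fin m' → Lh) →ₗ[Lh] (Fin m → Lh) := retA iM ∘ₗ F.symm.toLinearMap ∘ₗ retC rN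
  have hYX : Yl ∘ₗ Xl = Matrix.toLin' (p.map (algebraMap L Lh)) := by
    refine LinearMap.ext fun v => ?_
    simp only [Xl, Yl, LinearMap.comp_apply, LinearEquiv.coe_coe]
    rw [retC_retA iN rN hN, LinearEquiv.symm_apply_apply, retA_retC, Matrix.toLin'_apply]
  have hXY : Xl ∘ₗ Yl = Matrix.toLin' (q.map (algebraMap L Lh)) := by
    refine LinearMap.ext fun v => ?_
    simp only [Xl, Yl, LinearMap.comp_apply, LinearEquiv.coe_coe]
    rw [retC_retA iM rM hM, LinearEquiv.apply_symm_apply, retA_retC, Matrix.toLin'_apply]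
  have hqXp : Matrix.toLin' (q.map (algebraMap L Lh)) ∘ₗ Xl ∘ₗ
      Matrix.toLin' (p.map (algebraMap L Lh)) = Xl := by
    refine LinearMap.ext fun v => ?_
    simp only [Xl, LinearMap.comp_apply, LinearEquiv.coe_coe, Matrix.toLin'_apply]
    rw [← retA_retC iM rM, retC_retA iM rM hM, ← retA_retC iN rN, retC_retA iN rN hN]
  have hpYq : Matrix.toLin' (p.map (algebraMap L Lh)) ∘ₗ Yl ∘ₗ
      Matrix.toLin' (q.map (algebraMap L Lh)) = Yl := by
    refine LinearMap.ext fun v => ?_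
    simp only [Yl, LinearMap.comp_apply, LinearEquiv.coe_coe, Matrix.toLin'_apply]
    rw [← retA_retC iN rN, retC_retA iN rN hN, ← retA_retC iM rM, retC_retA iM rM hM]
  have h1 : LinearMap.toMatrix' Yl * LinearMap.toMatrix' Xl = p.map (algebraMap L Lh) := by
    rw [← LinearMap.toMatrix'_comp, hYX, LinearMap.toMatrix'_toLin']
  have h2 : LinearMap.toMatrix' Xl * LinearMap.toMatrix' Yl = q.map (algebraMap L Lh) := by
    rw [← LinearMap.toMatrix'_comp, hXY, LinearMap.toMatrix'_toLin']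
  have h3 : q.map (algebraMap L Lh) * LinearMap.toMatrix' Xl * p.map (algebraMap L Lh) =
      LinearMap.toMatrix' Xl := by
    conv_rhs => rw [← hqXp]
    rw [LinearMap.toMatrix'_comp, LinearMap.toMatrix'_comp, LinearMap.toMatrix'_toLin',
      LinearMap.toMatrix'_toLin', Matrix.mul_assoc]
  have h4 : p.map (algebraMap L Lh) * LinearMap.toMatrix' Yl * q.map (algebraMap L Lh) =
      LinearMap.toMatrix' Yl := by
    conv_rhs => rw [← hpYq]
    rw [LinearMap.toMatrix'_comp, LinearMap.toMatrix'_comp, LinearMap.toMatrix'_toLin',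
      LinearMap.toMatrix'_toLin', Matrix.mul_assoc]
  obtain ⟨x, y₁, y₂, hy₁x, hxy₂, hqx, hxp⟩ := part1_matrix P.denseRange (P.B 1 : Set Lh)
    (P.isOpen_B 1) (P.B 1).zero_mem P.isUnit_of_map_mem p q hpp hqq _ _ h1 h2 h3 h4
  let Fm : M →ₗ[L] N := rN ∘ₗ Matrix.toLin' x ∘ₗ iM
  let G₁ : N →ₗ[L] M := rM ∘ₗ Matrix.toLin' y₁ ∘ₗ iN
  let G₂ : N →ₗ[L] M := rM ∘ₗ Matrix.toLin' y₂ ∘ₗ iN
  have hiM : ∀ z, iM (rM (iM z)) = iM z := fun z => by
    rw [← LinearMap.comp_apply rM, hM, LinearMap.id_apply]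
  have hiN : ∀ z, iN (rN (iN z)) = iN z := fun z => by
    rw [← LinearMap.comp_apply rN, hN, LinearMap.id_apply]
  have hpapp : ∀ v, iM (rM v) = p *ᵥ v := fun v => by
    rw [hp, ← Matrix.toLin'_apply, Matrix.toLin'_toMatrix']; rfl
  have hqapp : ∀ v, iN (rN v) = q *ᵥ v := fun v => by
    rw [hq, ← Matrix.toLin'_apply, Matrix.toLin'_toMatrix']; rfl
  have hG₁F : ∀ z, G₁ (Fm z) = z := by
    intro z
    simp only [G₁, Fm, LinearMap.comp_apply, Matrix.toLin'_apply]
    have e1 : q *ᵥ (x *ᵥ iM z) = x *ᵥ iM z := by rw [Matrix.mulVec_mulVec, hqx]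
    have e2 : y₁ *ᵥ (x *ᵥ iM z) = p *ᵥ iM z := by rw [Matrix.mulVec_mulVec, hy₁x]
    rw [hqapp, e1, e2, ← hpapp, hiM]
    rw [← LinearMap.comp_apply rM, hM, LinearMap.id_apply]
  have hFG₂ : ∀ z, Fm (G₂ z) = z := by
    intro z
    simp only [G₂, Fm, LinearMap.comp_apply, Matrix.toLin'_apply]
    have e1 : x *ᵥ (p *ᵥ (y₂ *ᵥ iN z)) = x *ᵥ (y₂ *ᵥ iN z) := by
      rw [Matrix.mulVec_mulVec, hxp]
    have e2 : x *ᵥ (y₂ *ᵥ iN z) = q *ᵥ iN z := by rw [Matrix.mulVec_mulVec, hxy₂]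
    rw [hpapp, e1, e2, ← hqapp, hiN]
    rw [← LinearMap.comp_apply rN, hN, LinearMap.id_apply]
  refine ⟨LinearEquiv.ofBijective Fm ⟨?_, ?_⟩⟩
  · intro z z' hzz'
    rw [← hG₁F z, ← hG₁F z', hzz']
  · intro z
    exact ⟨G₂ z, hFG₂ z⟩

end Groth.Agent.Lib.Helper12.BC
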