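import Mathlib
import Groth.Agent.Lib.Helper12.BCModA

/-!
# Stably free modules over `Lh` are extended from stably free modules over `L`
-/

set_option autoImplicit false
set_option linter.unusedSectionVars false
set_option linter.style.haveILetI false
universe u

namespace Groth.Agent.Lib.Helper12.BC

open Matrix TensorProduct

variable {L Lh : Type u} [CommRing L] [CommRing Lh] [Algebra L Lh] (P : LatticePair L Lh)

include P in
/-- Part 2: every stably free `Lh`-module is extended from a stably free `L`-module. -/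
theorem part2 (M' : Type u) [AddCommGroup M'] [Module Lh M']
    (h : ∃ n m : ℕ, Nonempty ((M' × (Fin n → Lh)) ≃ₗ[Lh] (Fin m → Lh))) :
    ∃ (M : Type u) (_ : AddCommGroup M) (_ : Module L M), Module.Finite L M ∧
      (∃ n m : ℕ, Nonempty ((M × (Fin n → L)) ≃ₗ[L] (Fin m → L))) ∧
      Nonempty (Lh ⊗[L] M ≃ₗ[Lh] M') := by
  classical
  obtain ⟨n, m, ⟨Ψ⟩⟩ := h
  letI := P.topology
  haveI := P.isTopologicalRing
  let yl : (Fin m → Lh) →ₗ[Lh] (Fin n → Lh) :=
    LinearMap.snd Lh M' (Fin n → Lh) ∘ₗ Ψ.symm.toLinearMap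
  let xl : (Fin n → Lh) →ₗ[Lh] (Fin m → Lh) :=
    Ψ.toLinearMap ∘ₗ LinearMap.inr Lh M' (Fin n → Lh)
  have hyx : yl ∘ₗ xl = LinearMap.id := by
    refine LinearMap.ext fun v => ?_
    simp [yl, xl]
  have hYX : LinearMap.toMatrix' yl * LinearMap.toMatrix' xl = 1 := by
    rw [← LinearMap.toMatrix'_comp, hyx, LinearMap.toMatrix'_id]
  obtain ⟨X₀, Y₀, G, hY₀X₀, hG, hYG⟩ := part2_matrix P.denseRange (P.B 1 : Set Lh)
    (P.isOpen_B 1) (P.B 1).zero_mem P.isUnit_of_map_mem P.isUnit_of_mem _ _ hYX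
  obtain ⟨G', hGG', hG'G⟩ : ∃ G' : Matrix (Fin m) (Fin m) Lh, G * G' = 1 ∧ G' * G = 1 :=
    ⟨↑hG.unit⁻¹, hG.mul_val_inv, hG.val_inv_mul⟩
  -- the module
  let K : Submodule L (Fin m → L) := LinearMap.ker (Matrix.toLin' Y₀)
  let i : K →ₗ[L] (Fin m → L) := K.subtype
  let pr : (Fin m → L) →ₗ[L] (Fin m → L) :=
    LinearMap.id - Matrix.toLin' X₀ ∘ₗ Matrix.toLin' Y₀
  have hpr : ∀ z, pr z ∈ K := by
    intro z
    change Matrix.toLin' Y₀ (pr z) = 0
    simp only [pr, LinearMap.sub_apply, LinearMap.id_apply, LinearMap.comp_apply, map_sub,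
      Matrix.toLin'_apply, Matrix.mulVec_mulVec, ← Matrix.mul_assoc, hY₀X₀, Matrix.one_mul,
      sub_self]
  let r : (Fin m → L) →ₗ[L] K := LinearMap.codRestrict K pr hpr
  have hir : i ∘ₗ r = pr := LinearMap.subtype_comp_codRestrict _ _ _
  have hri : r ∘ₗ i = LinearMap.id := by
    refine LinearMap.ext fun z => ?_
    apply Subtype.ext
    have hz : Matrix.toLin' Y₀ (z : Fin m → L) = 0 := z.2
    change pr (z : Fin m → L) = z
    simp only [pr, LinearMap.sub_apply, LinearMap.id_apply, LinearMap.comp_apply, hz, map_zero,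
      sub_zero]
  have hrsurj : Function.Surjective r := fun z => ⟨i z, LinearMap.congr_fun hri z⟩
  haveI : Module.Finite L K := Module.Finite.of_surjective r hrsurj
  have hYi : Matrix.toLin' Y₀ ∘ₗ i = 0 := LinearMap.comp_ker_subtype _
  -- stably free
  let f : (K × (Fin n → L)) →ₗ[L] (Fin m → L) := i.coprod (Matrix.toLin' X₀)
  let g : (Fin m → L) →ₗ[L] (K × (Fin n → L)) := r.prod (Matrix.toLin' Y₀)
  have hfg : f ∘ₗ g = LinearMap.id := by
    refine LinearMap.ext fun z => ?_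
    change i (r z) + Matrix.toLin' X₀ (Matrix.toLin' Y₀ z) = z
    rw [← LinearMap.comp_apply i r, hir]
    simp [pr]
  have hgf : g ∘ₗ f = LinearMap.id := by
    refine LinearMap.ext fun z => ?_
    obtain ⟨v, w⟩ := z
    have hv : Matrix.toLin' Y₀ (v : Fin m → L) = 0 := v.2
    have hYXw : Matrix.toLin' Y₀ (Matrix.toLin' X₀ w) = w := by
      rw [Matrix.toLin'_apply, Matrix.toLin'_apply, Matrix.mulVec_mulVec, hY₀X₀, Matrix.one_mulVec]
    change (r ((v : Fin m → L) + Matrix.toLin' X₀ w),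
      Matrix.toLin' Y₀ ((v : Fin m → L) + Matrix.toLin' X₀ w)) = (v, w)
    refine Prod.ext ?_ ?_
    · apply Subtype.ext
      change pr ((v : Fin m → L) + Matrix.toLin' X₀ w) = v
      simp only [pr, LinearMap.sub_apply, LinearMap.id_apply, LinearMap.comp_apply, map_add, hv,
        hYXw, map_zero, sub_zero, sub_self, add_zero]
    · change Matrix.toLin' Y₀ ((v : Fin m → L) + Matrix.toLin' X₀ w) = w
      rw [map_add, hv, hYXw, zero_add]
  refine ⟨K, inferInstance, inferInstance, inferInstance,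
    ⟨n, m, ⟨LinearEquiv.ofLinearMap f g hfg hgf⟩⟩, ?_⟩
  -- the isomorphism
  have hpmat : (LinearMap.toMatrix' (i ∘ₗ r)).map (algebraMap L Lh) =
      1 - X₀.map (algebraMap L Lh) * Y₀.map (algebraMap L Lh) := by
    rw [hir]
    simp only [pr, map_sub, LinearMap.toMatrix'_id, LinearMap.toMatrix'_comp,
      LinearMap.toMatrix'_toLin']
    rw [Matrix.map_sub (f := algebraMap L Lh) (by simp), Matrix.map_one _ (map_zero _) (map_one _),
      Matrix.map_mul]
  have hyl : ∀ w, yl w = (LinearMap.toMatrix' yl) *ᵥ w := fun w => by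
    rw [← Matrix.toLin'_apply, Matrix.toLin'_toMatrix']
  let α : Lh ⊗[L] K →ₗ[Lh] M' :=
    LinearMap.fst Lh M' (Fin n → Lh) ∘ₗ Ψ.symm.toLinearMap ∘ₗ Matrix.toLin' G ∘ₗ retA i
  let γ : M' →ₗ[Lh] Lh ⊗[L] K :=
    retC r ∘ₗ Matrix.toLin' G' ∘ₗ Ψ.toLinearMap ∘ₗ LinearMap.inl Lh M' (Fin n → Lh)
  have hαγ : α ∘ₗ γ = LinearMap.id := by
    refine LinearMap.ext fun z => ?_
    simp only [α, γ, LinearMap.comp_apply, LinearEquiv.coe_coe, Matrix.toLin'_apply,
      LinearMap.inl_apply, LinearMap.fst_apply, LinearMap.id_apply]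
    set w := Ψ (z, 0) with hw
    have hyw : (LinearMap.toMatrix' yl) *ᵥ w = 0 := by
      rw [← hyl]
      simp [yl, hw]
    have hYv : Y₀.map (algebraMap L Lh) *ᵥ (G' *ᵥ w) = 0 := by
      rw [← hYG, Matrix.mulVec_mulVec, Matrix.mul_assoc, hGG', Matrix.mul_one, hyw]
    rw [retA_retC, hpmat, Matrix.sub_mulVec, Matrix.one_mulVec, ← Matrix.mulVec_mulVec, hYv,
      Matrix.mulVec_zero, sub_zero, Matrix.mulVec_mulVec, hGG', Matrix.one_mulVec, hw,
      LinearEquiv.symm_apply_apply]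
  have hγα : γ ∘ₗ α = LinearMap.id := by
    refine LinearMap.ext fun t => ?_
    simp only [α, γ, LinearMap.comp_apply, LinearEquiv.coe_coe, Matrix.toLin'_apply,
      LinearMap.inl_apply, LinearMap.fst_apply, LinearMap.id_apply]
    set w := G *ᵥ retA i t with hw
    have hyw : yl w = 0 := by
      rw [hyl, hw, Matrix.mulVec_mulVec, hYG, mulVec_retA, hYi, LinearMap.baseChange_zero,
        LinearMap.zero_apply, map_zero]
    have hsnd : (Ψ.symm w).2 = 0 := hyw
    have hΨ : Ψ ((Ψ.symm w).1, 0) = w := by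
      rw [← hsnd, Prod.mk.eta, LinearEquiv.apply_symm_apply]
    rw [hΨ, hw, Matrix.mulVec_mulVec, hG'G, Matrix.one_mulVec, retC_retA i r hri]
  exact ⟨LinearEquiv.ofLinearMap α γ hαγ hγα⟩

end Groth.Agent.Lib.Helper12.BC
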