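import Mathlib

set_option autoImplicit false
universe u

/-!
# Total ring of fractions of a reduced ring with finitely many minimal primes
-/

namespace Groth.Agent.Lib.Helper12.TotalFrac

variable {A : Type u} [CommRing A]

theorem mem_nonZeroDivisors_iff [IsReduced A] (x : A) :
    x ∈ nonZeroDivisors A ↔ ∀ p ∈ minimalPrimes A, x ∉ p := by
  constructor
  · intro hx p hp hxp
    exact notMem_nonZeroDivisors_of_mem_mem_minimalPrimes hxp hp hx
  · intro h
    rw [mem_nonZeroDivisors_iff_right]
    intro y hy
    have hy' : y ∈ sInf (minimalPrimes A) := by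
      rw [Ideal.mem_sInf]
      intro p hp
      have hpp : p.IsPrime := hp.1.1
      have h0 : y * x ∈ p := by rw [hy]; exact p.zero_mem
      exact (hpp.mem_or_mem h0).resolve_right (h p hp)
    have h2 : sInf (minimalPrimes A) = ⊥ := by
      show sInf ((⊥ : Ideal A).minimalPrimes) = ⊥
      rw [Ideal.sInf_minimalPrimes]
      exact nilradical_eq_zero A
    rw [h2] at hy'
    exact hy'

theorem comap_mem_minimalPrimes [IsReduced A] (hmin : (minimalPrimes A).Finite)
    (P : Ideal (FractionRing A)) [hP : P.IsPrime] :
    P.comap (algebraMap A (FractionRing A)) ∈ minimalPrimes A := by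
  classical
  have hp : (P.comap (algebraMap A (FractionRing A))).IsPrime := Ideal.comap_isPrime _ _
  have hdisj : Disjoint (nonZeroDivisors A : Set A) (P.comap (algebraMap A (FractionRing A))) :=
    ((IsLocalization.isPrime_iff_isPrime_disjoint (nonZeroDivisors A) (FractionRing A) P).mp hP).2
  have hsub : ((P.comap (algebraMap A (FractionRing A)) : Ideal A) : Set A) ⊆
      ⋃ q ∈ (hmin.toFinset : Set (Ideal A)), ((fun q : Ideal A => q) q : Set A) := by
    intro x hx
    have hnz : x ∉ nonZeroDivisors A := fun h => Set.disjoint_left.mp hdisj h hx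
    rw [mem_nonZeroDivisors_iff] at hnz
    push_neg at hnz
    obtain ⟨q, hq, hxq⟩ := hnz
    exact Set.mem_biUnion (by simpa using hq) hxq
  rw [Ideal.subset_union_prime (⊤ : Ideal A) ⊤ (fun q hq _ _ => by
    have : q ∈ minimalPrimes A := by simpa using hq
    exact this.1.1)] at hsub
  obtain ⟨q, hq, hle⟩ := hsub
  have hq' : q ∈ minimalPrimes A := by simpa using hq
  have : q ≤ P.comap (algebraMap A (FractionRing A)) := hq'.2 ⟨hp, bot_le⟩ hle
  rw [le_antisymm hle this]
  exact hq'

theorem eq_of_comap_eq (P Q : Ideal (FractionRing A))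
    (h : P.comap (algebraMap A (FractionRing A)) = Q.comap (algebraMap A (FractionRing A))) :
    P = Q := by
  have h1 := IsLocalization.map_comap (nonZeroDivisors A) (FractionRing A) P
  have h2 := IsLocalization.map_comap (nonZeroDivisors A) (FractionRing A) Q
  rw [← h1, ← h2]
  exact congrArg (Ideal.map (algebraMap A (FractionRing A))) h

theorem isArtinianRing_of_isField {K : Type*} [CommRing K] (hK : IsField K) : IsArtinianRing K := by
  letI := hK.toField
  infer_instance

/-- The total ring of fractions of a reduced ring with finitely many minimal primes is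
artinian. -/
theorem isArtinianRing_fractionRing [IsReduced A] (hmin : (minimalPrimes A).Finite) :
    IsArtinianRing (FractionRing A) := by
  classical
  let K := FractionRing A
  haveI hfin : Finite (PrimeSpectrum K) := by
    haveI : Finite (minimalPrimes A) := hmin
    let f : PrimeSpectrum K → minimalPrimes A := fun P =>
      ⟨P.asIdeal.comap (algebraMap A K), comap_mem_minimalPrimes hmin P.asIdeal⟩
    refine Finite.of_injective f ?_
    intro P Q hPQ
    apply PrimeSpectrum.ext
    exact eq_of_comap_eq _ _ (congrArg Subtype.val hPQ)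
  haveI hdim : Ring.KrullDimLE 0 K := by
    refine Ring.KrullDimLE.mk₀ fun P hP => ?_
    obtain ⟨Q, hQ, hPQ⟩ := Ideal.exists_le_maximal P hP.ne_top
    haveI := hQ.isPrime
    have h1 := comap_mem_minimalPrimes hmin Q
    have h2 : Q.comap (algebraMap A K) ≤ P.comap (algebraMap A K) :=
      h1.2 ⟨Ideal.comap_isPrime _ _, bot_le⟩ (Ideal.comap_mono hPQ)
    have : P = Q := eq_of_comap_eq _ _ (le_antisymm (Ideal.comap_mono hPQ) h2)
    rw [this]; exact hQ
  haveI : DiscreteTopology (PrimeSpectrum K) :=
    PrimeSpectrum.discreteTopology_iff_finite_and_krullDimLE_zero.mpr ⟨hfin, hdim⟩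
  let e : K ≃+* PrimeSpectrum.PiLocalization K :=
    RingEquiv.ofBijective (PrimeSpectrum.toPiLocalization K)
      (PrimeSpectrum.discreteTopology_iff_toPiLocalization_bijective.mp inferInstance)
  haveI : ∀ p : PrimeSpectrum K, IsArtinianRing (Localization.AtPrime p.asIdeal) := by
    intro p
    haveI : Ring.KrullDimLE 0 (Localization.AtPrime p.asIdeal) := by
      refine Ring.KrullDimLE.of_isLocalization p.asIdeal ?_ _
      rw [Ring.KrullDimLE.minimalPrimes_eq_setOfPred_isPrime]
      exact p.isPrime
    exact isArtinianRing_of_isField Ring.KrullDimLE.isField_of_isReduced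
  haveI : IsArtinianRing (PrimeSpectrum.PiLocalization K) := by
    unfold PrimeSpectrum.PiLocalization
    infer_instance
  exact e.symm.isArtinianRing

end Groth.Agent.Lib.Helper12.TotalFrac
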