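import Mathlib
import Groth.Prelude.Def_CAlg2
import Groth.Agent.Lib.Helper12.TotalFrac

set_option autoImplicit false
universe u

/-!
# Minimal primes of the normalization `normRed A` of a ring with finitely many minimal primes
-/

namespace Groth.Agent.Lib.Helper12.NormRedMin

variable (A : Type u) [CommRing A]

instance isReduced_red : IsReduced (CAlg2.red A) :=
  (Ideal.isRadical_iff_quotient_reduced (nilradical A)).mp (Ideal.radical_isRadical ⊥)

/-- minimal primes of `A` are contractions of minimal primes of `A_red`. -/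
theorem exists_minimalPrimes_red {p : Ideal A} (hp : p ∈ minimalPrimes A) :
    ∃ pbar ∈ minimalPrimes (CAlg2.red A), p = pbar.comap (Ideal.Quotient.mk (nilradical A)) := by
  have h2 : (nilradical A).minimalPrimes = minimalPrimes A := Ideal.radical_minimalPrimes
  have h1 : p ∈ (nilradical A).minimalPrimes := by
    rw [h2]; exact hp
  rw [Ideal.minimalPrimes_eq_comap] at h1
  obtain ⟨pbar, hpbar, rfl⟩ := h1
  exact ⟨pbar, hpbar, rfl⟩

theorem comap_mem_minimalPrimes_of_red {pbar : Ideal (CAlg2.red A)}
    (hp : pbar ∈ minimalPrimes (CAlg2.red A)) :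
    pbar.comap (Ideal.Quotient.mk (nilradical A)) ∈ minimalPrimes A := by
  have h1 : pbar.comap (Ideal.Quotient.mk (nilradical A)) ∈ (nilradical A).minimalPrimes := by
    rw [Ideal.minimalPrimes_eq_comap]
    exact ⟨pbar, hp, rfl⟩
  have h2 : (nilradical A).minimalPrimes = minimalPrimes A := Ideal.radical_minimalPrimes
  rw [h2] at h1
  exact h1

theorem algebraMap_normRed_apply (a : A) :
    ((algebraMap A (CAlg2.normRed A) a : CAlg2.normRed A) : FractionRing (CAlg2.red A)) =
      algebraMap (CAlg2.red A) (FractionRing (CAlg2.red A)) (Ideal.Quotient.mk (nilradical A) a) :=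
  rfl

/-- Every element of `normRed A` becomes an element of `A` after multiplication by an element
outside a given minimal prime. -/
theorem exists_mul_eq {p : Ideal A} (hp : p ∈ minimalPrimes A) (a' : CAlg2.normRed A) :
    ∃ t : A, t ∉ p ∧ ∃ a : A, algebraMap A (CAlg2.normRed A) t * a' =
      algebraMap A (CAlg2.normRed A) a := by
  obtain ⟨pbar, hpbar, rfl⟩ := exists_minimalPrimes_red A hp
  obtain ⟨⟨b, d⟩, hbd⟩ := IsLocalization.surj (nonZeroDivisors (CAlg2.red A))
    (a' : FractionRing (CAlg2.red A))
  obtain ⟨t, ht⟩ := Ideal.Quotient.mk_surjective (d : CAlg2.red A)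
  obtain ⟨a, ha⟩ := Ideal.Quotient.mk_surjective b
  refine ⟨t, ?_, a, ?_⟩
  · intro htp
    rw [Ideal.mem_comap, ht] at htp
    exact notMem_nonZeroDivisors_of_mem_mem_minimalPrimes htp hpbar d.2
  · apply Subtype.ext
    rw [Subalgebra.coe_mul, algebraMap_normRed_apply, algebraMap_normRed_apply, ht, ha, mul_comm]
    exact hbd

end Groth.Agent.Lib.Helper12.NormRedMin
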