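import Mathlib
import Groth.Prelude.Def_CAlg2
import Groth.Agent.Lib.Helper12.NormRedMinA

set_option autoImplicit false
universe u

namespace Groth.Agent.Lib.Helper12.NormRedMin

variable (A : Type u) [CommRing A]

theorem finite_minimalPrimes_red (hfin : (minimalPrimes A).Finite) :
    (minimalPrimes (CAlg2.red A)).Finite := by
  have h2 : (nilradical A).minimalPrimes = minimalPrimes A := Ideal.radical_minimalPrimes
  rw [← h2, Ideal.minimalPrimes_eq_comap] at hfin
  exact Set.Finite.of_finite_image hfin
    ((Ideal.comap_injective_of_surjective _ Ideal.Quotient.mk_surjective).injOn)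

instance isReduced_normRed : IsReduced (CAlg2.normRed A) := by
  haveI : IsReduced (FractionRing (CAlg2.red A)) :=
    inferInstanceAs (IsReduced (Localization (nonZeroDivisors (CAlg2.red A))))
  exact isReduced_of_injective (algebraMap (CAlg2.normRed A) (FractionRing (CAlg2.red A)))
    Subtype.val_injective

/-- A minimal prime of `normRed A` contracts to a minimal prime of `A_red`. -/
theorem comap_red_mem_minimalPrimes (hfin : (minimalPrimes A).Finite)
    {Q' : Ideal (CAlg2.normRed A)} (hQ' : Q' ∈ minimalPrimes (CAlg2.normRed A)) :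
    Q'.comap (algebraMap (CAlg2.red A) (CAlg2.normRed A)) ∈ minimalPrimes (CAlg2.red A) := by
  classical
  have hmin := finite_minimalPrimes_red A hfin
  haveI : Q'.IsPrime := hQ'.1.1
  set q : Ideal (CAlg2.red A) := Q'.comap (algebraMap (CAlg2.red A) (CAlg2.normRed A)) with hq
  have hp : q.IsPrime := Ideal.comap_isPrime _ _
  have hzd : ∀ x ∈ q, x ∉ nonZeroDivisors (CAlg2.red A) := by
    intro x hx hxnz
    have h1 : algebraMap (CAlg2.red A) (CAlg2.normRed A) x ∉ nonZeroDivisors (CAlg2.normRed A) :=
      notMem_nonZeroDivisors_of_mem_mem_minimalPrimes hx hQ'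
    apply h1
    rw [mem_nonZeroDivisors_iff_right]
    intro y hy
    obtain ⟨⟨b, d⟩, hbd⟩ := IsLocalization.surj (nonZeroDivisors (CAlg2.red A))
      (y : FractionRing (CAlg2.red A))
    have hy' : (y : FractionRing (CAlg2.red A)) *
        algebraMap (CAlg2.red A) (FractionRing (CAlg2.red A)) x = 0 := by
      have := congrArg (Subtype.val) hy
      simpa using this
    have hbx : b * x = 0 := by
      apply IsFractionRing.injective (CAlg2.red A) (FractionRing (CAlg2.red A))
      rw [map_mul, map_zero, ← hbd]
      calc (y : FractionRing (CAlg2.red A)) * algebraMap _ _ (d : CAlg2.red A) *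
            algebraMap _ _ x
          = ((y : FractionRing (CAlg2.red A)) * algebraMap _ _ x) *
            algebraMap _ _ (d : CAlg2.red A) := by ring
        _ = 0 := by rw [hy', zero_mul]
    have hb : b = 0 := (mem_nonZeroDivisors_iff_right.mp hxnz) b hbx
    have hunit : IsUnit (algebraMap (CAlg2.red A) (FractionRing (CAlg2.red A)) (d : CAlg2.red A)) :=
      IsLocalization.map_units _ d
    have hy0 : (y : FractionRing (CAlg2.red A)) = 0 := by
      have : (y : FractionRing (CAlg2.red A)) * algebraMap _ _ (d : CAlg2.red A) = 0 := by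
        rw [hbd, hb, map_zero]
      exact (hunit.mul_left_eq_zero).mp this
    exact Subtype.ext hy0
  have hsub : ((q : Ideal (CAlg2.red A)) : Set (CAlg2.red A)) ⊆
      ⋃ r ∈ (hmin.toFinset : Set (Ideal (CAlg2.red A))),
        ((fun r : Ideal (CAlg2.red A) => r) r : Set (CAlg2.red A)) := by
    intro x hx
    have hnz := hzd x hx
    rw [TotalFrac.mem_nonZeroDivisors_iff] at hnz
    push Not at hnz
    obtain ⟨r, hr, hxr⟩ := hnz
    exact Set.mem_biUnion (by simpa using hr) hxr
  rw [Ideal.subset_union_prime (⊤ : Ideal (CAlg2.red A)) ⊤ (fun r hr _ _ => by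
    have : r ∈ minimalPrimes (CAlg2.red A) := by simpa using hr
    exact this.1.1)] at hsub
  obtain ⟨r, hr, hle⟩ := hsub
  have hr' : r ∈ minimalPrimes (CAlg2.red A) := by simpa using hr
  have : r ≤ q := hr'.2 ⟨hp, bot_le⟩ hle
  rw [le_antisymm hle this]
  exact hr'

/-- A minimal prime of `normRed A` contracts to a minimal prime of `A`. -/
theorem comap_mem_minimalPrimes (hfin : (minimalPrimes A).Finite)
    {Q' : Ideal (CAlg2.normRed A)} (hQ' : Q' ∈ minimalPrimes (CAlg2.normRed A)) :
    Q'.comap (algebraMap A (CAlg2.normRed A)) ∈ minimalPrimes A := by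
  have h1 := comap_mem_minimalPrimes_of_red A (comap_red_mem_minimalPrimes A hfin hQ')
  rwa [Ideal.comap_comap] at h1

end Groth.Agent.Lib.Helper12.NormRedMin
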