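import Mathlib
import Groth.Prelude.Def_CAlg2
import Groth.Agent.Lib.Helper12.NormRedMinB

set_option autoImplicit false
universe u

namespace Groth.Agent.Lib.Helper12.NormRedMin

open TensorProduct

section General

/-- For a flat algebra `S`, the kernel of `S → A' ⊗ S` is the extension of the kernel of
`A → A'`. -/
theorem mem_map_ker_of_tmul_eq_zero {A S A' : Type*} [CommRing A] [CommRing S] [Algebra A S]
    [Module.Flat A S] [CommRing A'] [Algebra A A'] (s : S) (h : (1 : A') ⊗ₜ[A] s = 0) :
    s ∈ (RingHom.ker (algebraMap A A')).map (algebraMap A S) := by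
  let I : Ideal A := RingHom.ker (algebraMap A A')
  let f : I →ₗ[A] A := I.subtype
  let g : A →ₗ[A] A' := Algebra.linearMap A A'
  have hex : Function.Exact f g := by
    intro r
    constructor
    · intro hr
      exact ⟨⟨r, hr⟩, rfl⟩
    · rintro ⟨a, rfl⟩
      exact a.2
  have hex' := Module.Flat.rTensor_exact S hex
  have h1 : g.rTensor S ((1 : A) ⊗ₜ[A] s) = 0 := by
    rw [LinearMap.rTensor_tmul]
    simp only [g, Algebra.linearMap_apply, map_one]
    exact h
  obtain ⟨t, ht⟩ := (hex' _).mp h1
  have h2 : s = TensorProduct.lid A S (f.rTensor S t) := by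
    rw [ht, TensorProduct.lid_tmul, one_smul]
  rw [h2]
  clear ht h2
  induction t using TensorProduct.induction_on with
  | zero => simp
  | tmul a s' =>
    rw [LinearMap.rTensor_tmul, TensorProduct.lid_tmul, Algebra.smul_def]
    exact Ideal.mul_mem_right _ _ (Ideal.mem_map_of_mem _ a.2)
  | add a b ha hb =>
    rw [map_add, map_add]
    exact Ideal.add_mem _ ha hb

/-- Going down: the contraction of a minimal prime is minimal. -/
theorem comap_mem_minimalPrimes_of_goingDown {R S : Type*} [CommRing R] [CommRing S]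
    [Algebra R S] [Algebra.HasGoingDown R S] {Q : Ideal S} (hQ : Q ∈ minimalPrimes S) :
    Q.comap (algebraMap R S) ∈ minimalPrimes R := by
  haveI : Q.IsPrime := hQ.1.1
  refine ⟨⟨Ideal.comap_isPrime _ _, bot_le⟩, ?_⟩
  rintro P ⟨hP, -⟩ hle
  by_contra hne
  have hlt : P < Q.under R := lt_of_le_of_ne hle (fun h => hne (h ▸ le_rfl))
  obtain ⟨Q', hQ'le, hQ'prime, hQ'over⟩ :=
    Algebra.HasGoingDown.exists_ideal_le_liesOver_of_lt (p := P) Q hlt
  have h2 : Q ≤ Q' := hQ.2 ⟨hQ'prime, bot_le⟩ hQ'le
  have h3 : Q' = Q := le_antisymm hQ'le h2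
  apply hne
  rw [← h3]
  exact le_of_eq hQ'over.over.symm

end General

end Groth.Agent.Lib.Helper12.NormRedMin
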