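import Groth.Agent.Lib.Helper12.HenselizationHens
import Groth.Prelude.Def_Hensel

set_option autoImplicit false
universe u

namespace Groth.Agent.Lib.Helper12

open IsLocalRing

variable (A : Type u) [CommRing A] [IsLocalRing A]

namespace Henselization

/-- The constructed henselization satisfies the universal property of `Hensel.IsHenselization`. -/
instance isHenselization : Hensel.IsHenselization A (Henselization A) where
  henselian := inferInstance
  universal T _ _ f hf := by
    letI : Algebra A T := f.toAlgebra
    haveI : IsLocalHom (algebraMap A T) := hf
    refine ⟨(lift A T).toRingHom, (lift A T).comp_algebraMap, ?_⟩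
    intro g hg
    have hc : ∀ a : A, g (algebraMap A (Henselization A) a) = algebraMap A T a := fun a =>
      congrArg (fun h : A →+* T => h a) hg
    let g' : Henselization A →ₐ[A] T := { g with commutes' := hc }
    have : g' = lift A T := Subsingleton.elim _ _
    have h2 : g'.toRingHom = (lift A T).toRingHom := by rw [this]
    exact h2

end Henselization

end Groth.Agent.Lib.Helper12
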