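import Groth.Agent.Lib.Helper12.HenselizationOver
import Groth.Agent.Lib.Helper12.HenselizationUniv

set_option autoImplicit false
universe u

/-!
# Structure of a henselization as a union of strictly essentially étale local subalgebras
-/

namespace Groth.Agent.Lib.Helper12.HensStruct

open IsLocalRing

variable {A : Type u} [CommRing A] [IsLocalRing A]

theorem of_injective (i : Nbhd A) : Function.Injective (Henselization.of A i) := by
  letI := Henselization.algebraOver i
  haveI := Henselization.faithfullyFlat_over i
  exact FaithfulSMul.algebraMap_injective i.G (Henselization A)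

theorem exists_nbhd_of_finset (s : Finset (Henselization A)) :
    ∃ i : Nbhd A, ∀ x ∈ s, x ∈ Set.range (Henselization.of A i) := by
  classical
  induction s using Finset.induction_on with
  | empty => exact ⟨Classical.arbitrary _, fun x hx => absurd hx (Finset.notMem_empty x)⟩
  | insert a s _ ih =>
    obtain ⟨i, hi⟩ := ih
    obtain ⟨j, b, hb⟩ := Henselization.exists_of a
    obtain ⟨k, hik, hjk⟩ := exists_ge_ge i j
    refine ⟨k, fun x hx => ?_⟩
    rcases Finset.mem_insert.mp hx with rfl | hx
    · exact ⟨Nbhd.trans j k hjk b, by rw [Henselization.of_trans, hb]⟩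
    · obtain ⟨y, hy⟩ := hi x hx
      exact ⟨Nbhd.trans i k hik y, by rw [Henselization.of_trans, hy]⟩

variable (A) (S : Type u) [CommRing S] [IsLocalRing S] [Algebra A S]
  [IsLocalHom (algebraMap A S)] [Hensel.IsHenselization A S]

/-- Every finite subset of a henselization `S` of `A` lies in the range of an injective
local `A`-algebra map from the local ring of an étale neighbourhood. -/
theorem exists_nbhd_range (s : Finset S) :
    ∃ (i : Nbhd A) (ψ : i.G →ₐ[A] S), Function.Injective ψ ∧
      (∀ x, IsUnit (ψ x) → IsUnit x) ∧ ∀ x ∈ s, x ∈ ψ.range := by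
  classical
  obtain ⟨e⟩ := Henselization.nonempty_algEquiv (A := A) S
  obtain ⟨i, hi⟩ := exists_nbhd_of_finset (s.image e)
  refine ⟨i, (e.symm : Henselization A →ₐ[A] S).comp (Henselization.ofₐ A i), ?_, ?_, ?_⟩
  · intro x y hxy
    apply of_injective i
    exact e.symm.injective hxy
  · intro x hx
    have h1 : IsUnit (e ((e.symm : Henselization A →ₐ[A] S) (Henselization.of A i x))) :=
      hx.map e
    have h2 : e ((e.symm : Henselization A →ₐ[A] S) (Henselization.of A i x)) =
        Henselization.of A i x := e.apply_symm_apply _
    rw [h2] at h1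
    exact (Henselization.isLocalHom_of A i).map_nonunit _ h1
  · intro x hx
    obtain ⟨y, hy⟩ := hi (e x) (Finset.mem_image_of_mem e hx)
    refine ⟨y, ?_⟩
    show e.symm (Henselization.of A i y) = x
    rw [hy, e.symm_apply_apply]

end Groth.Agent.Lib.Helper12.HensStruct
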