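import Groth.Agent.Lib.Helper12.HenselizationNoeth2

set_option autoImplicit false
universe u

namespace Groth.Agent.Lib.Helper12

open IsLocalRing

variable {A : Type u} [CommRing A] [IsLocalRing A] [IsNoetherianRing A]

namespace Henselization

local notation "Â" => AdicCompletion (maximalIdeal A) A

theorem henselianLocalRing_quotient_pow (n : ℕ) (hn : n ≠ 0) :
    ∃ _ : IsLocalRing (A ⧸ maximalIdeal A ^ n), HenselianLocalRing (A ⧸ maximalIdeal A ^ n) := by
  have hle : maximalIdeal A ^ n ≤ maximalIdeal A := Ideal.pow_le_self hn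
  haveI : Nontrivial (A ⧸ maximalIdeal A ^ n) :=
    Ideal.Quotient.nontrivial_iff.2 (fun h => by
      have : (1 : A) ∈ maximalIdeal A := hle (h ▸ Submodule.mem_top)
      exact (Ideal.ne_top_iff_one _).1 (maximalIdeal.isMaximal A).ne_top this)
  haveI : IsLocalRing (A ⧸ maximalIdeal A ^ n) :=
    IsLocalRing.of_surjective' (Ideal.Quotient.mk _) Ideal.Quotient.mk_surjective
  refine ⟨inferInstance, Groth.Agent.Lib.Helper29.henselian_of_nil _ ?_⟩
  intro x hx
  obtain ⟨a, rfl⟩ := Ideal.Quotient.mk_surjective x
  have ha : a ∈ maximalIdeal A := by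
    by_contra hu
    rw [mem_maximalIdeal, mem_nonunits_iff, not_not] at hu
    exact hx (hu.map _)
  refine ⟨n, ?_⟩
  rw [← map_pow, Ideal.Quotient.eq_zero_iff_mem]
  exact Ideal.pow_mem_pow ha n

theorem exists_sub_algebraMap_mem_hens (n : ℕ) (x : Henselization A) :
    ∃ a : A, x - algebraMap A _ a ∈
      (maximalIdeal A ^ n).map (algebraMap A (Henselization A)) := by
  rcases Nat.eq_zero_or_pos n with rfl | hn
  · exact ⟨0, by rw [pow_zero, Ideal.one_eq_top, Ideal.map_top]; exact Submodule.mem_top⟩
  obtain ⟨_, _⟩ := henselianLocalRing_quotient_pow (A := A) n hn.ne'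
  obtain ⟨y, hy⟩ := (Groth.Agent.Lib.Helper29.quot_bijective A (Henselization A)
    (maximalIdeal A ^ n)).2 (Ideal.Quotient.mk _ x)
  obtain ⟨a, rfl⟩ := Ideal.Quotient.mk_surjective y
  refine ⟨a, ?_⟩
  rw [Ideal.quotientMap_mk] at hy
  rw [← Ideal.Quotient.eq_zero_iff_mem, map_sub, hy, sub_self]

theorem comap_toCompletion_map_pow (n : ℕ) :
    ((maximalIdeal A ^ n).map (algebraMap A Â)).comap (toCompletion A) =
      (maximalIdeal A ^ n).map (algebraMap A (Henselization A)) := by
  have hle : (maximalIdeal A ^ n).map (algebraMap A (Henselization A)) ≤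
      ((maximalIdeal A ^ n).map (algebraMap A Â)).comap (toCompletion A) := by
    rw [Ideal.map_le_iff_le_comap]
    intro a ha
    rw [Ideal.mem_comap, Ideal.mem_comap, AlgHom.commutes]
    exact Ideal.mem_map_of_mem _ ha
  refine le_antisymm ?_ hle
  intro x hx
  obtain ⟨a, ha⟩ := exists_sub_algebraMap_mem_hens n x
  have h1 := hle ha
  rw [Ideal.mem_comap, map_sub, AlgHom.commutes] at h1
  rw [Ideal.mem_comap] at hx
  have h2 : algebraMap A Â a ∈ (maximalIdeal A ^ n).map (algebraMap A Â) := by
    have := Ideal.sub_mem _ hx h1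
    rwa [sub_sub_cancel] at this
  have h3 := mem_pow_of_algebraMap_mem n a h2
  have h4 : algebraMap A (Henselization A) a ∈
      (maximalIdeal A ^ n).map (algebraMap A (Henselization A)) := Ideal.mem_map_of_mem _ h3
  have := Ideal.add_mem _ ha h4
  rwa [sub_add_cancel] at this

theorem maximalIdeal_pow_eq (n : ℕ) :
    maximalIdeal (Henselization A) ^ n =
      (maximalIdeal A ^ n).map (algebraMap A (Henselization A)) := by
  rw [Ideal.map_pow, Groth.Agent.S0507.result A (Henselization A)]

theorem mem_sup_of_toCompletion_mem_map (J : Ideal (Henselization A)) (n : ℕ)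
    (x : Henselization A) (hx : toCompletion A x ∈ J.map (toCompletion A)) :
    x ∈ J ⊔ maximalIdeal (Henselization A) ^ n := by
  have key : ∀ y ∈ J.map (toCompletion A), ∃ j ∈ J,
      y - toCompletion A j ∈ (maximalIdeal A ^ n).map (algebraMap A Â) := by
    intro y hy
    refine Submodule.span_induction (p := fun y _ => ∃ j ∈ J,
      y - toCompletion A j ∈ (maximalIdeal A ^ n).map (algebraMap A Â)) ?_ ?_ ?_ ?_ hy
    · rintro _ ⟨j, hj, rfl⟩
      exact ⟨j, hj, by simp⟩
    · exact ⟨0, J.zero_mem, by simp⟩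
    · rintro y y' - - ⟨j, hj, h⟩ ⟨j', hj', h'⟩
      refine ⟨j + j', J.add_mem hj hj', ?_⟩
      have := Ideal.add_mem _ h h'
      rw [map_add]
      convert this using 1
      ring
    · rintro r y - ⟨j, hj, h⟩
      obtain ⟨a, ha⟩ := exists_sub_algebraMap_mem n r
      refine ⟨algebraMap A _ a * j, J.mul_mem_left _ hj, ?_⟩
      have e : r • y - toCompletion A (algebraMap A _ a * j) =
          algebraMap A Â a * (y - toCompletion A j) + (r - algebraMap A Â a) * y := by
        rw [map_mul, AlgHom.commutes, smul_eq_mul]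
        ring
      rw [e]
      exact Ideal.add_mem _ (Ideal.mul_mem_left _ _ h) (Ideal.mul_mem_right _ _ ha)
  obtain ⟨j, hj, h⟩ := key _ hx
  rw [← map_sub, ← Ideal.mem_comap, comap_toCompletion_map_pow, ← maximalIdeal_pow_eq] at h
  have : x = j + (x - j) := by ring
  rw [this]
  exact Submodule.add_mem_sup hj h

theorem comap_map_toCompletion_of_fg (J : Ideal (Henselization A)) (hJ : J.FG) :
    (J.map (toCompletion A)).comap (toCompletion A) = J := by
  refine le_antisymm ?_ Ideal.le_comap_map
  intro x hx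
  exact mem_of_forall_mem_sup_pow_of_fg J hJ x
    (fun n => mem_sup_of_toCompletion_mem_map J n x hx)

instance isNoetherianRing : IsNoetherianRing (Henselization A) := by
  classical
  rw [isNoetherianRing_iff_ideal_fg]
  intro J
  have hfg : (J.map (toCompletion A)).FG := IsNoetherian.noetherian _
  rw [Ideal.map, Ideal.span] at hfg
  obtain ⟨t, ht, hspan⟩ := (Submodule.fg_span_iff_fg_span_finset_subset _).mp hfg
  obtain ⟨s, hs, rfl⟩ := Finset.subset_set_image_iff.mp ht
  have hJ' : (Ideal.span (s : Set (Henselization A))).FG := ⟨s, rfl⟩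
  have hle : Ideal.span (s : Set (Henselization A)) ≤ J := Ideal.span_le.mpr hs
  have hmap : (Ideal.span (s : Set (Henselization A))).map (toCompletion A) =
      J.map (toCompletion A) := by
    rw [Ideal.map_span]
    show Ideal.span _ = Ideal.span _
    rw [Ideal.span, Ideal.span, hspan, Finset.coe_image]
  have : J = Ideal.span (s : Set (Henselization A)) := by
    refine le_antisymm ?_ hle
    intro x hx
    rw [← comap_map_toCompletion_of_fg _ hJ', Ideal.mem_comap, hmap]
    exact Ideal.mem_map_of_mem _ hx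
  rw [this]
  exact hJ'

end Henselization

end Groth.Agent.Lib.Helper12
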