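import Mathlib.RingTheory.Noetherian.Basic
import Mathlib.RingTheory.Finiteness.Ideal
import Mathlib.RingTheory.Ideal.Quotient.Operations
import Mathlib.RingTheory.Ideal.Quotient.Noetherian

set_option autoImplicit false

/-!
# An elementary noetherianity criterion

If `m` is a finitely generated ideal of `R` with `R ⧸ m` noetherian and all finitely generated
ideals of `R` are closed in the `m`-adic topology, then `R` is noetherian.
-/

namespace Groth.Agent.Lib.Helper12

variable {R : Type*} [CommRing R]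

/-- The ideal of `d`-th "leading coefficients" of `I` with respect to `a`. -/
def coeffIdeal (I : Ideal R) (a : R) (d : ℕ) : Ideal R :=
  Submodule.comap (LinearMap.mulLeft R (a ^ d)) (I ⊔ Ideal.span {a ^ (d + 1)})

theorem mem_coeffIdeal {I : Ideal R} {a : R} {d : ℕ} {r : R} :
    r ∈ coeffIdeal I a d ↔ a ^ d * r ∈ I ⊔ Ideal.span {a ^ (d + 1)} := Iff.rfl

theorem coeffIdeal_mono (I : Ideal R) (a : R) : Monotone (coeffIdeal I a) := by
  apply monotone_nat_of_le_succ
  intro d r hr
  rw [mem_coeffIdeal] at hr ⊢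
  obtain ⟨i, hi, z, hz, e⟩ := Submodule.mem_sup.mp hr
  obtain ⟨s, rfl⟩ := Ideal.mem_span_singleton'.mp hz
  have : a ^ (d + 1) * r = a * i + s * a ^ (d + 1 + 1) := by
    rw [pow_succ, mul_assoc, mul_comm a r, ← mul_assoc, ← e]; ring
  rw [this]
  exact Submodule.add_mem_sup (I.mul_mem_left _ hi)
    (Ideal.mul_mem_left _ _ (Ideal.mem_span_singleton_self _))

theorem span_le_coeffIdeal (I : Ideal R) (a : R) (d : ℕ) :
    Ideal.span {a} ≤ coeffIdeal I a d := by
  rw [Ideal.span_le, Set.singleton_subset_iff]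
  show a ^ d * a ∈ I ⊔ Ideal.span {a ^ (d + 1)}
  rw [← pow_succ]
  exact Ideal.mem_sup_right (Ideal.mem_span_singleton_self _)

theorem mem_coeffIdeal_of_mul_mem {I : Ideal R} {a : R} {d : ℕ} {r : R} (h : a ^ d * r ∈ I) :
    r ∈ coeffIdeal I a d := Ideal.mem_sup_left h

theorem coeffIdeal_fg (I : Ideal R) (a : R) [IsNoetherianRing (R ⧸ Ideal.span {a})] (d : ℕ) :
    (coeffIdeal I a d).FG := by
  apply Ideal.fg_of_fg_map_of_fg_inf_ker_of_surjective
    (f := Ideal.Quotient.mk (Ideal.span {a}))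
  · exact IsNoetherian.noetherian _
  · rw [Ideal.mk_ker, inf_eq_right.mpr (span_le_coeffIdeal I a d)]
    exact ⟨{a}, by simp⟩
  · exact Ideal.Quotient.mk_surjective

theorem coeffIdeal_stabilizes (I : Ideal R) (a : R) [IsNoetherianRing (R ⧸ Ideal.span {a})] :
    ∃ N, ∀ n, N ≤ n → coeffIdeal I a n = coeffIdeal I a N := by
  let f : ℕ →o Ideal (R ⧸ Ideal.span {a}) :=
    ⟨fun d => (coeffIdeal I a d).map (Ideal.Quotient.mk _),
      fun i j h => Ideal.map_mono (coeffIdeal_mono I a h)⟩
  obtain ⟨N, hN⟩ := WellFoundedGT.monotone_chain_condition f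
  refine ⟨N, fun n hn => ?_⟩
  have h1 : ∀ d, (f d).comap (Ideal.Quotient.mk _) = coeffIdeal I a d := by
    intro d
    show ((coeffIdeal I a d).map (Ideal.Quotient.mk _)).comap (Ideal.Quotient.mk _) = _
    rw [Ideal.comap_map_of_surjective _ Ideal.Quotient.mk_surjective, ← RingHom.ker_eq_comap_bot,
      Ideal.mk_ker, sup_eq_left]
    exact span_le_coeffIdeal I a d
  rw [← h1 n, ← h1 N, hN n hn]

theorem exists_fg_step (I : Ideal R) (a : R) [IsNoetherianRing (R ⧸ Ideal.span {a})] (d : ℕ) :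
    ∃ J : Ideal R, J.FG ∧ J ≤ I ∧ ∀ n, d ≤ n → coeffIdeal I a n = coeffIdeal I a d →
      I ⊓ Ideal.span {a ^ n} ≤ J ⊔ (I ⊓ Ideal.span {a ^ (n + 1)}) := by
  obtain ⟨S, hS⟩ := coeffIdeal_fg I a d
  have hmem : ∀ r : S, ∃ i s, i ∈ I ∧ a ^ d * r = i + s * a ^ (d + 1) := by
    intro r
    have : (r : R) ∈ coeffIdeal I a d := hS ▸ Ideal.subset_span r.2
    obtain ⟨i, hi, z, hz, e⟩ := Submodule.mem_sup.mp (mem_coeffIdeal.mp this)
    obtain ⟨s, rfl⟩ := Ideal.mem_span_singleton'.mp hz
    exact ⟨i, s, hi, e.symm⟩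
  choose i s hi hs using hmem
  have hJI : Ideal.span (Set.range i) ≤ I := by
    rw [Ideal.span_le]; rintro _ ⟨r, rfl⟩; exact hi r
  refine ⟨Ideal.span (Set.range i), Submodule.fg_span (Set.finite_range i), hJI, ?_⟩
  intro n hdn hK z hz
  obtain ⟨hzI, hz2⟩ := hz
  obtain ⟨r, rfl⟩ := Ideal.mem_span_singleton'.mp hz2
  have hr : r ∈ coeffIdeal I a n := mem_coeffIdeal_of_mul_mem (by rwa [mul_comm])
  rw [hK, ← hS] at hr
  have key : a ^ n * r ∈ Ideal.span (Set.range i) ⊔ Ideal.span {a ^ (n + 1)} := by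
    have : Ideal.span (S : Set R) ≤ Submodule.comap (LinearMap.mulLeft R (a ^ n))
        (Ideal.span (Set.range i) ⊔ Ideal.span {a ^ (n + 1)}) := by
      rw [Ideal.span_le]
      intro r hr
      show a ^ n * r ∈ Ideal.span (Set.range i) ⊔ Ideal.span {a ^ (n + 1)}
      have e := hs ⟨r, hr⟩
      obtain ⟨k, rfl⟩ := Nat.exists_eq_add_of_le hdn
      have e2 : a ^ (d + k) * r = a ^ k * i ⟨r, hr⟩ + s ⟨r, hr⟩ * a ^ (d + k + 1) := by
        rw [pow_add, mul_comm (a ^ d), mul_assoc, e]; ring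
      rw [e2]
      exact Submodule.add_mem_sup (Ideal.mul_mem_left _ _ (Ideal.subset_span ⟨_, rfl⟩))
        (Ideal.mul_mem_left _ _ (Ideal.mem_span_singleton_self _))
    exact this hr
  obtain ⟨y, hy, w, hw, e⟩ := Submodule.mem_sup.mp key
  refine Submodule.mem_sup.mpr ⟨y, hy, w, ⟨?_, hw⟩, by rw [e, mul_comm]⟩
  have : w = r * a ^ n - y := by rw [mul_comm, ← e]; ring
  rw [this]
  exact I.sub_mem hzI (hJI hy)

/-- If `R ⧸ (a)` is noetherian and finitely generated ideals of `R` are `a`-adically closed, then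
`R` is noetherian. -/
theorem isNoetherianRing_of_quotient_span_singleton (a : R)
    [IsNoetherianRing (R ⧸ Ideal.span {a})]
    (hcl : ∀ J : Ideal R, J.FG → ∀ x, (∀ n : ℕ, x ∈ J ⊔ Ideal.span {a ^ n}) → x ∈ J) :
    IsNoetherianRing R := by
  rw [isNoetherianRing_iff_ideal_fg]
  intro I
  obtain ⟨N, hN⟩ := coeffIdeal_stabilizes I a
  choose J hJfg hJI hJ using fun d => exists_fg_step I a d
  let JJ : Ideal R := ⨆ d ∈ Finset.range (N + 1), J d
  have hfg : JJ.FG := Submodule.fg_biSup _ _ fun d _ => hJfg d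
  have hle : JJ ≤ I := iSup₂_le fun d _ => hJI d
  have hJJ : ∀ d, d ≤ N → J d ≤ JJ := fun d hd =>
    le_biSup J (Finset.mem_range.mpr (Nat.lt_succ_of_le hd))
  have hstep : ∀ n, I ⊓ Ideal.span {a ^ n} ≤ JJ ⊔ (I ⊓ Ideal.span {a ^ (n + 1)}) := by
    intro n
    by_cases h : n ≤ N
    · exact (hJ n n le_rfl rfl).trans (sup_le_sup_right (hJJ n h) _)
    · rw [not_le] at h
      exact (hJ N n h.le (hN n h.le)).trans (sup_le_sup_right (hJJ N le_rfl) _)
  have hall : ∀ n, I ≤ JJ ⊔ (I ⊓ Ideal.span {a ^ n}) := by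
    intro n
    induction n with
    | zero =>
      rw [pow_zero, Ideal.span_singleton_one, inf_top_eq]
      exact le_sup_right
    | succ n ih => exact ih.trans (sup_le le_sup_left (hstep n))
  have : I ≤ JJ := fun x hx =>
    hcl JJ hfg x (fun n =>
      (sup_le_sup_left (inf_le_right : I ⊓ Ideal.span {a ^ n} ≤ Ideal.span {a ^ n}) JJ) (hall n hx))
  rw [le_antisymm this hle]
  exact hfg

universe u

theorem isNoetherianRing_of_fg_of_closed_aux : ∀ (n : ℕ) (R : Type u) [CommRing R] (m : Ideal R)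
    (g : Fin n → R), m = Ideal.span (Set.range g) → IsNoetherianRing (R ⧸ m) →
    (∀ J : Ideal R, J.FG → ∀ x, (∀ k : ℕ, x ∈ J ⊔ m ^ k) → x ∈ J) → IsNoetherianRing R := by
  intro n
  induction n with
  | zero =>
    intro R _ m g hm hq _
    have : m = ⊥ := by
      rw [hm, Set.range_eq_empty, Ideal.span_empty]
    subst this
    exact isNoetherianRing_of_ringEquiv _ (RingEquiv.quotientBot R)
  | succ n ih =>
    intro R _ m g hm hq hcl
    have ham : Ideal.span {g 0} ≤ m := by
      rw [hm, Ideal.span_le, Set.singleton_subset_iff]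
      exact Ideal.subset_span ⟨0, rfl⟩
    let mk' : R →+* R ⧸ Ideal.span {g 0} := Ideal.Quotient.mk _
    have hsurj : Function.Surjective mk' := Ideal.Quotient.mk_surjective
    let g' : Fin n → R ⧸ Ideal.span {g 0} := fun i => mk' (g i.succ)
    have hm' : m.map mk' = Ideal.span (Set.range g') := by
      rw [hm, Ideal.map_span]
      apply le_antisymm
      · rw [Ideal.span_le]
        rintro _ ⟨_, ⟨i, rfl⟩, rfl⟩
        refine Fin.cases ?_ ?_ i
        · have : mk' (g 0) = 0 :=
            Ideal.Quotient.eq_zero_iff_mem.mpr (Ideal.mem_span_singleton_self _)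
          rw [this]
          exact zero_mem _
        · intro j
          exact Ideal.subset_span ⟨j, rfl⟩
      · rw [Ideal.span_le]
        rintro _ ⟨j, rfl⟩
        exact Ideal.subset_span ⟨_, ⟨j.succ, rfl⟩, rfl⟩
    have hker : RingHom.ker mk' = Ideal.span {g 0} := Ideal.mk_ker
    haveI : IsNoetherianRing (R ⧸ Ideal.span {g 0}) := by
      apply ih (R ⧸ Ideal.span {g 0}) (m.map mk') g' hm'
      · have e1 : ((R ⧸ Ideal.span {g 0}) ⧸ m.map mk') ≃+* R ⧸ (Ideal.span {g 0} ⊔ m) :=
          DoubleQuot.quotQuotEquivQuotSup _ _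
        have e2 : R ⧸ (Ideal.span {g 0} ⊔ m) ≃+* R ⧸ m :=
          Ideal.quotEquivOfEq (sup_eq_right.mpr ham)
        exact isNoetherianRing_of_ringEquiv _ (e1.trans e2).symm
      · intro J' hJ' x' hx'
        obtain ⟨x, rfl⟩ := hsurj x'
        have hkJ : RingHom.ker mk' ≤ J'.comap mk' := fun y hy => by
          rw [Ideal.mem_comap, (RingHom.mem_ker).mp hy]
          exact zero_mem _
        have hJ : (J'.comap mk').FG := by
          apply Ideal.fg_of_fg_map_of_fg_inf_ker_of_surjective (f := mk') _ _ hsurj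
          · rwa [Ideal.map_comap_of_surjective _ hsurj]
          · rw [inf_eq_right.mpr hkJ, hker]
            exact ⟨{g 0}, by simp⟩
        have : x ∈ J'.comap mk' := by
          apply hcl _ hJ
          intro k
          have h1 := hx' k
          rw [← Ideal.map_comap_of_surjective mk' hsurj J', ← Ideal.map_pow, ← Ideal.map_sup] at h1
          obtain ⟨y, hy, e⟩ := (Ideal.mem_map_iff_of_surjective mk' hsurj).mp h1
          have h3 : x - y ∈ RingHom.ker mk' := by rw [RingHom.mem_ker, map_sub, e, sub_self]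
          have h2 : x = (x - y) + y := by ring
          rw [h2]
          exact Ideal.add_mem _ (Ideal.mem_sup_left (hkJ h3)) hy
        exact this
    exact isNoetherianRing_of_quotient_span_singleton (g 0) (fun J hJ x hx => hcl J hJ x fun k =>
      (sup_le_sup_left (by
        rw [← Ideal.span_singleton_pow]
        exact Ideal.pow_right_mono ham k) J) (hx k))

/-- If `m` is a finitely generated ideal with `R ⧸ m` noetherian and all finitely generated
ideals of `R` are `m`-adically closed, then `R` is noetherian. -/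
theorem isNoetherianRing_of_fg_of_closed {R : Type u} [CommRing R] (m : Ideal R) (hm : m.FG)
    [IsNoetherianRing (R ⧸ m)]
    (hcl : ∀ J : Ideal R, J.FG → ∀ x, (∀ k : ℕ, x ∈ J ⊔ m ^ k) → x ∈ J) : IsNoetherianRing R := by
  obtain ⟨n, g, hg⟩ := Submodule.fg_iff_exists_fin_generating_family.mp hm
  exact isNoetherianRing_of_fg_of_closed_aux n R m g hg.symm inferInstance hcl

end Groth.Agent.Lib.Helper12
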