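import Groth.Agent.Lib.Helper12.StrictOver
import Groth.Agent.Lib.Helper12.NoetherianAux
import Groth.Agent.Lib.Helper12.NoethCrit
import Mathlib.RingTheory.Localization.Submodule

set_option autoImplicit false
universe u

/-!
# The strict henselization of a noetherian local ring is noetherian
-/

namespace Groth.Agent.Lib.Helper12

open IsLocalRing PtNbhd

variable {A : Type u} [CommRing A] [IsLocalRing A]

namespace PtNbhd.Lim

variable {L : Type u} [Field L] [Algebra A L] [LocalPoint A L]

theorem map_maximalIdeal_of (i : PtNbhd.Nbhd A L) :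
    (maximalIdeal i.G).map (of A L i) = maximalIdeal (Lim A L) := by
  have hcomp : (of A L i).comp (algebraMap A i.G) = algebraMap A (Lim A L) := by
    ext r
    exact (algebraMap_eq i r).symm
  rw [← map_maximalIdeal_G, Ideal.map_map, hcomp, map_maximalIdeal]

theorem of_comp_transR {i j : PtNbhd.Nbhd A L} (h : i ≤ j) :
    (of A L j).comp (Nbhd.transR i j h) = of A L i := by
  ext x
  exact of_trans h x

/-- Every finitely generated ideal of the limit comes from a neighbourhood. -/
theorem exists_map_of_eq_of_fg (J : Ideal (Lim A L)) (hJ : J.FG) :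
    ∃ (i : PtNbhd.Nbhd A L) (Ji : Ideal i.G), Ji.map (of A L i) = J := by
  classical
  obtain ⟨s, rfl⟩ := hJ
  choose k a ha using fun x : Lim A L => exists_of x
  obtain ⟨i, hi⟩ := Finset.exists_le (s.image k)
  have hi' : ∀ x ∈ s, k x ≤ i := fun x hx => hi _ (Finset.mem_image_of_mem _ hx)
  refine ⟨i, Ideal.span ((fun x : s => Nbhd.trans (k x) i (hi' x x.2) (a x)) '' Set.univ), ?_⟩
  rw [Ideal.map_span, ← Set.image_comp]
  apply le_antisymm
  · rw [Ideal.span_le]
    rintro _ ⟨x, -, rfl⟩
    apply Ideal.subset_span
    show of A L i (Nbhd.trans (k x) i _ (a x)) ∈ _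
    rw [of_trans, ha]
    exact x.2
  · change Ideal.span (s : Set (Lim A L)) ≤ _
    rw [Ideal.span_le]
    intro x hx
    apply Ideal.subset_span
    refine ⟨⟨x, hx⟩, trivial, ?_⟩
    show of A L i (Nbhd.trans (k x) i _ (a x)) = x
    rw [of_trans, ha]

instance [IsNoetherianRing A] (i : PtNbhd.Nbhd A L) : IsNoetherianRing i.G :=
  Algebra.EssFiniteType.isNoetherianRing A i.G

end PtNbhd.Lim

namespace StrictHenselization

open PtNbhd.Lim

theorem comap_map_of (i : PtNbhd.Nbhd A (SepCl A)) (J : Ideal i.G) :
    (J.map (of A (SepCl A) i)).comap (of A (SepCl A) i) = J := by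
  letI := algebraOver i
  haveI := faithfullyFlat_over i
  exact Ideal.comap_map_eq_self_of_faithfullyFlat (B := StrictHenselization A) J

section Noeth
variable [IsNoetherianRing A]

/-- Ideals extended from a neighbourhood are closed in the adic topology of the strict
henselization (noetherian case). -/
theorem mem_map_of_forall_mem_sup_pow (i : PtNbhd.Nbhd A (SepCl A)) (J : Ideal i.G)
    (x : StrictHenselization A)
    (h : ∀ n : ℕ, x ∈ J.map (of A (SepCl A) i) ⊔ maximalIdeal (StrictHenselization A) ^ n) :
    x ∈ J.map (of A (SepCl A) i) := by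
  obtain ⟨k, a, rfl⟩ := exists_of x
  obtain ⟨l, hil, hkl⟩ := exists_ge_ge i k
  have e1 : J.map (of A (SepCl A) i) = (J.map (PtNbhd.Nbhd.transR i l hil)).map (of A (SepCl A) l) := by
    rw [Ideal.map_map, of_comp_transR]
  have e2 : of A (SepCl A) k a = of A (SepCl A) l (PtNbhd.Nbhd.trans k l hkl a) := (of_trans hkl a).symm
  rw [e1, e2] at h ⊢
  apply Ideal.mem_map_of_mem
  apply mem_of_forall_mem_sup_pow
  intro n
  have := h n
  rw [← map_maximalIdeal_of l, ← Ideal.map_pow, ← Ideal.map_sup] at this
  rw [← comap_map_of l (J.map (PtNbhd.Nbhd.transR i l hil) ⊔ maximalIdeal l.G ^ n)]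
  exact this

/-- Finitely generated ideals of the strict henselization of a noetherian local ring are
closed. -/
theorem mem_of_forall_mem_sup_pow_of_fg (J : Ideal (StrictHenselization A)) (hJ : J.FG)
    (x : StrictHenselization A)
    (h : ∀ n : ℕ, x ∈ J ⊔ maximalIdeal (StrictHenselization A) ^ n) : x ∈ J := by
  obtain ⟨i, Ji, rfl⟩ := exists_map_of_eq_of_fg J hJ
  exact mem_map_of_forall_mem_sup_pow i Ji x h

instance isNoetherianRing : IsNoetherianRing (StrictHenselization A) := by
  haveI : IsNoetherianRing (StrictHenselization A ⧸ maximalIdeal (StrictHenselization A)) :=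
    inferInstanceAs (IsNoetherianRing (ResidueField (StrictHenselization A)))
  apply isNoetherianRing_of_fg_of_closed (maximalIdeal (StrictHenselization A))
  · rw [← Lim.map_maximalIdeal]
    exact Ideal.FG.map (IsNoetherian.noetherian _) _
  · exact mem_of_forall_mem_sup_pow_of_fg

end Noeth

end StrictHenselization

end Groth.Agent.Lib.Helper12
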