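import Groth.Prelude.Def_EssEt
import Mathlib.RingTheory.Unramified.Basic
import Mathlib.RingTheory.Kaehler.Basic
import Mathlib.RingTheory.Ideal.IdempotentFG
import Mathlib.RingTheory.LocalRing.ResidueField.Basic

set_option autoImplicit false
universe u

namespace Groth.Agent.Lib.Helper12

open IsLocalRing TensorProduct

/-- Two algebra maps from a (formally) unramified, essentially finite type algebra to a local ring
which agree modulo the maximal ideal are equal.  (No henselian hypothesis is needed.) -/
theorem algHom_eq_of_formallyUnramified_of_isLocalRing {R A S : Type*} [CommRing R] [CommRing A]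
    [Algebra R A] [Algebra.EssFiniteType R A] [Algebra.FormallyUnramified R A]
    [CommRing S] [IsLocalRing S] [Algebra R S]
    (f₁ f₂ : A →ₐ[R] S) (h : ∀ a, f₁ a - f₂ a ∈ maximalIdeal S) : f₁ = f₂ := by
  obtain ⟨e, he, hsp⟩ : ∃ e, IsIdempotentElem e ∧ KaehlerDifferential.ideal R A = A ⊗[R] A ∙ e :=
    (Ideal.isIdempotentElem_iff_of_fg _ (KaehlerDifferential.ideal_fg R A)).mp <|
      (Ideal.cotangent_subsingleton_iff _).mp <| inferInstanceAs <| Subsingleton Ω[A⁄R]
  let φ : A ⊗[R] A →ₐ[R] S := Algebra.TensorProduct.lift f₁ f₂ (fun _ _ => Commute.all _ _)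
  let φ' : A ⊗[R] A →ₐ[R] S := Algebra.TensorProduct.lift f₁ f₁ (fun _ _ => Commute.all _ _)
  have hres : ∀ a, residue S (f₂ a) = residue S (f₁ a) := by
    intro a
    rw [eq_comm, ← sub_eq_zero, ← map_sub, residue_eq_zero_iff]
    exact h a
  -- residue ∘ φ = residue ∘ φ'
  have hφφ' : ∀ x, residue S (φ x) = residue S (φ' x) := by
    intro x
    induction x using TensorProduct.induction_on with
    | zero => simp
    | tmul a b =>
      simp only [φ, φ', Algebra.TensorProduct.lift_tmul, map_mul, hres]
    | add x y hx hy => simp only [map_add, hx, hy]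
  -- φ' kills the diagonal ideal
  have hφ' : ∀ x ∈ KaehlerDifferential.ideal R A, φ' x = 0 := by
    intro x hx
    have h1 : φ' = f₁.comp (Algebra.TensorProduct.lmul' R (S := A)) := by
      apply Algebra.TensorProduct.ext'
      intro a b
      simp [φ']
    rw [h1, AlgHom.comp_apply]
    have : Algebra.TensorProduct.lmul' R (S := A) x = 0 := by
      simpa [KaehlerDifferential.ideal, RingHom.mem_ker] using hx
    rw [this, map_zero]
  have heI : e ∈ KaehlerDifferential.ideal R A := by
    rw [hsp]; exact Ideal.mem_span_singleton_self e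
  have hφe : φ e = 0 := by
    have hid : IsIdempotentElem (φ e) := he.map φ
    have hm : φ e ∈ maximalIdeal S := by
      rw [← residue_eq_zero_iff, hφφ' e, hφ' e heI, map_zero]
    have hu : IsUnit (1 - φ e) := by
      have := IsLocalRing.isUnit_one_sub_self_of_mem_nonunits (φ e) hm
      exact this
    have h0 : φ e * (1 - φ e) = 0 := by
      rw [mul_sub, mul_one, hid.eq, sub_self]
    exact (hu.mul_left_eq_zero).mp h0
  apply AlgHom.ext
  intro a
  have hmem : (1 : A) ⊗ₜ[R] a - a ⊗ₜ[R] (1 : A) ∈ KaehlerDifferential.ideal R A :=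
    KaehlerDifferential.one_smul_sub_smul_one_mem_ideal R a
  rw [hsp, Ideal.mem_span_singleton'] at hmem
  obtain ⟨y, hy⟩ := hmem
  have := congrArg φ hy
  rw [map_mul, hφe, mul_zero] at this
  simp only [φ, map_sub, Algebra.TensorProduct.lift_tmul, map_one, one_mul, mul_one] at this
  exact (sub_eq_zero.mp this.symm).symm

end Groth.Agent.Lib.Helper12
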