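import Groth.Agent.Lib.Helper12.StrictOver
import Groth.Agent.Lib.Helper12.EssEtale

set_option autoImplicit false
universe u

/-!
# Structure of a strict henselization as a union of essentially étale local subalgebras
-/

namespace Groth.Agent.Lib.Helper12.StrictStruct

open IsLocalRing PtNbhd

variable {A : Type u} [CommRing A] [IsLocalRing A]

/-- The transition maps into the constructed strict henselization are injective. -/
theorem of_injective (i : PtNbhd.Nbhd A (SepCl A)) : Function.Injective (Lim.of A (SepCl A) i) := by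
  letI := StrictHenselization.algebraOver i
  haveI := StrictHenselization.faithfullyFlat_over i
  exact FaithfulSMul.algebraMap_injective i.G (StrictHenselization A)

/-- Every finite subset of the constructed strict henselization lies in the image of one
neighbourhood. -/
theorem exists_nbhd_of_finset (s : Finset (StrictHenselization A)) :
    ∃ i : PtNbhd.Nbhd A (SepCl A), ∀ x ∈ s, x ∈ Set.range (Lim.of A (SepCl A) i) := by
  classical
  induction s using Finset.induction_on with
  | empty => exact ⟨Classical.arbitrary _, fun x hx => absurd hx (Finset.notMem_empty x)⟩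
  | insert a s _ ih =>
    obtain ⟨i, hi⟩ := ih
    obtain ⟨j, b, hb⟩ := Lim.exists_of a
    obtain ⟨k, hik, hjk⟩ := exists_ge_ge i j
    refine ⟨k, fun x hx => ?_⟩
    rcases Finset.mem_insert.mp hx with rfl | hx
    · exact ⟨PtNbhd.Nbhd.trans j k hjk b, by rw [Lim.of_trans, hb]⟩
    · obtain ⟨y, hy⟩ := hi x hx
      exact ⟨PtNbhd.Nbhd.trans i k hik y, by rw [Lim.of_trans, hy]⟩

variable (A) (S : Type u) [CommRing S] [IsLocalRing S] [Algebra A S]
  [IsLocalHom (algebraMap A S)] [Hensel.IsStrictHenselization A S]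

/-- Every finite subset of a strict henselization `S` of `A` lies in the range of an injective
local `A`-algebra map from the local ring of an étale neighbourhood. -/
theorem exists_nbhd_range (s : Finset S) :
    ∃ (i : PtNbhd.Nbhd A (SepCl A)) (ψ : i.G →ₐ[A] S), Function.Injective ψ ∧
      (∀ x, IsUnit (ψ x) → IsUnit x) ∧ ∀ x ∈ s, x ∈ ψ.range := by
  classical
  obtain ⟨e⟩ := StrictHenselization.nonempty_algEquiv (A := A) S
  obtain ⟨i, hi⟩ := exists_nbhd_of_finset (s.image e)
  refine ⟨i, (e.symm : StrictHenselization A →ₐ[A] S).comp (Lim.ofₐ A (SepCl A) i), ?_, ?_, ?_⟩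
  · intro x y hxy
    apply of_injective i
    exact e.symm.injective hxy
  · intro x hx
    have h1 : IsUnit (e ((e.symm : StrictHenselization A →ₐ[A] S) (Lim.of A (SepCl A) i x))) :=
      hx.map e
    have h2 : e ((e.symm : StrictHenselization A →ₐ[A] S) (Lim.of A (SepCl A) i x)) =
        Lim.of A (SepCl A) i x := e.apply_symm_apply _
    rw [h2] at h1
    exact (Lim.isLocalHom_of A (SepCl A) i).map_nonunit _ h1
  · intro x hx
    obtain ⟨y, hy⟩ := hi (e x) (Finset.mem_image_of_mem e hx)
    refine ⟨y, ?_⟩
    show e.symm (Lim.of A (SepCl A) i y) = x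
    rw [hy, e.symm_apply_apply]

/-- A local `A`-algebra map from the localization of an étale `A`-algebra at a prime into a strict
henselization of `A` is injective. -/
theorem injective_of_local (C : Type u) [CommRing C] [Algebra A C] [Algebra.Etale A C]
    (q : Ideal C) [q.IsPrime] (ψ : Localization.AtPrime q →ₐ[A] S)
    (hψ : ∀ x, IsUnit (ψ x) → IsUnit x) : Function.Injective ψ := by
  obtain ⟨e⟩ := StrictHenselization.nonempty_algEquiv (A := A) S
  let L := SepCl A
  let T := StrictHenselization A
  let ψ' : Localization.AtPrime q →ₐ[A] T := (e : S →ₐ[A] T).comp ψ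
  have hψ' : ∀ x, IsUnit (ψ' x) → IsUnit x := by
    intro x hx
    apply hψ
    have h1 : IsUnit (e.symm (e (ψ x))) := IsUnit.map e.symm hx
    rwa [e.symm_apply_apply] at h1
  let g : C →ₐ[A] T := ψ'.comp (IsScalarTower.toAlgHom A C (Localization.AtPrime q))
  let π : C →ₐ[A] L := (Lim.pt A L).comp g
  have hker : ∀ c, π c = 0 ↔ c ∈ q := by
    intro c
    show Lim.pt A L (ψ' (algebraMap C (Localization.AtPrime q) c)) = 0 ↔ _
    rw [Lim.pt_eq_zero_iff, ← IsLocalization.AtPrime.to_map_mem_maximal_iff
      (Localization.AtPrime q) q c, mem_maximalIdeal, mem_nonunits_iff, mem_maximalIdeal,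
      mem_nonunits_iff, not_iff_not]
    exact ⟨hψ' _, fun h => h.map ψ'⟩
  have hunits : ∀ y : (RingHom.ker π).primeCompl, IsUnit (g y) := by
    rintro ⟨y, hy⟩
    have : Lim.pt A L (g y) ≠ 0 := fun h => hy (RingHom.mem_ker.mpr h)
    rw [Ne, Lim.pt_eq_zero_iff, mem_maximalIdeal, mem_nonunits_iff, not_not] at this
    exact this
  let lam : Loc A L C π →ₐ[A] T :=
    IsLocalization.liftAlgHom (M := (RingHom.ker π).primeCompl) (f := g) hunits
  have hlam : ∀ c, lam (algebraMap C (Loc A L C π) c) = g c := fun c =>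
    IsLocalization.lift_eq _ c
  have hptlam : (Lim.pt A L).comp lam = locPt A L C π := by
    apply AlgHom.coe_ringHom_injective
    apply IsLocalization.ringHom_ext (RingHom.ker π).primeCompl
    ext c
    simp only [RingHom.comp_apply, AlgHom.coe_toRingHom, AlgHom.comp_apply]
    rw [hlam, locPt_algebraMap]
    rfl
  obtain ⟨i, ε, hε⟩ := PtNbhd.Nbhd.exists_loc_equiv C π
  have hlam2 : lam.comp (ε.symm : i.G →ₐ[A] Loc A L C π) = Lim.ofₐ A L i := by
    apply algHom_eq_of_formallyUnramified_of_isLocalRing
    intro a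
    rw [← Lim.pt_eq_zero_iff, map_sub, sub_eq_zero, Lim.ofₐ_apply, Lim.pt_of]
    have h1 : Lim.pt A L (lam (ε.symm a)) = locPt A L C π (ε.symm a) := by
      rw [← hptlam]; rfl
    have h2 : i.pt (ε (ε.symm a)) = locPt A L C π (ε.symm a) := by
      rw [← hε]; rfl
    rw [ε.apply_symm_apply] at h2
    show Lim.pt A L (lam (ε.symm a)) = i.pt a
    rw [h1, h2]
  have hlaminj : Function.Injective lam := by
    intro x y hxy
    apply ε.injective
    apply of_injective i
    have h1 : ∀ z, Lim.of A L i (ε z) = lam z := by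
      intro z
      have h0 : (lam.comp (ε.symm : i.G →ₐ[A] Loc A L C π)) (ε z) = Lim.ofₐ A L i (ε z) := by
        rw [hlam2]
      rw [← Lim.ofₐ_apply, ← h0]
      show lam (ε.symm (ε z)) = lam z
      rw [ε.symm_apply_apply]
    rw [h1, h1, hxy]
  -- now conclude
  rw [injective_iff_map_eq_zero]
  intro x hx
  obtain ⟨c, s, rfl⟩ := IsLocalization.exists_mk'_eq q.primeCompl x
  have h1 : ψ' (IsLocalization.mk' (Localization.AtPrime q) c s) = 0 := by
    show e (ψ _) = 0
    rw [hx, map_zero]
  have h2 : g c = 0 := by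
    show ψ' (algebraMap C (Localization.AtPrime q) c) = 0
    rw [← IsLocalization.mk'_spec (Localization.AtPrime q) c s, map_mul, h1, zero_mul]
  have h3 : algebraMap C (Loc A L C π) c = 0 := by
    apply hlaminj
    rw [hlam, h2, map_zero]
  rw [IsLocalization.map_eq_zero_iff (RingHom.ker π).primeCompl] at h3
  obtain ⟨⟨t, ht⟩, htc⟩ := h3
  rw [IsLocalization.mk'_eq_zero_iff]
  refine ⟨⟨t, fun h => ht (RingHom.mem_ker.mpr ((hker t).mpr h))⟩, htc⟩

end Groth.Agent.Lib.Helper12.StrictStruct
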