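import Groth.Agent.Lib.Helper12.IndEtaleFibre
import Groth.Agent.Lib.Helper12.HensStruct
import Groth.Agent.Lib.Helper12.StrictStruct
import Groth.Agent.Lib.Helper12.HenselizationNoeth3
import Groth.Agent.Lib.Helper12.StrictNoeth

set_option autoImplicit false
universe u

/-!
# Fibres of the (strict) henselization of a noetherian local ring
-/

namespace Groth.Agent.Lib.Helper12.HensFibre

open TensorProduct IndEtaleFibre

variable (R S : Type u) [CommRing R] [IsLocalRing R] [CommRing S] [IsLocalRing S] [Algebra R S]
  [IsLocalHom (algebraMap R S)]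

theorem isIndEssEtale_of_isHenselization [Hensel.IsHenselization R S] : IsIndEssEtale R S := by
  intro s
  obtain ⟨i, ψ, -, -, hr⟩ := HensStruct.exists_nbhd_range R S s
  exact ⟨i.G, inferInstance, inferInstance,
    essFiniteType_of_isEssentiallyEtale i.isStrictlyEssentiallyEtale.1,
    formallyEtale_of_isEssentiallyEtale i.isStrictlyEssentiallyEtale.1, ψ, hr⟩

theorem isIndEssEtale_of_isStrictHenselization [Hensel.IsStrictHenselization R S] :
    IsIndEssEtale R S := by
  intro s
  obtain ⟨i, ψ, -, -, hr⟩ := StrictStruct.exists_nbhd_range R S s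
  exact ⟨i.G, inferInstance, inferInstance, inferInstance, inferInstance, ψ, hr⟩

theorem isNoetherianRing_of_isHenselization [IsNoetherianRing R] [Hensel.IsHenselization R S] :
    IsNoetherianRing S := by
  obtain ⟨e⟩ := Henselization.nonempty_algEquiv (A := R) S
  exact isNoetherianRing_of_ringEquiv _ e.symm.toRingEquiv

theorem isNoetherianRing_of_isStrictHenselization [IsNoetherianRing R]
    [Hensel.IsStrictHenselization R S] : IsNoetherianRing S := by
  obtain ⟨e⟩ := StrictHenselization.nonempty_algEquiv (A := R) S
  exact isNoetherianRing_of_ringEquiv _ e.symm.toRingEquiv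

/-- Noetherianity of the fibre ring. -/
theorem isNoetherianRing_fibre [IsNoetherianRing S] (p : Ideal R) [p.IsPrime] :
    IsNoetherianRing (p.ResidueField ⊗[R] S) := by
  haveI : Algebra.EssFiniteType S (S ⊗[R] p.ResidueField) := inferInstance
  haveI : IsNoetherianRing (S ⊗[R] p.ResidueField) :=
    Algebra.EssFiniteType.isNoetherianRing S _
  exact isNoetherianRing_of_ringEquiv _
    (Algebra.TensorProduct.comm R S p.ResidueField).toRingEquiv

end Groth.Agent.Lib.Helper12.HensFibre
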