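import Groth.Agent.Lib.Helper12.HenselSection
import Mathlib.RingTheory.Idempotents

set_option autoImplicit false
universe u

namespace Groth.Agent.Lib.Helper12

open IsLocalRing TensorProduct

/-- If `e` is an idempotent such that at most one maximal ideal avoids `e`, and `e ≠ 0`, then
`S ⧸ (1 - e)` is local. -/
theorem isLocalRing_quotient_of_idem {S : Type*} [CommRing S] (e : S) (he : IsIdempotentElem e)
    (hne : e ≠ 0)
    (H : ∀ Q₁ Q₂ : Ideal S, Q₁.IsMaximal → Q₂.IsMaximal → e ∉ Q₁ → e ∉ Q₂ → Q₁ = Q₂) :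
    IsLocalRing (S ⧸ Ideal.span {1 - e}) := by
  have hnt : Nontrivial (S ⧸ Ideal.span {1 - e}) := by
    rw [Ideal.Quotient.nontrivial_iff, Ne, Ideal.span_singleton_eq_top]
    intro hu
    have h1 : (1 - e) = 1 := by
      have := he.one_sub
      obtain ⟨u, hu⟩ := hu
      have h2 : (u : S) * u = u := by rw [hu]; exact this
      have := u.isUnit.mul_left_cancel (a := (u : S)) (b := (u : S)) (c := 1) (by rw [h2, mul_one])
      rw [← hu]; exact this
    apply hne
    linear_combination -h1
  have hmem : ∀ M : Ideal (S ⧸ Ideal.span {1 - e}), M.IsMaximal →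
      e ∉ Ideal.comap (Ideal.Quotient.mk (Ideal.span {1 - e})) M := by
    intro M hM hmem
    have h1 : (1 - e) ∈ Ideal.comap (Ideal.Quotient.mk (Ideal.span {1 - e})) M := by
      rw [Ideal.mem_comap, Ideal.Quotient.eq_zero_iff_mem.mpr (Ideal.mem_span_singleton_self _)]
      exact M.zero_mem
    have : (1 : S) ∈ Ideal.comap (Ideal.Quotient.mk (Ideal.span {1 - e})) M := by
      have := Ideal.add_mem _ hmem h1
      simpa using this
    exact (Ideal.comap_isMaximal_of_surjective _ Ideal.Quotient.mk_surjective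
      (K := M)).ne_top ((Ideal.eq_top_iff_one _).mpr this)
  refine IsLocalRing.of_unique_max_ideal ?_
  obtain ⟨M, hM⟩ := Ideal.exists_maximal (S ⧸ Ideal.span {1 - e})
  refine ⟨M, hM, fun M' hM' => ?_⟩
  apply Ideal.comap_injective_of_surjective _
    (Ideal.Quotient.mk_surjective (I := Ideal.span {1 - e}))
  exact H _ _ (Ideal.comap_isMaximal_of_surjective _ Ideal.Quotient.mk_surjective)
    (Ideal.comap_isMaximal_of_surjective _ Ideal.Quotient.mk_surjective) (hmem _ hM') (hmem _ hM)

/-- A finite algebra over a henselian local ring has a complete family of orthogonal idempotents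
cutting out local rings. -/
theorem exists_completeOrthogonalIdempotents_isLocalRing (R : Type u) [CommRing R]
    [HenselianLocalRing R] (S : Type u) [CommRing S] [Algebra R S] [Module.Finite R S] :
    ∃ (ι : Type u) (_ : Fintype ι) (e : ι → S), CompleteOrthogonalIdempotents e ∧
      ∀ i, IsLocalRing (S ⧸ Ideal.span {1 - e i}) := by
  classical
  obtain ⟨R', _, _, _, P, _, _, n, e, he, P', _, _, hP, hP', H⟩ :=
    Algebra.exists_etale_completeOrthogonalIdempotents_forall_liesOver_eq (R := R) (S := S)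
      (maximalIdeal R)
  obtain ⟨s, hs⟩ := exists_section_of_etale R R' P hP
  let π : R' ⊗[R] S →ₐ[R] S :=
    Algebra.TensorProduct.lift ((Algebra.ofId R S).comp s) (AlgHom.id R S)
      (fun _ _ => Commute.all _ _)
  have hπ : Function.Surjective π := fun x => ⟨1 ⊗ₜ x, by simp [π]⟩
  let e' : Fin (n + 1) → S := fun i => π (e i)
  have he' : CompleteOrthogonalIdempotents e' := he.map π.toRingHom
  -- primes
  have key : ∀ Q : Ideal S, Q.IsMaximal →
      (Ideal.comap π.toRingHom Q).IsPrime ∧ (Ideal.comap π.toRingHom Q).LiesOver P := by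
    intro Q hQ
    refine ⟨Ideal.comap_isPrime _ _, ⟨?_⟩⟩
    have hQm : Ideal.comap (algebraMap R S) Q = maximalIdeal R :=
      IsLocalRing.eq_maximalIdeal (Ideal.isMaximal_comap_of_isIntegral_of_isMaximal Q)
    rw [Ideal.under, Ideal.comap_comap, ← hs, ← hQm, Ideal.comap_comap]
    congr 1
    ext x
    simp [π, Algebra.TensorProduct.algebraMap_apply, Algebra.ofId_apply]
  have hloc : ∀ i : Fin (n + 1), e' i ≠ 0 → IsLocalRing (S ⧸ Ideal.span {1 - e' i}) := by
    intro i hi
    refine isLocalRing_quotient_of_idem (e' i) (he'.idem i) hi ?_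
    intro Q₁ Q₂ hQ₁ hQ₂ h₁ h₂
    obtain ⟨hp₁, hl₁⟩ := key Q₁ hQ₁
    obtain ⟨hp₂, hl₂⟩ := key Q₂ hQ₂
    have H₁ := H _ hp₁ hl₁
    have H₂ := H _ hp₂ hl₂
    induction i using Fin.lastCases with
    | last => exact absurd H₁.1 h₁
    | cast k =>
      apply Ideal.comap_injective_of_surjective π.toRingHom hπ
      rw [H₁.2 k h₁, H₂.2 k h₂]
  let I := {i : Fin (n + 1) // e' i ≠ 0}
  have hcoi : CompleteOrthogonalIdempotents (fun i : I => e' i.1) := by
    refine ⟨he'.1.embedding (Function.Embedding.subtype _), ?_⟩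
    calc ∑ i : I, e' i.1 = ∑ i ∈ Finset.univ.filter (fun i => e' i ≠ 0), e' i :=
          (Finset.sum_subtype _ (fun x => by simp) _).symm
      _ = ∑ i, e' i := Finset.sum_filter_ne_zero _
      _ = 1 := he'.complete
  refine ⟨ULift.{u} I, inferInstance, fun i => e' i.down.1,
    (CompleteOrthogonalIdempotents.equiv Equiv.ulift).mpr hcoi, ?_⟩
  intro i
  exact hloc i.down.1 i.down.2

end Groth.Agent.Lib.Helper12
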