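import Groth.Agent.Lib.Helper12.HenselIntegralLocal
import Groth.Agent.Lib.Helper12.HenselFinite

set_option autoImplicit false
universe u

/-!
# Domains integral over a henselian local ring are henselian local
-/

namespace Groth.Agent.Lib.Helper12

open IsLocalRing

/-- A domain finite over a henselian local ring is local. -/
theorem isLocalRing_of_finite_of_isDomain (A : Type u) [CommRing A] [HenselianLocalRing A]
    (S : Type u) [CommRing S] [IsDomain S] [Algebra A S] [Module.Finite A S] : IsLocalRing S := by
  classical
  obtain ⟨ι, _, e, he, hloc⟩ := exists_completeOrthogonalIdempotents_isLocalRing A S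
  have hne : ∃ i, e i ≠ 0 := by
    by_contra h
    push_neg at h
    have := he.complete
    simp only [h, Finset.sum_const_zero] at this
    exact zero_ne_one this
  obtain ⟨i, hi⟩ := hne
  have h1 : e i = 1 := by
    have hid : e i * (e i - 1) = 0 := by
      rw [mul_sub, mul_one, (he.idem i).eq, sub_self]
    rcases mul_eq_zero.mp hid with h | h
    · exact absurd h hi
    · exact sub_eq_zero.mp h
  have hl := hloc i
  rw [h1, sub_self] at hl
  have hbot : Ideal.span ({0} : Set S) = ⊥ := by
    rw [Ideal.span_singleton_eq_bot]
  rw [hbot] at hl
  haveI := hl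
  exact (RingEquiv.quotientBot S).isLocalRing

/-- A domain integral over a henselian local ring is local. -/
theorem isLocalRing_of_isIntegral_of_isDomain (A : Type u) [CommRing A] [HenselianLocalRing A]
    (B : Type u) [CommRing B] [IsDomain B] [Algebra A B] [Algebra.IsIntegral A B] :
    IsLocalRing B := by
  refine IsLocalRing.of_isUnit_or_isUnit_one_sub_self fun b => ?_
  let S : Subalgebra A B := Algebra.adjoin A {b}
  haveI : Module.Finite A S := by
    have : S.toSubmodule.FG := (Algebra.IsIntegral.isIntegral b).fg_adjoin_singleton
    exact Module.Finite.iff_fg.mpr this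
  haveI : IsLocalRing S := isLocalRing_of_finite_of_isDomain A S
  let b' : S := ⟨b, Algebra.self_mem_adjoin_singleton A b⟩
  rcases IsLocalRing.isUnit_or_isUnit_one_sub_self b' with h | h
  · exact Or.inl (h.map S.val)
  · exact Or.inr (by simpa using h.map S.val)

end Groth.Agent.Lib.Helper12
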