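import Mathlib

/-!
# Minimal primes in a common maximal ideal: an abstract criterion

If `T` embeds into a von Neumann regular ring `U` all of whose idempotents come from `T`, then two
minimal primes of `T` contained in a common proper ideal are equal.  Also: base change of an
injective faithfully flat map stays injective.
-/

set_option autoImplicit false
universe u

namespace Groth.Agent.Lib.Helper12.NormRedMax

open TensorProduct

/-- An element of a minimal prime is killed, up to a power, by an element outside. -/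
theorem exists_notMem_pow_mul_eq_zero {T : Type*} [CommRing T] {Q : Ideal T}
    (hQ : Q ∈ minimalPrimes T) {x : T} (hx : x ∈ Q) : ∃ y ∉ Q, ∃ n : ℕ, x ^ n * y = 0 := by
  haveI : Q.IsPrime := hQ.1.1
  by_contra hcon
  push Not at hcon
  let S : Submonoid T := Submonoid.powers x ⊔ Q.primeCompl
  have hdisj : Disjoint ((⊥ : Ideal T) : Set T) (S : Set T) := by
    rw [Set.disjoint_left]
    intro t ht htS
    rw [SetLike.mem_coe, Ideal.mem_bot] at ht
    rw [SetLike.mem_coe, Submonoid.mem_sup] at htS
    obtain ⟨a, ⟨n, rfl⟩, y, hy, hay⟩ := htS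
    exact hcon y hy n (by rw [← ht]; exact hay)
  obtain ⟨P, hP, -, hPS⟩ := Ideal.exists_le_prime_disjoint ⊥ S hdisj
  have hPQ : P ≤ Q := by
    intro t ht
    by_contra htQ
    exact Set.disjoint_left.mp hPS ht (Submonoid.mem_sup_right htQ)
  have hQP : Q ≤ P := hQ.2 ⟨hP, bot_le⟩ hPQ
  exact Set.disjoint_left.mp hPS (hQP hx) (Submonoid.mem_sup_left (Submonoid.mem_powers x))

/-- In a von Neumann regular ring nilpotents vanish. -/
theorem eq_zero_of_pow_eq_zero_of_vnr {U : Type*} [CommRing U]
    (hvnr : ∀ u : U, ∃ z, u = u * u * z) (u : U) (n : ℕ) (hn : u ^ n = 0) : u = 0 := by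
  obtain ⟨z, hz⟩ := hvnr u
  have key : ∀ k : ℕ, u = u ^ (k + 1) * z ^ k := by
    intro k
    induction k with
    | zero => simp
    | succ k ih =>
      calc u = u ^ (k + 1) * z ^ k := ih
        _ = u ^ k * u * z ^ k := by rw [pow_succ]
        _ = u ^ k * (u * u * z) * z ^ k := by rw [← hz]
        _ = u ^ (k + 1 + 1) * z ^ (k + 1) := by ring
  rw [key n, pow_succ, hn, zero_mul, zero_mul]

/-- The abstract criterion. -/
theorem eq_of_le_of_vnr {T U : Type*} [CommRing T] [CommRing U] (j : T →+* U)
    (hj : Function.Injective j) (hvnr : ∀ u : U, ∃ z, u = u * u * z)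
    (hidem : ∀ e : U, e * e = e → e ∈ j.range)
    {Q1 Q2 M : Ideal T} (hQ1 : Q1 ∈ minimalPrimes T) (hQ2 : Q2 ∈ minimalPrimes T)
    (hM : M ≠ ⊤) (h1 : Q1 ≤ M) (h2 : Q2 ≤ M) : Q1 = Q2 := by
  haveI : Q1.IsPrime := hQ1.1.1
  haveI : Q2.IsPrime := hQ2.1.1
  by_contra hne
  have hnle : ¬ Q1 ≤ Q2 := fun hle => hne (le_antisymm hle (hQ2.2 hQ1.1 hle))
  obtain ⟨x, hx1, hx2⟩ := SetLike.not_le_iff_exists.mp hnle
  obtain ⟨y, hy, n, hxy⟩ := exists_notMem_pow_mul_eq_zero hQ1 hx1
  have hxy0 : x * y = 0 := by
    apply hj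
    rw [map_zero]
    apply eq_zero_of_pow_eq_zero_of_vnr hvnr _ (n + 1)
    rw [← map_pow]
    have : (x * y) ^ (n + 1) = x ^ n * y * (x * y ^ n) := by ring
    rw [this, hxy, zero_mul, map_zero]
  obtain ⟨z, hz⟩ := hvnr (j x)
  have hee : (j x * z) * (j x * z) = j x * z := by
    calc (j x * z) * (j x * z) = (j x * j x * z) * z := by ring
      _ = j x * z := by rw [← hz]
  obtain ⟨e, he⟩ := hidem _ hee
  have hxe : x * e = x := by
    apply hj
    rw [map_mul, he]
    calc j x * (j x * z) = j x * j x * z := by ring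
      _ = j x := hz.symm
  have hye : y * e = 0 := by
    apply hj
    rw [map_mul, he, map_zero]
    calc j y * (j x * z) = j (x * y) * z := by rw [map_mul]; ring
      _ = 0 := by rw [hxy0, map_zero, zero_mul]
  have hee' : e * e = e := by
    apply hj
    rw [map_mul, he, hee]
  have he2 : e ∉ Q2 := fun h => hx2 (by rw [← hxe]; exact Ideal.mul_mem_left _ _ h)
  have h1e : 1 - e ∈ Q2 := by
    have : e * (1 - e) ∈ Q2 := by
      rw [mul_sub, mul_one, hee', sub_self]; exact zero_mem _
    exact (Ideal.IsPrime.mem_or_mem ‹_› this).resolve_left he2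
  have he1 : e ∈ Q1 := by
    have : y * e ∈ Q1 := by rw [hye]; exact zero_mem _
    exact (Ideal.IsPrime.mem_or_mem ‹_› this).resolve_left hy
  apply hM
  rw [Ideal.eq_top_iff_one]
  have := M.add_mem (h1 he1) (h2 h1e)
  rwa [add_sub_cancel] at this

/-- Base change of a faithfully flat ring map is injective on every tensor product. -/
theorem map_injective_of_faithfullyFlat (R E S K : Type*) [CommRing R] [CommRing E] [CommRing S]
    [Algebra R E] [Algebra R S] [Algebra E S] [IsScalarTower R E S] [Module.FaithfullyFlat E S]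
    [CommRing K] [Algebra R K] :
    Function.Injective
      (Algebra.TensorProduct.map (IsScalarTower.toAlgHom R E S) (AlgHom.id R K)) := by
  have h1 : Function.Injective (TensorProduct.mk E S (E ⊗[R] K) 1) :=
    Module.FaithfullyFlat.tensorProduct_mk_injective (A := E) (B := S) (E ⊗[R] K)
  let c := TensorProduct.AlgebraTensorModule.cancelBaseChange R E S S K
  have h2 : ∀ x : E ⊗[R] K,
      Algebra.TensorProduct.map (IsScalarTower.toAlgHom R E S) (AlgHom.id R K) x =
        c (TensorProduct.mk E S (E ⊗[R] K) 1 x) := by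
    intro x
    induction x using TensorProduct.induction_on with
    | zero => simp
    | tmul a b =>
      rw [Algebra.TensorProduct.map_tmul, TensorProduct.mk_apply,
        TensorProduct.AlgebraTensorModule.cancelBaseChange_tmul, Algebra.smul_def, mul_one]
      rfl
    | add x y hx hy => rw [map_add, map_add, map_add, hx, hy]
  intro x y hxy
  rw [h2, h2] at hxy
  exact h1 (c.injective hxy)

end Groth.Agent.Lib.Helper12.NormRedMax
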