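import Groth.Agent.Lib.Helper12.EssEtale2
import Mathlib.RingTheory.Smooth.Flat
import Mathlib.RingTheory.Flat.Localization
import Mathlib.RingTheory.Flat.Stability

set_option autoImplicit false
universe u

namespace Groth.Agent.Lib.Helper12

theorem flat_of_isEssentiallyEtale {A A₁ : Type u} [CommRing A] [IsLocalRing A] [CommRing A₁]
    [Algebra A A₁] (h : EGA4loc.IsEssentiallyEtale A A₁) : Module.Flat A A₁ := by
  obtain ⟨C, _, _, q, _, hC, -, ⟨e⟩⟩ := h
  haveI : Module.Flat A (Localization.AtPrime q) := Module.Flat.trans A C _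
  exact Module.Flat.of_linearEquiv e.toLinearEquiv

end Groth.Agent.Lib.Helper12
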