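import Mathlib
import Groth.Agent.Lib.Helper12.EssEtaleFlat
import Groth.Agent.Lib.Helper12.IndEtaleFibre

/-!
# Normality ascends along ind-(essentially étale) local algebras

Uses Mathlib's `TensorProduct.toIntegralClosure_bijective_of_smooth`.
-/

set_option autoImplicit false
universe u

namespace Groth.Agent.Lib.Helper12.NormalEtale

open TensorProduct Polynomial

/-- `E` is "integrally closed in `E[1/(R∖0)]`", stated inside `E`. -/
def DivProp (R E : Type*) [CommRing R] [CommRing E] [Algebra R E] : Prop :=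
  ∀ (s : E) (r : R), r ≠ 0 → ∀ p : E[X], p.Monic →
    eval s (scaleRoots p (algebraMap R E r)) = 0 → ∃ e, s = algebraMap R E r * e

section Step1

variable {R : Type u} [CommRing R] [IsDomain R] [IsIntegrallyClosed R]

theorem toIntegralClosure_tmul {R S B : Type*} [CommRing R] [CommRing S] [Algebra R S] [CommRing B]
    [Algebra R B] (a : S) (b : integralClosure R B) :
    ((TensorProduct.toIntegralClosure R S B (a ⊗ₜ b) : integralClosure S (S ⊗[R] B)) : S ⊗[R] B) =
      a ⊗ₜ (b : B) := rfl

theorem divProp_of_surjective (E : Type u) [CommRing E] [Algebra R E] [Module.Flat R E]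
    (H : Function.Surjective (TensorProduct.toIntegralClosure R E (FractionRing R))) :
    DivProp R E := by
  intro s r hr p hp hps
  let K := FractionRing R
  let ι : E →+* E ⊗[R] K := algebraMap E (E ⊗[R] K)
  have hι : Function.Injective ι :=
    Algebra.TensorProduct.includeLeft_injective (S := E) (IsFractionRing.injective R K)
  have hrK : algebraMap R K r ≠ 0 := by
    rwa [Ne, IsFractionRing.to_map_eq_zero_iff]
  let y : E ⊗[R] K := s ⊗ₜ (algebraMap R K r)⁻¹
  have hry : ι (algebraMap R E r) * y = ι s := by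
    show (algebraMap R E r) ⊗ₜ[R] (1 : K) * (s ⊗ₜ[R] (algebraMap R K r)⁻¹) = s ⊗ₜ[R] (1 : K)
    rw [Algebra.TensorProduct.tmul_mul_tmul, one_mul, ← Algebra.smul_def, TensorProduct.smul_tmul,
      Algebra.smul_def, mul_inv_cancel₀ hrK]
  have hunit : IsUnit (ι (algebraMap R E r)) := by
    have : ι (algebraMap R E r) = (1 : E) ⊗ₜ[R] (algebraMap R K r) := by
      show (algebraMap R E r) ⊗ₜ[R] (1 : K) = (1 : E) ⊗ₜ[R] (algebraMap R K r)
      rw [Algebra.algebraMap_eq_smul_one, Algebra.algebraMap_eq_smul_one, TensorProduct.smul_tmul]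
    rw [this]
    refine IsUnit.of_mul_eq_one ((1 : E) ⊗ₜ[R] (algebraMap R K r)⁻¹) ?_
    rw [Algebra.TensorProduct.tmul_mul_tmul, one_mul, mul_inv_cancel₀ hrK]
    rfl
  have hy : IsIntegral E y := by
    refine ⟨p, hp, ?_⟩
    have h1 := Polynomial.scaleRoots_eval₂_mul (p := p) ι y (algebraMap R E r)
    rw [hry, Polynomial.eval₂_at_apply, hps, map_zero] at h1
    exact ((hunit.pow _).mul_right_eq_zero).mp h1.symm
  obtain ⟨z, hz⟩ := H ⟨y, hy⟩
  have hrange : ∀ z : E ⊗[R] integralClosure R K, ∃ e : E,
      ((TensorProduct.toIntegralClosure R E K z : integralClosure E (E ⊗[R] K)) : E ⊗[R] K) =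
        ι e := by
    intro z
    induction z using TensorProduct.induction_on with
    | zero => exact ⟨0, by simp⟩
    | tmul a b =>
      obtain ⟨c, hc⟩ := IsIntegrallyClosed.isIntegral_iff.mp b.2
      refine ⟨c • a, ?_⟩
      rw [toIntegralClosure_tmul, ← hc]
      show a ⊗ₜ[R] (algebraMap R K c) = (c • a) ⊗ₜ[R] (1 : K)
      rw [Algebra.algebraMap_eq_smul_one, TensorProduct.smul_tmul]
    | add z w hz hw =>
      obtain ⟨e1, h1⟩ := hz
      obtain ⟨e2, h2⟩ := hw
      exact ⟨e1 + e2, by rw [map_add, map_add, ← h1, ← h2]; rfl⟩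
  obtain ⟨e, he⟩ := hrange z
  refine ⟨e, hι ?_⟩
  rw [map_mul, ← he, hz, hry]

theorem divProp_atPrime (C : Type u) [CommRing C] [Algebra R C] [Algebra.Etale R C]
    (q : Ideal C) [q.IsPrime] : DivProp R (Localization.AtPrime q) := by
  haveI : Module.Flat R (Localization.AtPrime q) := Module.Flat.trans R C _
  apply divProp_of_surjective
  exact (TensorProduct.toIntegralClosure_bijective_of_tower (S := C)
    TensorProduct.toIntegralClosure_bijective_of_smooth
    (TensorProduct.toIntegralClosure_bijective_of_isLocalization q.primeCompl)).2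

theorem divProp_of_struct (S : Type u) [CommRing S] [Nontrivial S] [Algebra R S]
    (h : ∀ s : Finset S, ∃ (E : Type u) (_ : CommRing E) (_ : Algebra R E) (ψ : E →ₐ[R] S),
      DivProp R E ∧ Function.Injective ψ ∧ ∀ x ∈ s, x ∈ ψ.range) : DivProp R S := by
  classical
  intro s r hr p hp hps
  obtain ⟨E, _, _, ψ, hE, hinj, hrange⟩ := h (insert s p.coeffs)
  have hpl : p ∈ Polynomial.lifts (ψ : E →+* S) := by
    rw [Polynomial.lifts_iff_coeff_lifts]
    intro n
    by_cases hn : p.coeff n = 0
    · exact ⟨0, by simp [hn]⟩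
    · exact hrange _ (Finset.mem_insert_of_mem (Polynomial.coeff_mem_coeffs hn))
  obtain ⟨q, hq, -, hqm⟩ := Polynomial.lifts_and_degree_eq_and_monic hpl hp
  obtain ⟨s', hs''⟩ := hrange s (Finset.mem_insert_self _ _)
  have hs' : ψ s' = s := hs''
  have h0 : eval s' (scaleRoots q (algebraMap R E r)) = 0 := by
    apply hinj
    have h1 : (ψ : E →+* S) q.leadingCoeff ≠ 0 := by
      rw [hqm.leadingCoeff, map_one]; exact one_ne_zero
    have h2 := Polynomial.map_scaleRoots q (algebraMap R E r) (ψ : E →+* S) h1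
    rw [hq] at h2
    have h3 : (ψ : E →+* S) (algebraMap R E r) = algebraMap R S r := ψ.commutes r
    rw [h3] at h2
    rw [map_zero, ← hps, ← h2, Polynomial.eval_map]
    have : s = (ψ : E →+* S) s' := hs'.symm
    rw [this, Polynomial.eval₂_at_apply]
    rfl
  obtain ⟨e, he⟩ := hE s' r hr q hqm h0
  exact ⟨ψ e, by rw [← hs', he, map_mul, AlgHom.commutes]⟩

end Step1

section Step3

variable {R : Type u} [CommRing R] [IsDomain R] {S : Type u} [CommRing S] [Algebra R S]

theorem exists_inv_tmul (z : FractionRing R ⊗[R] S) :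
    ∃ (r : R) (s' : S), r ≠ 0 ∧ z = (algebraMap R (FractionRing R) r)⁻¹ ⊗ₜ[R] s' := by
  induction z using TensorProduct.induction_on with
  | zero => exact ⟨1, 0, one_ne_zero, by simp⟩
  | tmul k s =>
    obtain ⟨a, b, hb, rfl⟩ := IsFractionRing.div_surjective (A := R) k
    refine ⟨b, a • s, nonZeroDivisors.ne_zero hb, ?_⟩
    rw [← TensorProduct.smul_tmul, Algebra.smul_def, div_eq_mul_inv]
  | add z w hz hw =>
    obtain ⟨r1, s1, hr1, rfl⟩ := hz
    obtain ⟨r2, s2, hr2, rfl⟩ := hw
    refine ⟨r1 * r2, r2 • s1 + r1 • s2, mul_ne_zero hr1 hr2, ?_⟩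
    have h1 : algebraMap R (FractionRing R) r1 ≠ 0 := by
      rwa [Ne, IsFractionRing.to_map_eq_zero_iff]
    have h2 : algebraMap R (FractionRing R) r2 ≠ 0 := by
      rwa [Ne, IsFractionRing.to_map_eq_zero_iff]
    rw [TensorProduct.tmul_add, ← TensorProduct.smul_tmul, ← TensorProduct.smul_tmul,
      Algebra.smul_def, Algebra.smul_def, map_mul]
    congr 2
    · field_simp
    · field_simp

theorem exists_vnr [Module.Flat R S] (hS : IndEtaleFibre.IsIndEssEtale R S) (s : S) :
    ∃ (s' : S) (r : R), r ≠ 0 ∧ algebraMap R S r * s = s * s * s' := by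
  let K := FractionRing R
  obtain ⟨z, hz⟩ := IndEtaleFibre.exists_mul_self_mul_tensor (κ := K) hS ((1 : K) ⊗ₜ[R] s)
  obtain ⟨r, s', hr, rfl⟩ := exists_inv_tmul z
  refine ⟨s', r, hr, ?_⟩
  have hrK : algebraMap R K r ≠ 0 := by
    rwa [Ne, IsFractionRing.to_map_eq_zero_iff]
  have hinj : Function.Injective (Algebra.TensorProduct.includeRight : S →ₐ[R] K ⊗[R] S) :=
    Algebra.TensorProduct.includeRight_injective (IsFractionRing.injective R K)
  apply hinj
  show (1 : K) ⊗ₜ[R] (algebraMap R S r * s) = (1 : K) ⊗ₜ[R] (s * s * s')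
  have h1 : (1 : K) ⊗ₜ[R] (algebraMap R S r * s) = r • ((1 : K) ⊗ₜ[R] s) := by
    rw [← Algebra.smul_def, TensorProduct.tmul_smul]
  rw [h1, hz, Algebra.TensorProduct.tmul_mul_tmul, Algebra.TensorProduct.tmul_mul_tmul,
    TensorProduct.smul_tmul', Algebra.smul_def, one_mul, one_mul, mul_inv_cancel₀ hrK]

end Step3

section Step4

variable {R : Type u} [CommRing R] [IsDomain R] {S : Type u} [CommRing S] [Algebra R S]

theorem isDomain_and_isIntegrallyClosed [IsLocalRing S]
    (hreg : ∀ r : R, r ≠ 0 → ∀ x : S, algebraMap R S r * x = 0 → x = 0)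
    (hdiv : DivProp R S)
    (hvnr : ∀ s : S, ∃ (s' : S) (r : R), r ≠ 0 ∧ algebraMap R S r * s = s * s * s') :
    IsDomain S ∧ IsIntegrallyClosed S := by
  have key : ∀ s : S, s = 0 ∨ ∃ (s' : S) (r : R), r ≠ 0 ∧ s * s' = algebraMap R S r := by
    intro s
    obtain ⟨s', r, hr, h⟩ := hvnr s
    have ht : (s * s') * (s * s') = algebraMap R S r * (s * s') := by
      calc (s * s') * (s * s') = (s * s * s') * s' := by ring
        _ = algebraMap R S r * s * s' := by rw [← h]
        _ = algebraMap R S r * (s * s') := by ring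
    have hmonic : (X * (X - C (1 : S))).Monic := (monic_X).mul (monic_X_sub_C 1)
    have hsr : scaleRoots (X * (X - C (1 : S))) (algebraMap R S r) =
        X * (X - C (algebraMap R S r)) := by
      have hlc : (X : S[X]).leadingCoeff * (X - C (1 : S)).leadingCoeff ≠ 0 := by
        rw [monic_X.leadingCoeff, (monic_X_sub_C 1).leadingCoeff, one_mul]
        exact one_ne_zero
      rw [mul_scaleRoots' _ _ _ hlc, X_sub_C_scaleRoots, one_mul]
      congr 1
      have := X_add_C_scaleRoots (0 : S) (algebraMap R S r)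
      simpa using this
    obtain ⟨e, he⟩ := hdiv (s * s') r hr _ hmonic (by
      rw [hsr]
      simp only [eval_mul, eval_X, eval_sub, eval_C]
      rw [mul_sub, ht]; ring)
    have hee : e * e = e := by
      have h1 : algebraMap R S r * (algebraMap R S r * (e * e - e)) = 0 := by
        calc algebraMap R S r * (algebraMap R S r * (e * e - e))
            = (algebraMap R S r * e) * (algebraMap R S r * e) -
              algebraMap R S r * (algebraMap R S r * e) := by ring
          _ = 0 := by rw [← he, ht, sub_self]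
      exact sub_eq_zero.mp (hreg r hr _ (hreg r hr _ h1))
    have he01 : e = 0 ∨ e = 1 := by
      have h1 : e * (1 - e) = 0 := by rw [mul_sub, mul_one, hee, sub_self]
      rcases IsLocalRing.isUnit_or_isUnit_one_sub_self e with hu | hu
      · right
        have := hu.mul_right_eq_zero.mp h1
        exact (sub_eq_zero.mp this).symm
      · left
        exact hu.mul_left_eq_zero.mp h1
    rcases he01 with h0 | h1
    · left
      apply hreg r hr
      rw [h, mul_assoc, he, h0, mul_zero, mul_zero]
    · right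
      exact ⟨s', r, hr, by rw [he, h1, mul_one]⟩
  have hdom : IsDomain S := by
    haveI : NoZeroDivisors S := ⟨by
      intro x y hxy
      rcases key x with rfl | ⟨x', r, hr, hx⟩
      · exact Or.inl rfl
      · right
        apply hreg r hr
        rw [← hx]
        calc x * x' * y = x' * (x * y) := by ring
          _ = 0 := by rw [hxy, mul_zero]⟩
    exact NoZeroDivisors.to_isDomain S
  refine ⟨hdom, ?_⟩
  rw [isIntegrallyClosed_iff (FractionRing S)]
  intro x hx
  obtain ⟨p, hp, hpx⟩ := hx
  obtain ⟨a, b, hb, rfl⟩ := IsFractionRing.div_surjective (A := S) x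
  have hb0 : b ≠ 0 := nonZeroDivisors.ne_zero hb
  rcases key b with h | ⟨b', r, hr, hbb'⟩
  · exact absurd h hb0
  let f := algebraMap S (FractionRing S)
  have hfinj : Function.Injective f := IsFractionRing.injective S (FractionRing S)
  have hr0 : algebraMap R S r ≠ 0 := by
    intro h0
    have := hreg r hr 1 (by rw [h0, zero_mul])
    exact one_ne_zero this
  have hb'0 : b' ≠ 0 := by
    rintro rfl
    rw [mul_zero] at hbb'
    exact hr0 hbb'.symm
  have hfb : f b ≠ 0 := fun h => hb0 (hfinj (by rw [h, map_zero]))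
  have hx' : f (algebraMap R S r) * (f a / f b) = f (a * b') := by
    rw [← hbb', map_mul, map_mul]
    field_simp
  have h0 : eval (a * b') (scaleRoots p (algebraMap R S r)) = 0 := by
    apply hfinj
    rw [map_zero, ← Polynomial.eval₂_at_apply, ← hx', scaleRoots_eval₂_mul, hpx, mul_zero]
  obtain ⟨e, he⟩ := hdiv (a * b') r hr p hp h0
  refine ⟨e, ?_⟩
  have hab : a = b * e := by
    apply mul_left_cancel₀ hb'0
    calc b' * a = a * b' := mul_comm _ _
      _ = algebraMap R S r * e := he
      _ = b' * (b * e) := by rw [← hbb']; ring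
  show f e = f a / f b
  rw [hab, map_mul]
  field_simp

end Step4

section Main

theorem ascend (R S : Type u) [CommRing R] [IsDomain R] [IsIntegrallyClosed R] [IsLocalRing R]
    [CommRing S] [IsLocalRing S] [Algebra R S] [Module.Flat R S]
    (hstruct : ∀ s : Finset S, ∃ (E : Type u) (_ : CommRing E) (_ : Algebra R E) (ψ : E →ₐ[R] S),
      EGA4loc.IsEssentiallyEtale R E ∧ Function.Injective ψ ∧ ∀ x ∈ s, x ∈ ψ.range) :
    IsDomain S ∧ IsIntegrallyClosed S := by
  have hS : IndEtaleFibre.IsIndEssEtale R S := by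
    intro s
    obtain ⟨E, _, _, ψ, hE, -, hr⟩ := hstruct s
    exact ⟨E, inferInstance, inferInstance, essFiniteType_of_isEssentiallyEtale hE,
      formallyEtale_of_isEssentiallyEtale hE, ψ, hr⟩
  have hdiv : DivProp R S := by
    apply divProp_of_struct
    intro s
    obtain ⟨E, _, _, ψ, hE, hinj, hr⟩ := hstruct s
    obtain ⟨C, _, _, q, _, hC, -, ⟨e⟩⟩ := hE
    refine ⟨Localization.AtPrime q, inferInstance, inferInstance,
      ψ.comp (e.symm : Localization.AtPrime q →ₐ[R] E), divProp_atPrime C q,
      hinj.comp e.symm.injective, fun x hx => ?_⟩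
    obtain ⟨y, hy⟩ := hr x hx
    refine ⟨e y, ?_⟩
    show ψ (e.symm (e y)) = x
    rw [e.symm_apply_apply]
    exact hy
  have hreg : ∀ r : R, r ≠ 0 → ∀ x : S, algebraMap R S r * x = 0 → x = 0 := by
    intro r hr x hx
    have h1 : IsSMulRegular S r :=
      Module.Flat.isSMulRegular_of_nonZeroDivisors (mem_nonZeroDivisors_of_ne_zero hr)
    apply h1
    show r • x = r • (0 : S)
    rw [smul_zero, Algebra.smul_def, hx]
  exact isDomain_and_isIntegrallyClosed hreg hdiv (exists_vnr hS)

theorem descend (R S : Type u) [CommRing R] [CommRing S] [Algebra R S]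
    [Module.FaithfullyFlat R S] [IsDomain S] [IsIntegrallyClosed S] :
    IsDomain R ∧ IsIntegrallyClosed R := by
  have hinj : Function.Injective (algebraMap R S) := FaithfulSMul.algebraMap_injective R S
  haveI hdom : IsDomain R := hinj.isDomain (algebraMap R S)
  refine ⟨hdom, ?_⟩
  rw [isIntegrallyClosed_iff (FractionRing R)]
  intro x hx
  obtain ⟨p, hp, hpx⟩ := hx
  obtain ⟨a, b, hb, rfl⟩ := IsFractionRing.div_surjective (A := R) x
  have hb0 : b ≠ 0 := nonZeroDivisors.ne_zero hb
  let φ := algebraMap R S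
  let f := algebraMap S (FractionRing S)
  have hfinj : Function.Injective f := IsFractionRing.injective S (FractionRing S)
  -- polynomial identity in `R`
  have h1 : eval a (scaleRoots p b) = 0 := by
    have := scaleRoots_aeval_eq_zero_of_aeval_div_eq_zero
      (IsFractionRing.injective R (FractionRing R)) (p := p) (r := a) (s := b) hpx hb
    apply IsFractionRing.injective R (FractionRing R)
    rw [map_zero, ← this, Polynomial.aeval_def, Polynomial.eval₂_at_apply]
  -- the image of `a/b` in `Frac S` is integral over `S`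
  have hφb : f (φ b) ≠ 0 := fun h => hb0 (hinj (hfinj (by rw [h, map_zero, map_zero])))
  have hint : IsIntegral S (f (φ a) / f (φ b)) := by
    refine ⟨p.map φ, hp.map φ, ?_⟩
    have h2 := scaleRoots_eval₂_mul (p := p.map φ) f (f (φ a) / f (φ b)) (φ b)
    have h3 : f (φ b) * (f (φ a) / f (φ b)) = f (φ a) := by field_simp
    have h4 : (φ : R →+* S) p.leadingCoeff ≠ 0 := by
      rw [hp.leadingCoeff, map_one]; exact one_ne_zero
    rw [h3, ← map_scaleRoots p b φ h4, Polynomial.eval₂_at_apply, Polynomial.eval_map,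
      Polynomial.eval₂_at_apply, h1, map_zero, map_zero] at h2
    exact (mul_eq_zero.mp h2.symm).resolve_left (pow_ne_zero _ hφb)
  obtain ⟨s, hs⟩ := IsIntegrallyClosed.isIntegral_iff.mp hint
  have hs' : φ a = φ b * s := by
    apply hfinj
    rw [map_mul, hs]
    field_simp
  have hmem : a ∈ ((Ideal.span {b}).map φ).comap φ := by
    rw [Ideal.mem_comap, hs']
    exact Ideal.mul_mem_right _ _ (Ideal.mem_map_of_mem _ (Ideal.mem_span_singleton_self b))
  rw [Ideal.comap_map_eq_self_of_faithfullyFlat, Ideal.mem_span_singleton'] at hmem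
  obtain ⟨c, hc⟩ := hmem
  refine ⟨c, ?_⟩
  have hbK : algebraMap R (FractionRing R) b ≠ 0 := by
    rwa [Ne, IsFractionRing.to_map_eq_zero_iff]
  rw [← hc, map_mul]
  field_simp

end Main

end Groth.Agent.Lib.Helper12.NormalEtale
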