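import Groth.Agent.Lib.Helper12.StrictStruct2

set_option autoImplicit false
universe u

/-!
# Divisibility descends from a strict henselization to its étale neighbourhoods
-/

namespace Groth.Agent.Lib.Helper12.StrictStruct

open IsLocalRing PtNbhd

variable {A : Type u} [CommRing A] [IsLocalRing A]

theorem of_dvd (i : PtNbhd.Nbhd A (SepCl A)) (y z : i.G)
    (h : ∃ x : StrictHenselization A, Lim.of A (SepCl A) i y * x = Lim.of A (SepCl A) i z) :
    ∃ x' : i.G, y * x' = z := by
  letI := StrictHenselization.algebraOver i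
  haveI := StrictHenselization.faithfullyFlat_over i
  obtain ⟨x, hx⟩ := h
  have h1 : z ∈ ((Ideal.span {y}).map (algebraMap i.G (StrictHenselization A))).comap
      (algebraMap i.G (StrictHenselization A)) := by
    rw [Ideal.mem_comap, Ideal.map_span, Set.image_singleton, Ideal.mem_span_singleton']
    exact ⟨x, by rw [mul_comm]; exact hx⟩
  rw [Ideal.comap_map_eq_self_of_faithfullyFlat, Ideal.mem_span_singleton'] at h1
  obtain ⟨x', hx'⟩ := h1
  exact ⟨x', by rw [mul_comm]; exact hx'⟩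

variable (A) (S : Type u) [CommRing S] [IsLocalRing S] [Algebra A S]
  [IsLocalHom (algebraMap A S)] [Hensel.IsStrictHenselization A S]

theorem flat_of_isStrictHenselization : Module.Flat A S := by
  obtain ⟨e⟩ := StrictHenselization.nonempty_algEquiv (A := A) S
  exact Module.Flat.of_linearEquiv e.toLinearEquiv

/-- Version of `exists_nbhd_range` with descent of divisibility. -/
theorem exists_nbhd_range' (s : Finset S) :
    ∃ (i : PtNbhd.Nbhd A (SepCl A)) (ψ : i.G →ₐ[A] S), Function.Injective ψ ∧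
      (∀ x, IsUnit (ψ x) → IsUnit x) ∧ (∀ x ∈ s, x ∈ ψ.range) ∧
      ∀ y z : i.G, (∃ x : S, ψ y * x = ψ z) → ∃ x' : i.G, y * x' = z := by
  classical
  obtain ⟨e⟩ := StrictHenselization.nonempty_algEquiv (A := A) S
  obtain ⟨i, hi⟩ := exists_nbhd_of_finset (s.image e)
  refine ⟨i, (e.symm : StrictHenselization A →ₐ[A] S).comp (Lim.ofₐ A (SepCl A) i), ?_, ?_, ?_, ?_⟩
  · intro x y hxy
    apply of_injective i
    exact e.symm.injective hxy
  · intro x hx
    have h1 : IsUnit (e ((e.symm : StrictHenselization A →ₐ[A] S) (Lim.of A (SepCl A) i x))) :=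
      hx.map e
    have h2 : e ((e.symm : StrictHenselization A →ₐ[A] S) (Lim.of A (SepCl A) i x)) =
        Lim.of A (SepCl A) i x := e.apply_symm_apply _
    rw [h2] at h1
    exact (Lim.isLocalHom_of A (SepCl A) i).map_nonunit _ h1
  · intro x hx
    obtain ⟨y, hy⟩ := hi (e x) (Finset.mem_image_of_mem e hx)
    refine ⟨y, ?_⟩
    show e.symm (Lim.of A (SepCl A) i y) = x
    rw [hy, e.symm_apply_apply]
  · rintro y z ⟨x, hx⟩
    apply of_dvd i y z
    refine ⟨e x, ?_⟩
    have h1 : e (e.symm (Lim.of A (SepCl A) i y) * x) = e (e.symm (Lim.of A (SepCl A) i z)) :=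
      congrArg e hx
    rw [map_mul, e.apply_symm_apply, e.apply_symm_apply] at h1
    exact h1

/-- Every finite subset of a strict henselization lies in an essentially étale local subalgebra
dominated by `S`, along which divisibility descends. -/
theorem exists_essEtale_subalgebra' (s : Finset S) :
    ∃ E : Subalgebra A S, (∀ x ∈ s, x ∈ E) ∧ IsLocalRing E ∧ EGA4loc.IsEssentiallyEtale A E ∧
      (∀ x : E, IsUnit (x : S) → IsUnit x) ∧
      ∀ y z : S, y ∈ E → z ∈ E → (∃ x : S, y * x = z) → ∃ x' ∈ E, y * x' = z := by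
  obtain ⟨i, ψ, hinj, hloc, hrange, hdvd⟩ := exists_nbhd_range' A S s
  let eq : i.G ≃ₐ[A] ψ.range := AlgEquiv.ofInjective ψ hinj
  refine ⟨ψ.range, hrange, ?_, ?_, ?_, ?_⟩
  · exact eq.toRingEquiv.isLocalRing
  · exact isEssentiallyEtale_of_algEquiv A eq i.isEssentiallyEtale
  · rintro ⟨x, hxr⟩ hx
    obtain ⟨y, hyx⟩ := (AlgHom.mem_range ψ).mp hxr
    have hy : IsUnit y := hloc y (by rw [hyx]; exact hx)
    have : (⟨x, hxr⟩ : ψ.range) = eq y := Subtype.ext hyx.symm
    rw [this]
    exact hy.map eq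
  · rintro y z hy hz ⟨x, hx⟩
    obtain ⟨y', rfl⟩ := (AlgHom.mem_range ψ).mp hy
    obtain ⟨z', rfl⟩ := (AlgHom.mem_range ψ).mp hz
    obtain ⟨x', hx'⟩ := hdvd y' z' ⟨x, hx⟩
    exact ⟨ψ x', ⟨x', rfl⟩, by rw [← map_mul, hx']⟩

end Groth.Agent.Lib.Helper12.StrictStruct
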