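import Mathlib
import Groth.Agent.Lib.Helper12.NormRedMaxA
import Groth.Agent.Lib.Helper12.NormalEtale
import Groth.Agent.Lib.Helper12.StrictStruct5

/-!
# Integral closure commutes with base change to a strict henselization (no flatness on `K`)
-/

set_option autoImplicit false
universe u

namespace Groth.Agent.Lib.Helper12.NormRedMax

open TensorProduct Polynomial

section U1

variable {R : Type u} [CommRing R] (K : Type u) [CommRing K] [Algebra R K]
  (S : Type u) [CommRing S] [Algebra R S]

/-- Integral closure commutes with base change to `S` if it does so for enough subalgebras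
whose base change to `K` stays inside `S ⊗ K`. -/
theorem surjective_toIntegralClosure [Nontrivial S]
    (hstruct : ∀ s : Finset S, ∃ (E : Type u) (_ : CommRing E) (_ : Algebra R E) (ψ : E →ₐ[R] S),
      Function.Surjective (TensorProduct.toIntegralClosure R E K) ∧
      Function.Injective (Algebra.TensorProduct.map ψ (AlgHom.id R K)) ∧
        ∀ x ∈ s, x ∈ ψ.range) :
    Function.Surjective (TensorProduct.toIntegralClosure R S K) := by
  classical
  rintro ⟨y, hy⟩
  obtain ⟨p, hp, hpy⟩ := hy
  obtain ⟨F, hF⟩ := TensorProduct.exists_finset y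
  obtain ⟨E, _, _, ψ, hsurj, hΨinj, hrange⟩ := hstruct (F.image Prod.fst ∪ p.coeffs)
  have hpre : ∀ a ∈ F, ∃ b : E, ψ b = a.1 := fun a ha =>
    hrange a.1 (Finset.mem_union_left _ (Finset.mem_image_of_mem _ ha))
  choose! pre hpre' using hpre
  let yE : E ⊗[R] K := ∑ a ∈ F, pre a ⊗ₜ[R] a.2
  let Ψ : E ⊗[R] K →ₐ[R] S ⊗[R] K := Algebra.TensorProduct.map ψ (AlgHom.id R K)
  have hΨy : Ψ yE = y := by
    rw [hF, map_sum]
    refine Finset.sum_congr rfl fun a ha => ?_
    rw [Algebra.TensorProduct.map_tmul, hpre' a ha]
    rfl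
  have hpl : p ∈ Polynomial.lifts (ψ : E →+* S) := by
    rw [Polynomial.lifts_iff_coeff_lifts]
    intro n
    by_cases hn : p.coeff n = 0
    · exact ⟨0, by simp [hn]⟩
    · exact hrange _ (Finset.mem_union_right _ (Polynomial.coeff_mem_coeffs hn))
  obtain ⟨q, hq, -, hqm⟩ := Polynomial.lifts_and_degree_eq_and_monic hpl hp
  have hcomm : (Ψ : E ⊗[R] K →+* S ⊗[R] K).comp (algebraMap E (E ⊗[R] K)) =
      (algebraMap S (S ⊗[R] K)).comp (ψ : E →+* S) := by
    ext a
    show Ψ (a ⊗ₜ[R] (1 : K)) = ψ a ⊗ₜ[R] (1 : K)
    rw [Algebra.TensorProduct.map_tmul]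
    rfl
  have hyE : IsIntegral E yE := by
    refine ⟨q, hqm, ?_⟩
    apply hΨinj
    have h1 := Polynomial.hom_eval₂ q (algebraMap E (E ⊗[R] K)) (Ψ : E ⊗[R] K →+* S ⊗[R] K) yE
    have h2 : (Ψ : E ⊗[R] K →+* S ⊗[R] K) yE = y := hΨy
    rw [hcomm, h2, ← Polynomial.eval₂_map, hq, hpy] at h1
    rw [map_zero]
    exact h1
  obtain ⟨zE, hzE⟩ := hsurj ⟨yE, hyE⟩
  refine ⟨Algebra.TensorProduct.map ψ (AlgHom.id R (integralClosure R K)) zE, ?_⟩
  apply Subtype.ext
  show ((TensorProduct.toIntegralClosure R S K
    (Algebra.TensorProduct.map ψ (AlgHom.id R (integralClosure R K)) zE) :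
      integralClosure S (S ⊗[R] K)) : S ⊗[R] K) = y
  have hnat : ∀ w : E ⊗[R] integralClosure R K,
      ((TensorProduct.toIntegralClosure R S K
        (Algebra.TensorProduct.map ψ (AlgHom.id R (integralClosure R K)) w) :
          integralClosure S (S ⊗[R] K)) : S ⊗[R] K) =
        Ψ ((TensorProduct.toIntegralClosure R E K w : integralClosure E (E ⊗[R] K)) :
          E ⊗[R] K) := by
    intro w
    induction w using TensorProduct.induction_on with
    | zero => simp
    | tmul a b =>
      rw [Algebra.TensorProduct.map_tmul, NormalEtale.toIntegralClosure_tmul,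
        NormalEtale.toIntegralClosure_tmul, Algebra.TensorProduct.map_tmul]
      rfl
    | add x y hx hy =>
      rw [map_add, map_add, map_add]
      show ((TensorProduct.toIntegralClosure R S K _ : integralClosure S (S ⊗[R] K)) : S ⊗[R] K) +
        ((TensorProduct.toIntegralClosure R S K _ : integralClosure S (S ⊗[R] K)) : S ⊗[R] K) = _
      rw [hx, hy, ← map_add]
      rfl
  rw [hnat, hzE, hΨy]

end U1

section Strict

open IsLocalRing PtNbhd

variable (A : Type u) [CommRing A] [IsLocalRing A] (S : Type u) [CommRing S] [IsLocalRing S]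
  [Algebra A S] [IsLocalHom (algebraMap A S)] [Hensel.IsStrictHenselization A S]
  (K : Type u) [CommRing K] [Algebra A K]

theorem map_of_injective (i : PtNbhd.Nbhd A (SepCl A)) :
    Function.Injective
      (Algebra.TensorProduct.map (Lim.ofₐ A (SepCl A) i) (AlgHom.id A K)) := by
  letI := StrictHenselization.algebraOver i
  haveI := StrictHenselization.faithfullyFlat_over i
  haveI : IsScalarTower A i.G (StrictHenselization A) :=
    IsScalarTower.of_algebraMap_eq fun a => Lim.algebraMap_eq i a
  have h := map_injective_of_faithfullyFlat A i.G (StrictHenselization A) K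
  have heq : IsScalarTower.toAlgHom A i.G (StrictHenselization A) = Lim.ofₐ A (SepCl A) i := by
    ext x
    rfl
  rwa [heq] at h

/-- Integral closure commutes with base change to a strict henselization. -/
theorem surjective_toIntegralClosure_strict :
    Function.Surjective (TensorProduct.toIntegralClosure A S K) := by
  classical
  apply surjective_toIntegralClosure
  intro s
  obtain ⟨e⟩ := StrictHenselization.nonempty_algEquiv (A := A) S
  obtain ⟨i, hi⟩ := StrictStruct.exists_nbhd_of_finset (s.image e)
  let ψ : i.G →ₐ[A] S := (e.symm : StrictHenselization A →ₐ[A] S).comp (Lim.ofₐ A (SepCl A) i)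
  refine ⟨i.G, inferInstance, inferInstance, ψ, ?_, ?_, ?_⟩
  · exact (TensorProduct.toIntegralClosure_bijective_of_tower (S := i.Ring)
      TensorProduct.toIntegralClosure_bijective_of_smooth
      (TensorProduct.toIntegralClosure_bijective_of_isLocalization
        (RingHom.ker i.π).primeCompl)).2
  · have h1 := map_of_injective A K i
    have h2 : (Algebra.TensorProduct.map (e : S →ₐ[A] StrictHenselization A) (AlgHom.id A K)).comp
        (Algebra.TensorProduct.map ψ (AlgHom.id A K)) =
        Algebra.TensorProduct.map (Lim.ofₐ A (SepCl A) i) (AlgHom.id A K) := by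
      rw [← Algebra.TensorProduct.map_comp]
      congr 1
      refine AlgHom.ext fun x => ?_
      show e (e.symm (Lim.of A (SepCl A) i x)) = _
      rw [e.apply_symm_apply]
      rfl
    have h3 : Function.Injective
        ((Algebra.TensorProduct.map (e : S →ₐ[A] StrictHenselization A) (AlgHom.id A K)) ∘
          (Algebra.TensorProduct.map ψ (AlgHom.id A K))) := by
      rw [← AlgHom.coe_comp, h2]
      exact h1
    exact Function.Injective.of_comp h3
  · intro x hx
    obtain ⟨y, hy⟩ := hi (e x) (Finset.mem_image_of_mem e hx)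
    refine ⟨y, ?_⟩
    show e.symm (Lim.of A (SepCl A) i y) = x
    rw [hy, e.symm_apply_apply]

end Strict

end Groth.Agent.Lib.Helper12.NormRedMax
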