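import Mathlib
import Groth.Prelude.Def_CAlg2
import Groth.Agent.Lib.Helper12.NormRedMinC

set_option autoImplicit false
universe u

namespace Groth.Agent.Lib.Helper12.NormRedMin

open TensorProduct

variable (A : Type u) [CommRing A] (S : Type u) [CommRing S] [Algebra A S]

instance isIntegral_normRed : Algebra.IsIntegral A (CAlg2.normRed A) := by
  haveI : Algebra.IsIntegral A (CAlg2.red A) :=
    Algebra.isIntegral_of_surjective Ideal.Quotient.mk_surjective
  haveI : Algebra.IsIntegral (CAlg2.red A) (CAlg2.normRed A) := inferInstance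
  exact Algebra.IsIntegral.trans (CAlg2.red A)

theorem ker_algebraMap_normRed :
    RingHom.ker (algebraMap A (CAlg2.normRed A)) = nilradical A := by
  ext a
  rw [RingHom.mem_ker]
  constructor
  · intro h
    have h1 := congrArg (Subtype.val) h
    rw [algebraMap_normRed_apply] at h1
    have h2 : Ideal.Quotient.mk (nilradical A) a = 0 :=
      IsFractionRing.injective (CAlg2.red A) (FractionRing (CAlg2.red A))
        (by rw [h1, map_zero]; rfl)
    exact Ideal.Quotient.eq_zero_iff_mem.mp h2
  · intro h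
    apply Subtype.ext
    rw [algebraMap_normRed_apply, Ideal.Quotient.eq_zero_iff_mem.mpr h, map_zero]
    rfl

local notation "T" => (CAlg2.normRed A) ⊗[A] S

/-- The canonical map `S → normRed A ⊗ S`. -/
abbrev incl : S →+* (CAlg2.normRed A) ⊗[A] S :=
  (Algebra.TensorProduct.includeRight : S →ₐ[A] (CAlg2.normRed A) ⊗[A] S).toRingHom

theorem ker_includeRight_le_nilradical [Module.Flat A S] :
    RingHom.ker (incl A S) ≤ nilradical S := by
  intro s hs
  have h0 : (1 : CAlg2.normRed A) ⊗ₜ[A] s = 0 := hs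
  have h1 := mem_map_ker_of_tmul_eq_zero (A' := CAlg2.normRed A) s h0
  rw [ker_algebraMap_normRed] at h1
  have hle : (nilradical A).map (algebraMap A S) ≤ nilradical S := by
    rw [Ideal.map_le_iff_le_comap]
    intro a ha
    rw [Ideal.mem_comap, mem_nilradical] at *
    exact ha.map _
  exact hle h1

/-- Lying over for `S → normRed A ⊗ S`. -/
theorem exists_prime_comap_incl_eq [Module.Flat A S] (q : Ideal S) [q.IsPrime] :
    ∃ Q : Ideal ((CAlg2.normRed A) ⊗[A] S), Q.IsPrime ∧ Q.comap (incl A S) = q := by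
  let e := Algebra.TensorProduct.comm A S (CAlg2.normRed A)
  have he : ∀ s : S, e (algebraMap S (S ⊗[A] CAlg2.normRed A) s) = incl A S s := fun s => by
    rw [Algebra.TensorProduct.algebraMap_apply, Algebra.algebraMap_self, RingHom.id_apply,
      Algebra.TensorProduct.comm_tmul]
    rfl
  have hker : (⊥ : Ideal (S ⊗[A] CAlg2.normRed A)).comap
      (algebraMap S (S ⊗[A] CAlg2.normRed A)) ≤ q := by
    intro s hs
    rw [Ideal.mem_comap, Ideal.mem_bot] at hs
    have : s ∈ RingHom.ker (incl A S) := by
      rw [RingHom.mem_ker, ← he, hs, map_zero]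
    exact (nilradical_le_prime q) (ker_includeRight_le_nilradical A S this)
  obtain ⟨Q'', -, hQ''prime, hQ''⟩ := Ideal.exists_ideal_over_prime_of_isIntegral q _ hker
  refine ⟨Q''.comap (e.symm : (CAlg2.normRed A) ⊗[A] S →+* S ⊗[A] CAlg2.normRed A),
    Ideal.comap_isPrime _ _, ?_⟩
  ext s
  rw [Ideal.mem_comap, Ideal.mem_comap, ← he]
  have : (e.symm : (CAlg2.normRed A) ⊗[A] S →+* S ⊗[A] CAlg2.normRed A)
      (e (algebraMap S (S ⊗[A] CAlg2.normRed A) s)) = algebraMap S (S ⊗[A] CAlg2.normRed A) s :=
    e.symm_apply_apply _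
  rw [this, ← Ideal.mem_comap, hQ'']

end Groth.Agent.Lib.Helper12.NormRedMin
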