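import Mathlib
import Groth.Prelude.Def_CAlg2
import Groth.Agent.Lib.Helper12.NormRedMinD

set_option autoImplicit false
universe u

namespace Groth.Agent.Lib.Helper12.NormRedMin

open TensorProduct

variable (A : Type u) [CommRing A] (S : Type u) [CommRing S] [Algebra A S]

theorem incl_algebraMap (a : A) :
    incl A S (algebraMap A S a) = algebraMap A ((CAlg2.normRed A) ⊗[A] S) a := by
  show (1 : CAlg2.normRed A) ⊗ₜ[A] (algebraMap A S a) = _
  rw [Algebra.TensorProduct.algebraMap_apply, Algebra.algebraMap_eq_smul_one,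
    ← TensorProduct.smul_tmul, Algebra.algebraMap_eq_smul_one]

theorem comap_incl_comap (Q : Ideal ((CAlg2.normRed A) ⊗[A] S)) :
    (Q.comap (incl A S)).comap (algebraMap A S) =
      (Q.comap (algebraMap (CAlg2.normRed A) ((CAlg2.normRed A) ⊗[A] S))).comap
        (algebraMap A (CAlg2.normRed A)) := by
  ext a
  rw [Ideal.mem_comap, Ideal.mem_comap, Ideal.mem_comap, Ideal.mem_comap, incl_algebraMap,
    ← IsScalarTower.algebraMap_apply]

/-- After multiplying by some `t ∉ p` (`p` a minimal prime of `A`), every element of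
`normRed A ⊗ S` comes from `S`. -/
theorem exists_mul_eq_incl {p : Ideal A} (hp : p ∈ minimalPrimes A)
    (x : (CAlg2.normRed A) ⊗[A] S) :
    ∃ t : A, t ∉ p ∧ ∃ s : S, algebraMap A ((CAlg2.normRed A) ⊗[A] S) t * x = incl A S s := by
  haveI : p.IsPrime := hp.1.1
  induction x using TensorProduct.induction_on with
  | zero => exact ⟨1, fun h => (Ideal.IsPrime.ne_top ‹_›) ((Ideal.eq_top_iff_one p).mpr h), 0,
      by simp⟩
  | tmul a' s =>
    obtain ⟨t, ht, a, hta⟩ := exists_mul_eq A hp a'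
    refine ⟨t, ht, a • s, ?_⟩
    rw [Algebra.TensorProduct.algebraMap_apply, Algebra.TensorProduct.tmul_mul_tmul, one_mul, hta]
    show (algebraMap A (CAlg2.normRed A) a) ⊗ₜ[A] s = (1 : CAlg2.normRed A) ⊗ₜ[A] (a • s)
    rw [Algebra.algebraMap_eq_smul_one, TensorProduct.smul_tmul]
  | add x y hx hy =>
    obtain ⟨t₁, ht₁, s₁, h₁⟩ := hx
    obtain ⟨t₂, ht₂, s₂, h₂⟩ := hy
    refine ⟨t₁ * t₂, fun h => (Ideal.IsPrime.mem_or_mem ‹_› h).elim ht₁ ht₂,
      algebraMap A S t₂ * s₁ + algebraMap A S t₁ * s₂, ?_⟩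
    have e1 : incl A S (algebraMap A S t₂ * s₁ + algebraMap A S t₁ * s₂) =
        algebraMap A ((CAlg2.normRed A) ⊗[A] S) t₂ * incl A S s₁ +
          algebraMap A ((CAlg2.normRed A) ⊗[A] S) t₁ * incl A S s₂ := by
      rw [map_add, map_mul, map_mul, incl_algebraMap, incl_algebraMap]
    rw [e1, ← h₁, ← h₂, map_mul]
    ring

/-- **Main theorem**: for a flat `A`-algebra `S` with incomparable primes in the fibres,
contraction is a bijection from the minimal primes of `normRed A ⊗ S` to those of `S`. -/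
theorem bijOn_minimalPrimes [Module.Flat A S] (hfin : (minimalPrimes A).Finite)
    (hinc : ∀ Q P : Ideal S, Q.IsPrime → P.IsPrime → Q ≤ P →
      Q.comap (algebraMap A S) = P.comap (algebraMap A S) → Q = P) :
    Set.BijOn (fun P : Ideal ((CAlg2.normRed A) ⊗[A] S) => P.comap (incl A S))
      (minimalPrimes ((CAlg2.normRed A) ⊗[A] S)) (minimalPrimes S) := by
  -- contraction of a minimal prime of `T` to `A` is minimal
  have hA : ∀ Q ∈ minimalPrimes ((CAlg2.normRed A) ⊗[A] S),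
      (Q.comap (incl A S)).comap (algebraMap A S) ∈ minimalPrimes A := by
    intro Q hQ
    rw [comap_incl_comap]
    have h1 := comap_mem_minimalPrimes_of_goingDown (R := CAlg2.normRed A)
      (S := (CAlg2.normRed A) ⊗[A] S) hQ
    exact comap_mem_minimalPrimes A hfin h1
  have hmaps : ∀ Q ∈ minimalPrimes ((CAlg2.normRed A) ⊗[A] S),
      Q.comap (incl A S) ∈ minimalPrimes S := by
    intro Q hQ
    haveI : Q.IsPrime := hQ.1.1
    have hqprime : (Q.comap (incl A S)).IsPrime := Ideal.comap_isPrime _ _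
    refine ⟨⟨hqprime, bot_le⟩, ?_⟩
    rintro q0 ⟨hq0, -⟩ hle
    have h1 : q0.comap (algebraMap A S) = (Q.comap (incl A S)).comap (algebraMap A S) := by
      refine le_antisymm (Ideal.comap_mono hle) ?_
      exact (hA Q hQ).2 ⟨Ideal.comap_isPrime _ _, bot_le⟩ (Ideal.comap_mono hle)
    exact (hinc q0 _ hq0 hqprime hle h1).ge
  refine ⟨hmaps, ?_, ?_⟩
  · -- injectivity
    have key : ∀ Q₁ ∈ minimalPrimes ((CAlg2.normRed A) ⊗[A] S),
        ∀ Q₂ ∈ minimalPrimes ((CAlg2.normRed A) ⊗[A] S),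
        Q₁.comap (incl A S) = Q₂.comap (incl A S) → Q₁ ≤ Q₂ := by
      intro Q₁ hQ₁ Q₂ hQ₂ heq x hx
      haveI : Q₂.IsPrime := hQ₂.1.1
      obtain ⟨t, ht, s, hts⟩ := exists_mul_eq_incl A S (hA Q₁ hQ₁) x
      have h1 : incl A S s ∈ Q₁ := by
        rw [← hts]; exact Ideal.mul_mem_left _ _ hx
      have h2 : incl A S s ∈ Q₂ := by
        have : s ∈ Q₁.comap (incl A S) := h1
        rw [heq] at this
        exact this
      rw [← hts] at h2
      refine (Ideal.IsPrime.mem_or_mem ‹_› h2).resolve_left ?_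
      intro h3
      apply ht
      rw [heq]
      show incl A S (algebraMap A S t) ∈ Q₂
      rw [incl_algebraMap]
      exact h3
    intro Q₁ hQ₁ Q₂ hQ₂ heq
    exact le_antisymm (key Q₁ hQ₁ Q₂ hQ₂ heq) (key Q₂ hQ₂ Q₁ hQ₁ heq.symm)
  · -- surjectivity
    intro q hq
    haveI : q.IsPrime := hq.1.1
    obtain ⟨Q', hQ'prime, hQ'⟩ := exists_prime_comap_incl_eq A S q
    obtain ⟨Q, hQ, hQle⟩ := Ideal.exists_minimalPrimes_le (I := ⊥) (J := Q') bot_le
    refine ⟨Q, hQ, ?_⟩
    haveI : Q.IsPrime := hQ.1.1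
    have hle : Q.comap (incl A S) ≤ q := hQ' ▸ Ideal.comap_mono hQle
    exact le_antisymm hle (hq.2 ⟨Ideal.comap_isPrime _ _, bot_le⟩ hle)

end Groth.Agent.Lib.Helper12.NormRedMin
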