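import Mathlib
import Groth.Agent.Lib.Helper12.NormalEtale
import Groth.Agent.Lib.Helper12.HenselIntegralDomain
import Groth.Prelude.Def_CAlg2

/-!
# Unibranch local rings and domains among henselizations
-/

set_option autoImplicit false
universe u

namespace Groth.Agent.Lib.Helper12.Unibranch

open TensorProduct Polynomial

section U1

variable {R : Type u} [CommRing R] (K : Type u) [CommRing K] [Algebra R K] [Module.Flat R K]
  (S : Type u) [CommRing S] [Algebra R S]

/-- Integral closure commutes with base change to `S` if it does so for enough subalgebras. -/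
theorem surjective_toIntegralClosure [Nontrivial S]
    (hstruct : ∀ s : Finset S, ∃ (E : Type u) (_ : CommRing E) (_ : Algebra R E) (ψ : E →ₐ[R] S),
      Function.Surjective (TensorProduct.toIntegralClosure R E K) ∧ Function.Injective ψ ∧
        ∀ x ∈ s, x ∈ ψ.range) :
    Function.Surjective (TensorProduct.toIntegralClosure R S K) := by
  classical
  rintro ⟨y, hy⟩
  obtain ⟨p, hp, hpy⟩ := hy
  obtain ⟨F, hF⟩ := TensorProduct.exists_finset y
  obtain ⟨E, _, _, ψ, hsurj, hinj, hrange⟩ := hstruct (F.image Prod.fst ∪ p.coeffs)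
  have hpre : ∀ a ∈ F, ∃ b : E, ψ b = a.1 := fun a ha =>
    hrange a.1 (Finset.mem_union_left _ (Finset.mem_image_of_mem _ ha))
  choose! pre hpre' using hpre
  let yE : E ⊗[R] K := ∑ a ∈ F, pre a ⊗ₜ[R] a.2
  let Ψ : E ⊗[R] K →ₐ[R] S ⊗[R] K := Algebra.TensorProduct.map ψ (AlgHom.id R K)
  have hΨy : Ψ yE = y := by
    rw [hF, map_sum]
    refine Finset.sum_congr rfl fun a ha => ?_
    rw [Algebra.TensorProduct.map_tmul, hpre' a ha]
    rfl
  have hΨinj : Function.Injective Ψ := by
    have : (Ψ : E ⊗[R] K → S ⊗[R] K) = ψ.toLinearMap.rTensor K := by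
      ext x
      induction x using TensorProduct.induction_on with
      | zero => simp
      | tmul a b => rfl
      | add x y hx hy => rw [map_add, map_add, hx, hy]
    rw [this]
    exact Module.Flat.rTensor_preserves_injective_linearMap _ hinj
  have hpl : p ∈ Polynomial.lifts (ψ : E →+* S) := by
    rw [Polynomial.lifts_iff_coeff_lifts]
    intro n
    by_cases hn : p.coeff n = 0
    · exact ⟨0, by simp [hn]⟩
    · exact hrange _ (Finset.mem_union_right _ (Polynomial.coeff_mem_coeffs hn))
  obtain ⟨q, hq, -, hqm⟩ := Polynomial.lifts_and_degree_eq_and_monic hpl hp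
  have hcomm : (Ψ : E ⊗[R] K →+* S ⊗[R] K).comp (algebraMap E (E ⊗[R] K)) =
      (algebraMap S (S ⊗[R] K)).comp (ψ : E →+* S) := by
    ext a
    show Ψ (a ⊗ₜ[R] (1 : K)) = ψ a ⊗ₜ[R] (1 : K)
    rw [Algebra.TensorProduct.map_tmul]
    rfl
  have hyE : IsIntegral E yE := by
    refine ⟨q, hqm, ?_⟩
    apply hΨinj
    have h1 := Polynomial.hom_eval₂ q (algebraMap E (E ⊗[R] K)) (Ψ : E ⊗[R] K →+* S ⊗[R] K) yE
    have h2 : (Ψ : E ⊗[R] K →+* S ⊗[R] K) yE = y := hΨy
    rw [hcomm, h2, ← Polynomial.eval₂_map, hq, hpy] at h1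
    rw [map_zero]
    exact h1
  obtain ⟨zE, hzE⟩ := hsurj ⟨yE, hyE⟩
  refine ⟨Algebra.TensorProduct.map ψ (AlgHom.id R (integralClosure R K)) zE, ?_⟩
  apply Subtype.ext
  show ((TensorProduct.toIntegralClosure R S K
    (Algebra.TensorProduct.map ψ (AlgHom.id R (integralClosure R K)) zE) :
      integralClosure S (S ⊗[R] K)) : S ⊗[R] K) = y
  have hnat : ∀ w : E ⊗[R] integralClosure R K,
      ((TensorProduct.toIntegralClosure R S K
        (Algebra.TensorProduct.map ψ (AlgHom.id R (integralClosure R K)) w) :
          integralClosure S (S ⊗[R] K)) : S ⊗[R] K) =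
        Ψ ((TensorProduct.toIntegralClosure R E K w : integralClosure E (E ⊗[R] K)) :
          E ⊗[R] K) := by
    intro w
    induction w using TensorProduct.induction_on with
    | zero => simp
    | tmul a b =>
      rw [Algebra.TensorProduct.map_tmul, NormalEtale.toIntegralClosure_tmul,
        NormalEtale.toIntegralClosure_tmul, Algebra.TensorProduct.map_tmul]
      rfl
    | add x y hx hy =>
      rw [map_add, map_add, map_add]
      show ((TensorProduct.toIntegralClosure R S K _ : integralClosure S (S ⊗[R] K)) : S ⊗[R] K) +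
        ((TensorProduct.toIntegralClosure R S K _ : integralClosure S (S ⊗[R] K)) : S ⊗[R] K) = _
      rw [hx, hy, ← map_add]
      rfl
  rw [hnat, hzE, hΨy]

/-- Idempotents of `S ⊗ K` come from `S ⊗ R'`, `R'` the integral closure of `R` in `K`. -/
theorem trivial_idem_tensor_of_integralClosure [Module.Flat R S]
    (hsurj : Function.Surjective (TensorProduct.toIntegralClosure R S K))
    (hB : ∀ e : S ⊗[R] integralClosure R K, e * e = e → e = 0 ∨ e = 1) :
    ∀ ε : S ⊗[R] K, ε * ε = ε → ε = 0 ∨ ε = 1 := by
  intro ε hε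
  have hint : IsIntegral S ε := by
    refine ⟨X * (X - C 1), monic_X.mul (monic_X_sub_C 1), ?_⟩
    rw [eval₂_mul, eval₂_X, eval₂_sub, eval₂_X, eval₂_C, map_one, mul_sub, mul_one, hε, sub_self]
  obtain ⟨e, he⟩ := hsurj ⟨ε, hint⟩
  have hee : e * e = e := by
    apply TensorProduct.toIntegralClosure_injective_of_flat (R := R) (S := S) (B := K)
    rw [map_mul, he]
    exact Subtype.ext hε
  have he' : ((TensorProduct.toIntegralClosure R S K e : integralClosure S (S ⊗[R] K)) :
      S ⊗[R] K) = ε := congrArg Subtype.val he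
  rcases hB e hee with h | h
  · left
    rw [← he', h, map_zero]
    rfl
  · right
    rw [← he', h, map_one]
    rfl

end U1

section U3

variable {R : Type u} [CommRing R] (K : Type u) [Field K] [Algebra R K]
  (S : Type u) [CommRing S] [Algebra R S]

/-- von Neumann regularity of `S ⊗ K`. -/
theorem exists_mul_self_mul (hS : IndEtaleFibre.IsIndEssEtale R S) (x : S ⊗[R] K) :
    ∃ z : S ⊗[R] K, x = x * x * z := by
  let c := Algebra.TensorProduct.comm R S K
  obtain ⟨z, hz⟩ := IndEtaleFibre.exists_mul_self_mul_tensor (κ := K) hS (c x)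
  refine ⟨c.symm z, ?_⟩
  apply c.injective
  rw [map_mul, map_mul, c.apply_symm_apply]
  exact hz

theorem isDomain_of_trivial_idem [Nontrivial S] [Module.Flat R S]
    (hinj : Function.Injective (algebraMap R K))
    (hS : IndEtaleFibre.IsIndEssEtale R S)
    (hT : ∀ ε : S ⊗[R] K, ε * ε = ε → ε = 0 ∨ ε = 1) : IsDomain S := by
  let ι : S →+* S ⊗[R] K := algebraMap S (S ⊗[R] K)
  have hι : Function.Injective ι :=
    Algebra.TensorProduct.includeLeft_injective (S := S) hinj
  have key : ∀ s : S, s = 0 ∨ IsUnit (ι s) := by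
    intro s
    obtain ⟨z, hz⟩ := exists_mul_self_mul K S hS (ι s)
    have hε : (ι s * z) * (ι s * z) = ι s * z := by
      calc (ι s * z) * (ι s * z) = (ι s * ι s * z) * z := by ring
        _ = ι s * z := by rw [← hz]
    rcases hT _ hε with h | h
    · left
      apply hι
      rw [map_zero, hz, mul_assoc, h, mul_zero]
    · right
      exact IsUnit.of_mul_eq_one _ h
  haveI : NoZeroDivisors S := ⟨by
    intro x y hxy
    rcases key x with rfl | hx
    · exact Or.inl rfl
    · right
      apply hι
      rw [map_zero]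
      have : ι x * ι y = 0 := by rw [← map_mul, hxy, map_zero]
      exact hx.mul_right_eq_zero.mp this⟩
  exact NoZeroDivisors.to_isDomain S

end U3

section U4

variable {R : Type u} [CommRing R] [IsDomain R] (K : Type u) [Field K] [Algebra R K]
  [IsFractionRing R K] (S : Type u) [CommRing S] [Algebra R S]

theorem isDomain_tensor [IsDomain S] (hRS : Function.Injective (algebraMap R S)) :
    IsDomain (S ⊗[R] K) := by
  haveI : IsLocalization (Algebra.algebraMapSubmonoid S (nonZeroDivisors R)) (S ⊗[R] K) :=
    IsLocalization.tensor K (nonZeroDivisors R)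
  refine IsLocalization.isDomain_of_le_nonZeroDivisors (R := S) (S ⊗[R] K)
    (M := Algebra.algebraMapSubmonoid S (nonZeroDivisors R)) ?_
  rintro _ ⟨r, hr, rfl⟩
  refine mem_nonZeroDivisors_of_ne_zero ?_
  rw [Ne, map_eq_zero_iff _ hRS]
  exact nonZeroDivisors.ne_zero hr

/-- If a henselian local faithfully flat `R`-algebra is a domain, the integral closure of `R` in
its fraction field is local. -/
theorem isLocalRing_integralClosure_of_isDomain [HenselianLocalRing S] [IsDomain S]
    [Module.FaithfullyFlat R S] : IsLocalRing (integralClosure R K) := by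
  have hRS : Function.Injective (algebraMap R S) := FaithfulSMul.algebraMap_injective R S
  haveI : IsDomain (S ⊗[R] K) := isDomain_tensor K S hRS
  refine IsLocalRing.of_isUnit_or_isUnit_one_sub_self fun x => ?_
  let R₁ : Subalgebra R K := Algebra.adjoin R {(x : K)}
  haveI : Module.Finite R R₁ := Module.Finite.iff_fg.mpr (x.2.fg_adjoin_singleton)
  let j : S ⊗[R] R₁ →ₐ[S] S ⊗[R] K := Algebra.TensorProduct.map (AlgHom.id S S) R₁.val
  have hj : Function.Injective j := by
    have : (j : S ⊗[R] R₁ → S ⊗[R] K) = R₁.val.toLinearMap.lTensor S := by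
      ext w
      induction w using TensorProduct.induction_on with
      | zero => simp
      | tmul a b => rfl
      | add x y hx hy => rw [map_add, map_add, hx, hy]
    rw [this]
    exact Module.Flat.lTensor_preserves_injective_linearMap _ Subtype.val_injective
  haveI : IsDomain (S ⊗[R] R₁) := hj.isDomain j.toRingHom
  haveI : IsLocalRing (S ⊗[R] R₁) := isLocalRing_of_finite_of_isDomain S (S ⊗[R] R₁)
  have hle : R₁ ≤ integralClosure R K := Algebra.adjoin_le (by
    rintro _ rfl
    exact x.2)
  have hunit : ∀ t : R₁, IsUnit ((1 : S) ⊗ₜ[R] t : S ⊗[R] R₁) → IsUnit t := by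
    intro t ht
    have h1 : IsUnit (Algebra.TensorProduct.comm R S R₁ ((1 : S) ⊗ₜ[R] t)) :=
      ht.map (Algebra.TensorProduct.comm R S R₁)
    have h2 : Algebra.TensorProduct.comm R S R₁ ((1 : S) ⊗ₜ[R] t) =
        algebraMap R₁ (R₁ ⊗[R] S) t := rfl
    rw [h2] at h1
    exact isUnit_of_map_unit (algebraMap R₁ (R₁ ⊗[R] S)) t h1
  let x₁ : R₁ := ⟨x, Algebra.self_mem_adjoin_singleton R (x : K)⟩
  have hx₁ : Subalgebra.inclusion hle x₁ = x := Subtype.ext rfl
  rcases IsLocalRing.isUnit_or_isUnit_one_sub_self ((1 : S) ⊗ₜ[R] x₁ : S ⊗[R] R₁) with h | h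
  · left
    have := (hunit x₁ h).map (Subalgebra.inclusion hle)
    rwa [hx₁] at this
  · right
    have h' : IsUnit ((1 : S) ⊗ₜ[R] (1 - x₁) : S ⊗[R] R₁) := by
      rw [TensorProduct.tmul_sub]
      exact h
    have := (hunit (1 - x₁) h').map (Subalgebra.inclusion hle)
    rwa [map_sub, map_one, hx₁] at this

end U4

section Assemble

theorem idem_eq_zero_or_one {B : Type*} [CommRing B] [IsLocalRing B] (e : B) (hee : e * e = e) :
    e = 0 ∨ e = 1 := by
  have h1 : e * (1 - e) = 0 := by rw [mul_sub, mul_one, hee, sub_self]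
  rcases IsLocalRing.isUnit_or_isUnit_one_sub_self e with hu | hu
  · right
    have := hu.mul_right_eq_zero.mp h1
    exact (sub_eq_zero.mp this).symm
  · left
    exact hu.mul_left_eq_zero.mp h1

variable (R : Type u) [CommRing R] [IsDomain R] [IsLocalRing R] (K : Type u) [Field K] [Algebra R K]
  [IsFractionRing R K] (S : Type u) [CommRing S] [Algebra R S]

/-- If `S ⊗ R'` is local (`R'` the normalization of `R`), then `S` is a domain. -/
theorem isDomain_of_isLocalRing_tensor [Nontrivial S] [Module.Flat R S]
    (hstruct : ∀ s : Finset S, ∃ (E : Type u) (_ : CommRing E) (_ : Algebra R E) (ψ : E →ₐ[R] S),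
      EGA4loc.IsEssentiallyEtale R E ∧ Function.Injective ψ ∧ ∀ x ∈ s, x ∈ ψ.range)
    (hloc : IsLocalRing (S ⊗[R] integralClosure R K)) : IsDomain S := by
  have hS : IndEtaleFibre.IsIndEssEtale R S := by
    intro s
    obtain ⟨E, _, _, ψ, hE, -, hr⟩ := hstruct s
    exact ⟨E, inferInstance, inferInstance, essFiniteType_of_isEssentiallyEtale hE,
      formallyEtale_of_isEssentiallyEtale hE, ψ, hr⟩
  haveI : Module.Flat R K := IsLocalization.flat K (nonZeroDivisors R)
  have hsurj : Function.Surjective (TensorProduct.toIntegralClosure R S K) := by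
    apply surjective_toIntegralClosure
    intro s
    obtain ⟨E, _, _, ψ, hE, hinj, hr⟩ := hstruct s
    obtain ⟨C, _, _, q, _, hC, -, ⟨e⟩⟩ := hE
    refine ⟨Localization.AtPrime q, inferInstance, inferInstance,
      ψ.comp (e.symm : Localization.AtPrime q →ₐ[R] E), ?_,
      hinj.comp e.symm.injective, fun x hx => ?_⟩
    · exact (TensorProduct.toIntegralClosure_bijective_of_tower (S := C)
        TensorProduct.toIntegralClosure_bijective_of_smooth
        (TensorProduct.toIntegralClosure_bijective_of_isLocalization q.primeCompl)).2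
    · obtain ⟨y, hy⟩ := hr x hx
      refine ⟨e y, ?_⟩
      show ψ (e.symm (e y)) = x
      rw [e.symm_apply_apply]
      exact hy
  have hT := trivial_idem_tensor_of_integralClosure K S hsurj
    (fun e hee => idem_eq_zero_or_one e hee)
  exact isDomain_of_trivial_idem K S (IsFractionRing.injective R K) hS hT

end Assemble

section Red

variable (R : Type u) [CommRing R] [IsDomain R] [IsDomain (CAlg2.red R)]

theorem mk_injective : Function.Injective (Ideal.Quotient.mk (nilradical R)) := by
  rw [injective_iff_map_eq_zero]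
  intro a ha
  rw [Ideal.Quotient.eq_zero_iff_mem, nilradical_eq_zero] at ha
  exact ha

theorem algebraMap_injective :
    Function.Injective (algebraMap R (FractionRing (CAlg2.red R))) := by
  rw [IsScalarTower.algebraMap_eq R (CAlg2.red R) (FractionRing (CAlg2.red R))]
  exact (IsFractionRing.injective (CAlg2.red R) _).comp (mk_injective R)

theorem isFractionRing : IsFractionRing R (FractionRing (CAlg2.red R)) := by
  haveI : FaithfulSMul R (FractionRing (CAlg2.red R)) :=
    (faithfulSMul_iff_algebraMap_injective R _).mpr (algebraMap_injective R)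
  apply IsFractionRing.of_field
  intro z
  obtain ⟨a', b', hb', rfl⟩ := IsFractionRing.div_surjective (A := CAlg2.red R) z
  obtain ⟨a, rfl⟩ := Ideal.Quotient.mk_surjective a'
  obtain ⟨b, rfl⟩ := Ideal.Quotient.mk_surjective b'
  exact ⟨a, b, rfl⟩

theorem mem_integralClosure_iff (x : FractionRing (CAlg2.red R)) :
    x ∈ integralClosure (CAlg2.red R) (FractionRing (CAlg2.red R)) ↔
      x ∈ integralClosure R (FractionRing (CAlg2.red R)) := by
  constructor
  · intro h
    haveI : Algebra.IsIntegral R (CAlg2.red R) :=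
      Algebra.isIntegral_of_surjective Ideal.Quotient.mk_surjective
    exact isIntegral_trans x h
  · intro h
    exact IsIntegral.tower_top h

/-- The normalization of `R_red` as the integral closure of `R` itself. -/
noncomputable def normRedEquiv :
    CAlg2.normRed R ≃+* integralClosure R (FractionRing (CAlg2.red R)) where
  toFun x := ⟨x.1, (mem_integralClosure_iff R x.1).mp x.2⟩
  invFun x := ⟨x.1, (mem_integralClosure_iff R x.1).mpr x.2⟩
  left_inv _ := rfl
  right_inv _ := rfl
  map_mul' _ _ := rfl
  map_add' _ _ := rfl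

end Red

end Groth.Agent.Lib.Helper12.Unibranch
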