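import Mathlib
import Groth.Agent.Lib.Helper12.NormRedMaxB
import Groth.Agent.Lib.Helper12.NormRedMinE
import Groth.Agent.Lib.Helper12.Unibranch
import Groth.Agent.Lib.Helper12.HensFibre
import Groth.Agent.Lib.Helper12.TotalFrac
import Groth.Agent.Lib.Helper12.HenselIntegralDomain

/-!
# Maximal ideals and minimal primes of `normRed A ⊗ Aˢʰ`
-/

set_option autoImplicit false
universe u

namespace Groth.Agent.Lib.Helper12.NormRedMax

open TensorProduct Polynomial

section VNR

/-- `S ⊗ K` is von Neumann regular for `K` reduced artinian and `S` ind-étale. -/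
theorem exists_mul_self_mul_of_artinian {R : Type u} [CommRing R] (K : Type u) [CommRing K]
    [Algebra R K] [IsArtinianRing K] [IsReduced K] (S : Type u) [CommRing S] [Algebra R S]
    (hS : IndEtaleFibre.IsIndEssEtale R S) (x : S ⊗[R] K) : ∃ z : S ⊗[R] K, x = x * x * z := by
  classical
  haveI : Fintype (MaximalSpectrum K) := Fintype.ofFinite _
  let e1 : K ≃ₐ[R] ∀ m : MaximalSpectrum K, K ⧸ m.asIdeal :=
    (IsArtinianRing.equivPi K).restrictScalars R
  let e2 : S ⊗[R] K ≃ₐ[R] S ⊗[R] (∀ m : MaximalSpectrum K, K ⧸ m.asIdeal) :=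
    Algebra.TensorProduct.congr AlgEquiv.refl e1
  let e3 := Algebra.TensorProduct.piRight R R S (fun m : MaximalSpectrum K => K ⧸ m.asIdeal)
  let e := e2.trans e3
  have h : ∀ m, ∃ z, e x m = e x m * e x m * z := fun m => by
    letI : Field (K ⧸ m.asIdeal) := Ideal.Quotient.field m.asIdeal
    exact Unibranch.exists_mul_self_mul (K ⧸ m.asIdeal) S hS (e x m)
  choose z hz using h
  refine ⟨e.symm z, ?_⟩
  apply e.injective
  rw [map_mul, map_mul, e.apply_symm_apply]
  funext m
  exact hz m

end VNR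

section Abs

/-- Over a henselian local ring, a prime of an integral algebra lies in a unique maximal ideal. -/
theorem maximal_unique_of_isIntegral (R : Type u) [CommRing R] [HenselianLocalRing R]
    (T : Type u) [CommRing T] [Algebra R T] [Algebra.IsIntegral R T] {Q M1 M2 : Ideal T}
    [Q.IsPrime] (hM1 : M1.IsMaximal) (hM2 : M2.IsMaximal) (h1 : Q ≤ M1) (h2 : Q ≤ M2) :
    M1 = M2 := by
  haveI : IsDomain (T ⧸ Q) := Ideal.Quotient.isDomain Q
  haveI : IsLocalRing (T ⧸ Q) := isLocalRing_of_isIntegral_of_isDomain R _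
  let N : Ideal T := (IsLocalRing.maximalIdeal (T ⧸ Q)).comap (Ideal.Quotient.mk Q)
  have hN : N ≠ ⊤ := (Ideal.comap_isPrime _ _).ne_top
  have key : ∀ M : Ideal T, M.IsMaximal → Q ≤ M → M = N := by
    intro M hM hQM
    refine hM.eq_of_le hN fun x hx => ?_
    show Ideal.Quotient.mk Q x ∈ IsLocalRing.maximalIdeal _
    rw [IsLocalRing.mem_maximalIdeal, mem_nonunits_iff]
    intro hu
    obtain ⟨y', hy'⟩ := hu.exists_right_inv
    obtain ⟨y, rfl⟩ := Ideal.Quotient.mk_surjective y'
    rw [← map_mul, ← map_one (Ideal.Quotient.mk Q), Ideal.Quotient.eq] at hy'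
    have h3 : x * y - 1 ∈ M := hQM hy'
    have h4 : x * y ∈ M := M.mul_mem_right _ hx
    apply hM.ne_top
    rw [Ideal.eq_top_iff_one]
    have := M.sub_mem h4 h3
    rwa [sub_sub_cancel] at this
  rw [key M1 hM1 h1, key M2 hM2 h2]

end Abs

section Main

variable (A : Type u) [CommRing A] [IsLocalRing A] (S : Type u) [CommRing S] [IsLocalRing S]
  [Algebra A S] [IsLocalHom (algebraMap A S)] [Hensel.IsStrictHenselization A S]

/-- The inclusion of `normRed A` into the total fraction ring, as an `A`-algebra map. -/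
noncomputable abbrev valA : CAlg2.normRed A →ₐ[A] FractionRing (CAlg2.red A) :=
  (integralClosure (CAlg2.red A) (FractionRing (CAlg2.red A))).val.restrictScalars A

/-- The embedding `normRed A ⊗ S → S ⊗ Frac(A_red)`. -/
noncomputable def jT : (CAlg2.normRed A) ⊗[A] S →ₐ[A] S ⊗[A] FractionRing (CAlg2.red A) :=
  (Algebra.TensorProduct.map (AlgHom.id A S) (valA A)).comp
    (Algebra.TensorProduct.comm A (CAlg2.normRed A) S).toAlgHom

theorem jT_tmul (a : CAlg2.normRed A) (s : S) :
    jT A S (a ⊗ₜ[A] s) = s ⊗ₜ[A] (a : FractionRing (CAlg2.red A)) := rfl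

theorem jT_injective : Function.Injective (jT A S) := by
  haveI : Module.Flat A S := StrictStruct.flat_of_isStrictHenselization A S
  have h1 : Function.Injective (Algebra.TensorProduct.map (AlgHom.id A S) (valA A)) := by
    have : (Algebra.TensorProduct.map (AlgHom.id A S) (valA A) :
        S ⊗[A] CAlg2.normRed A → S ⊗[A] FractionRing (CAlg2.red A)) =
        (valA A).toLinearMap.lTensor S := by
      ext x
      induction x using TensorProduct.induction_on with
      | zero => simp
      | tmul a b => rfl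
      | add x y hx hy => rw [map_add, map_add, hx, hy]
    rw [this]
    exact Module.Flat.lTensor_preserves_injective_linearMap _ Subtype.val_injective
  exact h1.comp (Algebra.TensorProduct.comm A (CAlg2.normRed A) S).injective

theorem idem_mem_range_jT (ε : S ⊗[A] FractionRing (CAlg2.red A)) (hε : ε * ε = ε) :
    ∃ t, jT A S t = ε := by
  have hint : IsIntegral S ε := by
    refine ⟨X * (X - C 1), monic_X.mul (monic_X_sub_C 1), ?_⟩
    rw [eval₂_mul, eval₂_X, eval₂_sub, eval₂_X, eval₂_C, map_one, mul_sub, mul_one, hε, sub_self]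
  obtain ⟨w, hw⟩ := surjective_toIntegralClosure_strict A S (FractionRing (CAlg2.red A))
    ⟨ε, hint⟩
  have key : ∀ w : S ⊗[A] integralClosure A (FractionRing (CAlg2.red A)), ∃ t,
      jT A S t = ((TensorProduct.toIntegralClosure A S (FractionRing (CAlg2.red A)) w :
        integralClosure S (S ⊗[A] FractionRing (CAlg2.red A))) :
          S ⊗[A] FractionRing (CAlg2.red A)) := by
    intro w
    induction w using TensorProduct.induction_on with
    | zero => exact ⟨0, by simp⟩
    | tmul s b =>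
      refine ⟨(⟨(b : FractionRing (CAlg2.red A)), IsIntegral.tower_top b.2⟩ :
        CAlg2.normRed A) ⊗ₜ[A] s, ?_⟩
      rw [jT_tmul, NormalEtale.toIntegralClosure_tmul]
    | add x y hx hy =>
      obtain ⟨t1, h1⟩ := hx
      obtain ⟨t2, h2⟩ := hy
      exact ⟨t1 + t2, by rw [map_add, map_add, h1, h2]; rfl⟩
  obtain ⟨t, ht⟩ := key w
  exact ⟨t, by rw [ht, hw]⟩

/-- Each maximal ideal of `normRed A ⊗ S` contains at most one minimal prime. -/
theorem minimalPrime_unique (hfin : (minimalPrimes A).Finite)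
    {Q1 Q2 M : Ideal ((CAlg2.normRed A) ⊗[A] S)}
    (hQ1 : Q1 ∈ minimalPrimes ((CAlg2.normRed A) ⊗[A] S))
    (hQ2 : Q2 ∈ minimalPrimes ((CAlg2.normRed A) ⊗[A] S)) (hM : M ≠ ⊤)
    (h1 : Q1 ≤ M) (h2 : Q2 ≤ M) : Q1 = Q2 := by
  haveI : IsArtinianRing (FractionRing (CAlg2.red A)) :=
    TotalFrac.isArtinianRing_fractionRing (NormRedMin.finite_minimalPrimes_red A hfin)
  haveI : IsReduced (FractionRing (CAlg2.red A)) :=
    inferInstanceAs (IsReduced (Localization (nonZeroDivisors (CAlg2.red A))))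
  have hS : IndEtaleFibre.IsIndEssEtale A S := HensFibre.isIndEssEtale_of_isStrictHenselization A S
  refine eq_of_le_of_vnr (T := (CAlg2.normRed A) ⊗[A] S)
    (U := S ⊗[A] FractionRing (CAlg2.red A)) (jT A S).toRingHom (jT_injective A S)
    (exists_mul_self_mul_of_artinian (FractionRing (CAlg2.red A)) S hS) ?_ hQ1 hQ2 hM h1 h2
  intro e he
  obtain ⟨t, ht⟩ := idem_mem_range_jT A S e he
  exact ⟨t, ht⟩

/-- `normRed A ⊗ S` modulo a prime is a local ring. -/
theorem maximal_unique {Q M1 M2 : Ideal ((CAlg2.normRed A) ⊗[A] S)} [Q.IsPrime]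
    (hM1 : M1.IsMaximal) (hM2 : M2.IsMaximal) (h1 : Q ≤ M1) (h2 : Q ≤ M2) : M1 = M2 := by
  haveI : HenselianLocalRing S := Hensel.IsStrictHenselization.henselian A
  let c := Algebra.TensorProduct.comm A S (CAlg2.normRed A)
  letI : Algebra S ((CAlg2.normRed A) ⊗[A] S) :=
    (c.toAlgHom.toRingHom.comp (algebraMap S (S ⊗[A] CAlg2.normRed A))).toAlgebra
  let φ : S ⊗[A] CAlg2.normRed A →ₐ[S] (CAlg2.normRed A) ⊗[A] S :=
    { c.toAlgHom.toRingHom with commutes' := fun s => rfl }
  haveI : Algebra.IsIntegral S ((CAlg2.normRed A) ⊗[A] S) := ⟨fun t => by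
    have h := (Algebra.IsIntegral.isIntegral (R := S) (c.symm t)).map φ
    have h' : φ (c.symm t) = t := c.apply_symm_apply t
    rwa [h'] at h⟩
  exact maximal_unique_of_isIntegral S ((CAlg2.normRed A) ⊗[A] S) hM1 hM2 h1 h2

end Main

end Groth.Agent.Lib.Helper12.NormRedMax
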