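import Mathlib
import Groth.Agent.Lib.Helper12.NormRedMaxC
import Groth.Agent.Lib.Helper12.HensStruct
import Groth.Agent.Lib.Helper12.HensFCC

/-!
# Minimal primes and maximal ideals of `normRed A ⊗ S` for general ind-étale henselian `S`
-/

set_option autoImplicit false
set_option linter.style.haveILetI false
universe u

namespace Groth.Agent.Lib.Helper12.BrnchHens

open TensorProduct Polynomial NormRedMax

section General

variable (A : Type u) [CommRing A] (S : Type u) [CommRing S] [Algebra A S]

theorem jT_tmul' (a : CAlg2.normRed A) (s : S) :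
    jT A S (a ⊗ₜ[A] s) = s ⊗ₜ[A] (a : FractionRing (CAlg2.red A)) := rfl

theorem jT_injective' [Module.Flat A S] : Function.Injective (jT A S) := by
  have h1 : Function.Injective (Algebra.TensorProduct.map (AlgHom.id A S) (valA A)) := by
    have : (Algebra.TensorProduct.map (AlgHom.id A S) (valA A) :
        S ⊗[A] CAlg2.normRed A → S ⊗[A] FractionRing (CAlg2.red A)) =
        (valA A).toLinearMap.lTensor S := by
      ext x
      induction x using TensorProduct.induction_on with
      | zero => simp
      | tmul a b => rfl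
      | add x y hx hy => rw [map_add, map_add, hx, hy]
    rw [this]
    exact Module.Flat.lTensor_preserves_injective_linearMap _ Subtype.val_injective
  exact h1.comp (Algebra.TensorProduct.comm A (CAlg2.normRed A) S).injective

theorem idem_mem_range_jT'
    (hsurj : Function.Surjective
      (TensorProduct.toIntegralClosure A S (FractionRing (CAlg2.red A))))
    (ε : S ⊗[A] FractionRing (CAlg2.red A)) (hε : ε * ε = ε) :
    ∃ t, jT A S t = ε := by
  have hint : IsIntegral S ε := by
    refine ⟨X * (X - C 1), monic_X.mul (monic_X_sub_C 1), ?_⟩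
    rw [eval₂_mul, eval₂_X, eval₂_sub, eval₂_X, eval₂_C, map_one, mul_sub, mul_one, hε, sub_self]
  obtain ⟨w, hw⟩ := hsurj ⟨ε, hint⟩
  have key : ∀ w : S ⊗[A] integralClosure A (FractionRing (CAlg2.red A)), ∃ t,
      jT A S t = ((TensorProduct.toIntegralClosure A S (FractionRing (CAlg2.red A)) w :
        integralClosure S (S ⊗[A] FractionRing (CAlg2.red A))) :
          S ⊗[A] FractionRing (CAlg2.red A)) := by
    intro w
    induction w using TensorProduct.induction_on with
    | zero => exact ⟨0, by simp⟩
    | tmul s b =>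
      refine ⟨(⟨(b : FractionRing (CAlg2.red A)), IsIntegral.tower_top b.2⟩ :
        CAlg2.normRed A) ⊗ₜ[A] s, ?_⟩
      rw [jT_tmul', NormalEtale.toIntegralClosure_tmul]
    | add x y hx hy =>
      obtain ⟨t1, h1⟩ := hx
      obtain ⟨t2, h2⟩ := hy
      exact ⟨t1 + t2, by rw [map_add, map_add, h1, h2]; rfl⟩
  obtain ⟨t, ht⟩ := key w
  exact ⟨t, by rw [ht, hw]⟩

/-- Each proper ideal of `normRed A ⊗ S` contains at most one minimal prime. -/
theorem minimalPrime_unique' [Module.Flat A S] (hS : IndEtaleFibre.IsIndEssEtale A S)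
    (hsurj : Function.Surjective
      (TensorProduct.toIntegralClosure A S (FractionRing (CAlg2.red A))))
    (hfin : (minimalPrimes A).Finite)
    {Q1 Q2 M : Ideal ((CAlg2.normRed A) ⊗[A] S)}
    (hQ1 : Q1 ∈ minimalPrimes ((CAlg2.normRed A) ⊗[A] S))
    (hQ2 : Q2 ∈ minimalPrimes ((CAlg2.normRed A) ⊗[A] S)) (hM : M ≠ ⊤)
    (h1 : Q1 ≤ M) (h2 : Q2 ≤ M) : Q1 = Q2 := by
  haveI : IsArtinianRing (FractionRing (CAlg2.red A)) :=
    TotalFrac.isArtinianRing_fractionRing (NormRedMin.finite_minimalPrimes_red A hfin)
  haveI : IsReduced (FractionRing (CAlg2.red A)) :=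
    inferInstanceAs (IsReduced (Localization (nonZeroDivisors (CAlg2.red A))))
  refine eq_of_le_of_vnr (T := (CAlg2.normRed A) ⊗[A] S)
    (U := S ⊗[A] FractionRing (CAlg2.red A)) (jT A S).toRingHom (jT_injective' A S)
    (exists_mul_self_mul_of_artinian (FractionRing (CAlg2.red A)) S hS) ?_ hQ1 hQ2 hM h1 h2
  intro e he
  obtain ⟨t, ht⟩ := idem_mem_range_jT' A S hsurj e he
  exact ⟨t, ht⟩

/-- `normRed A ⊗ S` modulo a prime is a local ring. -/
theorem maximal_unique' [HenselianLocalRing S] {Q M1 M2 : Ideal ((CAlg2.normRed A) ⊗[A] S)}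
    [Q.IsPrime]
    (hM1 : M1.IsMaximal) (hM2 : M2.IsMaximal) (h1 : Q ≤ M1) (h2 : Q ≤ M2) : M1 = M2 := by
  let c := Algebra.TensorProduct.comm A S (CAlg2.normRed A)
  letI : Algebra S ((CAlg2.normRed A) ⊗[A] S) :=
    (c.toAlgHom.toRingHom.comp (algebraMap S (S ⊗[A] CAlg2.normRed A))).toAlgebra
  let φ : S ⊗[A] CAlg2.normRed A →ₐ[S] (CAlg2.normRed A) ⊗[A] S :=
    { c.toAlgHom.toRingHom with commutes' := fun s => rfl }
  haveI : Algebra.IsIntegral S ((CAlg2.normRed A) ⊗[A] S) := ⟨fun t => by
    have h := (Algebra.IsIntegral.isIntegral (R := S) (c.symm t)).map φ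
    have h' : φ (c.symm t) = t := c.apply_symm_apply t
    rwa [h'] at h⟩
  exact maximal_unique_of_isIntegral S ((CAlg2.normRed A) ⊗[A] S) hM1 hM2 h1 h2

end General

section Hens

open IsLocalRing

variable (A : Type u) [CommRing A] [IsLocalRing A] (S : Type u) [CommRing S] [IsLocalRing S]
  [Algebra A S] [IsLocalHom (algebraMap A S)] [Hensel.IsHenselization A S]
  (K : Type u) [CommRing K] [Algebra A K]

theorem map_of_injective_hens (i : Nbhd A) :
    Function.Injective
      (Algebra.TensorProduct.map (Henselization.ofₐ A i) (AlgHom.id A K)) := by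
  letI := Henselization.algebraOver i
  haveI := Henselization.faithfullyFlat_over i
  haveI : IsScalarTower A i.G (Henselization A) :=
    IsScalarTower.of_algebraMap_eq fun a => Henselization.algebraMap_eq i a
  have h := map_injective_of_faithfullyFlat A i.G (Henselization A) K
  have heq : IsScalarTower.toAlgHom A i.G (Henselization A) = Henselization.ofₐ A i := by
    ext x
    rfl
  rwa [heq] at h

/-- Integral closure commutes with base change to a henselization. -/
theorem surjective_toIntegralClosure_hens :
    Function.Surjective (TensorProduct.toIntegralClosure A S K) := by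
  classical
  apply NormRedMax.surjective_toIntegralClosure
  intro s
  obtain ⟨e⟩ := Henselization.nonempty_algEquiv (A := A) S
  obtain ⟨i, hi⟩ := HensStruct.exists_nbhd_of_finset (s.image e)
  let ψ : i.G →ₐ[A] S := (e.symm : Henselization A →ₐ[A] S).comp (Henselization.ofₐ A i)
  refine ⟨i.G, inferInstance, inferInstance, ψ, ?_, ?_, ?_⟩
  · exact (TensorProduct.toIntegralClosure_bijective_of_tower (S := i.Ring)
      TensorProduct.toIntegralClosure_bijective_of_smooth
      (TensorProduct.toIntegralClosure_bijective_of_isLocalization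
        (RingHom.ker i.π).primeCompl)).2
  · have h1 := map_of_injective_hens A K i
    have h2 : (Algebra.TensorProduct.map (e : S →ₐ[A] Henselization A) (AlgHom.id A K)).comp
        (Algebra.TensorProduct.map ψ (AlgHom.id A K)) =
        Algebra.TensorProduct.map (Henselization.ofₐ A i) (AlgHom.id A K) := by
      rw [← Algebra.TensorProduct.map_comp]
      congr 1
      refine AlgHom.ext fun x => ?_
      show e (e.symm (Henselization.of A i x)) = _
      rw [e.apply_symm_apply]
      rfl
    have h3 : Function.Injective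
        ((Algebra.TensorProduct.map (e : S →ₐ[A] Henselization A) (AlgHom.id A K)) ∘
          (Algebra.TensorProduct.map ψ (AlgHom.id A K))) := by
      rw [← AlgHom.coe_comp, h2]
      exact h1
    exact Function.Injective.of_comp h3
  · intro x hx
    obtain ⟨y, hy⟩ := hi (e x) (Finset.mem_image_of_mem e hx)
    refine ⟨y, ?_⟩
    show e.symm (Henselization.of A i y) = x
    rw [hy, e.symm_apply_apply]

end Hens

end Groth.Agent.Lib.Helper12.BrnchHens
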