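import Mathlib

/-!
# Maximal ideals of `A' ⊗[A] S` for `A'` integral over a local ring `A` and `S` a local
`A`-algebra with the same residue field and `𝔪_A S = 𝔪_S`
-/

set_option autoImplicit false
set_option linter.style.haveILetI false
universe u

namespace Groth.Agent.Lib.Helper12.BrnchHens

open TensorProduct IsLocalRing

section MaxIdeals

variable (A : Type u) [CommRing A] [IsLocalRing A] (A' : Type u) [CommRing A'] [Algebra A A']
  (S : Type u) [CommRing S] [IsLocalRing S] [Algebra A S]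

/-- `T = A' + 𝔪_A T` -/
theorem exists_sub_tmul_mem
    (hmax : (maximalIdeal A).map (algebraMap A S) = maximalIdeal S)
    (hres : ∀ s : S, ∃ a : A, s - algebraMap A S a ∈ maximalIdeal S) (t : A' ⊗[A] S) :
    ∃ a' : A', t - a' ⊗ₜ[A] (1 : S) ∈ (maximalIdeal A).map (algebraMap A (A' ⊗[A] S)) := by
  have hincl : ∀ μ ∈ maximalIdeal S, (1 : A') ⊗ₜ[A] μ ∈
      (maximalIdeal A).map (algebraMap A (A' ⊗[A] S)) := by
    intro μ hμ
    rw [← hmax] at hμ
    have h1 := Ideal.mem_map_of_mem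
      (Algebra.TensorProduct.includeRight : S →ₐ[A] A' ⊗[A] S).toRingHom hμ
    rw [Ideal.map_map] at h1
    have h2 : ((Algebra.TensorProduct.includeRight : S →ₐ[A] A' ⊗[A] S).toRingHom).comp
        (algebraMap A S) = algebraMap A (A' ⊗[A] S) := by
      ext a
      exact (Algebra.TensorProduct.includeRight : S →ₐ[A] A' ⊗[A] S).commutes a
    rw [h2] at h1
    exact h1
  induction t using TensorProduct.induction_on with
  | zero => exact ⟨0, by rw [TensorProduct.zero_tmul, sub_zero]; exact Ideal.zero_mem _⟩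
  | tmul a' s =>
    obtain ⟨a, ha⟩ := hres s
    refine ⟨a • a', ?_⟩
    have h1 : a' ⊗ₜ[A] s - (a • a') ⊗ₜ[A] (1 : S) =
        (a' ⊗ₜ[A] (1 : S)) * ((1 : A') ⊗ₜ[A] (s - algebraMap A S a)) := by
      rw [Algebra.TensorProduct.tmul_mul_tmul, mul_one, one_mul, TensorProduct.tmul_sub,
        TensorProduct.smul_tmul, Algebra.algebraMap_eq_smul_one]
    rw [h1]
    exact Ideal.mul_mem_left _ _ (hincl _ ha)
  | add x y hx hy =>
    obtain ⟨a1, h1⟩ := hx
    obtain ⟨a2, h2⟩ := hy
    refine ⟨a1 + a2, ?_⟩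
    have : x + y - (a1 + a2) ⊗ₜ[A] (1 : S) = (x - a1 ⊗ₜ[A] (1 : S)) + (y - a2 ⊗ₜ[A] (1 : S)) := by
      rw [TensorProduct.add_tmul]; ring
    rw [this]
    exact Ideal.add_mem _ h1 h2

variable [Algebra.IsIntegral A A'] [IsLocalHom (algebraMap A S)] [Module.FaithfullyFlat A S]

/-- a maximal ideal of `A'` lies over the maximal ideal of `A` -/
theorem comap_eq_maximalIdeal_of_isMaximal (m' : Ideal A') [hm' : m'.IsMaximal] :
    m'.comap (algebraMap A A') = maximalIdeal A := by
  haveI : (m'.comap (algebraMap A A')).IsMaximal :=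
    Ideal.isMaximal_comap_of_isIntegral_of_isMaximal m'
  exact IsLocalRing.eq_maximalIdeal inferInstance

theorem map_maximalIdeal_le (m' : Ideal A') [hm' : m'.IsMaximal] :
    (maximalIdeal A).map (algebraMap A (A' ⊗[A] S)) ≤ m'.map (algebraMap A' (A' ⊗[A] S)) := by
  rw [IsScalarTower.algebraMap_eq A A' (A' ⊗[A] S), ← Ideal.map_map]
  apply Ideal.map_mono
  rw [Ideal.map_le_iff_le_comap, comap_eq_maximalIdeal_of_isMaximal A A' m']

/-- the extension of a maximal ideal of `A'` is maximal -/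
theorem isMaximal_map
    (hmax : (maximalIdeal A).map (algebraMap A S) = maximalIdeal S)
    (hres : ∀ s : S, ∃ a : A, s - algebraMap A S a ∈ maximalIdeal S)
    (m' : Ideal A') [hm' : m'.IsMaximal] :
    (m'.map (algebraMap A' (A' ⊗[A] S))).IsMaximal ∧
      (m'.map (algebraMap A' (A' ⊗[A] S))).comap (algebraMap A' (A' ⊗[A] S)) = m' := by
  haveI : Module.FaithfullyFlat A' (A' ⊗[A] S) := inferInstance
  have hcm : (m'.map (algebraMap A' (A' ⊗[A] S))).comap (algebraMap A' (A' ⊗[A] S)) = m' :=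
    Ideal.comap_map_eq_self_of_faithfullyFlat m'
  have hne : m'.map (algebraMap A' (A' ⊗[A] S)) ≠ ⊤ := by
    intro h
    rw [h, Ideal.comap_top] at hcm
    exact hm'.ne_top hcm.symm
  refine ⟨?_, hcm⟩
  obtain ⟨M, hM, hle⟩ := Ideal.exists_le_maximal _ hne
  have hMm : M.comap (algebraMap A' (A' ⊗[A] S)) = m' := by
    symm
    apply hm'.eq_of_le (Ideal.comap_ne_top _ hM.ne_top)
    rw [← hcm]
    exact Ideal.comap_mono hle
  have : M ≤ m'.map (algebraMap A' (A' ⊗[A] S)) := by
    intro t ht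
    obtain ⟨a', ha'⟩ := exists_sub_tmul_mem A A' S hmax hres t
    have h1 : t - a' ⊗ₜ[A] (1 : S) ∈ m'.map (algebraMap A' (A' ⊗[A] S)) :=
      map_maximalIdeal_le A A' S m' ha'
    have h2 : a' ⊗ₜ[A] (1 : S) ∈ M := by
      have := M.sub_mem ht (hle h1)
      rwa [sub_sub_cancel] at this
    have h3 : a' ∈ m' := by
      rw [← hMm]
      exact h2
    have h4 : a' ⊗ₜ[A] (1 : S) ∈ m'.map (algebraMap A' (A' ⊗[A] S)) :=
      Ideal.mem_map_of_mem (algebraMap A' (A' ⊗[A] S)) h3
    have := Ideal.add_mem _ h1 h4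
    rwa [sub_add_cancel] at this
  rw [le_antisymm hle this]
  exact hM

end MaxIdeals

end Groth.Agent.Lib.Helper12.BrnchHens
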