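import Mathlib
import Groth.Agent.Lib.Helper12.BrnchB

/-!
# Maximal ideals of `A' ⊗[A] S` (continued): every maximal ideal is extended from `A'`
-/

set_option autoImplicit false
set_option linter.style.haveILetI false
universe u

namespace Groth.Agent.Lib.Helper12.BrnchHens

open TensorProduct IsLocalRing

section MaxIdeals2

variable (A : Type u) [CommRing A] [IsLocalRing A] (A' : Type u) [CommRing A'] [Algebra A A']
  (S : Type u) [CommRing S] [IsLocalRing S] [Algebra A S] [Algebra.IsIntegral A A']

attribute [local instance] Algebra.TensorProduct.rightAlgebra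

theorem isIntegral_right : Algebra.IsIntegral S (A' ⊗[A] S) := by
  refine ⟨fun t => ?_⟩
  induction t using TensorProduct.induction_on with
  | zero => exact isIntegral_zero
  | tmul a' s =>
    have h1 : IsIntegral A ((Algebra.TensorProduct.includeLeft : A' →ₐ[A] A' ⊗[A] S) a') :=
      (Algebra.IsIntegral.isIntegral a').map _
    have h2 : IsIntegral S ((Algebra.TensorProduct.includeLeft : A' →ₐ[A] A' ⊗[A] S) a') :=
      h1.tower_top
    have h3 : a' ⊗ₜ[A] s = algebraMap S (A' ⊗[A] S) s *
        (Algebra.TensorProduct.includeLeft : A' →ₐ[A] A' ⊗[A] S) a' := by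
      show a' ⊗ₜ[A] s = ((1 : A') ⊗ₜ[A] s) * (a' ⊗ₜ[A] (1 : S))
      rw [Algebra.TensorProduct.tmul_mul_tmul, one_mul, mul_one]
    rw [h3]
    exact isIntegral_algebraMap.mul h2
  | add x y hx hy => exact hx.add hy

variable [IsLocalHom (algebraMap A S)] [Module.FaithfullyFlat A S]

/-- every maximal ideal of `A' ⊗ S` is extended from a maximal ideal of `A'` -/
theorem isMaximal_comap_and_map_comap
    (hmax : (maximalIdeal A).map (algebraMap A S) = maximalIdeal S)
    (hres : ∀ s : S, ∃ a : A, s - algebraMap A S a ∈ maximalIdeal S)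
    (M : Ideal (A' ⊗[A] S)) [hM : M.IsMaximal] :
    (M.comap (algebraMap A' (A' ⊗[A] S))).IsMaximal ∧
      (M.comap (algebraMap A' (A' ⊗[A] S))).map (algebraMap A' (A' ⊗[A] S)) = M := by
  haveI := isIntegral_right A A' S
  -- `M` lies over the maximal ideal of `S`
  haveI h1 : (M.comap (algebraMap S (A' ⊗[A] S))).IsMaximal :=
    Ideal.isMaximal_comap_of_isIntegral_of_isMaximal M
  have h2 : M.comap (algebraMap S (A' ⊗[A] S)) = maximalIdeal S :=
    IsLocalRing.eq_maximalIdeal h1
  have h3 : (M.comap (algebraMap A' (A' ⊗[A] S))).comap (algebraMap A A') = maximalIdeal A := by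
    rw [Ideal.comap_comap, ← IsScalarTower.algebraMap_eq A A' (A' ⊗[A] S),
      IsScalarTower.algebraMap_eq A S (A' ⊗[A] S), ← Ideal.comap_comap, h2,
      IsLocalRing.maximalIdeal_comap]
  haveI : (M.comap (algebraMap A' (A' ⊗[A] S))).IsPrime := Ideal.comap_isPrime _ _
  have h4 : (M.comap (algebraMap A' (A' ⊗[A] S))).IsMaximal := by
    apply Ideal.isMaximal_of_isIntegral_of_isMaximal_comap (R := A)
    rw [h3]
    exact maximalIdeal.isMaximal A
  refine ⟨h4, ?_⟩
  haveI := h4
  obtain ⟨h5, -⟩ := isMaximal_map A A' S hmax hres (M.comap (algebraMap A' (A' ⊗[A] S)))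
  exact h5.eq_of_le hM.ne_top Ideal.map_comap_le

end MaxIdeals2

end Groth.Agent.Lib.Helper12.BrnchHens
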