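import Mathlib
import Groth.Prelude.Def_Brnch
import Groth.Agent.Lib.Helper12.BrnchA
import Groth.Agent.Lib.Helper12.BrnchC
import Groth.Agent.S2125
import Groth.Agent.S0507
import Groth.Agent.S0509

/-!
# The number of minimal primes of the henselization is the number of branches (S9237)
-/

set_option autoImplicit false
set_option linter.style.haveILetI false
universe u

namespace Groth.Agent.Lib.Helper12.BrnchHens

open TensorProduct IsLocalRing

/-- for a faithfully flat algebra, infinitely many minimal primes downstairs give infinitely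
many upstairs -/
theorem infinite_minimalPrimes_of_faithfullyFlat (A S : Type u) [CommRing A] [CommRing S]
    [Algebra A S] [Module.FaithfullyFlat A S] (h : ¬ (minimalPrimes A).Finite) :
    Infinite ↥(minimalPrimes S) := by
  by_contra hfin
  rw [not_infinite_iff_finite] at hfin
  apply h
  let g : ↥(minimalPrimes S) → ↥(minimalPrimes A) := fun P =>
    ⟨P.1.comap (algebraMap A S), NormRedMin.comap_mem_minimalPrimes_of_goingDown P.2⟩
  have hg : Function.Surjective g := by
    rintro ⟨p, hp⟩
    haveI : p.IsPrime := hp.1.1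
    obtain ⟨Q, hQ⟩ := PrimeSpectrum.comap_surjective_of_faithfullyFlat (A := A) (B := S) ⟨p, inferInstance⟩
    have hQp : Q.asIdeal.comap (algebraMap A S) = p := congrArg PrimeSpectrum.asIdeal hQ
    obtain ⟨P, hP, hPQ⟩ := Ideal.exists_minimalPrimes_le (I := (⊥ : Ideal S)) (J := Q.asIdeal) bot_le
    refine ⟨⟨P, hP⟩, Subtype.ext ?_⟩
    have h1 : P.comap (algebraMap A S) ∈ minimalPrimes A :=
      NormRedMin.comap_mem_minimalPrimes_of_goingDown hP
    have h2 : P.comap (algebraMap A S) ≤ p := hQp ▸ Ideal.comap_mono hPQ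
    exact le_antisymm h2 (hp.2 h1.1 h2)
  haveI := Finite.of_surjective g hg
  exact Set.toFinite _

variable (A S : Type u) [CommRing A] [IsLocalRing A] [CommRing S] [IsLocalRing S] [Algebra A S]
  [IsLocalHom (algebraMap A S)] [Hensel.IsHenselization A S]

theorem card_minimalPrimes_henselization_eq_numBranches :
    ENat.card (minimalPrimes S) = Brnch.numBranches A := by
  classical
  haveI hff : Module.FaithfullyFlat A S := Groth.Agent.S0509.result A S
  by_cases hfin : (minimalPrimes A).Finite
  · have hnb : Brnch.numBranches A = ENat.card (MaximalSpectrum (CAlg2.normRed A)) := by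
      unfold Brnch.numBranches
      exact if_pos hfin
    rw [hnb]
    have hmax := Groth.Agent.S0507.result A S
    have hres : ∀ s : S, ∃ a : A, s - algebraMap A S a ∈ maximalIdeal S := fun s => by
      letI : Field (A ⧸ maximalIdeal A) := Ideal.Quotient.field _
      have hb := Groth.Agent.Lib.Helper29.quot_bijective A S (maximalIdeal A)
      obtain ⟨y, hy⟩ := hb.2 (Ideal.Quotient.mk _ s)
      obtain ⟨a, rfl⟩ := Ideal.Quotient.mk_surjective y
      refine ⟨a, ?_⟩
      rw [Ideal.quotientMap_mk] at hy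
      rw [← hmax, ← Ideal.Quotient.eq]
      exact hy.symm
    haveI : HenselianLocalRing S := Hensel.IsHenselization.henselian A
    have hS : IndEtaleFibre.IsIndEssEtale A S := HensFibre.isIndEssEtale_of_isHenselization A S
    have hsurj := surjective_toIntegralClosure_hens A S (FractionRing (CAlg2.red A))
    have hbij := Groth.Agent.S2125.result (A := A) (Ah := S) hfin
    let e1 := hbij.equiv _
    rw [← ENat.card_congr e1]
    -- the map to the maximal spectrum of `normRed A`
    have hex : ∀ Q : ↥(minimalPrimes ((CAlg2.normRed A) ⊗[A] S)),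
        ∃ M : Ideal ((CAlg2.normRed A) ⊗[A] S), M.IsMaximal ∧ Q.1 ≤ M := fun Q =>
      Ideal.exists_le_maximal Q.1 Q.2.1.1.ne_top
    choose Mx hMx hQM using hex
    let f : ↥(minimalPrimes ((CAlg2.normRed A) ⊗[A] S)) → MaximalSpectrum (CAlg2.normRed A) :=
      fun Q => ⟨(Mx Q).comap (algebraMap (CAlg2.normRed A) ((CAlg2.normRed A) ⊗[A] S)),
        haveI := hMx Q
        (isMaximal_comap_and_map_comap A (CAlg2.normRed A) S hmax hres (Mx Q)).1⟩
    have hmc : ∀ Q, ((Mx Q).comap (algebraMap (CAlg2.normRed A) ((CAlg2.normRed A) ⊗[A] S))).map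
        (algebraMap (CAlg2.normRed A) ((CAlg2.normRed A) ⊗[A] S)) = Mx Q := fun Q =>
      haveI := hMx Q
      (isMaximal_comap_and_map_comap A (CAlg2.normRed A) S hmax hres (Mx Q)).2
    have finj : Function.Injective f := by
      intro Q1 Q2 h
      have h1 : (Mx Q1).comap (algebraMap (CAlg2.normRed A) ((CAlg2.normRed A) ⊗[A] S)) =
          (Mx Q2).comap (algebraMap (CAlg2.normRed A) ((CAlg2.normRed A) ⊗[A] S)) :=
        congrArg MaximalSpectrum.asIdeal h
      have h2 : Mx Q1 = Mx Q2 := by rw [← hmc Q1, ← hmc Q2, h1]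
      apply Subtype.ext
      exact minimalPrime_unique' A S hS hsurj hfin Q1.2 Q2.2 (hMx Q1).ne_top (hQM Q1)
        (h2 ▸ hQM Q2)
    have fsurj : Function.Surjective f := by
      intro m'
      haveI := m'.isMaximal
      obtain ⟨hM, hcm⟩ := isMaximal_map A (CAlg2.normRed A) S hmax hres m'.asIdeal
      haveI := hM.isPrime
      obtain ⟨Q, hQ, hQle⟩ := Ideal.exists_minimalPrimes_le
        (I := (⊥ : Ideal ((CAlg2.normRed A) ⊗[A] S)))
        (J := m'.asIdeal.map (algebraMap (CAlg2.normRed A) ((CAlg2.normRed A) ⊗[A] S))) bot_le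
      refine ⟨⟨Q, hQ⟩, ?_⟩
      haveI : Q.IsPrime := hQ.1.1
      have h3 : Mx ⟨Q, hQ⟩ =
          m'.asIdeal.map (algebraMap (CAlg2.normRed A) ((CAlg2.normRed A) ⊗[A] S)) :=
        maximal_unique' A S (hMx ⟨Q, hQ⟩) hM (hQM ⟨Q, hQ⟩) hQle
      apply MaximalSpectrum.ext
      show (Mx ⟨Q, hQ⟩).comap _ = m'.asIdeal
      rw [h3, hcm]
    exact ENat.card_congr (Equiv.ofBijective f ⟨finj, fsurj⟩)
  · have hnb : Brnch.numBranches A = ⊤ := by
      unfold Brnch.numBranches
      exact if_neg hfin
    rw [hnb]
    haveI := infinite_minimalPrimes_of_faithfullyFlat A S hfin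
    exact ENat.card_eq_top_of_infinite

end Groth.Agent.Lib.Helper12.BrnchHens
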