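import Mathlib
import Groth.Agent.Lib.Helper12.BrnchC

/-!
# Ring homomorphisms out of `A' ⊗[A] S` and maximal ideals (preparations for S9238)
-/

set_option autoImplicit false
set_option linter.style.haveILetI false
universe u

namespace Groth.Agent.Lib.Helper12.BrnchHens

open TensorProduct IsLocalRing

section Lift

variable {A A' S K : Type u} [CommRing A] [CommRing A'] [CommRing S] [CommRing K] [Algebra A A']
  [Algebra A S]

/-- a pair of compatible ring maps induces a ring map out of the tensor product -/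
theorem exists_ringHom_tensor (f : A' →+* K) (g : S →+* K)
    (h : f.comp (algebraMap A A') = g.comp (algebraMap A S)) :
    ∃ θ : A' ⊗[A] S →+* K, (∀ a', θ (a' ⊗ₜ[A] 1) = f a') ∧ (∀ s, θ (1 ⊗ₜ[A] s) = g s) := by
  letI : Algebra A K := (g.comp (algebraMap A S)).toAlgebra
  let f' : A' →ₐ[A] K := { f with commutes' := fun a => RingHom.congr_fun h a }
  let g' : S →ₐ[A] K := { g with commutes' := fun a => rfl }
  refine ⟨(Algebra.TensorProduct.lift f' g' (fun _ _ => Commute.all _ _)).toRingHom, ?_, ?_⟩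
  · intro a'
    show Algebra.TensorProduct.lift f' g' _ (a' ⊗ₜ[A] 1) = f a'
    rw [Algebra.TensorProduct.lift_tmul, map_one, mul_one]
    rfl
  · intro s
    show Algebra.TensorProduct.lift f' g' _ (1 ⊗ₜ[A] s) = g s
    rw [Algebra.TensorProduct.lift_tmul, map_one, one_mul]
    rfl

theorem ringHom_tensor_ext (θ₁ θ₂ : A' ⊗[A] S →+* K)
    (h1 : ∀ a', θ₁ (a' ⊗ₜ[A] 1) = θ₂ (a' ⊗ₜ[A] 1))
    (h2 : ∀ s, θ₁ (1 ⊗ₜ[A] s) = θ₂ (1 ⊗ₜ[A] s)) : θ₁ = θ₂ := by
  refine RingHom.ext fun t => ?_
  induction t using TensorProduct.induction_on with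
  | zero => rw [map_zero, map_zero]
  | tmul a' s =>
    have : a' ⊗ₜ[A] s = (a' ⊗ₜ[A] (1 : S)) * ((1 : A') ⊗ₜ[A] s) := by
      rw [Algebra.TensorProduct.tmul_mul_tmul, mul_one, one_mul]
    rw [this, map_mul, map_mul, h1, h2]
  | add x y hx hy => rw [map_add, map_add, hx, hy]

end Lift

section Max

variable (A : Type u) [CommRing A] [IsLocalRing A] (A' : Type u) [CommRing A'] [Algebra A A']
  (S : Type u) [CommRing S] [IsLocalRing S] [Algebra A S] [Algebra.IsIntegral A A']
  [IsLocalHom (algebraMap A S)]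

attribute [local instance] Algebra.TensorProduct.rightAlgebra

/-- the contraction to `S` of a maximal ideal of `A' ⊗ S` is the maximal ideal -/
theorem comap_right_eq_maximalIdeal (M : Ideal (A' ⊗[A] S)) [hM : M.IsMaximal] :
    M.comap (algebraMap S (A' ⊗[A] S)) = maximalIdeal S := by
  haveI := isIntegral_right A A' S
  haveI h1 : (M.comap (algebraMap S (A' ⊗[A] S))).IsMaximal :=
    Ideal.isMaximal_comap_of_isIntegral_of_isMaximal M
  exact IsLocalRing.eq_maximalIdeal h1

/-- the contraction to `A'` of a maximal ideal of `A' ⊗ S` is maximal -/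
theorem isMaximal_comap_left (M : Ideal (A' ⊗[A] S)) [hM : M.IsMaximal] :
    (M.comap (algebraMap A' (A' ⊗[A] S))).IsMaximal := by
  have h2 := comap_right_eq_maximalIdeal A A' S M
  have h3 : (M.comap (algebraMap A' (A' ⊗[A] S))).comap (algebraMap A A') = maximalIdeal A := by
    rw [Ideal.comap_comap, ← IsScalarTower.algebraMap_eq A A' (A' ⊗[A] S),
      IsScalarTower.algebraMap_eq A S (A' ⊗[A] S), ← Ideal.comap_comap, h2,
      IsLocalRing.maximalIdeal_comap]
  haveI : (M.comap (algebraMap A' (A' ⊗[A] S))).IsPrime := Ideal.comap_isPrime _ _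
  apply Ideal.isMaximal_of_isIntegral_of_isMaximal_comap (R := A)
  rw [h3]
  exact maximalIdeal.isMaximal A

/-- a prime of `A' ⊗ S` over the maximal ideal of `S` is maximal -/
theorem isMaximal_of_comap_right (P : Ideal (A' ⊗[A] S)) [P.IsPrime]
    (h : P.comap (algebraMap S (A' ⊗[A] S)) = maximalIdeal S) : P.IsMaximal := by
  haveI := isIntegral_right A A' S
  apply Ideal.isMaximal_of_isIntegral_of_isMaximal_comap (R := S)
  rw [h]
  exact maximalIdeal.isMaximal S

end Max

end Groth.Agent.Lib.Helper12.BrnchHens
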