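import Mathlib
import Groth.Prelude.Def_Brnch
import Groth.Prelude.Def_Hensel
import Groth.Agent.Lib.Helper12.BrnchE
import Groth.Agent.Lib.Helper12.NormRedMinD

/-!
# Geometric branches and the maximal ideals of `normRed A ⊗ A^sh` (S9238), part 1

The map `Φ` sending a pair `(m', σ)` (a maximal ideal of `A' = normRed A` and a `κ`-embedding of its
residue field in `κ̄`) to a maximal ideal of `A' ⊗[A] S`.
-/

set_option autoImplicit false
set_option linter.style.haveILetI false
universe u

namespace Groth.Agent.Lib.Helper12.BrnchHens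

open TensorProduct IsLocalRing

section Geom

variable (A : Type u) [CommRing A] [IsLocalRing A] (S : Type u) [CommRing S] [IsLocalRing S]
  [Algebra A S] [IsLocalHom (algebraMap A S)] [Hensel.IsStrictHenselization A S]

attribute [local instance] Algebra.TensorProduct.rightAlgebra

theorem isSepClosure_res : IsSepClosure (ResidueField A) (ResidueField S) :=
  Hensel.IsStrictHenselization.isSepClosure

theorem isAlgebraic_res : Algebra.IsAlgebraic (ResidueField A) (ResidueField S) :=
  haveI := isSepClosure_res A S
  haveI : Algebra.IsSeparable (ResidueField A) (ResidueField S) := IsSepClosure.separable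
  inferInstance

/-- an embedding of the residue field of `S` into the algebraic closure of the residue field
of `A` -/
noncomputable def jRes : ResidueField S →ₐ[ResidueField A] AlgebraicClosure (ResidueField A) :=
  haveI := isAlgebraic_res A S
  IsAlgClosed.lift

/-- the resulting map from `S` to the algebraic closure -/
noncomputable def rho : S →+* AlgebraicClosure (ResidueField A) :=
  (jRes A S).toRingHom.comp (residue S)

theorem rho_apply (s : S) : rho A S s = jRes A S (residue S s) := rfl

theorem rho_comp : (rho A S).comp (algebraMap A S) = Brnch.toClosure A := by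
  refine RingHom.ext fun a => ?_
  show jRes A S (residue S (algebraMap A S a)) = algebraMap _ _ (residue A a)
  rw [← (jRes A S).commutes (residue A a)]
  rfl

theorem ker_rho : RingHom.ker (rho A S) = maximalIdeal S := by
  ext s
  rw [RingHom.mem_ker, rho_apply, map_eq_zero, residue_eq_zero_iff]

theorem toResidue_eq (m' : MaximalSpectrum (CAlg2.normRed A)) :
    Brnch.toResidue A m' =
      (Ideal.Quotient.mk m'.asIdeal).comp (algebraMap A (CAlg2.normRed A)) := rfl

theorem compat (m' : MaximalSpectrum (CAlg2.normRed A)) (σ : Brnch.Emb A m') :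
    (σ.1.comp (Ideal.Quotient.mk m'.asIdeal)).comp (algebraMap A (CAlg2.normRed A)) =
      (rho A S).comp (algebraMap A S) := by
  rw [rho_comp]
  exact σ.2

/-- the ring map `A' ⊗ S → κ̄` attached to a pair `(m', σ)` -/
noncomputable def theta (x : Σ m' : MaximalSpectrum (CAlg2.normRed A), Brnch.Emb A m') :
    (CAlg2.normRed A) ⊗[A] S →+* AlgebraicClosure (ResidueField A) :=
  Classical.choose (exists_ringHom_tensor _ _ (compat A S x.1 x.2))

theorem theta_left (x : Σ m' : MaximalSpectrum (CAlg2.normRed A), Brnch.Emb A m')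
    (a' : CAlg2.normRed A) :
    theta A S x (a' ⊗ₜ[A] 1) = x.2.1 (Ideal.Quotient.mk x.1.asIdeal a') :=
  (Classical.choose_spec (exists_ringHom_tensor _ _ (compat A S x.1 x.2))).1 a'

theorem theta_right (x : Σ m' : MaximalSpectrum (CAlg2.normRed A), Brnch.Emb A m') (s : S) :
    theta A S x (1 ⊗ₜ[A] s) = rho A S s :=
  (Classical.choose_spec (exists_ringHom_tensor _ _ (compat A S x.1 x.2))).2 s

theorem comap_ker_theta_right (x : Σ m' : MaximalSpectrum (CAlg2.normRed A), Brnch.Emb A m') :
    (RingHom.ker (theta A S x)).comap (algebraMap S ((CAlg2.normRed A) ⊗[A] S)) =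
      maximalIdeal S := by
  rw [← ker_rho A S]
  ext s
  rw [Ideal.mem_comap, RingHom.mem_ker, RingHom.mem_ker, ← theta_right A S x s]
  rfl

theorem comap_ker_theta_left (x : Σ m' : MaximalSpectrum (CAlg2.normRed A), Brnch.Emb A m') :
    (RingHom.ker (theta A S x)).comap (algebraMap (CAlg2.normRed A) ((CAlg2.normRed A) ⊗[A] S)) =
      x.1.asIdeal := by
  haveI := x.1.isMaximal
  letI : Field (CAlg2.normRed A ⧸ x.1.asIdeal) := Ideal.Quotient.field _
  ext a'
  rw [Ideal.mem_comap, RingHom.mem_ker]
  have h1 : algebraMap (CAlg2.normRed A) ((CAlg2.normRed A) ⊗[A] S) a' = a' ⊗ₜ[A] 1 := rfl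
  rw [h1, theta_left, map_eq_zero_iff _ x.2.1.injective, Ideal.Quotient.eq_zero_iff_mem]

theorem isMaximal_ker_theta (x : Σ m' : MaximalSpectrum (CAlg2.normRed A), Brnch.Emb A m') :
    (RingHom.ker (theta A S x)).IsMaximal := by
  haveI : (RingHom.ker (theta A S x)).IsPrime := RingHom.ker_isPrime _
  haveI : Algebra.IsIntegral A (CAlg2.normRed A) := NormRedMin.isIntegral_normRed A
  exact isMaximal_of_comap_right A (CAlg2.normRed A) S _ (comap_ker_theta_right A S x)

/-- the map from pairs `(m', σ)` to maximal ideals of `A' ⊗ S` -/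
noncomputable def Phi (x : Σ m' : MaximalSpectrum (CAlg2.normRed A), Brnch.Emb A m') :
    MaximalSpectrum ((CAlg2.normRed A) ⊗[A] S) :=
  ⟨RingHom.ker (theta A S x), isMaximal_ker_theta A S x⟩

end Geom

end Groth.Agent.Lib.Helper12.BrnchHens
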