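import Mathlib
import Groth.Agent.Lib.Helper12.BrnchF

/-!
# Geometric branches and the maximal ideals of `normRed A ⊗ A^sh` (S9238), part 2

The map `Φ` is a bijection.
-/

set_option autoImplicit false
set_option linter.style.haveILetI false
universe u

namespace Groth.Agent.Lib.Helper12.BrnchHens

open TensorProduct IsLocalRing

section Gen

/-- a maximal ideal of an integral algebra over a local ring, lying over the maximal ideal, is the
kernel of a ring map to a given algebraically closed extension of the residue field -/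
theorem exists_ringHom_ker_eq {S T Ω : Type u} [CommRing S] [IsLocalRing S] [CommRing T]
    [Algebra S T] [Algebra.IsIntegral S T] [Field Ω] [IsAlgClosed Ω]
    (j : ResidueField S →+* Ω) (M : Ideal T) [M.IsMaximal]
    (hM : M.comap (algebraMap S T) = maximalIdeal S) :
    ∃ θ : T →+* Ω, (∀ s, θ (algebraMap S T s) = j (residue S s)) ∧ RingHom.ker θ = M := by
  letI : Field (T ⧸ M) := Ideal.Quotient.field _
  let ιS : ResidueField S →+* T ⧸ M :=
    Ideal.Quotient.lift (maximalIdeal S) ((Ideal.Quotient.mk M).comp (algebraMap S T))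
      (fun s hs => by
        rw [← hM] at hs
        exact Ideal.Quotient.eq_zero_iff_mem.mpr hs)
  letI : Algebra (ResidueField S) (T ⧸ M) := ιS.toAlgebra
  haveI : IsScalarTower S (ResidueField S) (T ⧸ M) :=
    IsScalarTower.of_algebraMap_eq (fun s => rfl)
  haveI : Algebra.IsIntegral S (T ⧸ M) :=
    Algebra.IsIntegral.of_surjective (Ideal.Quotient.mkₐ S M) (Ideal.Quotient.mkₐ_surjective S _)
  haveI : Algebra.IsIntegral (ResidueField S) (T ⧸ M) := Algebra.IsIntegral.tower_top (R := S)
  letI : Algebra (ResidueField S) Ω := j.toAlgebra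
  let τ : (T ⧸ M) →ₐ[ResidueField S] Ω := IsAlgClosed.lift
  refine ⟨τ.toRingHom.comp (Ideal.Quotient.mk M), ?_, ?_⟩
  · intro s
    have h1 : Ideal.Quotient.mk M (algebraMap S T s) =
        algebraMap (ResidueField S) _ (residue S s) := rfl
    show τ (Ideal.Quotient.mk M (algebraMap S T s)) = _
    rw [h1, τ.commutes]
    rfl
  · ext t
    rw [RingHom.mem_ker]
    show τ (Ideal.Quotient.mk M t) = 0 ↔ _
    rw [map_eq_zero, Ideal.Quotient.eq_zero_iff_mem]

end Gen

section Geom

variable (A : Type u) [CommRing A] [IsLocalRing A] (S : Type u) [CommRing S] [IsLocalRing S]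
  [Algebra A S] [IsLocalHom (algebraMap A S)] [Hensel.IsStrictHenselization A S]

attribute [local instance] Algebra.TensorProduct.rightAlgebra

/-- every element of `κ̄` has a `q^n`-th power in the image of `S` -/
theorem exists_pow_eq_rho (u : AlgebraicClosure (ResidueField A)) :
    ∃ (q : ℕ) (_ : ExpChar (AlgebraicClosure (ResidueField A)) q) (n : ℕ) (s : S),
      rho A S s = u ^ q ^ n := by
  haveI hsc := isSepClosure_res A S
  haveI : IsSepClosed (ResidueField S) := hsc.sep_closed
  letI : Algebra (ResidueField S) (AlgebraicClosure (ResidueField A)) :=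
    (jRes A S).toRingHom.toAlgebra
  haveI : IsScalarTower (ResidueField A) (ResidueField S) (AlgebraicClosure (ResidueField A)) :=
    IsScalarTower.of_algebraMap_eq (fun x => ((jRes A S).commutes x).symm)
  haveI : Algebra.IsAlgebraic (ResidueField S) (AlgebraicClosure (ResidueField A)) :=
    Algebra.IsAlgebraic.tower_top (K := ResidueField A) (ResidueField S)
  haveI : IsPurelyInseparable (ResidueField S) (AlgebraicClosure (ResidueField A)) := inferInstance
  obtain ⟨q, hq⟩ := ExpChar.exists (ResidueField S)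
  haveI := hq
  haveI hq' : ExpChar (AlgebraicClosure (ResidueField A)) q :=
    expChar_of_injective_algebraMap
      (algebraMap (ResidueField S) (AlgebraicClosure (ResidueField A))).injective q
  obtain ⟨n, sbar, hs⟩ := IsPurelyInseparable.pow_mem (ResidueField S) q u
  obtain ⟨s, rfl⟩ := residue_surjective sbar
  exact ⟨q, hq', n, s, hs⟩

theorem Phi_injective : Function.Injective (Phi A S) := by
  rintro ⟨m₁, σ₁⟩ ⟨m₂, σ₂⟩ h
  have hk : RingHom.ker (theta A S ⟨m₁, σ₁⟩) = RingHom.ker (theta A S ⟨m₂, σ₂⟩) :=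
    congrArg MaximalSpectrum.asIdeal h
  have hm : m₁ = m₂ := by
    apply MaximalSpectrum.ext
    rw [← comap_ker_theta_left A S ⟨m₁, σ₁⟩, ← comap_ker_theta_left A S ⟨m₂, σ₂⟩, hk]
  subst hm
  congr 1
  apply Subtype.ext
  refine RingHom.ext fun y => ?_
  obtain ⟨a', rfl⟩ := Ideal.Quotient.mk_surjective y
  obtain ⟨q, hq, n, s, hs⟩ := exists_pow_eq_rho A S (σ₁.1 (Ideal.Quotient.mk m₁.asIdeal a'))
  have hmem : (a' ⊗ₜ[A] (1 : S)) ^ q ^ n - (1 : CAlg2.normRed A) ⊗ₜ[A] s ∈
      RingHom.ker (theta A S ⟨m₁, σ₁⟩) := by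
    rw [RingHom.mem_ker, map_sub, map_pow, theta_left, theta_right, hs, sub_self]
  rw [hk, RingHom.mem_ker, map_sub, map_pow, theta_left, theta_right, hs, sub_eq_zero] at hmem
  symm
  apply iterateFrobenius_inj (AlgebraicClosure (ResidueField A)) q n
  rw [iterateFrobenius_def, iterateFrobenius_def]
  exact hmem

theorem Phi_surjective : Function.Surjective (Phi A S) := by
  intro M
  haveI hM := M.isMaximal
  haveI : Algebra.IsIntegral A (CAlg2.normRed A) := NormRedMin.isIntegral_normRed A
  have hcS := comap_right_eq_maximalIdeal A (CAlg2.normRed A) S M.asIdeal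
  haveI : Algebra.IsIntegral S ((CAlg2.normRed A) ⊗[A] S) := isIntegral_right A (CAlg2.normRed A) S
  obtain ⟨θ, hθ, hkθ⟩ := exists_ringHom_ker_eq (T := (CAlg2.normRed A) ⊗[A] S)
    (jRes A S).toRingHom M.asIdeal hcS
  have hθr : ∀ s : S, θ ((1 : CAlg2.normRed A) ⊗ₜ[A] s) = rho A S s := fun s => hθ s
  let m' : MaximalSpectrum (CAlg2.normRed A) :=
    ⟨M.asIdeal.comap (algebraMap (CAlg2.normRed A) ((CAlg2.normRed A) ⊗[A] S)),
      isMaximal_comap_left A (CAlg2.normRed A) S M.asIdeal⟩
  let σ0 : CAlg2.normRed A ⧸ m'.asIdeal →+* AlgebraicClosure (ResidueField A) :=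
    Ideal.Quotient.lift m'.asIdeal
      (θ.comp (algebraMap (CAlg2.normRed A) ((CAlg2.normRed A) ⊗[A] S)))
      (fun a ha => by
        have h1 : algebraMap (CAlg2.normRed A) ((CAlg2.normRed A) ⊗[A] S) a ∈ RingHom.ker θ := by
          rw [hkθ]
          exact ha
        exact h1)
  have hσ : σ0.comp (Brnch.toResidue A m') = Brnch.toClosure A := by
    rw [← rho_comp A S]
    refine RingHom.ext fun a => ?_
    show θ (algebraMap (CAlg2.normRed A) ((CAlg2.normRed A) ⊗[A] S)
      (algebraMap A (CAlg2.normRed A) a)) = rho A S (algebraMap A S a)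
    rw [← hθr]
    congr 1
    show (algebraMap A (CAlg2.normRed A) a) ⊗ₜ[A] (1 : S) = 1 ⊗ₜ[A] (algebraMap A S a)
    rw [Algebra.algebraMap_eq_smul_one, Algebra.algebraMap_eq_smul_one, TensorProduct.smul_tmul]
  refine ⟨⟨m', ⟨σ0, hσ⟩⟩, ?_⟩
  apply MaximalSpectrum.ext
  show RingHom.ker (theta A S ⟨m', ⟨σ0, hσ⟩⟩) = M.asIdeal
  rw [← hkθ]
  congr 1
  apply ringHom_tensor_ext
  · intro a'
    rw [theta_left]
    rfl
  · intro s
    rw [theta_right, hθr]

end Geom

end Groth.Agent.Lib.Helper12.BrnchHens
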