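import Mathlib
import Groth.Agent.Lib.Helper12.BrnchG
import Groth.Agent.Lib.Helper12.BrnchD
import Groth.Agent.Lib.Helper12.StrictStruct5
import Groth.Agent.S9304

/-!
# The number of minimal primes of the strict henselization is the number of geometric
branches (S9238)
-/

set_option autoImplicit false
set_option linter.style.haveILetI false
universe u

namespace Groth.Agent.Lib.Helper12.BrnchHens

open TensorProduct IsLocalRing

variable (A S : Type u) [CommRing A] [IsLocalRing A] [CommRing S] [IsLocalRing S] [Algebra A S]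
  [IsLocalHom (algebraMap A S)] [Hensel.IsStrictHenselization A S]

theorem card_minimalPrimes_strictHenselization_eq_numGeomBranches :
    ENat.card (minimalPrimes S) = Brnch.numGeomBranches A := by
  classical
  haveI : Module.Flat A S := StrictStruct.flat_of_isStrictHenselization A S
  haveI hff : Module.FaithfullyFlat A S := Module.FaithfullyFlat.of_flat_of_isLocalHom
  by_cases hfin : (minimalPrimes A).Finite
  · have hnb : Brnch.numGeomBranches A =
        ENat.card (Σ m' : MaximalSpectrum (CAlg2.normRed A), Brnch.Emb A m') := by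
      unfold Brnch.numGeomBranches
      exact if_pos hfin
    rw [hnb]
    have hbij := Groth.Agent.S9304.result (A := A) (Ash := S) hfin
    let e1 := hbij.equiv _
    rw [← ENat.card_congr e1]
    have hex : ∀ Q : ↥(minimalPrimes ((CAlg2.normRed A) ⊗[A] S)),
        ∃ M : Ideal ((CAlg2.normRed A) ⊗[A] S), M.IsMaximal ∧ Q.1 ≤ M := fun Q =>
      Ideal.exists_le_maximal Q.1 Q.2.1.1.ne_top
    choose Mx hMx hQM using hex
    let f : ↥(minimalPrimes ((CAlg2.normRed A) ⊗[A] S)) →
        MaximalSpectrum ((CAlg2.normRed A) ⊗[A] S) := fun Q => ⟨Mx Q, hMx Q⟩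
    have finj : Function.Injective f := by
      intro Q1 Q2 h
      have h2 : Mx Q1 = Mx Q2 := congrArg MaximalSpectrum.asIdeal h
      apply Subtype.ext
      exact NormRedMax.minimalPrime_unique A S hfin Q1.2 Q2.2 (hMx Q1).ne_top (hQM Q1)
        (h2 ▸ hQM Q2)
    have fsurj : Function.Surjective f := by
      intro M
      haveI := M.isMaximal
      obtain ⟨Q, hQ, hQle⟩ := Ideal.exists_minimalPrimes_le
        (I := (⊥ : Ideal ((CAlg2.normRed A) ⊗[A] S))) (J := M.asIdeal) bot_le
      refine ⟨⟨Q, hQ⟩, ?_⟩
      haveI : Q.IsPrime := hQ.1.1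
      apply MaximalSpectrum.ext
      exact NormRedMax.maximal_unique A S (hMx ⟨Q, hQ⟩) M.isMaximal (hQM ⟨Q, hQ⟩) hQle
    rw [ENat.card_congr (Equiv.ofBijective f ⟨finj, fsurj⟩)]
    exact (ENat.card_congr (Equiv.ofBijective (Phi A S)
      ⟨Phi_injective A S, Phi_surjective A S⟩)).symm
  · have hnb : Brnch.numGeomBranches A = ⊤ := by
      unfold Brnch.numGeomBranches
      exact if_neg hfin
    rw [hnb]
    haveI := infinite_minimalPrimes_of_faithfullyFlat A S hfin
    exact ENat.card_eq_top_of_infinite

end Groth.Agent.Lib.Helper12.BrnchHens
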