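import Mathlib
import Groth.Prelude.Def_Hensel
import Groth.Prelude.Def_Brnch
import Groth.Agent.S9238
import Groth.Agent.Lib.Helper12.NormRedMinC
import Groth.Agent.Lib.Helper22.GeomBranchOne

/-!
# Branches under smooth maps, part A: general lemmas

* a map between strict henselizations over a local homomorphism;
* the strict henselization of a geometrically unibranch local ring has a unique minimal prime;
* counting minimal primes along a faithfully flat map whose "fibres over minimal primes" have a
  unique minimal prime.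
-/

set_option autoImplicit false
set_option linter.style.haveILetI false
universe u

namespace Groth.Agent.Lib.Helper12.BrSm

open IsLocalRing

/-- A local homomorphism `A → B` extends to a map of strict henselizations. -/
theorem exists_strict_map {A B S S' : Type u} [CommRing A] [IsLocalRing A] [CommRing B]
    [IsLocalRing B] [Algebra A B] [IsLocalHom (algebraMap A B)]
    [CommRing S] [IsLocalRing S] [Algebra A S] [IsLocalHom (algebraMap A S)]
    [Hensel.IsStrictHenselization A S]
    [CommRing S'] [IsLocalRing S'] [Algebra B S'] [IsLocalHom (algebraMap B S')]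
    [Hensel.IsStrictHenselization B S'] :
    ∃ φ : S →+* S', φ.comp (algebraMap A S) = (algebraMap B S').comp (algebraMap A B) ∧
      IsLocalHom φ := by
  haveI : HenselianLocalRing S' := Hensel.IsStrictHenselization.henselian (R := B)
  haveI hS := Hensel.IsStrictHenselization.isSepClosure (R := A) (S := S)
  haveI hS' := Hensel.IsStrictHenselization.isSepClosure (R := B) (S := S')
  haveI : Algebra.IsSeparable (ResidueField A) (ResidueField S) := hS.separable
  haveI : IsSepClosed (ResidueField S') := hS'.sep_closed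
  letI : Algebra (ResidueField A) (ResidueField S') :=
    ((ResidueField.map (algebraMap B S')).comp (ResidueField.map (algebraMap A B))).toAlgebra
  let τa : ResidueField S →ₐ[ResidueField A] ResidueField S' := IsSepClosed.lift
  haveI hloc1 : IsLocalHom ((algebraMap B S').comp (algebraMap A B)) :=
    RingHom.isLocalHom_comp _ _
  have hcompat1 : τa.toRingHom.comp (ResidueField.map (algebraMap A S)) =
      ResidueField.map ((algebraMap B S').comp (algebraMap A B)) := by
    refine RingHom.ext fun x => ?_
    have h1 : τa.toRingHom (ResidueField.map (algebraMap A S) x) =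
        (ResidueField.map (algebraMap B S')) ((ResidueField.map (algebraMap A B)) x) :=
      τa.commutes x
    rw [RingHom.comp_apply, h1]
    exact (RingHom.congr_fun (ResidueField.map_comp (algebraMap A B) (algebraMap B S')) x).symm
  obtain ⟨φ, ⟨hφ1, hφ2⟩, -⟩ := Hensel.IsStrictHenselization.universal (R := A) (S := S) S'
    ((algebraMap B S').comp (algebraMap A B)) τa.toRingHom hcompat1
  refine ⟨φ, hφ1, ⟨fun x hx => ?_⟩⟩
  by_contra hnu
  have h1 : residue S x = 0 := (residue_eq_zero_iff x).mpr ((IsLocalRing.mem_maximalIdeal x).mpr hnu)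
  have h2 : residue S' (φ x) = 0 := by rw [hφ2, h1, map_zero]
  exact ((IsLocalRing.mem_maximalIdeal _).mp ((residue_eq_zero_iff _).mp h2)) hx

/-- The strict henselization of a geometrically unibranch local ring has at most one minimal
prime. -/
theorem minimalPrimes_subsingleton_of_isGeomUnibranch (A S : Type u) [CommRing A] [IsLocalRing A]
    [CommRing S] [IsLocalRing S] [Algebra A S] [IsLocalHom (algebraMap A S)]
    [Hensel.IsStrictHenselization A S] (hA : CAlg2.IsGeomUnibranch A) :
    ∀ p ∈ minimalPrimes S, ∀ p' ∈ minimalPrimes S, p = p' := by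
  have h1 : ENat.card (minimalPrimes S) = 1 := by
    rw [Groth.Agent.S9238.result A S]
    exact (Groth.Agent.Lib.Helper22.GeomBranchOne.main A).mpr hA
  have h2 : (minimalPrimes S).encard = 1 := by
    rw [← h1]
    rfl
  intro p hp p' hp'
  exact Set.encard_le_one_iff.mp h2.le p p' hp hp'

/-- Ring isomorphisms preserve the number of minimal primes. -/
theorem encard_minimalPrimes_of_ringEquiv {E F : Type*} [CommRing E] [CommRing F] (e : E ≃+* F) :
    (minimalPrimes E).encard = (minimalPrimes F).encard := by
  have himg : (Ideal.comap (e : E →+* F)) '' (minimalPrimes F) = minimalPrimes E := by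
    have h := Ideal.comap_minimalPrimes_eq_of_surjective (f := (e : E →+* F)) e.surjective
      (⊥ : Ideal F)
    have hker : Ideal.comap (e : E →+* F) ⊥ = ⊥ := by
      rw [← RingHom.ker_eq_comap_bot]
      exact (RingHom.injective_iff_ker_eq_bot _).mp e.injective
    rw [hker] at h
    exact h.symm
  rw [← himg]
  refine Set.InjOn.encard_image ?_
  intro p _ q _ hpq
  exact Ideal.comap_injective_of_surjective (e : E →+* F) e.surjective hpq

/-- Along a faithfully flat map `R → E` such that for every minimal prime `P` of `R` the ring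
`E / P E` has at most one minimal prime, contraction is a bijection on minimal primes. -/
theorem encard_minimalPrimes_eq_of_flat (R E : Type*) [CommRing R] [CommRing E] [Algebra R E]
    [Module.FaithfullyFlat R E]
    (huniq : ∀ P ∈ minimalPrimes R,
      ∀ n₁ ∈ minimalPrimes (E ⧸ P.map (algebraMap R E)),
      ∀ n₂ ∈ minimalPrimes (E ⧸ P.map (algebraMap R E)), n₁ = n₂) :
    (minimalPrimes E).encard = (minimalPrimes R).encard := by
  have hmaps : ∀ q ∈ minimalPrimes E, q.comap (algebraMap R E) ∈ minimalPrimes R := fun q hq =>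
    Groth.Agent.Lib.Helper12.NormRedMin.comap_mem_minimalPrimes_of_goingDown hq
  have himg : (Ideal.comap (algebraMap R E)) '' (minimalPrimes E) = minimalPrimes R := by
    apply Set.Subset.antisymm
    · rintro _ ⟨q, hq, rfl⟩
      exact hmaps q hq
    · intro P hP
      haveI : P.IsPrime := hP.1.1
      obtain ⟨q', hq'⟩ := PrimeSpectrum.comap_surjective_of_faithfullyFlat (B := E) ⟨P, inferInstance⟩
      have hq'P : q'.asIdeal.comap (algebraMap R E) = P := congrArg PrimeSpectrum.asIdeal hq'
      obtain ⟨q, hq, hqle⟩ := Ideal.exists_minimalPrimes_le (I := (⊥ : Ideal E)) (J := q'.asIdeal)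
        bot_le
      refine ⟨q, hq, ?_⟩
      have h1 := hmaps q hq
      have h2 : q.comap (algebraMap R E) ≤ P := by
        rw [← hq'P]
        exact Ideal.comap_mono hqle
      exact le_antisymm h2 (hP.2 h1.1 h2)
  rw [← himg]
  refine (Set.InjOn.encard_image ?_).symm
  intro q₁ hq₁ q₂ hq₂ h12
  have h12' : q₁.comap (algebraMap R E) = q₂.comap (algebraMap R E) := h12
  set P := q₁.comap (algebraMap R E) with hP
  have hPmin : P ∈ minimalPrimes R := hmaps q₁ hq₁
  set J := P.map (algebraMap R E) with hJ
  have hJ1 : J ≤ q₁ := Ideal.map_le_iff_le_comap.mpr le_rfl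
  have hJ2 : J ≤ q₂ := Ideal.map_le_iff_le_comap.mpr h12'.le
  -- the key step
  have key : ∀ q ∈ minimalPrimes E, J ≤ q →
      ∀ n ∈ minimalPrimes (E ⧸ J), n ≤ q.map (Ideal.Quotient.mk J) →
        q = n.comap (Ideal.Quotient.mk J) := by
    intro q hq hJq n hn hnq
    haveI : n.IsPrime := hn.1.1
    have h1 : n.comap (Ideal.Quotient.mk J) ≤ q := by
      have h2 := Ideal.comap_mono (f := Ideal.Quotient.mk J) hnq
      rwa [Ideal.comap_map_of_surjective _ Ideal.Quotient.mk_surjective, ← RingHom.ker_eq_comap_bot,
        Ideal.mk_ker, sup_eq_left.mpr hJq] at h2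
    exact le_antisymm (hq.2 ⟨Ideal.comap_isPrime _ _, bot_le⟩ h1) h1
  haveI : q₁.IsPrime := hq₁.1.1
  haveI : q₂.IsPrime := hq₂.1.1
  have hker1 : RingHom.ker (Ideal.Quotient.mk J) ≤ q₁ := by rw [Ideal.mk_ker]; exact hJ1
  have hker2 : RingHom.ker (Ideal.Quotient.mk J) ≤ q₂ := by rw [Ideal.mk_ker]; exact hJ2
  haveI : (q₁.map (Ideal.Quotient.mk J)).IsPrime :=
    Ideal.map_isPrime_of_surjective Ideal.Quotient.mk_surjective hker1
  haveI : (q₂.map (Ideal.Quotient.mk J)).IsPrime :=
    Ideal.map_isPrime_of_surjective Ideal.Quotient.mk_surjective hker2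
  obtain ⟨n₁, hn₁, hn₁le⟩ := Ideal.exists_minimalPrimes_le (I := (⊥ : Ideal (E ⧸ J)))
    (J := q₁.map (Ideal.Quotient.mk J)) bot_le
  obtain ⟨n₂, hn₂, hn₂le⟩ := Ideal.exists_minimalPrimes_le (I := (⊥ : Ideal (E ⧸ J)))
    (J := q₂.map (Ideal.Quotient.mk J)) bot_le
  have hn12 : n₁ = n₂ := huniq P hPmin n₁ hn₁ n₂ hn₂
  rw [key q₁ hq₁ hJ1 n₁ hn₁ hn₁le, key q₂ hq₂ hJ2 n₂ hn₂ hn₂le, hn12]

end Groth.Agent.Lib.Helper12.BrSm
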