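import Mathlib.RingTheory.Henselian
import Mathlib.RingTheory.AdjoinRoot
import Mathlib.RingTheory.Nakayama
import Mathlib.RingTheory.LocalRing.ResidueField.Basic

set_option autoImplicit false
universe u

namespace Groth.Agent.Lib.Helper12

open IsLocalRing Polynomial

/-- Core of the converse direction: a local factor of `R[X]/(f)` at a simple residual root
produces a root of `f`. -/
theorem exists_root_of_local_factor (R : Type u) [CommRing R] [IsLocalRing R] (f : R[X])
    (hf : f.Monic) (a₀ : R) (h₁ : f.eval a₀ ∈ maximalIdeal R)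
    (h₂ : IsUnit (f.derivative.eval a₀))
    (A : Type u) [CommRing A] [IsLocalRing A] [Algebra R A]
    (p : AdjoinRoot f →ₐ[R] A) (hp : Function.Surjective p)
    (χ : A →+* ResidueField R) (hχR : ∀ r, χ (algebraMap R A r) = residue R r)
    (hχx : χ (p (AdjoinRoot.root f)) = residue R a₀)
    (e : AdjoinRoot f) (he : χ (p e) ≠ 0) (hker : ∀ b, p b = 0 → b * e = 0) :
    ∃ a : R, f.IsRoot a ∧ a - a₀ ∈ maximalIdeal R := by
  have : Module.Finite R (AdjoinRoot f) := hf.finite_adjoinRoot
  have : Module.Finite R A := Module.Finite.of_surjective p.toLinearMap hp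
  have hχc : χ.comp (algebraMap R A) = residue R := RingHom.ext hχR
  have hχs : Function.Surjective χ := fun z => by
    obtain ⟨r, rfl⟩ := residue_surjective z
    exact ⟨algebraMap R A r, hχR r⟩
  have hunit : ∀ z : A, χ z ≠ 0 → IsUnit z := by
    intro z hz
    by_contra hzu
    have : z ∈ maximalIdeal A := hzu
    rw [← ker_eq_maximalIdeal χ hχs] at this
    exact hz this
  set y : A := p (AdjoinRoot.root f) with hy
  have hyf : aeval y f = 0 := by
    rw [hy, aeval_algHom_apply, AdjoinRoot.aeval_eq, AdjoinRoot.mk_self, map_zero]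
  -- division
  set g : R[X] := f /ₘ (X - C a₀) with hg
  have hfg : f = C (f.eval a₀) + (X - C a₀) * g := by
    rw [← modByMonic_X_sub_C_eq_C_eval, hg, modByMonic_add_div]
  have hg0 : g.eval a₀ = f.derivative.eval a₀ := by
    conv_rhs => rw [hfg]
    simp
  have hχg : χ (aeval y g) ≠ 0 := by
    rw [aeval_def, hom_eval₂, hχc, hχx, eval₂_at_apply, hg0]
    rw [Ne, residue_eq_zero_iff]
    exact fun h => h h₂
  have hu := hunit _ hχg
  set J : Ideal A := Ideal.map (algebraMap R A) (maximalIdeal R) with hJ
  have hyJ : y - algebraMap R A a₀ ∈ J := by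
    have h0 : algebraMap R A (f.eval a₀) + (y - algebraMap R A a₀) * aeval y g = 0 := by
      rw [← hyf]
      conv_rhs => rw [hfg]
      simp
    obtain ⟨u, hu'⟩ := hu
    have h3 : y - algebraMap R A a₀ = -(algebraMap R A (f.eval a₀)) * ↑u⁻¹ := by
      rw [← hu'] at h0
      have h4 : (y - algebraMap R A a₀) * ↑u = -(algebraMap R A (f.eval a₀)) := by
        linear_combination h0
      rw [← h4, mul_assoc, Units.mul_inv, mul_one]
    rw [h3]
    exact J.mul_mem_right _ (J.neg_mem (Ideal.mem_map_of_mem _ h₁))
  have hsurj : Function.Surjective (algebraMap R A) := by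
    have hs : Function.Surjective (Algebra.linearMap R A) := by
      apply LinearMap.surjective_of_surjective_comp_mkQ (Algebra.linearMap R A) (maximalIdeal R)
      · rw [jacobson_eq_maximalIdeal _ bot_ne_top]
      · intro z
        obtain ⟨z, rfl⟩ := Submodule.mkQ_surjective _ z
        obtain ⟨b, rfl⟩ := hp z
        obtain ⟨q, rfl⟩ := AdjoinRoot.mk_surjective b
        refine ⟨q.eval a₀, ?_⟩
        simp only [LinearMap.comp_apply, Algebra.linearMap_apply]
        rw [← sub_eq_zero, ← map_sub, Submodule.mkQ_apply, Submodule.Quotient.mk_eq_zero,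
          Ideal.smul_top_eq_map]
        show _ ∈ J
        have h5 : p (AdjoinRoot.mk f q) = aeval y q := by
          rw [hy, aeval_algHom_apply, AdjoinRoot.aeval_eq]
        rw [h5, ← aeval_algebraMap_apply_eq_algebraMap_eval, ← Ideal.neg_mem_iff, neg_sub]
        have := Polynomial.sub_dvd_eval_sub y (algebraMap R A a₀) (q.map (algebraMap R A))
        simp only [eval_map_algebraMap] at this
        exact Ideal.mem_of_dvd _ this hyJ
    exact hs
  have hinj : Function.Injective (algebraMap R A) := by
    rw [injective_iff_map_eq_zero]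
    intro r hr
    have h6 : algebraMap R (AdjoinRoot f) r * e = 0 := hker _ (by rw [p.commutes, hr])
    let b := (AdjoinRoot.powerBasis' hf).basis
    have h7 : ∀ j, r * b.repr e j = 0 := by
      intro j
      have : b.repr (algebraMap R (AdjoinRoot f) r * e) j = 0 := by rw [h6]; simp
      rwa [← Algebra.smul_def, map_smul, Finsupp.smul_apply, smul_eq_mul] at this
    obtain ⟨j, hj⟩ : ∃ j, IsUnit (b.repr e j) := by
      by_contra hcon
      push Not at hcon
      apply he
      rw [← b.sum_repr e, map_sum, map_sum]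
      apply Finset.sum_eq_zero
      intro j _
      rw [Algebra.smul_def, map_mul, map_mul, p.commutes, hχR,
        (residue_eq_zero_iff _).mpr (hcon j), zero_mul]
    exact (hj.mul_left_eq_zero).mp (h7 j)
  obtain ⟨a, ha⟩ := hsurj y
  refine ⟨a, ?_, ?_⟩
  · apply hinj
    rw [map_zero, ← aeval_algebraMap_apply_eq_algebraMap_eval, ha, hyf]
  · rw [← residue_eq_zero_iff, map_sub, ← hχR a, ha, hχx, sub_self]

end Groth.Agent.Lib.Helper12
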