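import Mathlib
import Groth.Prelude.Def_Hensel
import Groth.Agent.S0505

/-!
# The strict henselization of a quotient `A/I` is `Ash / I Ash`
-/

set_option autoImplicit false
universe u

namespace Groth.Agent.Lib.Helper12.StrictQuotient

open IsLocalRing Polynomial

/-- Separable closedness transfers along ring isomorphisms. -/
theorem isSepClosed_of_ringEquiv {K₁ K₂ : Type*} [Field K₁] [Field K₂] (e : K₁ ≃+* K₂)
    [IsSepClosed K₁] : IsSepClosed K₂ := by
  refine IsSepClosed.of_exists_root K₂ fun p _ hirr hsep => ?_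
  have hsep' : (p.map (e.symm : K₂ →+* K₁)).Separable := hsep.map
  have hdeg : (p.map (e.symm : K₂ →+* K₁)).degree ≠ 0 := by
    rw [Polynomial.degree_map]
    exact (Polynomial.degree_pos_of_irreducible hirr).ne'
  obtain ⟨x, hx⟩ := IsSepClosed.exists_root _ hdeg hsep'
  refine ⟨e x, ?_⟩
  have h1 : p = (p.map (e.symm : K₂ →+* K₁)).map (e : K₁ →+* K₂) := by
    rw [Polynomial.map_map]
    have : (e : K₁ →+* K₂).comp (e.symm : K₂ →+* K₁) = RingHom.id K₂ := by
      ext y; simp
    rw [this, Polynomial.map_id]
  rw [h1, Polynomial.eval_map]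
  have : (e x) = (e : K₁ →+* K₂) x := rfl
  rw [this, Polynomial.eval₂_at_apply, hx, map_zero]

variable (A Ash : Type u) [CommRing A] [IsLocalRing A] [CommRing Ash] [IsLocalRing Ash]
  [Algebra A Ash] [IsLocalHom (algebraMap A Ash)] [Hensel.IsStrictHenselization A Ash]

theorem isStrictHenselization_quotient (I : Ideal A) (hI : I ≠ ⊤) :
    ∃ (_ : IsLocalRing (A ⧸ I)) (_ : IsLocalRing (Ash ⧸ I.map (algebraMap A Ash)))
      (_ : IsLocalHom (algebraMap (A ⧸ I) (Ash ⧸ I.map (algebraMap A Ash)))),
      Hensel.IsStrictHenselization (A ⧸ I) (Ash ⧸ I.map (algebraMap A Ash)) := by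
  have hIm : I ≤ maximalIdeal A := IsLocalRing.le_maximalIdeal hI
  have hJm : I.map (algebraMap A Ash) ≤ maximalIdeal Ash := by
    rw [Ideal.map_le_iff_le_comap, IsLocalRing.maximalIdeal_comap]
    exact hIm
  haveI : Nontrivial (A ⧸ I) := Ideal.Quotient.nontrivial_iff.mpr hI
  haveI : Nontrivial (Ash ⧸ I.map (algebraMap A Ash)) :=
    Ideal.Quotient.nontrivial_iff.mpr (fun h => by
      rw [h] at hJm
      exact (maximalIdeal.isMaximal Ash).ne_top (top_le_iff.mp hJm))
  haveI hR : IsLocalRing (A ⧸ I) :=
    IsLocalRing.of_surjective' (Ideal.Quotient.mk I) Ideal.Quotient.mk_surjective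
  haveI hT : IsLocalRing (Ash ⧸ I.map (algebraMap A Ash)) :=
    IsLocalRing.of_surjective' (Ideal.Quotient.mk _) Ideal.Quotient.mk_surjective
  haveI hmkI : IsLocalHom (Ideal.Quotient.mk I) :=
    IsLocalHom.of_surjective _ Ideal.Quotient.mk_surjective
  haveI hmkJ : IsLocalHom (Ideal.Quotient.mk (I.map (algebraMap A Ash))) :=
    IsLocalHom.of_surjective _ Ideal.Quotient.mk_surjective
  have hsq : (algebraMap (A ⧸ I) (Ash ⧸ I.map (algebraMap A Ash))).comp (Ideal.Quotient.mk I) =
      (Ideal.Quotient.mk (I.map (algebraMap A Ash))).comp (algebraMap A Ash) := by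
    ext a; rfl
  haveI hloc : IsLocalHom (algebraMap (A ⧸ I) (Ash ⧸ I.map (algebraMap A Ash))) := by
    refine ⟨fun x hx => ?_⟩
    obtain ⟨a, rfl⟩ := Ideal.Quotient.mk_surjective x
    have h1 : IsUnit ((Ideal.Quotient.mk (I.map (algebraMap A Ash))) (algebraMap A Ash a)) := hx
    have h2 : IsUnit (algebraMap A Ash a) := isUnit_of_map_unit _ _ h1
    exact (isUnit_of_map_unit (algebraMap A Ash) a h2).map _
  refine ⟨hR, hT, hloc, ?_⟩
  haveI : HenselianLocalRing Ash := Hensel.IsStrictHenselization.henselian (R := A)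
  have hsc : IsSepClosure (ResidueField A) (ResidueField Ash) :=
    Hensel.IsStrictHenselization.isSepClosure
  haveI : IsSepClosed (ResidueField Ash) := hsc.sep_closed
  haveI : Algebra.IsSeparable (ResidueField A) (ResidueField Ash) := hsc.separable
  -- residue field isomorphisms
  have hbijI : Function.Bijective (ResidueField.map (Ideal.Quotient.mk I)) :=
    ⟨RingHom.injective _, by
      intro x
      obtain ⟨y, rfl⟩ := residue_surjective x
      obtain ⟨a, rfl⟩ := Ideal.Quotient.mk_surjective y
      exact ⟨residue A a, rfl⟩⟩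
  have hbijJ : Function.Bijective (ResidueField.map (Ideal.Quotient.mk (I.map (algebraMap A Ash)))) :=
    ⟨RingHom.injective _, by
      intro x
      obtain ⟨y, rfl⟩ := residue_surjective x
      obtain ⟨a, rfl⟩ := Ideal.Quotient.mk_surjective y
      exact ⟨residue Ash a, rfl⟩⟩
  let eI := RingEquiv.ofBijective _ hbijI
  let eJ := RingEquiv.ofBijective _ hbijJ
  have hres : (ResidueField.map (algebraMap (A ⧸ I) (Ash ⧸ I.map (algebraMap A Ash)))).comp
      (ResidueField.map (Ideal.Quotient.mk I)) =
      (ResidueField.map (Ideal.Quotient.mk (I.map (algebraMap A Ash)))).comp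
        (ResidueField.map (algebraMap A Ash)) := by
    rw [← ResidueField.map_comp, ← ResidueField.map_comp]
    congr 1
  constructor
  · -- henselian
    haveI : Module.Finite Ash (Ash ⧸ I.map (algebraMap A Ash)) :=
      Module.Finite.of_surjective (Algebra.linearMap Ash _) Ideal.Quotient.mk_surjective
    exact Groth.Agent.S0505.result Ash _
  · -- separable closure
    refine ⟨isSepClosed_of_ringEquiv eJ, ⟨fun x => ?_⟩⟩
    obtain ⟨x', rfl⟩ := hbijJ.2 x
    have hx' : IsSeparable (ResidueField A) x' := Algebra.IsSeparable.isSeparable _ x'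
    let p := minpoly (ResidueField A) x'
    have hp : p.Separable := hx'
    have hpx : aeval x' p = 0 := minpoly.aeval _ _
    let p' := p.map (ResidueField.map (Ideal.Quotient.mk I))
    have hp' : p'.Separable := hp.map
    have hroot : aeval (ResidueField.map (Ideal.Quotient.mk (I.map (algebraMap A Ash))) x') p' = 0 := by
      rw [Polynomial.aeval_def, Polynomial.eval₂_map]
      have : (algebraMap (ResidueField (A ⧸ I)) (ResidueField (Ash ⧸ I.map (algebraMap A Ash)))).comp
          (ResidueField.map (Ideal.Quotient.mk I)) =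
          (ResidueField.map (Ideal.Quotient.mk (I.map (algebraMap A Ash)))).comp
            (algebraMap (ResidueField A) (ResidueField Ash)) := hres
      rw [this, ← Polynomial.eval₂_map, Polynomial.eval₂_at_apply, Polynomial.eval_map,
        ← Polynomial.aeval_def, hpx, map_zero]
    exact hp'.of_dvd (minpoly.dvd _ _ hroot)
  · -- universal property
    intro T' _ _ f hf τ hτ
    haveI : IsLocalHom (f.comp (Ideal.Quotient.mk I)) := RingHom.isLocalHom_comp _ _
    have hcompat : (τ.comp (ResidueField.map (Ideal.Quotient.mk (I.map (algebraMap A Ash))))).comp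
        (ResidueField.map (algebraMap A Ash)) = ResidueField.map (f.comp (Ideal.Quotient.mk I)) := by
      rw [RingHom.comp_assoc, ← hres, ← RingHom.comp_assoc, hτ, ← ResidueField.map_comp]
    obtain ⟨g₀, ⟨hg₀1, hg₀2⟩, hg₀u⟩ := Hensel.IsStrictHenselization.universal (R := A) (S := Ash) T'
      (f.comp (Ideal.Quotient.mk I))
      (τ.comp (ResidueField.map (Ideal.Quotient.mk (I.map (algebraMap A Ash))))) hcompat
    have hkill : ∀ y ∈ I.map (algebraMap A Ash), g₀ y = 0 := by
      intro y hy
      have : I.map (algebraMap A Ash) ≤ RingHom.ker g₀ := by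
        rw [Ideal.map_le_iff_le_comap]
        intro a ha
        rw [Ideal.mem_comap, RingHom.mem_ker]
        have := congrArg (fun h : A →+* T' => h a) hg₀1
        simp only [RingHom.comp_apply] at this
        rw [this, Ideal.Quotient.eq_zero_iff_mem.mpr ha, map_zero]
      exact RingHom.mem_ker.mp (this hy)
    refine ⟨Ideal.Quotient.lift _ g₀ hkill, ⟨?_, ?_⟩, ?_⟩
    · apply Ideal.Quotient.ringHom_ext
      ext a
      have := congrArg (fun h : A →+* T' => h a) hg₀1
      simp only [RingHom.comp_apply] at this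
      show Ideal.Quotient.lift _ g₀ hkill (Ideal.Quotient.mk _ (algebraMap A Ash a)) = _
      rw [Ideal.Quotient.lift_mk]
      exact this
    · intro x
      obtain ⟨y, rfl⟩ := Ideal.Quotient.mk_surjective x
      rw [Ideal.Quotient.lift_mk, hg₀2]
      rfl
    · rintro g' ⟨hg'1, hg'2⟩
      have : g'.comp (Ideal.Quotient.mk (I.map (algebraMap A Ash))) = g₀ := by
        apply hg₀u
        constructor
        · rw [RingHom.comp_assoc, ← hsq, ← RingHom.comp_assoc, hg'1]
        · intro y
          rw [RingHom.comp_apply, hg'2]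
          rfl
      apply Ideal.Quotient.ringHom_ext
      rw [this]
      ext y
      simp

end Groth.Agent.Lib.Helper12.StrictQuotient
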