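import Groth.Agent.Lib.Helper12.HenselizationNoeth
import Groth.Agent.Lib.helper19.CompletionNoetherian
import Groth.Agent.Lib.Helper29.HenselUniv
import Mathlib.RingTheory.AdicCompletion.LocalRing

set_option autoImplicit false
universe u

namespace Groth.Agent.Lib.Helper12

open IsLocalRing

section AdicAux
variable {R : Type*} [CommRing R] (I : Ideal R)

theorem ker_evalₐ_eq_map (fg : I.FG) (n : ℕ) :
    RingHom.ker (AdicCompletion.evalₐ I n).toRingHom =
      (I ^ n).map (algebraMap R (AdicCompletion I R)) := by
  ext x
  trans x ∈ (AdicCompletion.eval I R n).ker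
  · have eq : I ^ n * ⊤ = I ^ n := by simp
    have : Function.Injective (Ideal.Quotient.factor ((le_of_eq eq))) := by
      simpa [RingHom.injective_iff_ker_eq_bot, Ideal.Quotient.factor_ker]
        using Ideal.map_mk_eq_bot_of_le (le_of_eq eq.symm)
    simpa [← AdicCompletion.factor_eval_eq_evalₐ] using map_eq_zero_iff _ this
  · rw [← AdicCompletion.pow_smul_top_eq_ker_eval fg, Ideal.smul_top_eq_map]
    rfl

end AdicAux

variable (A : Type u) [CommRing A] [IsLocalRing A] [IsNoetherianRing A]

namespace Henselization

instance : IsNoetherianRing (AdicCompletion (maximalIdeal A) A) :=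
  Groth.Agent.Lib.helper19.isNoetherianRing_adicCompletion A _

instance : HenselianLocalRing (AdicCompletion (maximalIdeal A) A) :=
  henselianLocalRing_of_henselianRing _

/-- The canonical map from the henselization to the completion. -/
noncomputable def toCompletion : Henselization A →ₐ[A] AdicCompletion (maximalIdeal A) A :=
  lift A _

variable {A}

theorem mem_pow_of_algebraMap_mem (n : ℕ) (a : A)
    (h : algebraMap A (AdicCompletion (maximalIdeal A) A) a ∈
      (maximalIdeal A ^ n).map (algebraMap A (AdicCompletion (maximalIdeal A) A))) :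
    a ∈ maximalIdeal A ^ n := by
  rw [← ker_evalₐ_eq_map _ (maximalIdeal A).fg_of_isNoetherianRing, RingHom.mem_ker] at h
  have h' : AdicCompletion.evalₐ (maximalIdeal A) n
      (AdicCompletion.of (maximalIdeal A) A a) = 0 := h
  rw [AdicCompletion.evalₐ_of] at h'
  exact Ideal.Quotient.eq_zero_iff_mem.mp h'

theorem exists_sub_algebraMap_mem (n : ℕ) (y : AdicCompletion (maximalIdeal A) A) :
    ∃ a : A, y - algebraMap A _ a ∈
      (maximalIdeal A ^ n).map (algebraMap A (AdicCompletion (maximalIdeal A) A)) := by
  obtain ⟨a, ha⟩ := Ideal.Quotient.mk_surjective (AdicCompletion.evalₐ (maximalIdeal A) n y)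
  refine ⟨a, ?_⟩
  rw [← ker_evalₐ_eq_map _ (maximalIdeal A).fg_of_isNoetherianRing, RingHom.mem_ker]
  show AdicCompletion.evalₐ (maximalIdeal A) n (y - AdicCompletion.of (maximalIdeal A) A a) = 0
  rw [map_sub, AdicCompletion.evalₐ_of, ha, sub_self]

end Henselization

end Groth.Agent.Lib.Helper12
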