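import Groth.Agent.Lib.Helper12.HenselPairOps
import Mathlib.RingTheory.Spectrum.Prime.Topology

set_option autoImplicit false
universe u v

/-!
# Connectedness of `V(p + I)` for a henselian pair
-/

namespace Groth.Agent.Lib.Helper12

open Polynomial

theorem connectedSpace_primeSpectrum_of_idempotents (R : Type*) [CommRing R] [Nontrivial R]
    (h : ∀ e : R, IsIdempotentElem e → e = 0 ∨ e = 1) : ConnectedSpace (PrimeSpectrum R) := by
  rw [connectedSpace_iff_clopen]
  refine ⟨inferInstance, ?_⟩
  intro s hs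
  obtain ⟨e, f, hmul, hadd, rfl⟩ := PrimeSpectrum.isClopen_iff_mul_add.mp hs
  have he : IsIdempotentElem e := (IsIdempotentElem.of_mul_add hmul hadd).1
  rcases h e he with rfl | rfl
  · left
    simp
  · right
    simp

theorem connectedSpace_quotient_sup (A : Type u) [CommRing A] (I : Ideal A) [HenselianRing A I]
    (p : Ideal A) [p.IsPrime] : ConnectedSpace (PrimeSpectrum (A ⧸ p ⊔ I)) := by
  have hjacI : I ≤ Ideal.jacobson ⊥ := HenselianRing.jac
  haveI hq : HenselianRing (A ⧸ p) (I.map (Ideal.Quotient.mk p)) := henselianRing_quotient A I p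
  have hjacq : I.map (Ideal.Quotient.mk p) ≤ Ideal.jacobson ⊥ := HenselianRing.jac
  have hne : p ⊔ I ≠ ⊤ := by
    obtain ⟨m, hm, hpm⟩ := Ideal.exists_le_maximal p (Ideal.IsPrime.ne_top inferInstance)
    have hIm : I ≤ m := by
      intro x hx
      have := hjacI hx
      rw [Ideal.jacobson, Ideal.mem_sInf] at this
      exact this ⟨bot_le, hm⟩
    intro h
    exact hm.ne_top (top_le_iff.mp (h ▸ sup_le hpm hIm))
  haveI : Nontrivial (A ⧸ p ⊔ I) := Ideal.Quotient.nontrivial_iff.mpr hne
  apply connectedSpace_primeSpectrum_of_idempotents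
  intro e' he'
  obtain ⟨b, rfl⟩ := Ideal.Quotient.mk_surjective e'
  have hb : b * b - b ∈ p ⊔ I := by
    rw [← Ideal.Quotient.eq, map_mul]
    exact he'
  set mkp := Ideal.Quotient.mk p with hmkp
  have hmapmem : ∀ x ∈ p ⊔ I, mkp x ∈ I.map mkp := by
    intro x hx
    obtain ⟨i, hi, j, hj, rfl⟩ := Submodule.mem_sup.mp hx
    rw [map_add, Ideal.Quotient.eq_zero_iff_mem.mpr hi, zero_add]
    exact Ideal.mem_map_of_mem _ hj
  have hback : ∀ x : A, mkp x ∈ I.map mkp → x ∈ p ⊔ I := by
    intro x hx
    obtain ⟨i, hi, hieq⟩ :=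
      (Ideal.mem_map_iff_of_surjective mkp Ideal.Quotient.mk_surjective).mp hx
    have : x - i ∈ p := by
      rw [← Ideal.Quotient.eq_zero_iff_mem, map_sub, ← hmkp, hieq, sub_self]
    have e : x = (x - i) + i := by ring
    rw [e]
    exact Submodule.add_mem_sup this hi
  have hb' : mkp b * mkp b - mkp b ∈
      (I.map mkp).map (algebraMap (A ⧸ p) (A ⧸ p)) := by
    rw [Algebra.algebraMap_self, Ideal.map_id, ← map_mul, ← map_sub]
    exact hmapmem _ hb
  obtain ⟨e, he, hdiff⟩ := exists_idempotent_lift_of_isIntegral hjacq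
    (factorLift_of_henselianRing (I := I.map mkp)) (mkp b) hb'
  rw [Algebra.algebraMap_self, Ideal.map_id] at hdiff
  rcases IsIdempotentElem.iff_eq_zero_or_one.mp he with rfl | rfl
  · left
    rw [Ideal.Quotient.eq_zero_iff_mem]
    apply hback
    have := (I.map mkp).neg_mem hdiff
    simpa using this
  · right
    rw [← map_one (Ideal.Quotient.mk (p ⊔ I)), Ideal.Quotient.eq]
    apply hback
    have := (I.map mkp).neg_mem hdiff
    rw [map_sub, map_one]
    simpa using this

end Groth.Agent.Lib.Helper12
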