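import Groth.Agent.Lib.Helper12.IdemLift

set_option autoImplicit false
universe u v

/-!
# Idempotents lift along integral algebras over a henselian pair
-/

namespace Groth.Agent.Lib.Helper12

open Polynomial

variable {A : Type u} [CommRing A] {I : Ideal A}

theorem exists_idempotent_lift_of_isIntegral (hjac : I ≤ Ideal.jacobson ⊥) (hfl : FactorLift I)
    {B : Type*} [CommRing B] [Algebra A B] [Algebra.IsIntegral A B] (b : B)
    (hb : b * b - b ∈ I.map (algebraMap A B)) :
    ∃ e : B, IsIdempotentElem e ∧ e - b ∈ I.map (algebraMap A B) := by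
  classical
  have hb' : b * b - b ∈ I • Submodule.span A (Set.range (id : B → B)) := by
    rw [Set.range_id, Submodule.span_univ, Ideal.smul_top_eq_map]
    exact hb
  obtain ⟨a, haI, hsum⟩ := (Submodule.mem_ideal_smul_span_iff_exists_sum I (id : B → B) _).mp hb'
  set s : Set B := insert b (a.support : Set B) with hs
  have hsfin : s.Finite := (Finset.finite_toSet a.support).insert b
  set B' : Subalgebra A B := Algebra.adjoin A s with hB'
  haveI : Module.Finite A B' :=
    Algebra.finite_adjoin_of_finite_of_isIntegral hsfin (fun x _ => Algebra.IsIntegral.isIntegral x)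
  have hbmem : b ∈ B' := Algebra.subset_adjoin (Set.mem_insert _ _)
  have hsupp : ∀ i ∈ a.support, i ∈ B' := fun i hi =>
    Algebra.subset_adjoin (Set.mem_insert_of_mem _ hi)
  set b' : B' := ⟨b, hbmem⟩ with hb'def
  have hz' : b' * b' - b' ∈ I.map (algebraMap A B') := by
    have : b' * b' - b' = ∑ i ∈ a.support.attach, (a i.1) • (⟨i.1, hsupp i.1 i.2⟩ : B') := by
      apply Subtype.ext
      rw [AddSubmonoidClass.coe_finset_sum]
      simp only [Subalgebra.coe_sub, Subalgebra.coe_mul, Subalgebra.coe_smul, hb'def]
      rw [← hsum, Finsupp.sum, ← Finset.sum_attach]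
      rfl
    rw [this]
    apply Submodule.sum_mem
    intro i _
    rw [Algebra.smul_def]
    exact Ideal.mul_mem_right _ _ (Ideal.mem_map_of_mem _ (haI i.1))
  obtain ⟨e', he', hdiff⟩ := exists_idempotent_lift_of_finite hjac hfl b' hz'
  refine ⟨(e' : B), ?_, ?_⟩
  · have := congrArg (Subtype.val) he'.eq
    show (e' : B) * (e' : B) = (e' : B)
    simpa using this
  · have h1 : (B'.val : B' →+* B) (e' - b') ∈
        (I.map (algebraMap A B')).map (B'.val : B' →+* B) :=
      Ideal.mem_map_of_mem _ hdiff
    rw [Ideal.map_map] at h1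
    have h2 : (B'.val : B' →+* B).comp (algebraMap A B') = algebraMap A B := by
      ext x
      rfl
    rw [h2] at h1
    simpa using h1

/-- Over a henselian pair `(A, I)`, idempotents of an integral `A`-algebra `B` correspond
bijectively to idempotents of `B / I B`. -/
theorem bijOn_idempotents_of_isIntegral (hjac : I ≤ Ideal.jacobson ⊥) (hfl : FactorLift I)
    (B : Type*) [CommRing B] [Algebra A B] [Algebra.IsIntegral A B] :
    Set.BijOn (Ideal.Quotient.mk (Ideal.map (algebraMap A B) I))
      {e : B | IsIdempotentElem e} {e | IsIdempotentElem e} := by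
  refine ⟨?_, ?_, ?_⟩
  · intro e he
    exact IsIdempotentElem.map he _
  · intro e he e' he' h
    apply idempotent_eq_of_sub_mem (map_le_jacobson_of_isIntegral hjac B) he he'
    exact Ideal.Quotient.eq.mp h
  · intro x hx
    obtain ⟨b, rfl⟩ := Ideal.Quotient.mk_surjective x
    have hb : b * b - b ∈ I.map (algebraMap A B) := by
      rw [← Ideal.Quotient.eq, map_mul]
      exact hx
    obtain ⟨e, he, hdiff⟩ := exists_idempotent_lift_of_isIntegral hjac hfl b hb
    exact ⟨e, he, Ideal.Quotient.eq.mpr hdiff⟩

end Groth.Agent.Lib.Helper12
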