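import Mathlib
import Groth.Prelude.Def_Hens2
import Groth.Agent.Lib.Helper12.PairUnique
import Groth.Agent.Lib.Helper12.IdemLiftIntegral
import Groth.Agent.Lib.Helper12.GabberHensel

/-!
# Chinese remainder theorem for henselizations of pairs
-/

set_option autoImplicit false
universe u

namespace Groth.Agent.Lib.Helper12.PairCRT

open PairUnique

variable {A : Type u} [CommRing A] {n : ℕ} (I : Fin n → Ideal A)

theorem exists_crt_elements (hI : Pairwise fun i j => I i ⊔ I j = ⊤) :
    ∃ a : Fin n → A, ∀ i, a i - 1 ∈ I i ∧ ∀ k, k ≠ i → a i ∈ I k := by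
  classical
  have hI' : Pairwise (Function.onFun IsCoprime I) := fun i j hij =>
    Ideal.isCoprime_iff_sup_eq.mpr (hI hij)
  have : ∀ i, ∃ r : A, ∀ k, r - (if k = i then 1 else 0) ∈ I k := fun i =>
    Ideal.exists_forall_sub_mem_ideal hI' _
  choose a ha using this
  refine ⟨a, fun i => ⟨?_, fun k hk => ?_⟩⟩
  · have := ha i i
    rwa [if_pos rfl] at this
  · have := ha i k
    rwa [if_neg hk, sub_zero] at this

variable {I}

/-- An idempotent congruent to `0` modulo the Jacobson radical is `0`. -/
theorem idem_eq_zero {B : Type*} [CommRing B] {K : Ideal B} (hK : K ≤ Ideal.jacobson ⊥) {e : B}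
    (he : IsIdempotentElem e) (h : e ∈ K) : e = 0 :=
  idempotent_eq_of_sub_mem hK he IsIdempotentElem.zero (by rwa [sub_zero])

/-- An idempotent congruent to `1` modulo the Jacobson radical is `1`. -/
theorem idem_eq_one {B : Type*} [CommRing B] {K : Ideal B} (hK : K ≤ Ideal.jacobson ⊥) {e : B}
    (he : IsIdempotentElem e) (h : e - 1 ∈ K) : e = 1 :=
  idempotent_eq_of_sub_mem hK he IsIdempotentElem.one h

/-- The factor of the henselization of `(A, J)` cut out by a suitable idempotent is a
henselization of `(A, I₀)`. -/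
theorem isPairHenselization_factor {J I₀ : Ideal A} (hJI : J ≤ I₀) {B : Type u} [CommRing B]
    [Algebra A B] (hB : Hens2.IsPairHenselization A J B) (a : A) (ha1 : a - 1 ∈ I₀)
    (haJ : ∀ x ∈ I₀, x * a ∈ J) (e : B) (he : IsIdempotentElem e)
    (hea : e - algebraMap A B a ∈ J.map (algebraMap A B)) :
    Hens2.IsPairHenselization A I₀ (B ⧸ Ideal.span {1 - e}) := by
  haveI := hB.1
  set K : Ideal B := Ideal.span {1 - e} with hK
  have hmk : ∀ x : A, algebraMap A (B ⧸ K) x = Ideal.Quotient.mk K (algebraMap A B x) :=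
    fun x => rfl
  have hJmap : (J.map (algebraMap A B)).map (Ideal.Quotient.mk K) = J.map (algebraMap A (B ⧸ K)) := by
    rw [Ideal.map_map]
    rfl
  have hmke : Ideal.Quotient.mk K e = 1 := by
    rw [← map_one (Ideal.Quotient.mk K), Ideal.Quotient.eq, ← Ideal.neg_mem_iff, neg_sub]
    exact Ideal.mem_span_singleton_self _
  have hIeq : I₀.map (algebraMap A (B ⧸ K)) = J.map (algebraMap A (B ⧸ K)) := by
    apply le_antisymm
    · rw [Ideal.map_le_iff_le_comap]
      intro x hx
      rw [Ideal.mem_comap, hmk]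
      have h1 : Ideal.Quotient.mk K (algebraMap A B x) =
          Ideal.Quotient.mk K (algebraMap A B x * (e - algebraMap A B a) +
            algebraMap A B (x * a)) := by
        rw [map_add, map_mul, map_sub, hmke, map_mul (algebraMap A B), map_mul]
        ring
      rw [h1, ← hJmap]
      apply Ideal.mem_map_of_mem
      exact Ideal.add_mem _ (Ideal.mul_mem_left _ _ hea) (Ideal.mem_map_of_mem _ (haJ x hx))
    · exact Ideal.map_mono hJI
  constructor
  · rw [hIeq, ← hJmap]
    exact henselianRing_quotient B (J.map (algebraMap A B)) K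
  · intro C _ J' f hC hle
    haveI := hC
    have hle' : J.map f ≤ J' := (Ideal.map_mono hJI).trans hle
    obtain ⟨g, hg, huniq⟩ := hB.2 C J' f hC hle'
    have hg_ap : ∀ x, g (algebraMap A B x) = f x := fun x => RingHom.congr_fun hg x
    have hgJ : ∀ z ∈ J.map (algebraMap A B), g z ∈ J' := by
      intro z hz
      have : (J.map (algebraMap A B)).map g ≤ J' := by
        rw [Ideal.map_map, hg]
        exact hle'
      exact this (Ideal.mem_map_of_mem g hz)
    have hge : g e = 1 := by
      apply idem_eq_one (HenselianRing.jac (I := J')) (he.map g)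
      have h1 : g e - 1 = g (e - algebraMap A B a) + f (a - 1) := by
        rw [map_sub, map_sub, hg_ap, map_one]
        ring
      rw [h1]
      exact Ideal.add_mem _ (hgJ _ hea) (hle (Ideal.mem_map_of_mem f ha1))
    have hgK : ∀ z ∈ K, g z = 0 := by
      intro z hz
      rw [hK, Ideal.mem_span_singleton'] at hz
      obtain ⟨c, rfl⟩ := hz
      rw [map_mul, map_sub, map_one, hge, sub_self, mul_zero]
    refine ⟨Ideal.Quotient.lift K g hgK, ?_, ?_⟩
    · refine RingHom.ext fun x => ?_
      show Ideal.Quotient.lift K g hgK (algebraMap A (B ⧸ K) x) = f x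
      rw [hmk, Ideal.Quotient.lift_mk, hg_ap]
    · intro g' hg'
      have h1 : g'.comp (Ideal.Quotient.mk K) = g := by
        apply huniq
        refine RingHom.ext fun x => ?_
        exact RingHom.congr_fun hg' x
      refine RingHom.ext fun y => ?_
      obtain ⟨b, rfl⟩ := Ideal.Quotient.mk_surjective y
      rw [Ideal.Quotient.lift_mk]
      exact RingHom.congr_fun h1 b

/-- Idempotents lift modulo a henselian ideal. -/
theorem exists_idempotent_lift {B : Type u} [CommRing B] (K : Ideal B) [HenselianRing B K] (b : B)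
    (hb : b * b - b ∈ K) : ∃ e : B, IsIdempotentElem e ∧ e - b ∈ K := by
  haveI : Algebra.IsIntegral B B := Algebra.isIntegral_of_surjective (fun x => ⟨x, rfl⟩)
  have hfl := factorLift_of_henselianRing (A := B) (I := K)
  obtain ⟨e, he, hee⟩ := exists_idempotent_lift_of_isIntegral (A := B) (I := K)
    HenselianRing.jac hfl (B := B) b (by
      rw [Algebra.algebraMap_self, Ideal.map_id]
      exact hb)
  rw [Algebra.algebraMap_self, Ideal.map_id] at hee
  exact ⟨e, he, hee⟩

theorem nonempty_algEquiv_pi (I : Fin n → Ideal A) (hI : Pairwise fun i j => I i ⊔ I j = ⊤)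
    (B : Type u) [CommRing B] [Algebra A B] (hB : Hens2.IsPairHenselization A (⨅ i, I i) B)
    (Bi : Fin n → Type u) [∀ i, CommRing (Bi i)] [∀ i, Algebra A (Bi i)]
    (hBi : ∀ i, Hens2.IsPairHenselization A (I i) (Bi i)) : Nonempty (B ≃ₐ[A] ∀ i, Bi i) := by
  classical
  haveI := hB.1
  set J : Ideal A := ⨅ i, I i with hJ
  obtain ⟨a, ha⟩ := exists_crt_elements I hI
  have hjac : J.map (algebraMap A B) ≤ Ideal.jacobson ⊥ := HenselianRing.jac
  have hmemJ : ∀ x : A, (∀ k, x ∈ I k) → x ∈ J := fun x hx => Ideal.mem_iInf.mpr hx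
  have hJle : ∀ k, J ≤ I k := fun k => iInf_le _ k
  have haa : ∀ i, a i * a i - a i ∈ J := by
    intro i
    apply hmemJ
    intro k
    by_cases hk : k = i
    · subst hk
      have : a k * a k - a k = a k * (a k - 1) := by ring
      rw [this]
      exact Ideal.mul_mem_left _ _ (ha k).1
    · have : a i * a i - a i = (a i - 1) * a i := by ring
      rw [this]
      exact Ideal.mul_mem_left _ _ ((ha i).2 k hk)
  have hlift : ∀ i, ∃ e : B, IsIdempotentElem e ∧
      e - algebraMap A B (a i) ∈ J.map (algebraMap A B) := by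
    intro i
    apply exists_idempotent_lift
    have : algebraMap A B (a i) * algebraMap A B (a i) - algebraMap A B (a i) =
        algebraMap A B (a i * a i - a i) := by
      rw [map_sub, map_mul]
    rw [this]
    exact Ideal.mem_map_of_mem _ (haa i)
  choose e he hea using hlift
  -- orthogonality and completeness
  have hortho : Pairwise (fun i j => e i * e j = 0) := by
    intro i j hij
    apply idem_eq_zero hjac ((he i).mul (he j))
    have h1 : e i * e j = (e i - algebraMap A B (a i)) * e j +
        algebraMap A B (a i) * (e j - algebraMap A B (a j)) + algebraMap A B (a i * a j) := by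
      rw [map_mul]
      ring
    rw [h1]
    refine Ideal.add_mem _ (Ideal.add_mem _ (Ideal.mul_mem_right _ _ (hea i))
      (Ideal.mul_mem_left _ _ (hea j))) (Ideal.mem_map_of_mem _ (hmemJ _ fun k => ?_))
    by_cases hk : k = i
    · subst hk
      exact Ideal.mul_mem_left _ _ ((ha j).2 k hij)
    · exact Ideal.mul_mem_right _ _ ((ha i).2 k hk)
  have hsumidem : IsIdempotentElem (∑ i, e i) := by
    unfold IsIdempotentElem
    rw [Finset.sum_mul_sum]
    refine Finset.sum_congr rfl fun i _ => ?_
    rw [Finset.sum_eq_single i]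
    · exact (he i).eq
    · intro j _ hji
      exact hortho (Ne.symm hji)
    · intro h
      exact absurd (Finset.mem_univ i) h
  have hsum : ∑ i, e i = 1 := by
    apply idem_eq_one hjac hsumidem
    have h1 : ∑ i, e i - 1 = ∑ i, (e i - algebraMap A B (a i)) +
        algebraMap A B (∑ i, a i - 1) := by
      rw [Finset.sum_sub_distrib, map_sub, map_sum, map_one]
      ring
    rw [h1]
    refine Ideal.add_mem _ (Ideal.sum_mem _ fun i _ => hea i)
      (Ideal.mem_map_of_mem _ (hmemJ _ fun k => ?_))
    have h2 : ∑ i, a i - 1 = (a k - 1) + ∑ i ∈ Finset.univ.erase k, a i := by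
      rw [← Finset.add_sum_erase Finset.univ a (Finset.mem_univ k)]
      ring
    rw [h2]
    refine Ideal.add_mem _ (ha k).1 (Ideal.sum_mem _ fun i hi => ?_)
    exact (ha i).2 k (Ne.symm (Finset.ne_of_mem_erase hi))
  have hcoi : CompleteOrthogonalIdempotents e := ⟨⟨he, hortho⟩, hsum⟩
  -- the factors
  have hfac : ∀ i, Hens2.IsPairHenselization A (I i) (B ⧸ Ideal.span {1 - e i}) := by
    intro i
    refine isPairHenselization_factor (hJle i) hB (a i) (ha i).1 (fun x hx => ?_) (e i) (he i)
      (hea i)
    apply hmemJ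
    intro k
    by_cases hk : k = i
    · subst hk
      exact Ideal.mul_mem_right _ _ hx
    · exact Ideal.mul_mem_left _ _ ((ha i).2 k hk)
  have hequiv : ∀ i, Nonempty ((B ⧸ Ideal.span {1 - e i}) ≃ₐ[A] Bi i) :=
    fun i => nonempty_algEquiv (hfac i) (hBi i)
  let ε : ∀ i, (B ⧸ Ideal.span {1 - e i}) ≃ₐ[A] Bi i := fun i => (hequiv i).some
  let φ : B →ₐ[A] ∀ i, B ⧸ Ideal.span {1 - e i} :=
    Pi.algHom A _ (fun i => Ideal.Quotient.mkₐ A (Ideal.span {1 - e i}))
  have hφ : Function.Bijective φ := hcoi.bijective_pi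
  exact ⟨(AlgEquiv.ofBijective φ hφ).trans (AlgEquiv.piCongrRight ε)⟩

end Groth.Agent.Lib.Helper12.PairCRT
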