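import Mathlib
import Groth.Agent.Lib.Helper12.BrSmA
import Groth.Agent.Lib.Helper12.StrictQuotient
import Groth.Agent.Lib.Helper12.StrictStruct5
import Groth.Agent.Lib.Helper22.GeomUniSmooth
import Groth.Agent.Lib.Helper22.GeomUniHens
import Groth.Agent.Lib.Helper29.HenselUniv
import Groth.Agent.Lib.lead.GUPack

/-!
# Branches under smooth maps, part B: smooth algebras over a strictly henselian local ring

Let `R₀` be a strictly henselian local ring, `S₀` a smooth `R₀`-algebra, `Q` a prime of `S₀` over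
the maximal ideal and `E` a strict henselization of `(S₀)_Q`. Then `E` and `R₀` have the same
number of minimal primes.
-/

set_option autoImplicit false
set_option linter.style.haveILetI false
universe u

namespace Groth.Agent.Lib.Helper12.BrSm

open IsLocalRing

/-- The residue field of a local quotient of a local ring with separably closed residue field is
separably closed. -/
theorem isSepClosed_residueField_quotient (R₀ : Type u) [CommRing R₀] [IsLocalRing R₀]
    [IsSepClosed (ResidueField R₀)] (P : Ideal R₀) [IsLocalRing (R₀ ⧸ P)] :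
    IsSepClosed (ResidueField (R₀ ⧸ P)) := by
  haveI : IsLocalHom (Ideal.Quotient.mk P) :=
    IsLocalHom.of_surjective _ Ideal.Quotient.mk_surjective
  have hbij : Function.Bijective (ResidueField.map (Ideal.Quotient.mk P)) := by
    refine ⟨(ResidueField.map (Ideal.Quotient.mk P)).injective, fun y => ?_⟩
    obtain ⟨z, rfl⟩ := residue_surjective y
    obtain ⟨r, rfl⟩ := Ideal.Quotient.mk_surjective z
    exact ⟨residue R₀ r, ResidueField.map_residue _ r⟩
  exact Groth.Agent.Lib.Helper12.StrictQuotient.isSepClosed_of_ringEquiv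
    (RingEquiv.ofBijective _ hbij)

section

variable (R₀ : Type u) [CommRing R₀] [HenselianLocalRing R₀] [IsSepClosed (ResidueField R₀)]
  (S₀ : Type u) [CommRing S₀] [Algebra R₀ S₀] [Algebra.Smooth R₀ S₀] (Q : Ideal S₀) [Q.IsPrime]
  (hQ : Q.comap (algebraMap R₀ S₀) = maximalIdeal R₀)

include hQ in
/-- The local ring `(S₀)_Q / P (S₀)_Q` is geometrically unibranch for every minimal prime `P`. -/
theorem isGeomUnibranch_quotient (P : Ideal R₀) [P.IsPrime]
    [IsLocalRing (Localization.AtPrime Q ⧸ (P.map (algebraMap R₀ S₀)).map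
      (algebraMap S₀ (Localization.AtPrime Q)))] :
    CAlg2.IsGeomUnibranch (Localization.AtPrime Q ⧸ (P.map (algebraMap R₀ S₀)).map
      (algebraMap S₀ (Localization.AtPrime Q))) := by
  have hPm : P ≤ maximalIdeal R₀ := IsLocalRing.le_maximalIdeal (Ideal.IsPrime.ne_top inferInstance)
  haveI : Nontrivial (R₀ ⧸ P) := Ideal.Quotient.nontrivial_iff.mpr (Ideal.IsPrime.ne_top inferInstance)
  haveI hR₁loc : IsLocalRing (R₀ ⧸ P) :=
    IsLocalRing.of_surjective' (Ideal.Quotient.mk P) Ideal.Quotient.mk_surjective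
  haveI : HenselianLocalRing (R₀ ⧸ P) := Groth.Agent.Lib.Helper29.henselian_quotient R₀ P
  haveI : IsSepClosed (ResidueField (R₀ ⧸ P)) := isSepClosed_residueField_quotient R₀ P
  have hR₁ : CAlg2.IsGeomUnibranch (R₀ ⧸ P) :=
    Groth.Agent.Lib.Helper22.GeomUniHens.isGeomUnibranch_of_strictlyHenselian_domain (R₀ ⧸ P)
  set I : Ideal S₀ := P.map (algebraMap R₀ S₀) with hI
  have hIQ : I ≤ Q := by
    rw [hI, Ideal.map_le_iff_le_comap, hQ]
    exact hPm
  -- smoothness of the quotient
  haveI : Algebra.Smooth (R₀ ⧸ P) (S₀ ⧸ I) :=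
    Algebra.Smooth.of_equiv (Algebra.TensorProduct.quotIdealMapEquivQuotTensor S₀ P).symm
  -- the prime of the quotient
  let Q₁ : Ideal (S₀ ⧸ I) := Q.map (Ideal.Quotient.mk I)
  have hker : RingHom.ker (Ideal.Quotient.mk I) ≤ Q := by rw [Ideal.mk_ker]; exact hIQ
  haveI hQ₁prime : Q₁.IsPrime := Ideal.map_isPrime_of_surjective Ideal.Quotient.mk_surjective hker
  have hQ₁comap : Q₁.comap (Ideal.Quotient.mk I) = Q := by
    rw [Ideal.comap_map_of_surjective _ Ideal.Quotient.mk_surjective, ← RingHom.ker_eq_comap_bot,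
      sup_eq_left.mpr hker]
  have hmax : (maximalIdeal (R₀ ⧸ P)).map (algebraMap (R₀ ⧸ P) (S₀ ⧸ I)) ≤ Q₁ := by
    rw [Ideal.map_le_iff_le_comap]
    intro x hx
    obtain ⟨r, rfl⟩ := Ideal.Quotient.mk_surjective x
    have hr : r ∈ maximalIdeal R₀ := by
      by_contra hr
      have hu : IsUnit r := by
        by_contra hnu
        exact hr ((IsLocalRing.mem_maximalIdeal r).mpr hnu)
      exact (IsLocalRing.mem_maximalIdeal _).mp hx (hu.map (Ideal.Quotient.mk P))
    rw [Ideal.mem_comap, Ideal.Quotient.algebraMap_quotient_map_quotient]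
    have h1 : algebraMap R₀ S₀ r ∈ Q := by
      rw [← hQ] at hr
      exact hr
    exact Ideal.mem_map_of_mem _ h1
  have hGU := (Groth.Agent.Lib.Helper22.GeomUniSmooth.isDomain_and_isGeomUnibranch_of_smooth
    (R₀ ⧸ P) (S₀ ⧸ I) hR₁ Q₁ hmax).2
  -- the quotient of the localization is the localization of the quotient
  haveI : Q₁.LiesOver Q := ⟨hQ₁comap.symm⟩
  have hsub : Algebra.algebraMapSubmonoid (S₀ ⧸ I) Q.primeCompl = Q₁.primeCompl :=
    Ideal.algebraMapSubmonoid_primeCompl_of_liesOver_surjective Q₁ Q Ideal.Quotient.mk_surjective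
  have hloc : IsLocalization (Algebra.algebraMapSubmonoid (S₀ ⧸ I) Q.primeCompl)
      (Localization.AtPrime Q ⧸ I.map (algebraMap S₀ (Localization.AtPrime Q))) := inferInstance
  rw [hsub] at hloc
  haveI : IsLocalization.AtPrime
      (Localization.AtPrime Q ⧸ I.map (algebraMap S₀ (Localization.AtPrime Q))) Q₁ := hloc
  let ε : (Localization.AtPrime Q ⧸ I.map (algebraMap S₀ (Localization.AtPrime Q))) ≃+*
      Localization.AtPrime Q₁ :=
    (IsLocalization.algEquiv Q₁.primeCompl
      (Localization.AtPrime Q ⧸ I.map (algebraMap S₀ (Localization.AtPrime Q)))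
      (Localization.AtPrime Q₁)).toRingEquiv
  exact Groth.Agent.Lib.lead.GUPack.of_ringEquiv ε hGU

end

end Groth.Agent.Lib.Helper12.BrSm
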