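import Mathlib
import Groth.Prelude.Def_Hensel
import Groth.Prelude.Def_Brnch
import Groth.Agent.S9237
import Groth.Agent.S9235
import Groth.Agent.S0507
import Groth.Agent.Lib.Helper17.GeomUnibranch

/-!
# Branches under smooth maps, part D: general lemmas for the henselian (non-geometric) case

* a map between henselizations over a local homomorphism;
* a criterion for unibranchness via an abstract normalization;
* the henselization of a unibranch local ring has a unique minimal prime.
-/

set_option autoImplicit false
set_option linter.style.haveILetI false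
universe u

namespace Groth.Agent.Lib.Helper12.BrSm

open IsLocalRing

/-- A local homomorphism `A → B` extends to a (local) map of henselizations. -/
theorem exists_hens_map {A B S S' : Type u} [CommRing A] [IsLocalRing A] [CommRing B]
    [IsLocalRing B] [Algebra A B] [IsLocalHom (algebraMap A B)]
    [CommRing S] [IsLocalRing S] [Algebra A S] [IsLocalHom (algebraMap A S)]
    [Hensel.IsHenselization A S]
    [CommRing S'] [IsLocalRing S'] [Algebra B S'] [IsLocalHom (algebraMap B S')]
    [Hensel.IsHenselization B S'] :
    ∃ φ : S →+* S', φ.comp (algebraMap A S) = (algebraMap B S').comp (algebraMap A B) ∧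
      IsLocalHom φ := by
  haveI : HenselianLocalRing S' := Hensel.IsHenselization.henselian (R := B)
  haveI hloc1 : IsLocalHom ((algebraMap B S').comp (algebraMap A B)) :=
    RingHom.isLocalHom_comp _ _
  obtain ⟨φ, hφ1, -⟩ := Hensel.IsHenselization.universal (R := A) (S := S) S'
    ((algebraMap B S').comp (algebraMap A B)) hloc1
  refine ⟨φ, hφ1, ?_⟩
  have hmax : (maximalIdeal A).map (algebraMap A S) = maximalIdeal S := Groth.Agent.S0507.result A S
  have hle : maximalIdeal S ≤ (maximalIdeal S').comap φ := by
    rw [← hmax, Ideal.map_le_iff_le_comap, Ideal.comap_comap, hφ1,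
      IsLocalRing.maximalIdeal_comap]
  constructor
  intro x hx
  by_contra hnu
  have h1 : x ∈ maximalIdeal S := (IsLocalRing.mem_maximalIdeal x).mpr hnu
  exact (IsLocalRing.mem_maximalIdeal _).mp (hle h1) hx

/-- **Criterion**: a local ring `R` with a normal local domain `D'` integral over it, with
nilpotent kernel and the same fraction field, is unibranch. -/
theorem unibranch_pack {R : Type u} [CommRing R] [IsLocalRing R]
    (D' : Type u) [CommRing D'] [IsDomain D'] [IsIntegrallyClosed D'] [Algebra R D']
    [Algebra.IsIntegral R D'] [IsLocalRing D']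
    (hker : ∀ a : R, algebraMap R D' a = 0 → IsNilpotent a)
    (hfrac : ∀ y : D', ∃ d : R, algebraMap R D' d ≠ 0 ∧
      ∃ d₂ : R, algebraMap R D' d * y = algebraMap R D' d₂) :
    CAlg2.IsUnibranch R := by
  have h0 : ∀ a ∈ nilradical R, algebraMap R D' a = 0 := by
    intro a ha
    exact IsNilpotent.eq_zero (IsNilpotent.map (mem_nilradical.mp ha) (algebraMap R D'))
  let ρ : CAlg2.red R →+* D' := Ideal.Quotient.lift (nilradical R) (algebraMap R D') h0
  letI algA : Algebra (CAlg2.red R) D' := ρ.toAlgebra
  have hρ : ∀ a : R, algebraMap (CAlg2.red R) D' (Ideal.Quotient.mk _ a) = algebraMap R D' a :=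
    fun a => rfl
  haveI : IsScalarTower R (CAlg2.red R) D' := IsScalarTower.of_algebraMap_eq (fun a => (hρ a).symm)
  haveI : Algebra.IsIntegral (CAlg2.red R) D' :=
    ⟨fun y => (Algebra.IsIntegral.isIntegral (R := R) y).tower_top⟩
  have hinjA : Function.Injective (algebraMap (CAlg2.red R) D') := by
    rw [injective_iff_map_eq_zero]
    intro x hx
    obtain ⟨a, rfl⟩ := Ideal.Quotient.mk_surjective x
    rw [hρ] at hx
    exact Ideal.Quotient.eq_zero_iff_mem.mpr (mem_nilradical.mpr (hker a hx))
  haveI hdomA : IsDomain (CAlg2.red R) := hinjA.isDomain _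
  have hfracA : ∀ y : D', ∃ d : CAlg2.red R, d ≠ 0 ∧ ∃ d₂ : CAlg2.red R,
      algebraMap (CAlg2.red R) D' d * y = algebraMap (CAlg2.red R) D' d₂ := by
    intro y
    obtain ⟨d, hd, d₂, h⟩ := hfrac y
    refine ⟨Ideal.Quotient.mk _ d, fun h0 => hd ?_, Ideal.Quotient.mk _ d₂, ?_⟩
    · rw [← hρ, h0, map_zero]
    · rw [hρ, hρ, h]
  obtain ⟨φ⟩ := Groth.Agent.Lib.Helper17.GeomUnibranch.nonempty_algEquiv_integralClosure
    (CAlg2.red R) D' hinjA hfracA
  haveI hlocN : IsLocalRing (CAlg2.normRed R) := φ.symm.toRingEquiv.isLocalRing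
  exact ⟨hdomA, hlocN⟩

/-- The henselization of a unibranch local ring has at most one minimal prime. -/
theorem minimalPrimes_subsingleton_of_isUnibranch (A S : Type u) [CommRing A] [IsLocalRing A]
    [CommRing S] [IsLocalRing S] [Algebra A S] [IsLocalHom (algebraMap A S)]
    [Hensel.IsHenselization A S] (hA : CAlg2.IsUnibranch A) :
    ∀ p ∈ minimalPrimes S, ∀ p' ∈ minimalPrimes S, p = p' := by
  have h1 : ENat.card (minimalPrimes S) = 1 := by
    rw [Groth.Agent.S9237.result A S]
    exact (Groth.Agent.S9235.result A).mpr hA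
  have h2 : (minimalPrimes S).encard = 1 := by
    rw [← h1]
    rfl
  intro p hp p' hp'
  exact Set.encard_le_one_iff.mp h2.le p p' hp hp'

end Groth.Agent.Lib.Helper12.BrSm
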