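import Mathlib
import Groth.Agent.Lib.Helper12.BrSmD
import Groth.Agent.Lib.Helper17.SmoothNormal
import Groth.Agent.Lib.Helper17.Unibranch

/-!
# Branches under smooth maps, part E: unibranchness ascends along smooth maps with purely
inseparable residue field extension

Let `D` be a local domain with a local normalization `D'`, `T` a smooth `D`-algebra and `𝔮` a
prime of `T` over the maximal ideal such that the residue field of `B = T_𝔮` is purely
inseparable over that of `D`. Then `B` is unibranch: `B ⊗_D D'` is a local normal domain.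
-/

set_option autoImplicit false
set_option linter.style.haveILetI false
universe u

namespace Groth.Agent.Lib.Helper12.BrSm

open IsLocalRing TensorProduct

section

variable (D : Type u) [CommRing D] [IsDomain D] [IsLocalRing D]
  (D' : Type u) [CommRing D'] [IsDomain D'] [IsIntegrallyClosed D'] [IsLocalRing D'] [Algebra D D']
  [Algebra.IsIntegral D D']
  (hinj : Function.Injective (algebraMap D D'))
  (hfrac : ∀ y : D', ∃ d : D, d ≠ 0 ∧ ∃ d₂ : D, algebraMap D D' d * y = algebraMap D D' d₂)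
  (T : Type u) [CommRing T] [Algebra D T] [Algebra.Smooth D T] (𝔮 : Ideal T) [𝔮.IsPrime]
  (h𝔮 : 𝔮.comap (algebraMap D T) = maximalIdeal D)
  (B : Type u) [CommRing B] [Algebra T B] [IsLocalization.AtPrime B 𝔮] [Algebra D B]
  [IsScalarTower D T B] [IsLocalRing B]
  (e : ℕ) (he : e = 1 ∨ (e.Prime ∧ (e : B) ∈ maximalIdeal B))
  (hpi : ∀ c : B, ∃ (n : ℕ) (d : D), c ^ (e ^ n) - algebraMap D B d ∈ maximalIdeal B)

include hfrac in
/-- every element of `B ⊗ D'` becomes an element of `B` after multiplication by a nonzero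
element of `D` -/
theorem exists_smul_eq_tmul_one (y : B ⊗[D] D') :
    ∃ d : D, d ≠ 0 ∧ ∃ b : B, d • y = b ⊗ₜ[D] (1 : D') := by
  induction y using TensorProduct.induction_on with
  | zero => exact ⟨1, one_ne_zero, 0, by simp⟩
  | tmul b d' =>
    obtain ⟨d, hd, d₂, h⟩ := hfrac d'
    refine ⟨d, hd, d₂ • b, ?_⟩
    rw [TensorProduct.smul_tmul', TensorProduct.smul_tmul, Algebra.smul_def, h,
      Algebra.algebraMap_eq_smul_one, ← TensorProduct.smul_tmul]
  | add y₁ y₂ h₁ h₂ =>
    obtain ⟨d₁, hd₁, b₁, h₁⟩ := h₁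
    obtain ⟨d₂, hd₂, b₂, h₂⟩ := h₂
    refine ⟨d₁ * d₂, mul_ne_zero hd₁ hd₂, d₂ • b₁ + d₁ • b₂, ?_⟩
    rw [smul_add, mul_comm d₁ d₂, mul_smul, h₁, mul_comm d₂ d₁, mul_smul, h₂, TensorProduct.add_tmul,
      TensorProduct.smul_tmul', TensorProduct.smul_tmul']

include hinj h𝔮 he hpi in
/-- `B ⊗ D'` is a local ring -/
theorem isLocalRing_tensor : IsLocalRing (B ⊗[D] D') := by
  haveI : Module.Flat T B := IsLocalization.flat B 𝔮.primeCompl
  haveI : Module.Flat D B := Module.Flat.trans D T B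
  have hBC : Function.Injective (algebraMap B (B ⊗[D] D')) :=
    Algebra.TensorProduct.includeLeft_injective (S := B) hinj
  haveI : Nontrivial (B ⊗[D] D') := hBC.nontrivial
  have hDB : (maximalIdeal B).comap (algebraMap D B) = maximalIdeal D := by
    rw [IsScalarTower.algebraMap_eq D T B, ← Ideal.comap_comap]
    have h1 : (maximalIdeal B).comap (algebraMap T B) = 𝔮 :=
      IsLocalization.AtPrime.comap_maximalIdeal B 𝔮
    rw [h1, h𝔮]
  have hmaxB : ∀ n : Ideal (B ⊗[D] D'), n.IsMaximal →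
      n.comap (algebraMap B (B ⊗[D] D')) = maximalIdeal B := fun n hn =>
    eq_maximalIdeal (Ideal.isMaximal_comap_of_isIntegral_of_isMaximal n)
  have hcomm : (Algebra.TensorProduct.includeRight : D' →ₐ[D] B ⊗[D] D').toRingHom.comp
      (algebraMap D D') = (algebraMap B (B ⊗[D] D')).comp (algebraMap D B) := by
    ext d
    show (1 : B) ⊗ₜ[D] (algebraMap D D' d) = (algebraMap D B d) ⊗ₜ[D] (1 : D')
    rw [Algebra.algebraMap_eq_smul_one (A := D') d, Algebra.algebraMap_eq_smul_one (A := B) d,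
      TensorProduct.smul_tmul]
  have hmaxD' : ∀ n : Ideal (B ⊗[D] D'), n.IsMaximal →
      n.comap (Algebra.TensorProduct.includeRight : D' →ₐ[D] B ⊗[D] D').toRingHom =
        maximalIdeal D' := by
    intro n hn
    haveI : (n.comap (Algebra.TensorProduct.includeRight :
        D' →ₐ[D] B ⊗[D] D').toRingHom).IsPrime := Ideal.comap_isPrime _ _
    have h1 : (n.comap (Algebra.TensorProduct.includeRight :
        D' →ₐ[D] B ⊗[D] D').toRingHom).comap (algebraMap D D') = maximalIdeal D := by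
      rw [Ideal.comap_comap, hcomm, ← Ideal.comap_comap, hmaxB n hn, hDB]
    have hmax : (n.comap (Algebra.TensorProduct.includeRight :
        D' →ₐ[D] B ⊗[D] D').toRingHom).IsMaximal :=
      Ideal.isMaximal_of_isIntegral_of_isMaximal_comap _ (h1 ▸ maximalIdeal.isMaximal D)
    exact eq_maximalIdeal hmax
  obtain ⟨n₀, hn₀⟩ := Ideal.exists_maximal (B ⊗[D] D')
  refine IsLocalRing.of_unique_max_ideal ⟨n₀, hn₀, fun n hn => ?_⟩
  haveI := hn.isPrime
  haveI := hn₀.isPrime
  refine Groth.Agent.Lib.Helper17.Unibranch.prime_eq_of_comap_eq (R := D) (R' := B) (C := D')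
    (maximalIdeal B) e he hpi n n₀ ?_ ?_ ?_
  · rw [Ideal.map_le_iff_le_comap, hmaxB n hn]
  · rw [Ideal.map_le_iff_le_comap, hmaxB n₀ hn₀]
  · rw [hmaxD' n hn, hmaxD' n₀ hn₀]

include hinj hfrac h𝔮 he hpi in
/-- **Unibranchness ascends along smooth maps with purely inseparable residue extension.** -/
theorem isUnibranch_of_smooth_of_radicial : CAlg2.IsUnibranch B := by
  haveI : Module.Flat T B := IsLocalization.flat B 𝔮.primeCompl
  haveI : Module.Flat D B := Module.Flat.trans D T B
  have hBC : Function.Injective (algebraMap B (B ⊗[D] D')) :=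
    Algebra.TensorProduct.includeLeft_injective (S := B) hinj
  haveI hCloc : IsLocalRing (B ⊗[D] D') := isLocalRing_tensor D D' hinj T 𝔮 h𝔮 B e he hpi
  -- `B ⊗ D'` as a localization of `T ⊗ D'`
  let ρ : T ⊗[D] D' →ₐ[D] B ⊗[D] D' :=
    Algebra.TensorProduct.map (IsScalarTower.toAlgHom D T B) (AlgHom.id D D')
  letI algT'C : Algebra (T ⊗[D] D') (B ⊗[D] D') := ρ.toRingHom.toAlgebra
  have hρ : ∀ x : T ⊗[D] D', algebraMap (T ⊗[D] D') (B ⊗[D] D') x = ρ x := fun x => rfl
  haveI : IsScalarTower T (T ⊗[D] D') (B ⊗[D] D') := by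
    refine IsScalarTower.of_algebraMap_eq (fun t => ?_)
    rw [hρ, Algebra.TensorProduct.algebraMap_apply, Algebra.TensorProduct.algebraMap_apply]
    simp [ρ]
  have hloc : IsLocalization (Algebra.algebraMapSubmonoid (T ⊗[D] D') 𝔮.primeCompl)
      (B ⊗[D] D') := by
    refine IsLocalization.tensorProduct_tensorProduct D D' 𝔮.primeCompl B ?_
    ext d'
    simp [hρ, ρ]
  set 𝔮' : Ideal (T ⊗[D] D') :=
    (maximalIdeal (B ⊗[D] D')).comap (algebraMap (T ⊗[D] D') (B ⊗[D] D')) with h𝔮'
  haveI : 𝔮'.IsPrime := Ideal.comap_isPrime _ _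
  haveI hlocAt : IsLocalization.AtPrime (B ⊗[D] D') 𝔮' := by
    refine IsLocalization.of_le (M := Algebra.algebraMapSubmonoid (T ⊗[D] D') 𝔮.primeCompl)
      𝔮'.primeCompl ?_ ?_
    · rintro _ ⟨t, ht, rfl⟩
      show algebraMap T (T ⊗[D] D') t ∉ 𝔮'
      rw [h𝔮', Ideal.mem_comap, ← IsScalarTower.algebraMap_apply T (T ⊗[D] D') (B ⊗[D] D'),
        IsScalarTower.algebraMap_apply T B (B ⊗[D] D')]
      have hu : IsUnit (algebraMap T B t) :=
        IsLocalization.map_units B (⟨t, ht⟩ : 𝔮.primeCompl)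
      exact (IsLocalRing.mem_maximalIdeal _).not.mpr (not_not.mpr (hu.map _))
    · intro r hr
      by_contra hnu
      exact hr ((IsLocalRing.mem_maximalIdeal _).mpr hnu)
  -- smoothness of `T ⊗ D'` over `D'`
  letI algD'T' : Algebra D' (T ⊗[D] D') := Algebra.TensorProduct.rightAlgebra
  haveI : Algebra.Smooth D' (T ⊗[D] D') := by
    let ε : (D' ⊗[D] T) ≃ₐ[D'] (T ⊗[D] D') :=
      AlgEquiv.ofRingEquiv (f := (Algebra.TensorProduct.comm D D' T).toRingEquiv) (fun d' => by
        rw [Algebra.TensorProduct.algebraMap_apply, Algebra.TensorProduct.algebraMap_eq_includeRight]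
        simp)
    exact Algebra.Smooth.of_equiv ε
  obtain ⟨hdomL, hicL⟩ :=
    Groth.Agent.Lib.Helper17.SmoothNormal.isDomain_and_isIntegrallyClosed_atPrime_of_smooth D'
      (B := T ⊗[D] D') 𝔮'
  let ε' : (B ⊗[D] D') ≃+* Localization.AtPrime 𝔮' :=
    (IsLocalization.algEquiv 𝔮'.primeCompl (B ⊗[D] D') (Localization.AtPrime 𝔮')).toRingEquiv
  haveI hCdom : IsDomain (B ⊗[D] D') := MulEquiv.isDomain (Localization.AtPrime 𝔮') ε'.toMulEquiv
  haveI hCic : IsIntegrallyClosed (B ⊗[D] D') := IsIntegrallyClosed.of_equiv ε'.symm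
  -- apply the criterion
  refine unibranch_pack (R := B) (B ⊗[D] D') ?_ ?_
  · intro a ha
    have : a = 0 := hBC (by rw [ha, map_zero])
    rw [this]
    exact IsNilpotent.zero
  · intro y
    obtain ⟨d, hd, b, hb⟩ := exists_smul_eq_tmul_one D D' hfrac B y
    refine ⟨algebraMap D B d, ?_, b, ?_⟩
    · intro h0
      have h1 : algebraMap D B d = 0 := hBC (by rw [h0, map_zero])
      have hreg : IsSMulRegular B d :=
        Module.Flat.isSMulRegular_of_nonZeroDivisors (mem_nonZeroDivisors_of_ne_zero hd)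
      have h2 : d • (1 : B) = d • (0 : B) := by
        rw [smul_zero, ← Algebra.algebraMap_eq_smul_one, h1]
      exact one_ne_zero (hreg h2)
    · rw [Algebra.TensorProduct.algebraMap_apply, Algebra.TensorProduct.algebraMap_apply]
      simp only [Algebra.algebraMap_self, RingHom.id_apply]
      rw [← hb, Algebra.smul_def, Algebra.TensorProduct.algebraMap_apply]

end

end Groth.Agent.Lib.Helper12.BrSm
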