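import Mathlib
import Groth.Agent.Lib.Helper12.BrSmE
import Groth.Agent.Lib.Helper12.HenselIntegralDomain
import Groth.Agent.Lib.Helper29.HenselUniv

/-!
# Branches under smooth maps, part F: the quotient by a minimal prime (henselian case)

Let `R₀` be a henselian local ring, `S₀` a smooth `R₀`-algebra, `Q` a prime of `S₀` over the
maximal ideal such that the residue field of `C = (S₀)_Q` is purely inseparable over that of
`R₀`. For every prime `P` of `R₀`, the local ring `C / P C` is unibranch.
-/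

set_option autoImplicit false
set_option linter.style.haveILetI false
universe u

namespace Groth.Agent.Lib.Helper12.BrSm

open IsLocalRing

/-- the integral closure of a henselian local domain in its fraction field is an abstract
normalization which is local -/
theorem normalization_facts (D : Type u) [CommRing D] [IsDomain D] [HenselianLocalRing D] :
    IsLocalRing (integralClosure D (FractionRing D)) ∧
    Function.Injective (algebraMap D (integralClosure D (FractionRing D))) ∧
    ∀ y : integralClosure D (FractionRing D), ∃ d : D, d ≠ 0 ∧ ∃ d₂ : D,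
      algebraMap D (integralClosure D (FractionRing D)) d * y =
        algebraMap D (integralClosure D (FractionRing D)) d₂ := by
  refine ⟨Groth.Agent.Lib.Helper12.isLocalRing_of_isIntegral_of_isDomain D _, ?_, ?_⟩
  · have h3 : Function.Injective (algebraMap D (FractionRing D)) := IsFractionRing.injective _ _
    rw [IsScalarTower.algebraMap_eq D (integralClosure D (FractionRing D)) (FractionRing D),
      RingHom.coe_comp] at h3
    exact Function.Injective.of_comp h3
  · intro y
    obtain ⟨a, b, hb, hab⟩ := IsFractionRing.div_surjective (A := D) (y : FractionRing D)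
    have hb0 : b ≠ 0 := nonZeroDivisors.ne_zero hb
    refine ⟨b, hb0, a, ?_⟩
    apply Subtype.ext
    have hb1 : algebraMap D (FractionRing D) b ≠ 0 := fun h0 =>
      hb0 (IsFractionRing.injective D (FractionRing D) (by rw [h0, map_zero]))
    change algebraMap D (FractionRing D) b * (y : FractionRing D) = algebraMap D (FractionRing D) a
    rw [← hab, mul_div_cancel₀ _ hb1]

section

variable (R₀ : Type u) [CommRing R₀] [HenselianLocalRing R₀]
  (S₀ : Type u) [CommRing S₀] [Algebra R₀ S₀] [Algebra.Smooth R₀ S₀] (Q : Ideal S₀) [Q.IsPrime]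
  (hQ : Q.comap (algebraMap R₀ S₀) = maximalIdeal R₀)
  (e : ℕ) (he : e = 1 ∨ (e.Prime ∧
    (e : Localization.AtPrime Q) ∈ maximalIdeal (Localization.AtPrime Q)))
  (hpi : ∀ c : Localization.AtPrime Q, ∃ (n : ℕ) (r : R₀),
    c ^ (e ^ n) - algebraMap R₀ (Localization.AtPrime Q) r ∈ maximalIdeal (Localization.AtPrime Q))

include hQ he hpi in
/-- The local ring `(S₀)_Q / P (S₀)_Q` is unibranch for every prime `P`. -/
theorem isUnibranch_quotient (P : Ideal R₀) [P.IsPrime]
    [IsLocalRing (Localization.AtPrime Q ⧸ (P.map (algebraMap R₀ S₀)).map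
      (algebraMap S₀ (Localization.AtPrime Q)))] :
    CAlg2.IsUnibranch (Localization.AtPrime Q ⧸ (P.map (algebraMap R₀ S₀)).map
      (algebraMap S₀ (Localization.AtPrime Q))) := by
  have hPm : P ≤ maximalIdeal R₀ := IsLocalRing.le_maximalIdeal (Ideal.IsPrime.ne_top inferInstance)
  haveI : Nontrivial (R₀ ⧸ P) := Ideal.Quotient.nontrivial_iff.mpr (Ideal.IsPrime.ne_top inferInstance)
  haveI hR₁loc : IsLocalRing (R₀ ⧸ P) :=
    IsLocalRing.of_surjective' (Ideal.Quotient.mk P) Ideal.Quotient.mk_surjective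
  haveI : HenselianLocalRing (R₀ ⧸ P) := Groth.Agent.Lib.Helper29.henselian_quotient R₀ P
  set I : Ideal S₀ := P.map (algebraMap R₀ S₀) with hI
  have hIQ : I ≤ Q := by
    rw [hI, Ideal.map_le_iff_le_comap, hQ]
    exact hPm
  haveI : Algebra.Smooth (R₀ ⧸ P) (S₀ ⧸ I) :=
    Algebra.Smooth.of_equiv (Algebra.TensorProduct.quotIdealMapEquivQuotTensor S₀ P).symm
  let Q₁ : Ideal (S₀ ⧸ I) := Q.map (Ideal.Quotient.mk I)
  have hker : RingHom.ker (Ideal.Quotient.mk I) ≤ Q := by rw [Ideal.mk_ker]; exact hIQ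
  haveI hQ₁prime : Q₁.IsPrime := Ideal.map_isPrime_of_surjective Ideal.Quotient.mk_surjective hker
  have hQ₁comap : Q₁.comap (Ideal.Quotient.mk I) = Q := by
    rw [Ideal.comap_map_of_surjective _ Ideal.Quotient.mk_surjective, ← RingHom.ker_eq_comap_bot,
      sup_eq_left.mpr hker]
  have hQ₁D : Q₁.comap (algebraMap (R₀ ⧸ P) (S₀ ⧸ I)) = maximalIdeal (R₀ ⧸ P) := by
    have hmax : (Q₁.comap (algebraMap (R₀ ⧸ P) (S₀ ⧸ I))).IsMaximal := by
      have h1 : (Q₁.comap (algebraMap (R₀ ⧸ P) (S₀ ⧸ I))).comap (Ideal.Quotient.mk P) =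
          maximalIdeal R₀ := by
        rw [Ideal.comap_comap]
        have h2 : (algebraMap (R₀ ⧸ P) (S₀ ⧸ I)).comp (Ideal.Quotient.mk P) =
            (Ideal.Quotient.mk I).comp (algebraMap R₀ S₀) := by
          ext r
          rfl
        rw [h2, ← Ideal.comap_comap, hQ₁comap, hQ]
      have h3 := Ideal.map_comap_of_surjective (Ideal.Quotient.mk P) Ideal.Quotient.mk_surjective
        (Q₁.comap (algebraMap (R₀ ⧸ P) (S₀ ⧸ I)))
      rw [h1] at h3
      rw [← h3]
      refine Ideal.IsMaximal.map_of_surjective_of_ker_le Ideal.Quotient.mk_surjective ?_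
      rw [Ideal.mk_ker]
      exact hPm
    exact eq_maximalIdeal hmax
  haveI : Q₁.LiesOver Q := ⟨hQ₁comap.symm⟩
  have hsub : Algebra.algebraMapSubmonoid (S₀ ⧸ I) Q.primeCompl = Q₁.primeCompl :=
    Ideal.algebraMapSubmonoid_primeCompl_of_liesOver_surjective Q₁ Q Ideal.Quotient.mk_surjective
  have hloc : IsLocalization (Algebra.algebraMapSubmonoid (S₀ ⧸ I) Q.primeCompl)
      (Localization.AtPrime Q ⧸ I.map (algebraMap S₀ (Localization.AtPrime Q))) := inferInstance
  rw [hsub] at hloc
  haveI : IsLocalization.AtPrime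
      (Localization.AtPrime Q ⧸ I.map (algebraMap S₀ (Localization.AtPrime Q))) Q₁ := hloc
  -- the normalization of `R₀ / P`
  obtain ⟨hD'loc, hinj, hfrac⟩ := normalization_facts (R₀ ⧸ P)
  haveI := hD'loc
  haveI : IsIntegrallyClosed (integralClosure (R₀ ⧸ P) (FractionRing (R₀ ⧸ P))) :=
    integralClosure.isIntegrallyClosedOfFiniteExtension (FractionRing (R₀ ⧸ P))
  -- the algebra structure over `R₀ / P`
  letI algDB : Algebra (R₀ ⧸ P)
      (Localization.AtPrime Q ⧸ I.map (algebraMap S₀ (Localization.AtPrime Q))) :=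
    ((algebraMap (S₀ ⧸ I) (Localization.AtPrime Q ⧸ I.map (algebraMap S₀ (Localization.AtPrime Q)))).comp
      (algebraMap (R₀ ⧸ P) (S₀ ⧸ I))).toAlgebra
  haveI : IsScalarTower (R₀ ⧸ P) (S₀ ⧸ I)
      (Localization.AtPrime Q ⧸ I.map (algebraMap S₀ (Localization.AtPrime Q))) :=
    IsScalarTower.of_algebraMap_eq (fun _ => rfl)
  -- the quotient map is local
  have hmk : ∀ x ∈ maximalIdeal (Localization.AtPrime Q),
      Ideal.Quotient.mk (I.map (algebraMap S₀ (Localization.AtPrime Q))) x ∈
        maximalIdeal (Localization.AtPrime Q ⧸ I.map (algebraMap S₀ (Localization.AtPrime Q))) := by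
    intro x hx
    haveI : IsLocalHom (Ideal.Quotient.mk (I.map (algebraMap S₀ (Localization.AtPrime Q)))) :=
      IsLocalHom.of_surjective _ Ideal.Quotient.mk_surjective
    rw [IsLocalRing.mem_maximalIdeal, mem_nonunits_iff] at hx ⊢
    intro hu
    exact hx (isUnit_of_map_unit _ x hu)
  refine isUnibranch_of_smooth_of_radicial (R₀ ⧸ P)
    (integralClosure (R₀ ⧸ P) (FractionRing (R₀ ⧸ P))) hinj hfrac (S₀ ⧸ I) Q₁ hQ₁D
    (Localization.AtPrime Q ⧸ I.map (algebraMap S₀ (Localization.AtPrime Q))) e ?_ ?_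
  · rcases he with he1 | ⟨hp, hpm⟩
    · exact Or.inl he1
    · refine Or.inr ⟨hp, ?_⟩
      have := hmk _ hpm
      rwa [map_natCast] at this
  · intro c
    obtain ⟨c₀, rfl⟩ := Ideal.Quotient.mk_surjective c
    obtain ⟨n, r, hr⟩ := hpi c₀
    refine ⟨n, Ideal.Quotient.mk P r, ?_⟩
    have h1 := hmk _ hr
    rw [map_sub, map_pow] at h1
    have h2 : algebraMap (R₀ ⧸ P)
        (Localization.AtPrime Q ⧸ I.map (algebraMap S₀ (Localization.AtPrime Q)))
        (Ideal.Quotient.mk P r) =
        Ideal.Quotient.mk (I.map (algebraMap S₀ (Localization.AtPrime Q)))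
          (algebraMap R₀ (Localization.AtPrime Q) r) := by
      rw [IsScalarTower.algebraMap_apply R₀ S₀ (Localization.AtPrime Q)]
      rfl
    rw [h2]
    exact h1

end

end Groth.Agent.Lib.Helper12.BrSm
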