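import Mathlib
import Groth.Prelude.Def_Hensel
import Groth.Agent.S0505

/-!
# The henselization of a quotient `A/I` is `Ah / I Ah`
-/

set_option autoImplicit false
universe u

namespace Groth.Agent.Lib.Helper12.HensQuotient

open IsLocalRing Polynomial

variable (A Ah : Type u) [CommRing A] [IsLocalRing A] [CommRing Ah] [IsLocalRing Ah]
  [Algebra A Ah] [IsLocalHom (algebraMap A Ah)] [Hensel.IsHenselization A Ah]

theorem isHenselization_quotient (I : Ideal A) (hI : I ≠ ⊤) :
    ∃ (_ : IsLocalRing (A ⧸ I)) (_ : IsLocalRing (Ah ⧸ I.map (algebraMap A Ah)))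
      (_ : IsLocalHom (algebraMap (A ⧸ I) (Ah ⧸ I.map (algebraMap A Ah)))),
      Hensel.IsHenselization (A ⧸ I) (Ah ⧸ I.map (algebraMap A Ah)) := by
  have hIm : I ≤ maximalIdeal A := IsLocalRing.le_maximalIdeal hI
  have hJm : I.map (algebraMap A Ah) ≤ maximalIdeal Ah := by
    rw [Ideal.map_le_iff_le_comap, IsLocalRing.maximalIdeal_comap]
    exact hIm
  haveI : Nontrivial (A ⧸ I) := Ideal.Quotient.nontrivial_iff.mpr hI
  haveI : Nontrivial (Ah ⧸ I.map (algebraMap A Ah)) :=
    Ideal.Quotient.nontrivial_iff.mpr (fun h => by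
      rw [h] at hJm
      exact (maximalIdeal.isMaximal Ah).ne_top (top_le_iff.mp hJm))
  haveI hR : IsLocalRing (A ⧸ I) :=
    IsLocalRing.of_surjective' (Ideal.Quotient.mk I) Ideal.Quotient.mk_surjective
  haveI hT : IsLocalRing (Ah ⧸ I.map (algebraMap A Ah)) :=
    IsLocalRing.of_surjective' (Ideal.Quotient.mk _) Ideal.Quotient.mk_surjective
  haveI hmkI : IsLocalHom (Ideal.Quotient.mk I) :=
    IsLocalHom.of_surjective _ Ideal.Quotient.mk_surjective
  haveI hmkJ : IsLocalHom (Ideal.Quotient.mk (I.map (algebraMap A Ah))) :=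
    IsLocalHom.of_surjective _ Ideal.Quotient.mk_surjective
  have hsq : (algebraMap (A ⧸ I) (Ah ⧸ I.map (algebraMap A Ah))).comp (Ideal.Quotient.mk I) =
      (Ideal.Quotient.mk (I.map (algebraMap A Ah))).comp (algebraMap A Ah) := by
    ext a; rfl
  haveI hloc : IsLocalHom (algebraMap (A ⧸ I) (Ah ⧸ I.map (algebraMap A Ah))) := by
    refine ⟨fun x hx => ?_⟩
    obtain ⟨a, rfl⟩ := Ideal.Quotient.mk_surjective x
    have h1 : IsUnit ((Ideal.Quotient.mk (I.map (algebraMap A Ah))) (algebraMap A Ah a)) := hx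
    have h2 : IsUnit (algebraMap A Ah a) := isUnit_of_map_unit _ _ h1
    exact (isUnit_of_map_unit (algebraMap A Ah) a h2).map _
  refine ⟨hR, hT, hloc, ?_⟩
  haveI : HenselianLocalRing Ah := Hensel.IsHenselization.henselian (R := A)
  constructor
  · haveI : Module.Finite Ah (Ah ⧸ I.map (algebraMap A Ah)) :=
      Module.Finite.of_surjective (Algebra.linearMap Ah _) Ideal.Quotient.mk_surjective
    exact Groth.Agent.S0505.result Ah _
  · intro T' _ _ f hf
    haveI := hf
    have hf₀ : IsLocalHom (f.comp (Ideal.Quotient.mk I)) := RingHom.isLocalHom_comp _ _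
    obtain ⟨g₀, hg₀1, hg₀u⟩ := Hensel.IsHenselization.universal (R := A) (S := Ah) T'
      (f.comp (Ideal.Quotient.mk I)) hf₀
    have hkill : ∀ y ∈ I.map (algebraMap A Ah), g₀ y = 0 := by
      intro y hy
      have : I.map (algebraMap A Ah) ≤ RingHom.ker g₀ := by
        rw [Ideal.map_le_iff_le_comap]
        intro a ha
        rw [Ideal.mem_comap, RingHom.mem_ker]
        have := congrArg (fun h : A →+* T' => h a) hg₀1
        simp only [RingHom.comp_apply] at this
        rw [this, Ideal.Quotient.eq_zero_iff_mem.mpr ha, map_zero]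
      exact RingHom.mem_ker.mp (this hy)
    refine ⟨Ideal.Quotient.lift _ g₀ hkill, ?_, ?_⟩
    · apply Ideal.Quotient.ringHom_ext
      ext a
      have := congrArg (fun h : A →+* T' => h a) hg₀1
      simp only [RingHom.comp_apply] at this
      show Ideal.Quotient.lift _ g₀ hkill (Ideal.Quotient.mk _ (algebraMap A Ah a)) = _
      rw [Ideal.Quotient.lift_mk]
      exact this
    · intro g' hg'1
      have : g'.comp (Ideal.Quotient.mk (I.map (algebraMap A Ah))) = g₀ := by
        apply hg₀u
        rw [RingHom.comp_assoc, ← hsq, ← RingHom.comp_assoc, hg'1]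
      apply Ideal.Quotient.ringHom_ext
      rw [this]
      ext y
      simp

end Groth.Agent.Lib.Helper12.HensQuotient
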