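import Mathlib
import Groth.Agent.Lib.Helper12.BrSmA
import Groth.Agent.Lib.Helper12.BrSmF
import Groth.Agent.Lib.Helper12.HensQuotient
import Groth.Agent.S0509

/-!
# Branches under smooth maps, part G: the count over a henselian base
-/

set_option autoImplicit false
set_option linter.style.haveILetI false
universe u

namespace Groth.Agent.Lib.Helper12.BrSm

open IsLocalRing

variable (R₀ : Type u) [CommRing R₀] [HenselianLocalRing R₀]
  (S₀ : Type u) [CommRing S₀] [Algebra R₀ S₀] [Algebra.Smooth R₀ S₀] (Q : Ideal S₀) [Q.IsPrime]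
  (hQ : Q.comap (algebraMap R₀ S₀) = maximalIdeal R₀)
  (e : ℕ) (he : e = 1 ∨ (e.Prime ∧
    (e : Localization.AtPrime Q) ∈ maximalIdeal (Localization.AtPrime Q)))
  (hpi : ∀ c : Localization.AtPrime Q, ∃ (n : ℕ) (r : R₀),
    c ^ (e ^ n) - algebraMap R₀ (Localization.AtPrime Q) r ∈ maximalIdeal (Localization.AtPrime Q))
  (E : Type u) [CommRing E] [IsLocalRing E] [Algebra (Localization.AtPrime Q) E]
  [IsLocalHom (algebraMap (Localization.AtPrime Q) E)]
  [Hensel.IsHenselization (Localization.AtPrime Q) E]

include hQ he hpi in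
theorem encard_minimalPrimes_hens_of_smooth :
    (minimalPrimes E).encard = (minimalPrimes R₀).encard := by
  letI algRE : Algebra R₀ E :=
    ((algebraMap (Localization.AtPrime Q) E).comp (algebraMap R₀ (Localization.AtPrime Q))).toAlgebra
  haveI : IsScalarTower R₀ (Localization.AtPrime Q) E := IsScalarTower.of_algebraMap_eq (fun _ => rfl)
  haveI : Module.Flat S₀ (Localization.AtPrime Q) :=
    IsLocalization.flat (Localization.AtPrime Q) Q.primeCompl
  haveI : Module.Flat R₀ (Localization.AtPrime Q) := Module.Flat.trans R₀ S₀ (Localization.AtPrime Q)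
  haveI : Module.FaithfullyFlat (Localization.AtPrime Q) E :=
    Groth.Agent.S0509.result (Localization.AtPrime Q) E
  haveI : Module.Flat R₀ E := Module.Flat.trans R₀ (Localization.AtPrime Q) E
  haveI hloc1 : IsLocalHom (algebraMap R₀ (Localization.AtPrime Q)) := by
    constructor
    intro a ha
    rw [IsScalarTower.algebraMap_apply R₀ S₀ (Localization.AtPrime Q)] at ha
    have h1 := (IsLocalization.AtPrime.isUnit_to_map_iff (Localization.AtPrime Q) Q _).mp ha
    by_contra hna
    have h2 : a ∈ maximalIdeal R₀ := (IsLocalRing.mem_maximalIdeal a).mpr hna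
    rw [← hQ] at h2
    exact h1 h2
  haveI : IsLocalHom (algebraMap R₀ E) :=
    RingHom.isLocalHom_comp (algebraMap (Localization.AtPrime Q) E)
      (algebraMap R₀ (Localization.AtPrime Q))
  haveI : Module.FaithfullyFlat R₀ E := Module.FaithfullyFlat.of_flat_of_isLocalHom
  refine encard_minimalPrimes_eq_of_flat R₀ E ?_
  intro P hP
  haveI : P.IsPrime := hP.1.1
  set IC : Ideal (Localization.AtPrime Q) :=
    (P.map (algebraMap R₀ S₀)).map (algebraMap S₀ (Localization.AtPrime Q)) with hIC
  have hICeq : IC = P.map (algebraMap R₀ (Localization.AtPrime Q)) := by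
    rw [hIC, Ideal.map_map, ← IsScalarTower.algebraMap_eq]
  have hPE : P.map (algebraMap R₀ E) = IC.map (algebraMap (Localization.AtPrime Q) E) := by
    rw [hICeq, Ideal.map_map, ← IsScalarTower.algebraMap_eq]
  have hPm : P ≤ maximalIdeal R₀ := IsLocalRing.le_maximalIdeal (Ideal.IsPrime.ne_top inferInstance)
  have hICne : IC ≠ ⊤ := by
    intro htop
    have h1 : IC ≤ maximalIdeal (Localization.AtPrime Q) := by
      rw [hICeq, Ideal.map_le_iff_le_comap, IsLocalRing.maximalIdeal_comap]
      exact hPm
    rw [htop] at h1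
    exact (maximalIdeal.isMaximal _).ne_top (top_le_iff.mp h1)
  rw [hPE]
  obtain ⟨i1, i2, i3, i4⟩ :=
    Groth.Agent.Lib.Helper12.HensQuotient.isHenselization_quotient
      (Localization.AtPrime Q) E IC hICne
  have hU : CAlg2.IsUnibranch (Localization.AtPrime Q ⧸ IC) :=
    isUnibranch_quotient R₀ S₀ Q hQ e he hpi P
  exact minimalPrimes_subsingleton_of_isUnibranch (Localization.AtPrime Q ⧸ IC)
    (E ⧸ IC.map (algebraMap (Localization.AtPrime Q) E)) hU

end Groth.Agent.Lib.Helper12.BrSm
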