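import Mathlib
import Groth.Prelude.Def_Hensel

/-!
# Factorization through a strict henselization of an extension with the same residue field

Let `A → B` be a local homomorphism inducing a surjection on residue fields, `S` and `S'` strict
henselizations of `A` and `B`, and `can : S → T`, `c : B → T` compatible local homomorphisms to a
henselian local ring, `can` inducing a bijection on residue fields. Then `can` factors through `S'`.
-/

set_option autoImplicit false
set_option linter.style.haveILetI false
universe u

namespace Groth.Agent.Lib.Helper12.BrnchCpl

open IsLocalRing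

section Factor

variable {A B S S' T : Type u} [CommRing A] [IsLocalRing A] [CommRing B] [IsLocalRing B]
  [Algebra A B] [IsLocalHom (algebraMap A B)]
  [CommRing S] [IsLocalRing S] [Algebra A S] [IsLocalHom (algebraMap A S)]
  [Hensel.IsStrictHenselization A S]
  [CommRing S'] [IsLocalRing S'] [Algebra B S'] [IsLocalHom (algebraMap B S')]
  [Hensel.IsStrictHenselization B S']
  [CommRing T] [HenselianLocalRing T]

/-- an embedding of residue fields of the strict henselizations over the residue field of `A` -/
theorem exists_residue_embedding
    (hres : Function.Surjective (ResidueField.map (algebraMap A B))) :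
    ∃ τ' : ResidueField S →+* ResidueField S',
      τ'.comp (ResidueField.map (algebraMap A S)) =
        (ResidueField.map (algebraMap B S')).comp (ResidueField.map (algebraMap A B)) ∧
      Function.Bijective τ' := by
  haveI hS := Hensel.IsStrictHenselization.isSepClosure (R := A) (S := S)
  haveI hS' := Hensel.IsStrictHenselization.isSepClosure (R := B) (S := S')
  haveI : Algebra.IsSeparable (ResidueField A) (ResidueField S) := hS.separable
  haveI : IsSepClosed (ResidueField S) := hS.sep_closed
  haveI : Algebra.IsSeparable (ResidueField B) (ResidueField S') := hS'.separable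
  haveI : IsSepClosed (ResidueField S') := hS'.sep_closed
  letI : Algebra (ResidueField A) (ResidueField S') :=
    ((ResidueField.map (algebraMap B S')).comp (ResidueField.map (algebraMap A B))).toAlgebra
  haveI : IsScalarTower (ResidueField A) (ResidueField B) (ResidueField S') :=
    IsScalarTower.of_algebraMap_eq (fun x => rfl)
  haveI : Algebra.IsSeparable (ResidueField A) (ResidueField B) := ⟨fun y => by
    obtain ⟨x, rfl⟩ := hres y
    exact isSeparable_algebraMap x⟩
  haveI : Algebra.IsSeparable (ResidueField A) (ResidueField S') :=
    Algebra.IsSeparable.trans (ResidueField A) (ResidueField B) (ResidueField S')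
  let τa : ResidueField S →ₐ[ResidueField A] ResidueField S' := IsSepClosed.lift
  refine ⟨τa.toRingHom, ?_, τa.toRingHom.injective, ?_⟩
  · refine RingHom.ext fun x => ?_
    exact τa.commutes x
  · letI : Algebra (ResidueField S) (ResidueField S') := τa.toRingHom.toAlgebra
    haveI : IsScalarTower (ResidueField A) (ResidueField S) (ResidueField S') :=
      IsScalarTower.of_algebraMap_eq (fun x => (τa.commutes x).symm)
    haveI : Algebra.IsSeparable (ResidueField S) (ResidueField S') :=
      Algebra.isSeparable_tower_top_of_isSeparable (ResidueField A) (ResidueField S)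
        (ResidueField S')
    exact IsSepClosed.algebraMap_surjective (ResidueField S) (ResidueField S')

theorem exists_factorization (can : S →+* T) [IsLocalHom can] (c : B →+* T) [IsLocalHom c]
    (hc : c.comp (algebraMap A B) = can.comp (algebraMap A S))
    (hres : Function.Surjective (ResidueField.map (algebraMap A B))) :
    ∃ (φ : S →+* S') (ψ : S' →+* T), ψ.comp φ = can := by
  haveI : HenselianLocalRing S' := Hensel.IsStrictHenselization.henselian (R := B)
  obtain ⟨τ', hτ', hbij⟩ := exists_residue_embedding (A := A) (B := B) (S := S) (S' := S') hres
  -- the map `φ`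
  haveI hloc1 : IsLocalHom ((algebraMap B S').comp (algebraMap A B)) :=
    RingHom.isLocalHom_comp _ _
  have hcompat1 : τ'.comp (ResidueField.map (algebraMap A S)) =
      ResidueField.map ((algebraMap B S').comp (algebraMap A B)) := by
    rw [hτ']
    exact (ResidueField.map_comp _ _).symm
  obtain ⟨φ, ⟨hφ1, hφ2⟩, -⟩ := Hensel.IsStrictHenselization.universal (R := A) (S := S) S'
    ((algebraMap B S').comp (algebraMap A B)) τ' hcompat1
  -- the residue map for `ψ`
  let e' : ResidueField S ≃+* ResidueField S' := RingEquiv.ofBijective τ' hbij
  let τ : ResidueField S' →+* ResidueField T :=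
    (ResidueField.map can).comp (e'.symm : ResidueField S' →+* ResidueField S)
  have hcompat2 : τ.comp (ResidueField.map (algebraMap B S')) = ResidueField.map c := by
    refine RingHom.ext fun y => ?_
    obtain ⟨x, rfl⟩ := hres y
    have h1 : ResidueField.map (algebraMap B S') (ResidueField.map (algebraMap A B) x) =
        τ' (ResidueField.map (algebraMap A S) x) := (RingHom.congr_fun hτ' x).symm
    show ResidueField.map can (e'.symm (ResidueField.map (algebraMap B S')
      (ResidueField.map (algebraMap A B) x))) = _
    rw [h1]
    have h2 : e'.symm (τ' (ResidueField.map (algebraMap A S) x)) =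
        ResidueField.map (algebraMap A S) x := e'.symm_apply_apply _
    rw [h2]
    obtain ⟨a, rfl⟩ := residue_surjective x
    rw [ResidueField.map_residue, ResidueField.map_residue, ResidueField.map_residue,
      ResidueField.map_residue]
    exact congrArg (residue T) (RingHom.congr_fun hc a).symm
  obtain ⟨ψ, ⟨hψ1, hψ2⟩, -⟩ := Hensel.IsStrictHenselization.universal (R := B) (S := S') T c τ
    hcompat2
  refine ⟨φ, ψ, ?_⟩
  -- uniqueness
  haveI hloc3 : IsLocalHom (can.comp (algebraMap A S)) := RingHom.isLocalHom_comp _ _
  obtain ⟨g₀, -, hu⟩ := Hensel.IsStrictHenselization.universal (R := A) (S := S) T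
    (can.comp (algebraMap A S)) (ResidueField.map can) (ResidueField.map_comp _ _).symm
  have e1 : ψ.comp φ = g₀ := by
    apply hu
    refine ⟨?_, ?_⟩
    · rw [RingHom.comp_assoc, hφ1, ← RingHom.comp_assoc, hψ1, hc]
    · intro x
      show residue T (ψ (φ x)) = _
      rw [hψ2, hφ2]
      show ResidueField.map can (e'.symm (τ' (residue S x))) = _
      have h2 : e'.symm (τ' (residue S x)) = residue S x := e'.symm_apply_apply _
      rw [h2]
  have e2 : can = g₀ := by
    apply hu
    refine ⟨rfl, fun x => ?_⟩
    rw [ResidueField.map_residue]
  rw [e1, e2]

end Factor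

end Groth.Agent.Lib.Helper12.BrnchCpl
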