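import Groth.Agent.Lib.Helper12.HenselSection
import Mathlib.RingTheory.Unramified.LocalRing
import Mathlib.FieldTheory.IsSepClosed

set_option autoImplicit false
universe u

namespace Groth.Agent.Lib.Helper12

open IsLocalRing

/-- Two algebra maps from an étale algebra to a henselian local ring which agree modulo the maximal
ideal are equal. -/
theorem algHom_eq_of_sub_mem_maximalIdeal (R : Type u) [CommRing R]
    (S : Type u) [CommRing S] [HenselianLocalRing S] [Algebra R S]
    (A : Type u) [CommRing A] [Algebra R A] [Algebra.Etale R A]
    (f₁ f₂ : A →ₐ[R] S) (h : ∀ a, f₁ a - f₂ a ∈ maximalIdeal S) : f₁ = f₂ := by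
  let q : Ideal A := Ideal.comap f₁.toRingHom (maximalIdeal S)
  have hq : q.IsPrime := Ideal.comap_isPrime _ _
  have hres : ∀ a, residue S (f₂ a) = residue S (f₁ a) := by
    intro a
    rw [eq_comm, ← sub_eq_zero, ← map_sub, residue_eq_zero_iff]
    exact h a
  let τ : q.ResidueField →+* ResidueField S :=
    Ideal.ResidueField.lift q ((residue S).comp f₁.toRingHom)
      (by
        intro a ha
        rw [RingHom.mem_ker, RingHom.comp_apply, residue_eq_zero_iff]
        exact ha)
      (by
        intro a ha
        rw [Submonoid.mem_comap, IsUnit.mem_submonoid_iff, RingHom.comp_apply, isUnit_iff_ne_zero,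
          Ne, residue_eq_zero_iff]
        exact ha)
  have hτa : ∀ a, τ (algebraMap A q.ResidueField a) = residue S (f₁ a) := fun a =>
    Ideal.ResidueField.lift_algebraMap _ _ _ _ a
  have hτ : τ.comp (algebraMap R q.ResidueField) = (residue S).comp (algebraMap R S) := by
    ext r
    rw [RingHom.comp_apply, IsScalarTower.algebraMap_apply R A q.ResidueField, hτa,
      AlgHom.commutes, RingHom.comp_apply]
  obtain ⟨f, -, huniq⟩ := Groth.Agent.S0501.result R S A q τ hτ
  have e1 : f₁ = f := huniq f₁ ⟨rfl, fun a => (hτa a).symm⟩
  have e2 : f₂ = f := by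
    refine huniq f₂ ⟨?_, fun a => by rw [hres, hτa]⟩
    ext a
    show f₂ a ∈ maximalIdeal S ↔ f₁ a ∈ maximalIdeal S
    rw [← residue_eq_zero_iff, ← residue_eq_zero_iff, hres]
  rw [e1, e2]

/-- Separably closed fields are invariant under ring isomorphisms. -/
theorem isSepClosed_of_ringEquiv {k k' : Type*} [Field k] [Field k'] (e : k ≃+* k')
    [IsSepClosed k] : IsSepClosed k' := ⟨fun p hp => by
  have h1 : (p.map e.symm.toRingHom).Separable := hp.map
  have h2 := (IsSepClosed.splits_of_separable _ h1).map e.toRingHom
  rwa [Polynomial.map_map, (by ext; simp : e.toRingHom.comp e.symm.toRingHom = RingHom.id k'),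
    Polynomial.map_id] at h2⟩

attribute [local instance] Localization.AtPrime.algebraOfLiesOver in
/-- Over a strictly henselian local ring, primes of an étale algebra over the closed point have
trivial residue field extension. -/
theorem bijective_residueField_mapₐ_of_isSepClosed (R : Type u) [CommRing R] [IsLocalRing R]
    [IsSepClosed (ResidueField R)]
    (A : Type u) [CommRing A] [Algebra R A] [Algebra.Etale R A] (q : Ideal A) [q.IsPrime]
    [q.LiesOver (maximalIdeal R)] :
    Function.Bijective (Ideal.ResidueField.mapₐ (maximalIdeal R) q (Algebra.ofId _ _)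
      (q.over_def (maximalIdeal R))) := by
  let e : ResidueField R ≃+* (maximalIdeal R).ResidueField :=
    RingEquiv.ofBijective (algebraMap (R ⧸ maximalIdeal R) (maximalIdeal R).ResidueField)
      (maximalIdeal R).bijective_algebraMap_quotient_residueField
  have : IsSepClosed (maximalIdeal R).ResidueField := isSepClosed_of_ringEquiv e
  have h1 : Algebra.IsSeparable (maximalIdeal R).ResidueField q.ResidueField := inferInstance
  exact IsSepClosed.algebraMap_bijective (k := (maximalIdeal R).ResidueField)
    (K := q.ResidueField)

end Groth.Agent.Lib.Helper12
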