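import Groth.Agent.Lib.Helper12.PtUniv
import Groth.Agent.Lib.Helper12.HenselUnique
import Groth.Prelude.Def_Hensel
import Mathlib.FieldTheory.IsSepClosed
import Mathlib.FieldTheory.Separable

set_option autoImplicit false
universe u

/-!
# The strict henselization of a local ring
-/

namespace Groth.Agent.Lib.Helper12

open IsLocalRing PtNbhd Polynomial

variable (A : Type u) [CommRing A] [IsLocalRing A]

/-- A separable closure of the residue field of `A` (type synonym, to control instances). -/
def SepCl : Type u := SeparableClosure (ResidueField A)

noncomputable instance : Field (SepCl A) := inferInstanceAs (Field (SeparableClosure _))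

noncomputable instance : Algebra (ResidueField A) (SepCl A) :=
  inferInstanceAs (Algebra (ResidueField A) (SeparableClosure _))

instance : IsSepClosure (ResidueField A) (SepCl A) :=
  inferInstanceAs (IsSepClosure (ResidueField A) (SeparableClosure _))

instance : IsSepClosed (SepCl A) := IsSepClosure.sep_closed (ResidueField A)

noncomputable instance : Algebra A (SepCl A) :=
  ((algebraMap (ResidueField A) (SepCl A)).comp (residue A)).toAlgebra

instance : IsScalarTower A (ResidueField A) (SepCl A) :=
  IsScalarTower.of_algebraMap_eq (fun _ => rfl)

instance : LocalPoint A (SepCl A) where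
  ker_algebraMap := by
    ext a
    rw [RingHom.mem_ker, IsScalarTower.algebraMap_apply A (ResidueField A) (SepCl A),
      map_eq_zero_iff _ (algebraMap (ResidueField A) (SepCl A)).injective,
      ResidueField.algebraMap_eq, residue_eq_zero_iff]

/-- The strict henselization of a local ring `A`. -/
abbrev StrictHenselization : Type u := Lim A (SepCl A)

namespace StrictHenselization

theorem pt_surjective : Function.Surjective (Lim.pt A (SepCl A)) := by
  intro α
  have hsep : IsSeparable (ResidueField A) α := Algebra.IsSeparable.isSeparable _ α
  have hint : IsIntegral (ResidueField A) α := hsep.isIntegral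
  obtain ⟨f, hf, -, hfm⟩ := lifts_and_natDegree_eq_and_monic
    (mem_lifts_of_surjective (f := residue A) residue_surjective (minpoly (ResidueField A) α))
    (minpoly.monic hint)
  have hmap : f.map (Algebra.ofId A (SepCl A)).toRingHom =
      (minpoly (ResidueField A) α).map (algebraMap (ResidueField A) (SepCl A)) := by
    rw [← hf, Polynomial.map_map]
    rfl
  have h0 : (f.map (Algebra.ofId A (SepCl A)).toRingHom).eval α = 0 := by
    rw [hmap, eval_map_algebraMap, minpoly.aeval]
  have h1 : (f.map (Algebra.ofId A (SepCl A)).toRingHom).derivative.eval α ≠ 0 := by
    rw [hmap, derivative_map, eval_map_algebraMap]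
    exact Separable.aeval_derivative_ne_zero hsep (minpoly.aeval _ _)
  obtain ⟨C', _, _, _, π', φ, hφ, y, -, hπy⟩ :=
    exists_nbhd_root (A := A) (L := SepCl A) A (Algebra.ofId A (SepCl A)) f hfm α h0 h1
  obtain ⟨i, e, he⟩ := Nbhd.exists_loc_equiv C' π'
  refine ⟨Lim.of A (SepCl A) i (e (algebraMap C' (Loc A (SepCl A) C' π') y)), ?_⟩
  rw [Lim.pt_of]
  have := congrArg (fun g : Loc A (SepCl A) C' π' →ₐ[A] SepCl A =>
    g (algebraMap C' (Loc A (SepCl A) C' π') y)) he
  simp only [AlgHom.comp_apply] at this
  rw [locPt_algebraMap, hπy] at this
  exact this

instance : IsLocalHom (Lim.pt A (SepCl A)).toRingHom := by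
  refine ⟨fun x hx => ?_⟩
  by_contra hu
  have : x ∈ maximalIdeal (StrictHenselization A) := hu
  rw [← Lim.pt_eq_zero_iff] at this
  have h0 : (Lim.pt A (SepCl A)).toRingHom x = 0 := this
  rw [h0] at hx
  exact not_isUnit_zero hx

/-- The residue field of the strict henselization is the chosen separable closure. -/
noncomputable def residueEquiv : ResidueField (StrictHenselization A) ≃+* SepCl A :=
  RingEquiv.ofBijective (ResidueField.lift (Lim.pt A (SepCl A)).toRingHom)
    ⟨(ResidueField.lift (Lim.pt A (SepCl A)).toRingHom).injective, fun α => by
      obtain ⟨x, rfl⟩ := pt_surjective A α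
      exact ⟨residue _ x, ResidueField.lift_residue_apply _ x⟩⟩

theorem residueEquiv_residue (x : StrictHenselization A) :
    residueEquiv A (residue _ x) = Lim.pt A (SepCl A) x := by
  show ResidueField.lift (Lim.pt A (SepCl A)).toRingHom (residue _ x) = _
  rw [ResidueField.lift_residue_apply]
  rfl

/-- The residue field isomorphism as an algebra isomorphism over the residue field of `A`. -/
noncomputable def residueAlgEquiv :
    ResidueField (StrictHenselization A) ≃ₐ[ResidueField A] SepCl A :=
  { residueEquiv A with
    commutes' := fun r => by
      obtain ⟨a, rfl⟩ := residue_surjective r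
      show residueEquiv A (algebraMap (ResidueField A) (ResidueField (StrictHenselization A))
        (residue A a)) = _
      have : algebraMap (ResidueField A) (ResidueField (StrictHenselization A)) (residue A a) =
          residue _ (algebraMap A (StrictHenselization A) a) := by
        show ResidueField.map (algebraMap A (StrictHenselization A)) (residue A a) = _
        rw [ResidueField.map_residue]
      rw [this, residueEquiv_residue, AlgHom.commutes]
      rfl }

instance isSepClosure :
    IsSepClosure (ResidueField A) (ResidueField (StrictHenselization A)) where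
  sep_closed := isSepClosed_of_ringEquiv (residueEquiv A).symm
  separable := Algebra.IsSeparable.of_algHom _ _ (residueAlgEquiv A : _ →ₐ[ResidueField A] SepCl A)

instance isStrictHenselization : Hensel.IsStrictHenselization A (StrictHenselization A) where
  henselian := inferInstance
  isSepClosure := inferInstance
  universal T _ _ f _ τ hτ := by
    letI : Algebra A T := f.toAlgebra
    haveI : IsLocalHom (algebraMap A T) := ‹IsLocalHom f›
    have hτ' : ∀ a : A, τ (residue _ (algebraMap A (StrictHenselization A) a)) =
        residue T (algebraMap A T a) := by
      intro a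
      have := congrArg (fun h : ResidueField A →+* ResidueField T => h (residue A a)) hτ
      simp only [RingHom.comp_apply, ResidueField.map_residue] at this
      exact this
    refine ⟨(Lim.liftRes T τ hτ').toRingHom, ⟨(Lim.liftRes T τ hτ').comp_algebraMap,
      Lim.residue_liftRes T τ hτ'⟩, ?_⟩
    rintro g ⟨hg1, hg2⟩
    have hc : ∀ a : A, g (algebraMap A (StrictHenselization A) a) = algebraMap A T a := fun a =>
      congrArg (fun h : A →+* T => h a) hg1
    let g' : StrictHenselization A →ₐ[A] T := { g with commutes' := hc }
    have : g' = Lim.liftRes T τ hτ' := Lim.liftRes_unique T τ hτ' g' hg2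
    have h2 : g'.toRingHom = (Lim.liftRes T τ hτ').toRingHom := by rw [this]
    exact h2

end StrictHenselization

end Groth.Agent.Lib.Helper12
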