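import Mathlib
import Groth.Prelude.Def_Brnch
import Groth.Agent.Lib.Helper12.BrnchCplA
import Groth.Agent.Lib.Helper12.HenselizationNoeth2
import Groth.Agent.Lib.helper19.ComplMap1
import Groth.Agent.Lib.helper19.ComplUnram1
import Groth.Agent.S0537
import Groth.Agent.S0540
import Groth.Agent.S9237
import Groth.Agent.S9238
import Groth.Agent.S9240

/-!
# The completion has at least as many (geometric) branches (S9239)
-/

set_option autoImplicit false
set_option linter.style.haveILetI false
universe u

namespace Groth.Agent.Lib.Helper12.BrnchCpl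

open IsLocalRing

/-- if `ψ ∘ φ` is surjective on spectra, then `S'` has at least as many minimal primes as `S` -/
theorem card_minimalPrimes_le {S S' T : Type u} [CommRing S] [CommRing S'] [CommRing T]
    (φ : S →+* S') (ψ : S' →+* T)
    (hsurj : Function.Surjective (PrimeSpectrum.comap (ψ.comp φ))) :
    ENat.card (minimalPrimes S) ≤ ENat.card (minimalPrimes S') := by
  have hex : ∀ P : ↥(minimalPrimes S), ∃ Q : ↥(minimalPrimes S'), Q.1.comap φ = P.1 := by
    intro P
    haveI : P.1.IsPrime := P.2.1.1
    obtain ⟨𝔓, h𝔓⟩ := hsurj ⟨P.1, inferInstance⟩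
    have h1 : (𝔓.asIdeal.comap ψ).comap φ = P.1 := by
      have := congrArg PrimeSpectrum.asIdeal h𝔓
      rw [Ideal.comap_comap]
      exact this
    obtain ⟨Q₀, hQ₀, hle⟩ := Ideal.exists_minimalPrimes_le (I := (⊥ : Ideal S'))
      (J := 𝔓.asIdeal.comap ψ) bot_le
    refine ⟨⟨Q₀, hQ₀⟩, ?_⟩
    haveI : Q₀.IsPrime := hQ₀.1.1
    have h2 : Q₀.comap φ ≤ P.1 := h1 ▸ Ideal.comap_mono hle
    exact le_antisymm h2 (P.2.2 ⟨Ideal.comap_isPrime _ _, bot_le⟩ h2)
  choose g hg using hex
  apply ENat.card_le_card_of_injective (f := g)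
  intro P1 P2 h
  apply Subtype.ext
  rw [← hg P1, ← hg P2, h]

variable (A : Type u) [CommRing A] [IsLocalRing A] [IsNoetherianRing A]

theorem numGeomBranches_le_completion :
    Brnch.numGeomBranches A ≤ Brnch.numGeomBranches (AdicCompletion (maximalIdeal A) A) := by
  obtain ⟨S, _, _, _, _, hS⟩ := Groth.Agent.S0537.result A
  obtain ⟨S', _, _, _, _, hS'⟩ := Groth.Agent.S0537.result (AdicCompletion (maximalIdeal A) A)
  haveI := hS
  haveI := hS'
  rw [← Groth.Agent.S9238.result A S, ← Groth.Agent.S9238.result _ S']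
  haveI : IsNoetherianRing S := (Groth.Agent.S0540.result A S).mp inferInstance
  haveI : IsLocalHom (Groth.Agent.Lib.Helper19.ComplMap.complMap A S) :=
    Groth.Agent.Lib.Helper19.ComplUnram.isLocalHom_of_compat _
      (Groth.Agent.Lib.Helper19.ComplMap.complMap_comp A S)
  obtain ⟨φ, ψ, h⟩ := exists_factorization (A := A) (B := AdicCompletion (maximalIdeal A) A)
    (S := S) (S' := S') (T := AdicCompletion (maximalIdeal S) S)
    (algebraMap S (AdicCompletion (maximalIdeal S) S))
    (Groth.Agent.Lib.Helper19.ComplMap.complMap A S)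
    (Groth.Agent.Lib.Helper19.ComplMap.complMap_comp A S)
    (AdicCompletion.residueField_map_bijective A).2
  apply card_minimalPrimes_le φ ψ
  rw [h]
  haveI : Module.FaithfullyFlat S (AdicCompletion (maximalIdeal S) S) :=
    Module.FaithfullyFlat.of_flat_of_isLocalHom
  exact PrimeSpectrum.comap_surjective_of_faithfullyFlat

theorem numBranches_le_completion :
    Brnch.numBranches A ≤ Brnch.numBranches (AdicCompletion (maximalIdeal A) A) := by
  haveI : IsLocalHom (algebraMap (AdicCompletion (maximalIdeal A) A)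
      (AdicCompletion (maximalIdeal A) A)) := ⟨fun a ha => ha⟩
  haveI : Hensel.IsHenselization (AdicCompletion (maximalIdeal A) A)
      (AdicCompletion (maximalIdeal A) A) :=
    ⟨inferInstance, fun T _ _ f _ => ⟨f, RingHom.ext fun x => rfl, fun g hg => by
      rw [← hg]
      exact RingHom.ext fun x => rfl⟩⟩
  rw [← Groth.Agent.S9237.result A (Henselization A),
    ← Groth.Agent.S9237.result (AdicCompletion (maximalIdeal A) A)
      (AdicCompletion (maximalIdeal A) A)]
  obtain ⟨-, hsurj⟩ := Groth.Agent.S9240.result A (Henselization A)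
    (Henselization.toCompletion A).toRingHom
    (RingHom.ext fun a => (Henselization.toCompletion A).commutes a)
  have hex : ∀ P : ↥(minimalPrimes (Henselization A)),
      ∃ Q : ↥(minimalPrimes (AdicCompletion (maximalIdeal A) A)),
        Q.1.comap (Henselization.toCompletion A).toRingHom = P.1 := fun P => by
    obtain ⟨Q, hQ, h⟩ := hsurj P.2
    exact ⟨⟨Q, hQ⟩, h⟩
  choose g hg using hex
  apply ENat.card_le_card_of_injective (f := g)
  intro P1 P2 h
  apply Subtype.ext
  rw [← hg P1, ← hg P2, h]

end Groth.Agent.Lib.Helper12.BrnchCpl
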