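import Mathlib

/-!
# Elements with finite-length image modulo an ideal come from the base, for a flat extension
with the approximation property (towards S9242)
-/

set_option autoImplicit false
set_option linter.style.haveILetI false
universe u

namespace Groth.Agent.Lib.Helper12.BrnchDim

open IsLocalRing

section Sat

variable {D : Type u} [CommRing D] [IsLocalRing D]

/-- the saturation of an ideal with respect to the maximal ideal -/
def sat (𝔞 : Ideal D) : Ideal D where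
  carrier := {d | ∃ j : ℕ, ∀ c ∈ maximalIdeal D ^ j, c * d ∈ 𝔞}
  add_mem' := by
    rintro d₁ d₂ ⟨j₁, h₁⟩ ⟨j₂, h₂⟩
    refine ⟨max j₁ j₂, fun c hc => ?_⟩
    rw [mul_add]
    exact 𝔞.add_mem (h₁ c (Ideal.pow_le_pow_right (le_max_left _ _) hc))
      (h₂ c (Ideal.pow_le_pow_right (le_max_right _ _) hc))
  zero_mem' := ⟨0, fun c _ => by rw [mul_zero]; exact 𝔞.zero_mem⟩
  smul_mem' := by
    rintro r d ⟨j, h⟩
    refine ⟨j, fun c hc => ?_⟩
    have : c * (r • d) = r * (c * d) := by rw [smul_eq_mul]; ring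
    rw [this]
    exact 𝔞.mul_mem_left _ (h c hc)

theorem mem_sat {𝔞 : Ideal D} {d : D} :
    d ∈ sat 𝔞 ↔ ∃ j : ℕ, ∀ c ∈ maximalIdeal D ^ j, c * d ∈ 𝔞 := Iff.rfl

theorem le_sat (𝔞 : Ideal D) : 𝔞 ≤ sat 𝔞 := fun d hd =>
  ⟨0, fun c _ => 𝔞.mul_mem_left _ hd⟩

/-- uniform exponent for the saturation -/
theorem exists_pow_mul_sat_le [IsNoetherianRing D] (𝔞 : Ideal D) :
    ∃ j : ℕ, maximalIdeal D ^ j * sat 𝔞 ≤ 𝔞 := by
  obtain ⟨T, hT⟩ := (isNoetherianRing_iff_ideal_fg D).mp inferInstance (sat 𝔞)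
  have hex : ∀ t : D, ∃ j : ℕ, t ∈ sat 𝔞 → ∀ c ∈ maximalIdeal D ^ j, c * t ∈ 𝔞 := by
    intro t
    by_cases ht : t ∈ sat 𝔞
    · obtain ⟨j, hj⟩ := ht
      exact ⟨j, fun _ => hj⟩
    · exact ⟨0, fun h => absurd h ht⟩
  choose jf hjf using hex
  refine ⟨T.sup jf, ?_⟩
  rw [← hT, Ideal.mul_le]
  intro c hc d hd
  induction hd using Submodule.span_induction with
  | mem t ht =>
    have hts : t ∈ sat 𝔞 := hT ▸ Ideal.subset_span ht
    exact hjf t hts c (Ideal.pow_le_pow_right (Finset.le_sup (f := jf) ht) hc)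
  | zero => rw [mul_zero]; exact 𝔞.zero_mem
  | add u v _ _ hu hv => rw [mul_add]; exact 𝔞.add_mem hu hv
  | smul r u _ hu =>
    have : c * (r • u) = r * (c * u) := by rw [smul_eq_mul]; ring
    rw [this]
    exact 𝔞.mul_mem_left _ hu

/-- the saturation is saturated -/
theorem mem_sat_of_maximalIdeal_mul [IsNoetherianRing D] (𝔞 : Ideal D) (d : D)
    (h : ∀ c ∈ maximalIdeal D, c * d ∈ sat 𝔞) : d ∈ sat 𝔞 := by
  obtain ⟨j, hj⟩ := exists_pow_mul_sat_le 𝔞
  refine ⟨j + 1, fun c hc => ?_⟩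
  rw [pow_succ] at hc
  refine Submodule.mul_induction_on hc ?_ ?_
  · intro c₁ hc₁ c₂ hc₂
    have h1 : c₂ * d ∈ sat 𝔞 := h c₂ hc₂
    have h2 : c₁ * (c₂ * d) ∈ 𝔞 := hj (Ideal.mul_mem_mul hc₁ h1)
    rw [mul_assoc]
    exact h2
  · intro u v hu hv
    rw [add_mul]
    exact 𝔞.add_mem hu hv

/-- if the saturation is proper, some element of the maximal ideal is regular modulo it -/
theorem exists_regular_mod_sat [IsNoetherianRing D] (𝔞 : Ideal D) (hne : sat 𝔞 ≠ ⊤) :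
    ∃ a ∈ maximalIdeal D, IsSMulRegular (D ⧸ sat 𝔞) a := by
  classical
  by_contra hcon
  push_neg at hcon
  have hsub : ((maximalIdeal D : Ideal D) : Set D) ⊆
      ⋃ p ∈ associatedPrimes D (D ⧸ sat 𝔞), (p : Set D) := by
    intro a ha
    rw [biUnion_associatedPrimes_eq_compl_regular D (D ⧸ sat 𝔞)]
    exact hcon a ha
  have hfin := associatedPrimes.finite D (D ⧸ sat 𝔞)
  have hsub' : ((maximalIdeal D : Ideal D) : Set D) ⊆
      ⋃ p ∈ (↑hfin.toFinset : Set (Ideal D)), ((fun p : Ideal D => p) p : Set D) := by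
    intro a ha
    obtain ⟨p, hp⟩ := Set.mem_iUnion.mp (hsub ha)
    obtain ⟨hp1, hp2⟩ := Set.mem_iUnion.mp hp
    refine Set.mem_iUnion.mpr ⟨p, Set.mem_iUnion.mpr ⟨?_, hp2⟩⟩
    exact hfin.mem_toFinset.mpr hp1
  obtain ⟨p, hp, hle⟩ := (Ideal.subset_union_prime (R := D) (s := hfin.toFinset)
    (f := fun p : Ideal D => p) ⊥ ⊥ (fun i hi _ _ => by
      have := hfin.mem_toFinset.mp hi
      exact this.isPrime)).mp hsub'
  have hpass : p ∈ associatedPrimes D (D ⧸ sat 𝔞) := hfin.mem_toFinset.mp hp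
  have hpm : p = maximalIdeal D :=
    ((maximalIdeal.isMaximal D).eq_of_le hpass.isPrime.ne_top hle).symm
  obtain ⟨-, z, hz⟩ := (isAssociatedPrime_iff (M := D ⧸ sat 𝔞)).mp hpass
  obtain ⟨d, rfl⟩ := Ideal.Quotient.mk_surjective z
  have hd : d ∈ sat 𝔞 := by
    apply mem_sat_of_maximalIdeal_mul
    intro c hc
    have hc' : c ∈ p := hpm ▸ hc
    rw [hz, Submodule.mem_colon_singleton, Submodule.mem_bot] at hc'
    have h2 : Ideal.Quotient.mk (sat 𝔞) (c * d) = 0 := by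
      rw [map_mul]
      exact hc'
    exact Ideal.Quotient.eq_zero_iff_mem.mp h2
  have hd0 : Ideal.Quotient.mk (sat 𝔞) d = 0 := Ideal.Quotient.eq_zero_iff_mem.mpr hd
  have h1 : (1 : D) ∈ p := by
    rw [hz, Submodule.mem_colon_singleton, Submodule.mem_bot, hd0, smul_zero]
  exact hpass.isPrime.ne_top ((Ideal.eq_top_iff_one _).mpr h1)

end Sat

end Groth.Agent.Lib.Helper12.BrnchDim
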