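import Mathlib
import Groth.Agent.Lib.Helper12.BrnchDimA

/-!
# Approximation modulo an ideal for elements with finite-length image (towards S9242)
-/

set_option autoImplicit false
set_option linter.style.haveILetI false
universe u

namespace Groth.Agent.Lib.Helper12.BrnchDim

open IsLocalRing TensorProduct

section Approx

variable {D E : Type u} [CommRing D] [CommRing E] [Algebra D E] [Module.Flat D E]

/-- regularity modulo an ideal passes to a flat extension -/
theorem mem_map_of_mul_mem {𝔠 : Ideal D} {a : D} (ha : IsSMulRegular (D ⧸ 𝔠) a) {z : E}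
    (hz : algebraMap D E a * z ∈ 𝔠.map (algebraMap D E)) : z ∈ 𝔠.map (algebraMap D E) := by
  have h1 : IsSMulRegular (E ⊗[D] (D ⧸ 𝔠)) a := IsSMulRegular.lTensor E ha
  have h2 : IsSMulRegular (E ⧸ (𝔠 • (⊤ : Submodule D E))) a :=
    ((TensorProduct.tensorQuotEquivQuotSMul E 𝔠).isSMulRegular_congr a).mp h1
  have hmem : ∀ w : E, w ∈ 𝔠 • (⊤ : Submodule D E) ↔ w ∈ 𝔠.map (algebraMap D E) := fun w => by
    rw [Ideal.smul_top_eq_map, Submodule.restrictScalars_mem]
  have h3 : a • (Submodule.Quotient.mk z : E ⧸ (𝔠 • (⊤ : Submodule D E))) = a • 0 := by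
    rw [smul_zero, ← Submodule.Quotient.mk_smul, Submodule.Quotient.mk_eq_zero, hmem,
      Algebra.smul_def]
    exact hz
  have h4 := h2 h3
  rw [Submodule.Quotient.mk_eq_zero, hmem] at h4
  exact h4

variable [IsLocalRing D] [IsNoetherianRing D]

theorem exists_sub_mem_of_pow_mul_mem
    (happrox : ∀ (N : ℕ) (y : E), ∃ d : D,
      y - algebraMap D E d ∈ (maximalIdeal D ^ N).map (algebraMap D E))
    (𝔞 : Ideal D) (y : E) (N : ℕ)
    (hy : ∀ c ∈ maximalIdeal D ^ N, algebraMap D E c * y ∈ 𝔞.map (algebraMap D E)) :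
    ∃ d : D, y - algebraMap D E d ∈ 𝔞.map (algebraMap D E) := by
  obtain ⟨j, hj⟩ := exists_pow_mul_sat_le 𝔞
  by_cases htop : sat 𝔞 = ⊤
  · have h1 : maximalIdeal D ^ j ≤ 𝔞 := by
      have := hj
      rw [htop, Ideal.mul_top] at this
      exact this
    obtain ⟨d, hd⟩ := happrox j y
    exact ⟨d, Ideal.map_mono h1 hd⟩
  · obtain ⟨a, ham, hareg⟩ := exists_regular_mod_sat 𝔞 htop
    have hy1 : algebraMap D E (a ^ N) * y ∈ (sat 𝔞).map (algebraMap D E) :=
      Ideal.map_mono (le_sat 𝔞) (hy _ (Ideal.pow_mem_pow ham N))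
    have hy2 : y ∈ (sat 𝔞).map (algebraMap D E) := mem_map_of_mul_mem (hareg.pow N) hy1
    have key : ∀ z ∈ (sat 𝔞).map (algebraMap D E), ∃ d ∈ sat 𝔞,
        z - algebraMap D E d ∈ 𝔞.map (algebraMap D E) := by
      intro z hz
      induction hz using Submodule.span_induction with
      | mem t ht =>
        obtain ⟨d, hd, rfl⟩ := ht
        exact ⟨d, hd, by rw [sub_self]; exact zero_mem _⟩
      | zero => exact ⟨0, zero_mem _, by rw [map_zero, sub_zero]; exact zero_mem _⟩
      | add u v _ _ hu hv =>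
        obtain ⟨d1, hd1, h1⟩ := hu
        obtain ⟨d2, hd2, h2⟩ := hv
        refine ⟨d1 + d2, add_mem hd1 hd2, ?_⟩
        have : u + v - algebraMap D E (d1 + d2) =
            (u - algebraMap D E d1) + (v - algebraMap D E d2) := by rw [map_add]; ring
        rw [this]
        exact add_mem h1 h2
      | smul e u _ hu =>
        obtain ⟨d, hd, h1⟩ := hu
        obtain ⟨d', hd'⟩ := happrox j e
        refine ⟨d' * d, Ideal.mul_mem_left _ _ hd, ?_⟩
        have h2 : (e - algebraMap D E d') * algebraMap D E d ∈ 𝔞.map (algebraMap D E) := by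
          have h3 : (e - algebraMap D E d') * algebraMap D E d ∈
              (maximalIdeal D ^ j).map (algebraMap D E) * (sat 𝔞).map (algebraMap D E) :=
            Ideal.mul_mem_mul hd' (Ideal.mem_map_of_mem _ hd)
          rw [← Ideal.map_mul] at h3
          exact Ideal.map_mono hj h3
        have : e • u - algebraMap D E (d' * d) =
            e * (u - algebraMap D E d) + (e - algebraMap D E d') * algebraMap D E d := by
          rw [map_mul, smul_eq_mul]; ring
        rw [this]
        exact add_mem (Ideal.mul_mem_left _ _ h1) h2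
    obtain ⟨d, -, hd⟩ := key y hy2
    exact ⟨d, hd⟩

end Approx

end Groth.Agent.Lib.Helper12.BrnchDim
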