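import Mathlib

/-!
# Quasi-idempotents attached to a one-dimensional component of a local ring (towards S9242)
-/

set_option autoImplicit false
set_option linter.style.haveILetI false
universe u

namespace Groth.Agent.Lib.Helper12.BrnchDim

open IsLocalRing Polynomial

section QuasiIdem

variable {E : Type u} [CommRing E] [IsLocalRing E] [IsNoetherianRing E]

/-- a quasi-idempotent cutting out a minimal prime `q` all of whose proper specializations
are the closed point -/
theorem exists_quasi_idem (x : E) (hx : x ∈ maximalIdeal E) {q : Ideal E}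
    (hq : q ∈ minimalPrimes E)
    (hdim : ∀ P : Ideal E, P.IsPrime → q ≤ P → P = q ∨ P = maximalIdeal E) :
    ∃ (n : ℕ) (y : E), y * y = x ^ n * y ∧ x ^ n - y ∈ q ∧
      ∀ P ∈ minimalPrimes E, P ≠ q → y ∈ P := by
  classical
  haveI hqprime : q.IsPrime := hq.1.1
  have hfin := minimalPrimes.finite_of_isNoetherianRing E
  set T : Finset (Ideal E) := hfin.toFinset.erase q with hT
  set J : Ideal E := T.inf (fun P => P) with hJ
  have hJle : ∀ P ∈ minimalPrimes E, P ≠ q → J ≤ P := fun P hP hPq =>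
    Finset.inf_le (f := fun P : Ideal E => P)
      (Finset.mem_erase.mpr ⟨hPq, hfin.mem_toFinset.mpr hP⟩)
  have hrad : x ∈ (q ⊔ J).radical := by
    rw [Ideal.radical_eq_sInf, Ideal.mem_sInf]
    rintro P ⟨hle, hPprime⟩
    rcases hdim P hPprime (le_sup_left.trans hle) with h | h
    · exfalso
      have h1 : J ≤ q := h ▸ (le_sup_right.trans hle)
      obtain ⟨P₀, hP₀T, hP₀q⟩ := (Ideal.IsPrime.inf_le' hqprime).mp h1
      obtain ⟨hne, hmem⟩ := Finset.mem_erase.mp hP₀T
      have hP₀min : P₀ ∈ minimalPrimes E := hfin.mem_toFinset.mp hmem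
      exact hne (le_antisymm hP₀q (hq.2 hP₀min.1 hP₀q))
    · rw [h]
      exact hx
  obtain ⟨j, hj⟩ := hrad
  obtain ⟨a, ha, b, hb, hab⟩ := Submodule.mem_sup.mp hj
  have hnil : IsNilpotent (a * b) := by
    rw [nilpotent_iff_mem_prime]
    intro P hP
    haveI := hP
    obtain ⟨P₀, hP₀, hP₀le⟩ := Ideal.exists_minimalPrimes_le (I := (⊥ : Ideal E)) (J := P) bot_le
    by_cases h : P₀ = q
    · exact P.mul_mem_right _ (hP₀le (h ▸ ha))
    · exact P.mul_mem_left _ (hP₀le (hJle P₀ hP₀ h hb))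
  obtain ⟨l, hl⟩ := hnil
  have hl0 : l ≠ 0 := by
    rintro rfl
    rw [pow_zero] at hl
    exact one_ne_zero hl
  have hmem : x ^ (j * (l + l)) ∈ Ideal.span {a} ^ l ⊔ Ideal.span {b} ^ l := by
    apply Ideal.sup_pow_add_le_pow_sup_pow
    rw [pow_mul]
    apply Ideal.pow_mem_pow
    rw [← hab]
    exact add_mem (Ideal.mem_sup_left (Ideal.mem_span_singleton_self a))
      (Ideal.mem_sup_right (Ideal.mem_span_singleton_self b))
  rw [Ideal.span_singleton_pow, Ideal.span_singleton_pow] at hmem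
  obtain ⟨α, hα, β, hβ, hαβ⟩ := Submodule.mem_sup.mp hmem
  obtain ⟨u, rfl⟩ := Ideal.mem_span_singleton'.mp hα
  obtain ⟨v, rfl⟩ := Ideal.mem_span_singleton'.mp hβ
  have hprod : (u * a ^ l) * (v * b ^ l) = 0 := by
    have : (u * a ^ l) * (v * b ^ l) = u * v * (a * b) ^ l := by rw [mul_pow]; ring
    rw [this, hl, mul_zero]
  refine ⟨j * (l + l), v * b ^ l, ?_, ?_, ?_⟩
  · have h1 : x ^ (j * (l + l)) = u * a ^ l + v * b ^ l := hαβ.symm
    rw [h1, add_mul, hprod, zero_add]
  · have h1 : x ^ (j * (l + l)) - v * b ^ l = u * a ^ l := by rw [← hαβ]; ring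
    rw [h1]
    exact q.mul_mem_left _ (q.pow_mem_of_mem ha l (Nat.pos_of_ne_zero hl0))
  · intro P hP hPq
    exact P.mul_mem_left _ (P.pow_mem_of_mem (hJle P hP hPq hb) l (Nat.pos_of_ne_zero hl0))

theorem pow_succ_quasi {x y : E} {n : ℕ} (hyy : y * y = x ^ n * y) (l : ℕ) :
    y ^ (l + 1) = x ^ (n * l) * y := by
  induction l with
  | zero => rw [zero_add, pow_one, mul_zero, pow_zero, one_mul]
  | succ l ih =>
    rw [pow_succ, ih, mul_assoc, hyy, ← mul_assoc, ← pow_add, Nat.mul_succ]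

/-- the quasi-idempotent dies locally at primes not containing `q` -/
theorem exists_notMem_mul_eq_zero {x y : E} {n : ℕ} (hxreg : ∀ z : E, x * z = 0 → z = 0)
    (hyy : y * y = x ^ n * y) {q : Ideal E}
    (hyP : ∀ P ∈ minimalPrimes E, P ≠ q → y ∈ P) (P : Ideal E) [hP : P.IsPrime]
    (hqP : ¬ q ≤ P) : ∃ s, s ∉ P ∧ s * y = 0 := by
  by_contra hcon
  push_neg at hcon
  have hxpow : ∀ (m : ℕ) (z : E), x ^ m * z = 0 → z = 0 := by
    intro m
    induction m with
    | zero => intro z hz; rwa [pow_zero, one_mul] at hz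
    | succ m ih =>
      intro z hz
      rw [pow_succ, mul_assoc] at hz
      exact hxreg z (ih _ hz)
  have hdisj : Disjoint ((⊥ : Ideal E) : Set E) (P.primeCompl ⊔ Submonoid.powers y : Submonoid E) := by
    rw [Set.disjoint_left]
    intro w hw hwS
    have hw0 : w = 0 := hw
    obtain ⟨s, hs, t, ht, hst⟩ := Submonoid.mem_sup.mp hwS
    obtain ⟨l, rfl⟩ := ht
    rw [hw0] at hst
    change s * y ^ l = 0 at hst
    cases l with
    | zero =>
      rw [pow_zero, mul_one] at hst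
      exact hs (hst ▸ P.zero_mem)
    | succ l =>
      rw [pow_succ_quasi hyy, ← mul_assoc, mul_comm s, mul_assoc] at hst
      exact hcon s hs (hxpow _ _ hst)
  obtain ⟨P', hP'prime, -, hP'disj⟩ := Ideal.exists_le_prime_disjoint (⊥ : Ideal E) _ hdisj
  haveI := hP'prime
  have hP'le : P' ≤ P := by
    intro s hs
    by_contra hsP
    exact Set.disjoint_left.mp hP'disj hs
      (Submonoid.mem_sup_left (show s ∈ P.primeCompl from hsP))
  have hyP' : y ∉ P' := fun hy =>
    Set.disjoint_left.mp hP'disj hy (Submonoid.mem_sup_right (Submonoid.mem_powers y))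
  obtain ⟨P₀, hP₀, hP₀le⟩ := Ideal.exists_minimalPrimes_le (I := (⊥ : Ideal E)) (J := P') bot_le
  have hP₀q : P₀ ≠ q := by
    rintro rfl
    exact hqP (hP₀le.trans hP'le)
  exact hyP' (hP₀le (hyP P₀ hP₀ hP₀q))

/-- the quasi-idempotent has finite length modulo powers of `x` -/
theorem exists_pow_mul_mem_span {x y : E} {n : ℕ} (hxreg : ∀ z : E, x * z = 0 → z = 0)
    (hyy : y * y = x ^ n * y) {q : Ideal E} (hxq : x ∉ q)
    (hdim : ∀ P : Ideal E, P.IsPrime → q ≤ P → P = q ∨ P = maximalIdeal E)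
    (hyP : ∀ P ∈ minimalPrimes E, P ≠ q → y ∈ P) (k : ℕ) :
    ∃ N : ℕ, ∀ c ∈ maximalIdeal E ^ N, c * y ∈ Ideal.span {x ^ k} := by
  set annY : Ideal E := LinearMap.ker (LinearMap.toSpanSingleton E E y) with hann
  have hmemann : ∀ s : E, s ∈ annY ↔ s * y = 0 := fun s => by
    rw [hann, LinearMap.mem_ker, LinearMap.toSpanSingleton_apply, smul_eq_mul]
  have hle : maximalIdeal E ≤ (annY ⊔ Ideal.span {x ^ k}).radical := by
    rw [Ideal.radical_eq_sInf]
    refine le_sInf ?_
    rintro P ⟨hIP, hPprime⟩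
    haveI := hPprime
    have hxP : x ∈ P := hPprime.mem_of_pow_mem k
      (hIP (Ideal.mem_sup_right (Ideal.mem_span_singleton_self _)))
    have hqP : q ≤ P := by
      by_contra hqP
      obtain ⟨s, hsP, hsy⟩ := exists_notMem_mul_eq_zero hxreg hyy hyP P hqP
      exact hsP (hIP (Ideal.mem_sup_left ((hmemann s).mpr hsy)))
    rcases hdim P hPprime hqP with h | h
    · exact absurd (h ▸ hxP) hxq
    · exact h.ge
  obtain ⟨N, hN⟩ := Ideal.exists_pow_le_of_le_radical_of_fg hle
    (IsNoetherian.noetherian (maximalIdeal E))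
  refine ⟨N, fun c hc => ?_⟩
  obtain ⟨s, hs, r, hr, rfl⟩ := Submodule.mem_sup.mp (hN hc)
  obtain ⟨r', rfl⟩ := Ideal.mem_span_singleton'.mp hr
  rw [add_mul, (hmemann s).mp hs, zero_add, mul_assoc, mul_comm (x ^ k), ← mul_assoc]
  exact Ideal.mul_mem_left _ _ (Ideal.mem_span_singleton_self _)

end QuasiIdem

section Hens

variable {D : Type u} [CommRing D] [IsDomain D] [HenselianLocalRing D]

/-- an approximate root of `Y² - xⁿ Y` in a henselian local domain is `xⁿ` times an element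
congruent to `0` or `1` -/
theorem exists_eq_pow_mul_of_approx (x y₀ d : D) (n k : ℕ) (hx : x ∈ maximalIdeal D)
    (hk : 2 * n < k) (h : y₀ * y₀ - x ^ n * y₀ = x ^ k * d) :
    ∃ t : D, y₀ = x ^ n * t ∧ (t ∈ maximalIdeal D ∨ 1 - t ∈ maximalIdeal D) := by
  set c : D := x ^ (k - 2 * n) * d with hc
  have hcm : c ∈ maximalIdeal D :=
    Ideal.mul_mem_right _ _ (Ideal.pow_mem_of_mem _ hx _ (Nat.sub_pos_of_lt hk))
  let g : D[X] := X ^ 2 - X - C c
  have hgmonic : g.Monic := by
    have h1 : g = X ^ 2 - (X + C c) := by simp only [g]; ring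
    rw [h1]
    apply Polynomial.monic_X_pow_sub
    rw [Polynomial.degree_X_add_C]
    norm_num
  have hg0 : g.eval 0 ∈ maximalIdeal D := by
    simp only [g, eval_sub, eval_pow, eval_X, eval_C]
    rw [zero_pow two_ne_zero, sub_zero, zero_sub]
    exact neg_mem hcm
  have hg'0 : IsUnit (g.derivative.eval 0) := by
    simp only [g, derivative_sub, derivative_X_pow, derivative_X, derivative_C, eval_sub, eval_mul,
      eval_pow, eval_X, eval_one, sub_zero]
    simp
  obtain ⟨t₀, ht₀root, ht₀m⟩ := HenselianLocalRing.is_henselian g hgmonic 0 hg0 hg'0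
  rw [sub_zero] at ht₀m
  have hroot : t₀ ^ 2 - t₀ - c = 0 := by
    have := ht₀root
    simp only [g, IsRoot.def, eval_sub, eval_pow, eval_X, eval_C] at this
    exact this
  have hx2 : x ^ k = x ^ (2 * n) * x ^ (k - 2 * n) := by
    rw [← pow_add, Nat.add_sub_cancel' hk.le]
  have hprod : (y₀ - x ^ n * t₀) * (y₀ - x ^ n * (1 - t₀)) = 0 := by
    have h1 : (y₀ - x ^ n * t₀) * (y₀ - x ^ n * (1 - t₀)) =
        (y₀ * y₀ - x ^ n * y₀) - x ^ (2 * n) * (t₀ ^ 2 - t₀) := by
      rw [two_mul, pow_add]; ring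
    have h2 : t₀ ^ 2 - t₀ = c := by rw [← sub_eq_zero]; exact hroot
    rw [h1, h, h2, hc, hx2]
    ring
  rcases mul_eq_zero.mp hprod with h1 | h1
  · exact ⟨t₀, sub_eq_zero.mp h1, Or.inl ht₀m⟩
  · refine ⟨1 - t₀, sub_eq_zero.mp h1, Or.inr ?_⟩
    rw [sub_sub_cancel]
    exact ht₀m

end Hens

end Groth.Agent.Lib.Helper12.BrnchDim
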