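import Mathlib
import Groth.Agent.Lib.Helper12.BrnchDimB
import Groth.Agent.Lib.Helper12.BrnchDimC
import Groth.Agent.Lib.Helper12.Unibranch
import Groth.Agent.Lib.Helper12.NormRedMinC

/-!
# A one-dimensional component of a flat approximable extension of a henselian local domain is the
only component (core of S9242)
-/

set_option autoImplicit false
set_option linter.style.haveILetI false
universe u

namespace Groth.Agent.Lib.Helper12.BrnchDim

open IsLocalRing

theorem unique_minimalPrime {D E : Type u} [CommRing D] [IsDomain D] [HenselianLocalRing D]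
    [IsNoetherianRing D] [CommRing E] [IsLocalRing E] [IsNoetherianRing E] [Algebra D E]
    [Module.Flat D E] [IsLocalHom (algebraMap D E)]
    (happrox : ∀ (N : ℕ) (y : E), ∃ d : D,
      y - algebraMap D E d ∈ (maximalIdeal D ^ N).map (algebraMap D E))
    (x : D) (hxm : x ∈ maximalIdeal D) (hx0 : x ≠ 0)
    {q : Ideal E} (hq : q ∈ minimalPrimes E) (hq0 : q.comap (algebraMap D E) = ⊥)
    (hdim : ∀ P : Ideal E, P.IsPrime → q ≤ P → P = q ∨ P = maximalIdeal E) :
    ∀ P ∈ minimalPrimes E, P = q := by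
  intro P₁ hP₁
  by_contra hne
  set xE := algebraMap D E x with hxE
  have hmaple : (maximalIdeal D).map (algebraMap D E) ≤ maximalIdeal E :=
    ((local_hom_TFAE (algebraMap D E)).out 0 2).mp ‹IsLocalHom (algebraMap D E)›
  have hxEm : xE ∈ maximalIdeal E := hmaple (Ideal.mem_map_of_mem _ hxm)
  have hxEq : xE ∉ q := fun h => hx0 (by
    have h1 : x ∈ q.comap (algebraMap D E) := h
    rw [hq0] at h1
    exact h1)
  have hxreg : ∀ z : E, xE * z = 0 → z = 0 := by
    intro z hz
    have h1 : IsSMulRegular E x :=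
      Module.Flat.isSMulRegular_of_nonZeroDivisors (mem_nonZeroDivisors_of_ne_zero hx0)
    apply h1
    show x • z = x • 0
    rw [smul_zero, Algebra.smul_def]
    exact hz
  have hxpow : ∀ (m : ℕ) (z : E), xE ^ m * z = 0 → z = 0 := by
    intro m
    induction m with
    | zero => intro z hz; rwa [pow_zero, one_mul] at hz
    | succ m ih =>
      intro z hz
      rw [pow_succ, mul_assoc] at hz
      exact hxreg z (ih _ hz)
  obtain ⟨n, y, hyy, hyq, hyP⟩ := exists_quasi_idem xE hxEm hq hdim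
  obtain ⟨N, hN⟩ := exists_pow_mul_mem_span hxreg hyy hxEq hdim hyP (2 * n + 1)
  have hmap : (Ideal.span {x ^ (2 * n + 1)}).map (algebraMap D E) =
      Ideal.span {xE ^ (2 * n + 1)} := by
    rw [Ideal.map_span, Set.image_singleton, map_pow]
  have hpowle : (maximalIdeal D ^ N).map (algebraMap D E) ≤ maximalIdeal E ^ N := by
    rw [Ideal.map_pow]
    exact Ideal.pow_right_mono hmaple N
  obtain ⟨y₀, hy₀⟩ := exists_sub_mem_of_pow_mul_mem happrox (Ideal.span {x ^ (2 * n + 1)}) y N
    (fun c hc => by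
      rw [hmap]
      exact hN _ (hpowle (Ideal.mem_map_of_mem _ hc)))
  rw [hmap] at hy₀
  obtain ⟨ε, hε⟩ := Ideal.mem_span_singleton'.mp hy₀
  haveI : Module.FaithfullyFlat D E := Module.FaithfullyFlat.of_flat_of_isLocalHom
  have hy : algebraMap D E y₀ = y - ε * xE ^ (2 * n + 1) := by rw [hε]; ring
  have hf : y₀ * y₀ - x ^ n * y₀ ∈ Ideal.span {x ^ (2 * n + 1)} := by
    rw [← Ideal.comap_map_eq_self_of_faithfullyFlat (B := E) (Ideal.span {x ^ (2 * n + 1)}),
      Ideal.mem_comap, hmap, Ideal.mem_span_singleton']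
    refine ⟨ε * ε * xE ^ (2 * n + 1) - 2 * ε * y + ε * xE ^ n, ?_⟩
    rw [map_sub, map_mul, map_mul, map_pow, hy]
    have h1 : (y - ε * xE ^ (2 * n + 1)) * (y - ε * xE ^ (2 * n + 1)) -
        xE ^ n * (y - ε * xE ^ (2 * n + 1)) = (y * y - xE ^ n * y) +
        (ε * ε * xE ^ (2 * n + 1) - 2 * ε * y + ε * xE ^ n) * xE ^ (2 * n + 1) := by ring
    rw [h1, hyy, sub_self, zero_add]
  obtain ⟨d, hd⟩ := Ideal.mem_span_singleton'.mp hf
  obtain ⟨t, ht, htm⟩ := exists_eq_pow_mul_of_approx x y₀ d n (2 * n + 1) hxm (by omega)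
    (by rw [← hd]; ring)
  set e' : E := algebraMap D E t + ε * xE ^ (n + 1) with he'
  have hye : y = xE ^ n * e' := by
    have hy' : y = algebraMap D E y₀ + ε * xE ^ (2 * n + 1) := by rw [hε]; ring
    rw [hy', ht, map_mul, map_pow, he']
    have h2 : 2 * n + 1 = n + (n + 1) := by ring
    rw [h2, pow_add]
    ring
  have hidem : e' * e' = e' := by
    have h1 : xE ^ (2 * n) * (e' * e' - e') = 0 := by
      have h2 : xE ^ (2 * n) * (e' * e' - e') =
          (xE ^ n * e') * (xE ^ n * e') - xE ^ n * (xE ^ n * e') := by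
        rw [two_mul, pow_add]; ring
      rw [h2, ← hye, hyy, sub_self]
    exact sub_eq_zero.mp (hxpow _ _ h1)
  haveI hqprime : q.IsPrime := hq.1.1
  rcases Unibranch.idem_eq_zero_or_one e' hidem with h0 | h1
  · rw [h0, mul_zero] at hye
    rw [hye, sub_zero] at hyq
    exact hxEq (hqprime.mem_of_pow_mem n hyq)
  · rw [h1, mul_one] at hye
    have hyP₁ : y ∈ P₁ := hyP P₁ hP₁ hne
    rw [hye] at hyP₁
    haveI hP₁prime : P₁.IsPrime := hP₁.1.1
    have hxP₁ : xE ∈ P₁ := hP₁prime.mem_of_pow_mem n hyP₁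
    have hmin : P₁.comap (algebraMap D E) ∈ minimalPrimes D :=
      NormRedMin.comap_mem_minimalPrimes_of_goingDown hP₁
    rw [IsDomain.minimalPrimes_eq_singleton_bot, Set.mem_singleton_iff] at hmin
    have h2 : x ∈ P₁.comap (algebraMap D E) := hxP₁
    rw [hmin] at h2
    exact hx0 h2

end Groth.Agent.Lib.Helper12.BrnchDim
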