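import Mathlib
import Groth.Agent.Lib.Helper12.BrnchDimD
import Groth.Agent.Lib.Helper17.LocalFlat
import Groth.Agent.Lib.Helper29.HenselUniv

/-!
# One-dimensional components of a flat approximable extension of a henselian local ring
(general form of S9242)
-/

set_option autoImplicit false
set_option linter.style.haveILetI false
universe u

namespace Groth.Agent.Lib.Helper12.BrnchDim

open IsLocalRing

theorem radical_map_comap_eq {S T : Type u} [CommRing S] [HenselianLocalRing S]
    [IsNoetherianRing S] [CommRing T] [IsLocalRing T] [IsNoetherianRing T] [Algebra S T]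
    [Module.Flat S T] [IsLocalHom (algebraMap S T)]
    (happrox : ∀ (N : ℕ) (y : T), ∃ s : S,
      y - algebraMap S T s ∈ (maximalIdeal S ^ N).map (algebraMap S T))
    {q : Ideal T} (hq : q ∈ minimalPrimes T)
    (hdim : ∀ P : Ideal T, P.IsPrime → q ≤ P → P = q ∨ P = maximalIdeal T)
    (hqm : q ≠ maximalIdeal T) :
    ((q.comap (algebraMap S T)).map (algebraMap S T)).radical = q := by
  haveI hqprime : q.IsPrime := hq.1.1
  set q' : Ideal S := q.comap (algebraMap S T) with hq'
  haveI hq'prime : q'.IsPrime := Ideal.comap_isPrime _ _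
  have hle : q'.map (algebraMap S T) ≤ q := Ideal.map_comap_le
  -- the quotient rings
  haveI : Nontrivial (T ⧸ q'.map (algebraMap S T)) :=
    Ideal.Quotient.nontrivial_iff.mpr (fun h => hqprime.ne_top (top_le_iff.mp (h ▸ hle)))
  haveI : IsLocalRing (S ⧸ q') :=
    IsLocalRing.of_surjective' (Ideal.Quotient.mk q') Ideal.Quotient.mk_surjective
  haveI : IsLocalRing (T ⧸ q'.map (algebraMap S T)) :=
    IsLocalRing.of_surjective' (Ideal.Quotient.mk _) Ideal.Quotient.mk_surjective
  haveI : HenselianLocalRing (S ⧸ q') := Groth.Agent.Lib.Helper29.henselian_quotient S q'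
  haveI hmkS : IsLocalHom (Ideal.Quotient.mk q') :=
    IsLocalHom.of_surjective _ Ideal.Quotient.mk_surjective
  haveI hmkT : IsLocalHom (Ideal.Quotient.mk (q'.map (algebraMap S T))) :=
    IsLocalHom.of_surjective _ Ideal.Quotient.mk_surjective
  haveI hloc : IsLocalHom (algebraMap (S ⧸ q') (T ⧸ q'.map (algebraMap S T))) := by
    refine ⟨fun x hx => ?_⟩
    obtain ⟨a, rfl⟩ := Ideal.Quotient.mk_surjective x
    have h1 : IsUnit ((Ideal.Quotient.mk (q'.map (algebraMap S T))) (algebraMap S T a)) := hx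
    have h2 : IsUnit (algebraMap S T a) := isUnit_of_map_unit _ _ h1
    exact (isUnit_of_map_unit (algebraMap S T) a h2).map _
  haveI : Module.Flat (S ⧸ q') (T ⧸ q'.map (algebraMap S T)) :=
    Module.Flat.of_linearEquiv (Groth.Agent.Lib.Helper17.LocalFlat.tensorQuotEquiv q' T).symm
  have hsq : ∀ s : S, algebraMap (S ⧸ q') (T ⧸ q'.map (algebraMap S T)) (Ideal.Quotient.mk q' s) =
      Ideal.Quotient.mk _ (algebraMap S T s) := fun s => rfl
  -- approximation
  have hmS : (maximalIdeal S).map (Ideal.Quotient.mk q') ≤ maximalIdeal (S ⧸ q') :=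
    ((local_hom_TFAE (Ideal.Quotient.mk q')).out 0 2).mp hmkS
  have happrox' : ∀ (N : ℕ) (y : T ⧸ q'.map (algebraMap S T)), ∃ d : S ⧸ q',
      y - algebraMap (S ⧸ q') _ d ∈
        (maximalIdeal (S ⧸ q') ^ N).map (algebraMap (S ⧸ q') (T ⧸ q'.map (algebraMap S T))) := by
    intro N y
    obtain ⟨y, rfl⟩ := Ideal.Quotient.mk_surjective y
    obtain ⟨s, hs⟩ := happrox N y
    refine ⟨Ideal.Quotient.mk q' s, ?_⟩
    rw [hsq, ← map_sub]
    have h1 : Ideal.Quotient.mk (q'.map (algebraMap S T)) (y - algebraMap S T s) ∈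
        ((maximalIdeal S ^ N).map (algebraMap S T)).map
          (Ideal.Quotient.mk (q'.map (algebraMap S T))) := Ideal.mem_map_of_mem _ hs
    have h2 : ((maximalIdeal S ^ N).map (algebraMap S T)).map
        (Ideal.Quotient.mk (q'.map (algebraMap S T))) =
        ((maximalIdeal S ^ N).map (Ideal.Quotient.mk q')).map
          (algebraMap (S ⧸ q') (T ⧸ q'.map (algebraMap S T))) := by
      rw [Ideal.map_map, Ideal.map_map]
      congr 1
    rw [h2] at h1
    refine Ideal.map_mono ?_ h1
    rw [Ideal.map_pow]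
    exact Ideal.pow_right_mono hmS N
  -- a nonzero element of the maximal ideal of `S ⧸ q'`
  have hq'm : q' ≠ maximalIdeal S := by
    intro h
    apply hqm
    have h1 : (maximalIdeal S).map (algebraMap S T) ≤ q := h ▸ hle
    -- `T ⧸ m_S T` is a field by approximation
    have h2 : maximalIdeal T ≤ q := by
      intro z hz
      obtain ⟨s, hs⟩ := happrox 1 z
      rw [pow_one] at hs
      have hsm : s ∈ maximalIdeal S := by
        by_contra hsu
        have hu : IsUnit s := by
          by_contra h'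
          exact hsu h'
        have hu' : IsUnit (algebraMap S T s) := hu.map _
        have hmT : (maximalIdeal S).map (algebraMap S T) ≤ maximalIdeal T :=
          ((local_hom_TFAE (algebraMap S T)).out 0 2).mp ‹IsLocalHom (algebraMap S T)›
        have h3 : z - algebraMap S T s ∈ maximalIdeal T := hmT hs
        have h4 : algebraMap S T s ∈ maximalIdeal T := by
          have := (maximalIdeal T).sub_mem hz h3
          rwa [sub_sub_cancel] at this
        exact h4 hu'
      have h5 : algebraMap S T s ∈ q := h1 (Ideal.mem_map_of_mem _ hsm)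
      have h6 : z = (z - algebraMap S T s) + algebraMap S T s := by ring
      rw [h6]
      exact q.add_mem (h1 hs) h5
    exact le_antisymm (IsLocalRing.le_maximalIdeal hqprime.ne_top) h2
  obtain ⟨x₀, hx₀m, hx₀q⟩ : ∃ x₀ ∈ maximalIdeal S, x₀ ∉ q' := by
    by_contra hcon
    push_neg at hcon
    exact hq'm (le_antisymm (IsLocalRing.le_maximalIdeal hq'prime.ne_top) hcon)
  -- the image of `q`
  have hker : RingHom.ker (Ideal.Quotient.mk (q'.map (algebraMap S T))) ≤ q := by
    rw [Ideal.mk_ker]
    exact hle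
  have hsurjT : Function.Surjective (Ideal.Quotient.mk (q'.map (algebraMap S T))) :=
    Ideal.Quotient.mk_surjective
  set qbar : Ideal (T ⧸ q'.map (algebraMap S T)) :=
    q.map (Ideal.Quotient.mk (q'.map (algebraMap S T))) with hqbar
  have hcomapqbar : qbar.comap (Ideal.Quotient.mk (q'.map (algebraMap S T))) = q := by
    rw [hqbar, Ideal.comap_map_of_surjective _ hsurjT, ← RingHom.ker_eq_comap_bot]
    exact sup_eq_left.mpr hker
  haveI hqbarprime : qbar.IsPrime := Ideal.map_isPrime_of_surjective hsurjT hker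
  have hmapcomap : ∀ P : Ideal (T ⧸ q'.map (algebraMap S T)),
      (P.comap (Ideal.Quotient.mk (q'.map (algebraMap S T)))).map
        (Ideal.Quotient.mk (q'.map (algebraMap S T))) = P := fun P =>
    Ideal.map_comap_of_surjective _ hsurjT P
  have hqbarmin : qbar ∈ minimalPrimes (T ⧸ q'.map (algebraMap S T)) := by
    refine ⟨⟨hqbarprime, bot_le⟩, ?_⟩
    intro P hP hPle
    haveI := hP.1
    have h1 : P.comap (Ideal.Quotient.mk (q'.map (algebraMap S T))) ≤ q :=
      hcomapqbar ▸ Ideal.comap_mono hPle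
    have h2 : q ≤ P.comap (Ideal.Quotient.mk (q'.map (algebraMap S T))) :=
      hq.2 ⟨Ideal.comap_isPrime _ _, bot_le⟩ h1
    rw [← hmapcomap P]
    exact Ideal.map_mono h2
  have hq0 : qbar.comap (algebraMap (S ⧸ q') (T ⧸ q'.map (algebraMap S T))) = ⊥ := by
    rw [eq_bot_iff]
    intro d hd
    obtain ⟨s, rfl⟩ := Ideal.Quotient.mk_surjective d
    rw [Ideal.mem_comap, hsq] at hd
    have h1 : algebraMap S T s ∈ qbar.comap (Ideal.Quotient.mk (q'.map (algebraMap S T))) := hd
    rw [hcomapqbar] at h1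
    exact Ideal.Quotient.eq_zero_iff_mem.mpr h1
  have hmaxcomap : (maximalIdeal (T ⧸ q'.map (algebraMap S T))).comap
      (Ideal.Quotient.mk (q'.map (algebraMap S T))) = maximalIdeal T :=
    IsLocalRing.eq_maximalIdeal (Ideal.comap_isMaximal_of_surjective _ hsurjT)
  have hdim' : ∀ P : Ideal (T ⧸ q'.map (algebraMap S T)), P.IsPrime → qbar ≤ P →
      P = qbar ∨ P = maximalIdeal (T ⧸ q'.map (algebraMap S T)) := by
    intro P hP hle'
    haveI := hP
    have h1 : q ≤ P.comap (Ideal.Quotient.mk (q'.map (algebraMap S T))) :=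
      hcomapqbar ▸ Ideal.comap_mono hle'
    rcases hdim _ (Ideal.comap_isPrime _ _) h1 with h | h
    · left
      rw [← hmapcomap P, h]
    · right
      rw [← hmapcomap P, h, ← hmaxcomap, Ideal.map_comap_of_surjective _ hsurjT]
  have hxm : Ideal.Quotient.mk q' x₀ ∈ maximalIdeal (S ⧸ q') :=
    hmS (Ideal.mem_map_of_mem _ hx₀m)
  have hx0 : Ideal.Quotient.mk q' x₀ ≠ 0 := fun h => hx₀q (Ideal.Quotient.eq_zero_iff_mem.mp h)
  have huniq := unique_minimalPrime (D := S ⧸ q') (E := T ⧸ q'.map (algebraMap S T)) happrox'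
    (Ideal.Quotient.mk q' x₀) hxm hx0 hqbarmin hq0 hdim'
  -- conclusion
  apply le_antisymm
  · exact (Ideal.IsPrime.radical_le_iff hqprime).mpr hle
  · rw [Ideal.radical_eq_sInf]
    refine le_sInf ?_
    rintro P ⟨hPle, hPprime⟩
    haveI := hPprime
    have hkerP : RingHom.ker (Ideal.Quotient.mk (q'.map (algebraMap S T))) ≤ P := by
      rw [Ideal.mk_ker]
      exact hPle
    haveI : (P.map (Ideal.Quotient.mk (q'.map (algebraMap S T)))).IsPrime :=
      Ideal.map_isPrime_of_surjective hsurjT hkerP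
    obtain ⟨P₀, hP₀, hP₀le⟩ := Ideal.exists_minimalPrimes_le
      (I := (⊥ : Ideal (T ⧸ q'.map (algebraMap S T))))
      (J := P.map (Ideal.Quotient.mk (q'.map (algebraMap S T)))) bot_le
    rw [huniq P₀ hP₀] at hP₀le
    have h1 := Ideal.comap_mono (f := Ideal.Quotient.mk (q'.map (algebraMap S T))) hP₀le
    rw [hcomapqbar, Ideal.comap_map_of_surjective _ hsurjT, ← RingHom.ker_eq_comap_bot,
      sup_eq_left.mpr hkerP] at h1
    exact h1

end Groth.Agent.Lib.Helper12.BrnchDim
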