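import Mathlib
import Groth.Agent.Lib.Helper12.HensCompl

/-!
# Equal numbers of minimal primes along a faithfully flat map, and radicals of extended
minimal primes (for S9243)
-/

set_option autoImplicit false
set_option linter.style.haveILetI false
universe u

namespace Groth.Agent.Lib.Helper12.BrnchRad

/-- a prime minimal over the extension of a minimal prime `q` along a flat map is a minimal
prime lying over `q` -/
theorem minimal_over_map {R T : Type u} [CommRing R] [CommRing T] (ψ : R →+* T)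
    (hflat : ψ.Flat) {q : Ideal R} (hq : q ∈ minimalPrimes R) {P : Ideal T}
    (hP : P ∈ (Ideal.map ψ q).minimalPrimes) :
    P ∈ minimalPrimes T ∧ P.comap ψ = q := by
  letI := ψ.toAlgebra
  haveI : Module.Flat R T := hflat
  haveI hPprime : P.IsPrime := hP.1.1
  haveI hqprime : q.IsPrime := hq.1.1
  have hle : q ≤ P.comap ψ := Ideal.map_le_iff_le_comap.mp hP.1.2
  have hcomap : P.comap ψ = q := by
    haveI : (P.comap ψ).IsPrime := Ideal.comap_isPrime _ _
    haveI : P.LiesOver (P.comap ψ) := ⟨rfl⟩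
    obtain ⟨P', hP'le, hP'prime, hP'over⟩ :=
      Ideal.exists_ideal_le_liesOver_of_le (p := q) (q := P.comap ψ) P hle
    have h3 : q = P'.comap (algebraMap R T) := hP'over.over
    have h4 : Ideal.map ψ q ≤ P' := by
      rw [Ideal.map_le_iff_le_comap]
      exact h3.le
    have h5 : P ≤ P' := hP.2 ⟨hP'prime, h4⟩ hP'le
    have h6 : P' = P := le_antisymm hP'le h5
    rw [h3, h6]
    rfl
  refine ⟨⟨⟨hPprime, bot_le⟩, ?_⟩, hcomap⟩
  intro P'' hP'' hle''
  haveI : P''.IsPrime := hP''.1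
  have h1 : P''.comap ψ ≤ q := hcomap ▸ Ideal.comap_mono hle''
  have h2 : q ≤ P''.comap ψ := hq.2 ⟨Ideal.comap_isPrime _ _, bot_le⟩ h1
  exact hP.2 ⟨hP''.1, Ideal.map_le_iff_le_comap.mpr h2⟩ hle''

theorem card_minimalPrimes_eq_iff {R T : Type u} [CommRing R] [CommRing T] (ψ : R →+* T)
    (hflat : ψ.Flat) (hsurj : Function.Surjective (PrimeSpectrum.comap ψ))
    (hR : (minimalPrimes R).Finite) (hT : (minimalPrimes T).Finite) :
    ENat.card (minimalPrimes R) = ENat.card (minimalPrimes T) ↔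
      ∀ q ∈ minimalPrimes R, (Ideal.map ψ q).radical.IsPrime := by
  obtain ⟨hmaps, hsurjOn⟩ := HensCompl.minimalPrimes_mapsTo_surjOn ψ hflat hsurj
  haveI : Finite ↥(minimalPrimes R) := hR.to_subtype
  haveI : Finite ↥(minimalPrimes T) := hT.to_subtype
  let f : ↥(minimalPrimes T) → ↥(minimalPrimes R) := fun Q => ⟨Q.1.comap ψ, hmaps Q.2⟩
  have fsurj : Function.Surjective f := by
    rintro ⟨q, hq⟩
    obtain ⟨Q, hQ, h⟩ := hsurjOn hq
    exact ⟨⟨Q, hQ⟩, Subtype.ext h⟩
  have hA : ENat.card (minimalPrimes R) = ENat.card (minimalPrimes T) ↔ Function.Injective f := by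
    constructor
    · intro h
      rw [ENat.card_eq_coe_natCard, ENat.card_eq_coe_natCard] at h
      have h' : Nat.card ↥(minimalPrimes T) ≤ Nat.card ↥(minimalPrimes R) := by
        have := ENat.coe_inj.mp h
        exact this.ge
      exact (fsurj.bijective_of_nat_card_le h').1
    · intro h
      exact (ENat.card_congr (Equiv.ofBijective f ⟨h, fsurj⟩)).symm
  rw [hA]
  constructor
  · intro finj q hq
    obtain ⟨⟨Q₀, hQ₀⟩, hfQ⟩ := fsurj ⟨q, hq⟩
    have hQ₀q : Q₀.comap ψ = q := congrArg Subtype.val hfQ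
    haveI : Q₀.IsPrime := hQ₀.1.1
    have hrad : (Ideal.map ψ q).radical = Q₀ := by
      apply le_antisymm
      · have h1 : Ideal.map ψ q ≤ Q₀ := Ideal.map_le_iff_le_comap.mpr hQ₀q.ge
        exact (Ideal.IsPrime.radical_le_iff ‹Q₀.IsPrime›).mpr h1
      · rw [Ideal.radical_eq_sInf]
        refine le_sInf ?_
        rintro P ⟨hPle, hPprime⟩
        haveI := hPprime
        obtain ⟨P₁, hP₁, hP₁le⟩ := Ideal.exists_minimalPrimes_le hPle
        obtain ⟨hP₁min, hP₁q⟩ := minimal_over_map ψ hflat hq hP₁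
        have : (⟨P₁, hP₁min⟩ : ↥(minimalPrimes T)) = ⟨Q₀, hQ₀⟩ := by
          apply finj
          apply Subtype.ext
          show P₁.comap ψ = Q₀.comap ψ
          rw [hP₁q, hQ₀q]
        have h2 : P₁ = Q₀ := congrArg Subtype.val this
        rw [← h2]
        exact hP₁le
    rw [hrad]
    infer_instance
  · intro h Q₁ Q₂ h12
    have hq := (f Q₁).2
    have hprime := h _ hq
    have key : ∀ Q : ↥(minimalPrimes T), f Q = f Q₁ → Q.1 = (Ideal.map ψ (f Q₁).1).radical := by
      intro Q hQ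
      haveI : Q.1.IsPrime := Q.2.1.1
      have h1 : Ideal.map ψ (f Q₁).1 ≤ Q.1 := by
        rw [Ideal.map_le_iff_le_comap, ← hQ]
      have h2 : (Ideal.map ψ (f Q₁).1).radical ≤ Q.1 :=
        (Ideal.IsPrime.radical_le_iff ‹Q.1.IsPrime›).mpr h1
      exact le_antisymm (Q.2.2 ⟨hprime, bot_le⟩ h2) h2
    apply Subtype.ext
    rw [key Q₁ rfl, key Q₂ h12.symm]

end Groth.Agent.Lib.Helper12.BrnchRad
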