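import Mathlib
import Groth.Agent.Lib.Helper12.BrnchDimE
import Groth.Agent.Lib.Helper12.BrnchRadA
import Groth.Agent.Lib.Helper12.HenselizationNoeth2

/-!
# Dimension one: the completion of a henselian local ring has as many minimal primes (towards
S9241)
-/

set_option autoImplicit false
set_option linter.style.haveILetI false
universe u

namespace Groth.Agent.Lib.Helper12.BrnchDim

open IsLocalRing

/-- in a local ring of dimension one, a minimal prime is not the maximal ideal and its only
proper specialization is the maximal ideal -/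
theorem dim_one_aux {T : Type u} [CommRing T] [IsLocalRing T] (hdim : ringKrullDim T = 1)
    {q : Ideal T} (hq : q ∈ minimalPrimes T) :
    (∀ P : Ideal T, P.IsPrime → q ≤ P → P = q ∨ P = maximalIdeal T) ∧ q ≠ maximalIdeal T := by
  haveI : Ring.KrullDimLE 1 T := Ring.krullDimLE_iff.mpr (by rw [hdim]; exact le_refl _)
  refine ⟨fun P hP hle => ?_, fun h => ?_⟩
  · rcases Ring.krullDimLE_one_iff.mp inferInstance P hP with h | h
    · exact Or.inl (le_antisymm (h.2 hq.1 hle) hle)
    · exact Or.inr (IsLocalRing.eq_maximalIdeal h)
  · have h0 : Ring.KrullDimLE 0 T := by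
      rw [Ring.krullDimLE_zero_iff]
      intro P hP
      have h1 : P ≤ maximalIdeal T := IsLocalRing.le_maximalIdeal hP.ne_top
      have h2 : maximalIdeal T ≤ P := h ▸ hq.2 ⟨hP, bot_le⟩ (h ▸ h1)
      rw [le_antisymm h1 h2]
      exact maximalIdeal.isMaximal T
    have h3 : ringKrullDim T ≤ 0 := Ring.krullDimLE_iff.mp h0
    rw [hdim] at h3
    exact absurd h3 (by norm_num)

/-- for a flat local approximable extension `T` of dimension one of a henselian local ring `S`,
the radical of the extension of a minimal prime is prime -/
theorem radical_isPrime_of_dim_one {S T : Type u} [CommRing S] [HenselianLocalRing S]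
    [IsNoetherianRing S] [CommRing T] [IsLocalRing T] [IsNoetherianRing T] [Algebra S T]
    [Module.Flat S T] [IsLocalHom (algebraMap S T)]
    (happrox : ∀ (N : ℕ) (y : T), ∃ s : S,
      y - algebraMap S T s ∈ (maximalIdeal S ^ N).map (algebraMap S T))
    (hdim : ringKrullDim T = 1) {q' : Ideal S} (hq' : q' ∈ minimalPrimes S) :
    (q'.map (algebraMap S T)).radical.IsPrime := by
  haveI : Module.FaithfullyFlat S T := Module.FaithfullyFlat.of_flat_of_isLocalHom
  obtain ⟨-, hsurjOn⟩ := HensCompl.minimalPrimes_mapsTo_surjOn (algebraMap S T)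
    (RingHom.flat_algebraMap_iff.mpr inferInstance)
    PrimeSpectrum.comap_surjective_of_faithfullyFlat
  obtain ⟨q, hq, hqq'⟩ := hsurjOn hq'
  obtain ⟨h1, h2⟩ := dim_one_aux hdim hq
  have h3 := radical_map_comap_eq happrox hq h1 h2
  have h4 : q.comap (algebraMap S T) = q' := hqq'
  rw [h4] at h3
  rw [h3]
  exact hq.1.1

/-- P1: a Noetherian henselian local ring of dimension one and its completion have the same
number of minimal primes -/
theorem card_minimalPrimes_completion_eq (R : Type u) [CommRing R] [HenselianLocalRing R]
    [IsNoetherianRing R]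
    (hdim' : ringKrullDim (AdicCompletion (maximalIdeal R) R) = 1) :
    ENat.card (minimalPrimes (AdicCompletion (maximalIdeal R) R)) =
      ENat.card (minimalPrimes R) := by
  haveI : Module.FaithfullyFlat R (AdicCompletion (maximalIdeal R) R) :=
    Module.FaithfullyFlat.of_flat_of_isLocalHom
  symm
  rw [BrnchRad.card_minimalPrimes_eq_iff (algebraMap R (AdicCompletion (maximalIdeal R) R))
    (RingHom.flat_algebraMap_iff.mpr inferInstance)
    PrimeSpectrum.comap_surjective_of_faithfullyFlat
    (minimalPrimes.finite_of_isNoetherianRing R) (minimalPrimes.finite_of_isNoetherianRing _)]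
  intro q' hq'
  exact radical_isPrime_of_dim_one (fun N y => Henselization.exists_sub_algebraMap_mem N y)
    hdim' hq'

end Groth.Agent.Lib.Helper12.BrnchDim
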