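import Mathlib
import Groth.Prelude.Def_Hensel

/-!
# A morphism of strict henselizations over an isomorphism of base rings is an isomorphism
-/

set_option autoImplicit false
set_option linter.style.haveILetI false
universe u

namespace Groth.Agent.Lib.Helper12.StrictIso

open IsLocalRing

section Res

variable {A B S S' : Type u} [CommRing A] [IsLocalRing A] [CommRing B] [IsLocalRing B]
  [CommRing S] [IsLocalRing S] [Algebra A S] [IsLocalHom (algebraMap A S)]
  [Hensel.IsStrictHenselization A S]
  [CommRing S'] [IsLocalRing S'] [Algebra B S'] [IsLocalHom (algebraMap B S')]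
  [Hensel.IsStrictHenselization B S']

/-- a compatible map of residue fields of strict henselizations, over a surjection of residue
fields of the bases, is bijective -/
theorem bijective_of_compat (ρ : ResidueField A →+* ResidueField B)
    (hρ : Function.Surjective ρ)
    (τ' : ResidueField S →+* ResidueField S')
    (hτ' : τ'.comp (ResidueField.map (algebraMap A S)) =
        (ResidueField.map (algebraMap B S')).comp ρ) :
    Function.Bijective τ' := by
  haveI hS := Hensel.IsStrictHenselization.isSepClosure (R := A) (S := S)
  haveI hS' := Hensel.IsStrictHenselization.isSepClosure (R := B) (S := S')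
  haveI : Algebra.IsSeparable (ResidueField A) (ResidueField S) := hS.separable
  haveI : IsSepClosed (ResidueField S) := hS.sep_closed
  haveI : Algebra.IsSeparable (ResidueField B) (ResidueField S') := hS'.separable
  letI : Algebra (ResidueField A) (ResidueField B) := ρ.toAlgebra
  letI : Algebra (ResidueField A) (ResidueField S') :=
    ((ResidueField.map (algebraMap B S')).comp ρ).toAlgebra
  haveI : IsScalarTower (ResidueField A) (ResidueField B) (ResidueField S') :=
    IsScalarTower.of_algebraMap_eq (fun x => rfl)
  haveI : Algebra.IsSeparable (ResidueField A) (ResidueField B) := ⟨fun y => by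
    obtain ⟨x, rfl⟩ := hρ y
    exact isSeparable_algebraMap x⟩
  haveI : Algebra.IsSeparable (ResidueField A) (ResidueField S') :=
    Algebra.IsSeparable.trans (ResidueField A) (ResidueField B) (ResidueField S')
  refine ⟨τ'.injective, ?_⟩
  letI : Algebra (ResidueField S) (ResidueField S') := τ'.toAlgebra
  haveI : IsScalarTower (ResidueField A) (ResidueField S) (ResidueField S') :=
    IsScalarTower.of_algebraMap_eq (fun x => (RingHom.congr_fun hτ' x).symm)
  haveI : Algebra.IsSeparable (ResidueField S) (ResidueField S') :=
    Algebra.isSeparable_tower_top_of_isSeparable (ResidueField A) (ResidueField S)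
      (ResidueField S')
  exact IsSepClosed.algebraMap_surjective (ResidueField S) (ResidueField S')

end Res

section Iso

variable {R₁ R₂ S₁ S₂ : Type u} [CommRing R₁] [IsLocalRing R₁] [CommRing R₂] [IsLocalRing R₂]
  [CommRing S₁] [IsLocalRing S₁] [Algebra R₁ S₁] [IsLocalHom (algebraMap R₁ S₁)]
  [Hensel.IsStrictHenselization R₁ S₁]
  [CommRing S₂] [IsLocalRing S₂] [Algebra R₂ S₂] [IsLocalHom (algebraMap R₂ S₂)]
  [Hensel.IsStrictHenselization R₂ S₂]

theorem bijective_of_bijective_base (e : R₁ →+* R₂) (he : Function.Bijective e)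
    (g : S₁ →+* S₂) [IsLocalHom g] (hg : g.comp (algebraMap R₁ S₁) = (algebraMap R₂ S₂).comp e) :
    Function.Bijective g := by
  haveI : HenselianLocalRing S₁ := Hensel.IsStrictHenselization.henselian (R := R₁)
  haveI : HenselianLocalRing S₂ := Hensel.IsStrictHenselization.henselian (R := R₂)
  let ee : R₁ ≃+* R₂ := RingEquiv.ofBijective e he
  haveI hloce : IsLocalHom e := ⟨fun a ha => by
    have h1 : IsUnit (ee a) := ha
    have h2 := h1.map (ee.symm : R₂ →+* R₁)
    rwa [RingHom.coe_coe, RingEquiv.symm_apply_apply] at h2⟩
  haveI hloce' : IsLocalHom (ee.symm : R₂ →+* R₁) := ⟨fun a ha => by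
    have h2 := ha.map e
    have h3 : e ((ee.symm : R₂ →+* R₁) a) = a := ee.apply_symm_apply a
    rwa [h3] at h2⟩
  have hρsurj : Function.Surjective (ResidueField.map e) := by
    intro y
    obtain ⟨b, rfl⟩ := residue_surjective y
    obtain ⟨a, rfl⟩ := he.2 b
    exact ⟨residue R₁ a, ResidueField.map_residue e a⟩
  -- the residue map of `g`
  have hτg : (ResidueField.map g).comp (ResidueField.map (algebraMap R₁ S₁)) =
      (ResidueField.map (algebraMap R₂ S₂)).comp (ResidueField.map e) := by
    refine RingHom.ext fun x => ?_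
    obtain ⟨a, rfl⟩ := residue_surjective x
    show ResidueField.map g (ResidueField.map (algebraMap R₁ S₁) (residue R₁ a)) =
      ResidueField.map (algebraMap R₂ S₂) (ResidueField.map e (residue R₁ a))
    rw [ResidueField.map_residue, ResidueField.map_residue, ResidueField.map_residue,
      ResidueField.map_residue]
    exact congrArg (residue S₂) (RingHom.congr_fun hg a)
  have hbij := bijective_of_compat (A := R₁) (B := R₂) (S := S₁) (S' := S₂)
    (ResidueField.map e) hρsurj (ResidueField.map g) hτg
  let eτ : ResidueField S₁ ≃+* ResidueField S₂ := RingEquiv.ofBijective _ hbij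
  -- the inverse
  haveI hlocf : IsLocalHom ((algebraMap R₁ S₁).comp (ee.symm : R₂ →+* R₁)) :=
    RingHom.isLocalHom_comp _ _
  have hcompat : (eτ.symm : ResidueField S₂ →+* ResidueField S₁).comp
      (ResidueField.map (algebraMap R₂ S₂)) =
      ResidueField.map ((algebraMap R₁ S₁).comp (ee.symm : R₂ →+* R₁)) := by
    refine RingHom.ext fun y => ?_
    obtain ⟨b, rfl⟩ := residue_surjective y
    obtain ⟨a, rfl⟩ := he.2 b
    show eτ.symm (ResidueField.map (algebraMap R₂ S₂) (residue R₂ (e a))) =
      ResidueField.map ((algebraMap R₁ S₁).comp (ee.symm : R₂ →+* R₁)) (residue R₂ (e a))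
    rw [ResidueField.map_residue, ResidueField.map_residue, RingEquiv.symm_apply_eq]
    show _ = ResidueField.map g (residue S₁ _)
    rw [ResidueField.map_residue]
    have h1 : (ee.symm : R₂ →+* R₁) (e a) = a := ee.symm_apply_apply a
    show residue S₂ (algebraMap R₂ S₂ (e a)) =
      residue S₂ (g (algebraMap R₁ S₁ ((ee.symm : R₂ →+* R₁) (e a))))
    rw [h1]
    exact congrArg (residue S₂) (RingHom.congr_fun hg a).symm
  obtain ⟨h, ⟨hh1, hh2⟩, -⟩ := Hensel.IsStrictHenselization.universal (R := R₂) (S := S₂) S₁
    ((algebraMap R₁ S₁).comp (ee.symm : R₂ →+* R₁))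
    (eτ.symm : ResidueField S₂ →+* ResidueField S₁) hcompat
  -- `h ∘ g = id`
  have hid1 : h.comp g = RingHom.id S₁ := by
    obtain ⟨k, -, hu⟩ := Hensel.IsStrictHenselization.universal (R := R₁) (S := S₁) S₁
      (algebraMap R₁ S₁) (RingHom.id _) (by rw [RingHom.id_comp])
    have e1 : h.comp g = k := by
      apply hu
      refine ⟨?_, fun x => ?_⟩
      · rw [RingHom.comp_assoc, hg, ← RingHom.comp_assoc, hh1]
        refine RingHom.ext fun a => ?_
        show algebraMap R₁ S₁ ((ee.symm : R₂ →+* R₁) (e a)) = _
        have h1 : (ee.symm : R₂ →+* R₁) (e a) = a := ee.symm_apply_apply a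
        rw [h1]
      · show residue S₁ (h (g x)) = residue S₁ x
        rw [hh2]
        show eτ.symm (residue S₂ (g x)) = _
        rw [RingEquiv.symm_apply_eq]
        show _ = ResidueField.map g (residue S₁ x)
        rw [ResidueField.map_residue]
    have e2 : RingHom.id S₁ = k := by
      apply hu
      exact ⟨RingHom.id_comp _, fun x => rfl⟩
    rw [e1, e2]
  -- `g ∘ h = id`
  have hid2 : g.comp h = RingHom.id S₂ := by
    obtain ⟨k, -, hu⟩ := Hensel.IsStrictHenselization.universal (R := R₂) (S := S₂) S₂
      (algebraMap R₂ S₂) (RingHom.id _) (by rw [RingHom.id_comp])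
    have e1 : g.comp h = k := by
      apply hu
      refine ⟨?_, fun x => ?_⟩
      · rw [RingHom.comp_assoc, hh1, ← RingHom.comp_assoc, hg]
        refine RingHom.ext fun b => ?_
        show algebraMap R₂ S₂ (e ((ee.symm : R₂ →+* R₁) b)) = _
        have h1 : e ((ee.symm : R₂ →+* R₁) b) = b := ee.apply_symm_apply b
        rw [h1]
      · show residue S₂ (g (h x)) = residue S₂ x
        rw [← ResidueField.map_residue g, hh2]
        exact eτ.apply_symm_apply _
    have e2 : RingHom.id S₂ = k := by
      apply hu
      exact ⟨RingHom.id_comp _, fun x => rfl⟩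
    rw [e1, e2]
  refine ⟨fun x y hxy => ?_, fun y => ⟨h y, RingHom.congr_fun hid2 y⟩⟩
  have := congrArg h hxy
  have h1 : h (g x) = x := RingHom.congr_fun hid1 x
  have h2 : h (g y) = y := RingHom.congr_fun hid1 y
  rw [h1, h2] at this
  exact this

end Iso

end Groth.Agent.Lib.Helper12.StrictIso
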