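import Mathlib
import Groth.Agent.Lib.Helper12.StrictIsoA
import Groth.Agent.Lib.Helper12.StrictQuotient
import Groth.Agent.Lib.Helper12.BrnchCplA

/-!
# Maps between strict henselizations and quotients
-/

set_option autoImplicit false
set_option linter.style.haveILetI false
universe u

namespace Groth.Agent.Lib.Helper12.StrictIso

open IsLocalRing

section Map

variable {A B S S' : Type u} [CommRing A] [IsLocalRing A] [CommRing B] [IsLocalRing B]
  [Algebra A B] [IsLocalHom (algebraMap A B)]
  [CommRing S] [IsLocalRing S] [Algebra A S] [IsLocalHom (algebraMap A S)]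
  [Hensel.IsStrictHenselization A S]
  [CommRing S'] [IsLocalRing S'] [Algebra B S'] [IsLocalHom (algebraMap B S')]
  [Hensel.IsStrictHenselization B S']

/-- a local map between strict henselizations over a local map of the bases which is surjective
on residue fields -/
theorem exists_map (hres : Function.Surjective (ResidueField.map (algebraMap A B))) :
    ∃ φ : S →+* S', φ.comp (algebraMap A S) = (algebraMap B S').comp (algebraMap A B) ∧
      IsLocalHom φ := by
  haveI : HenselianLocalRing S' := Hensel.IsStrictHenselization.henselian (R := B)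
  obtain ⟨τ', hτ', hbij⟩ :=
    BrnchCpl.exists_residue_embedding (A := A) (B := B) (S := S) (S' := S') hres
  haveI hloc1 : IsLocalHom ((algebraMap B S').comp (algebraMap A B)) :=
    RingHom.isLocalHom_comp _ _
  have hcompat1 : τ'.comp (ResidueField.map (algebraMap A S)) =
      ResidueField.map ((algebraMap B S').comp (algebraMap A B)) := by
    rw [hτ']
    exact (ResidueField.map_comp _ _).symm
  obtain ⟨φ, ⟨hφ1, hφ2⟩, -⟩ := Hensel.IsStrictHenselization.universal (R := A) (S := S) S'
    ((algebraMap B S').comp (algebraMap A B)) τ' hcompat1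
  refine ⟨φ, hφ1, ⟨fun x hx => ?_⟩⟩
  by_contra hnu
  have h1 : residue S x = 0 := (residue_eq_zero_iff x).mpr hnu
  have h2 : residue S' (φ x) = 0 := by rw [hφ2, h1, map_zero]
  exact (residue_eq_zero_iff _).mp h2 hx

/-- a local map of strict henselizations over `A → B` is bijective modulo an ideal `I` of `A`
with `A/I → B/IB` bijective -/
theorem quotient_bijective (φ : S →+* S') [IsLocalHom φ]
    (hφ : φ.comp (algebraMap A S) = (algebraMap B S').comp (algebraMap A B))
    (I : Ideal A) (hI : I ≠ ⊤)
    (hbij : Function.Bijective (Ideal.quotientMap (I.map (algebraMap A B)) (algebraMap A B)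
      Ideal.le_comap_map))
    (hle : I.map (algebraMap A S) ≤
      ((I.map (algebraMap A B)).map (algebraMap B S')).comap φ) :
    Function.Bijective (Ideal.quotientMap ((I.map (algebraMap A B)).map (algebraMap B S')) φ
      hle) := by
  have hJ : I.map (algebraMap A B) ≠ ⊤ := by
    intro h
    have h1 : I.map (algebraMap A B) ≤ maximalIdeal B := by
      rw [Ideal.map_le_iff_le_comap, IsLocalRing.maximalIdeal_comap]
      exact IsLocalRing.le_maximalIdeal hI
    rw [h] at h1
    exact (maximalIdeal.isMaximal B).ne_top (top_le_iff.mp h1)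
  obtain ⟨i1, i2, i3, i4⟩ := StrictQuotient.isStrictHenselization_quotient A S I hI
  obtain ⟨j1, j2, j3, j4⟩ :=
    StrictQuotient.isStrictHenselization_quotient B S' (I.map (algebraMap A B)) hJ
  haveI : IsLocalHom (Ideal.quotientMap ((I.map (algebraMap A B)).map (algebraMap B S')) φ
      hle) := by
    refine ⟨fun x hx => ?_⟩
    obtain ⟨s, rfl⟩ := Ideal.Quotient.mk_surjective x
    rw [Ideal.quotientMap_mk] at hx
    haveI : IsLocalHom (Ideal.Quotient.mk ((I.map (algebraMap A B)).map (algebraMap B S'))) :=
      IsLocalHom.of_surjective _ Ideal.Quotient.mk_surjective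
    have h2 : IsUnit (φ s) := isUnit_of_map_unit _ _ hx
    exact (isUnit_of_map_unit φ s h2).map _
  refine bijective_of_bijective_base (R₁ := A ⧸ I) (R₂ := B ⧸ I.map (algebraMap A B))
    (S₁ := S ⧸ I.map (algebraMap A S))
    (S₂ := S' ⧸ (I.map (algebraMap A B)).map (algebraMap B S'))
    (Ideal.quotientMap (I.map (algebraMap A B)) (algebraMap A B) Ideal.le_comap_map) hbij
    (Ideal.quotientMap ((I.map (algebraMap A B)).map (algebraMap B S')) φ hle) ?_
  refine RingHom.ext fun x => ?_
  obtain ⟨a, rfl⟩ := Ideal.Quotient.mk_surjective x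
  show Ideal.quotientMap _ φ hle (Ideal.Quotient.mk _ (algebraMap A S a)) =
    Ideal.Quotient.mk _ (algebraMap B S' (algebraMap A B a))
  rw [Ideal.quotientMap_mk]
  exact congrArg _ (RingHom.congr_fun hφ a)

end Map

end Groth.Agent.Lib.Helper12.StrictIso
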