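import Groth.Agent.Lib.Helper12.PtLimit
import Groth.Agent.Lib.Helper12.HenselizationDim
import Mathlib.RingTheory.Unramified.LocalRing

set_option autoImplicit false
universe u

namespace Groth.Agent.Lib.Helper12.PtNbhd

open IsLocalRing

variable (A : Type u) [CommRing A] [IsLocalRing A] (L : Type u) [Field L] [Algebra A L]
  [LocalPoint A L]

namespace Lim

theorem comap_strictMono :
    StrictMono (PrimeSpectrum.comap (algebraMap A (Lim A L))) := by
  intro P P' hlt
  have hle : P.asIdeal ≤ P'.asIdeal := hlt.le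
  refine lt_of_le_of_ne (Ideal.comap_mono hle) ?_
  intro heq
  have hne : ¬ P'.asIdeal ≤ P.asIdeal := fun h => (lt_irrefl P) (lt_of_lt_of_le hlt h)
  obtain ⟨x, hx', hx⟩ := Set.not_subset.mp hne
  obtain ⟨i, a, rfl⟩ := exists_of x
  have hQ : (P.asIdeal.comap (of A L i)).IsPrime := Ideal.comap_isPrime _ _
  have hQ' : (P'.asIdeal.comap (of A L i)).IsPrime := Ideal.comap_isPrime _ _
  have hcomp : (of A L i).comp (algebraMap A i.G) = algebraMap A (Lim A L) := by
    ext r
    exact (algebraMap_eq i r).symm
  have key := Algebra.QuasiFinite.eq_of_le_of_under_eq (R := A)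
    (P.asIdeal.comap (of A L i)) (P'.asIdeal.comap (of A L i)) (Ideal.comap_mono hle) (by
      rw [Ideal.under, Ideal.under, Ideal.comap_comap, Ideal.comap_comap, hcomp]
      exact congrArg PrimeSpectrum.asIdeal heq)
  apply hx
  have : a ∈ P'.asIdeal.comap (of A L i) := hx'
  rw [← key] at this
  exact this

theorem ringKrullDim_eq : ringKrullDim (Lim A L) = ringKrullDim A :=
  le_antisymm (Order.krullDim_le_of_strictMono _ (comap_strictMono A L))
    (ringKrullDim_le_of_faithfullyFlat A (Lim A L))

theorem map_maximalIdeal_G (i : Nbhd A L) :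
    (maximalIdeal A).map (algebraMap A i.G) = maximalIdeal i.G :=
  Algebra.FormallyUnramified.map_maximalIdeal

theorem map_maximalIdeal :
    (maximalIdeal A).map (algebraMap A (Lim A L)) = maximalIdeal (Lim A L) := by
  refine le_antisymm (IsLocalRing.map_maximalIdeal_le _) ?_
  intro x hx
  obtain ⟨i, a, rfl⟩ := exists_of x
  rw [of_mem_maximalIdeal_iff, ← map_maximalIdeal_G] at hx
  have hcomp : (of A L i).comp (algebraMap A i.G) = algebraMap A (Lim A L) := by
    ext r
    exact (algebraMap_eq i r).symm
  rw [← hcomp, ← Ideal.map_map]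
  exact Ideal.mem_map_of_mem _ hx

end Lim

end Groth.Agent.Lib.Helper12.PtNbhd
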