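import Groth.Agent.Lib.Helper12.StrictHenselization

set_option autoImplicit false
universe u

namespace Groth.Agent.Lib.Helper12

open IsLocalRing PtNbhd

variable {A : Type u} [CommRing A] [IsLocalRing A]

namespace StrictHenselization

theorem algEquiv_comp_map {S T : Type u} [CommRing S] [IsLocalRing S] [Algebra A S]
    [IsLocalHom (algebraMap A S)] [CommRing T] [IsLocalRing T] [Algebra A T]
    [IsLocalHom (algebraMap A T)]
    (σ : ResidueField S →ₐ[ResidueField A] ResidueField T) :
    σ.toRingHom.comp (ResidueField.map (algebraMap A S)) = ResidueField.map (algebraMap A T) := by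
  ext r
  obtain ⟨a, rfl⟩ := residue_surjective r
  simp only [RingHom.comp_apply, ResidueField.map_residue]
  have h1 : residue S (algebraMap A S a) =
      algebraMap (ResidueField A) (ResidueField S) (residue A a) := rfl
  have h2 : residue T (algebraMap A T a) =
      algebraMap (ResidueField A) (ResidueField T) (residue A a) := rfl
  rw [h1, h2]
  exact σ.commutes _

/-- Any strict henselization (in the sense of the universal property) is isomorphic to the
constructed one. -/
theorem nonempty_algEquiv (S : Type u) [CommRing S] [IsLocalRing S] [Algebra A S]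
    [IsLocalHom (algebraMap A S)] [Hensel.IsStrictHenselization A S] :
    Nonempty (S ≃ₐ[A] StrictHenselization A) := by
  haveI : HenselianLocalRing S := Hensel.IsStrictHenselization.henselian A
  haveI : IsSepClosure (ResidueField A) (ResidueField S) :=
    Hensel.IsStrictHenselization.isSepClosure
  let σ : ResidueField S ≃ₐ[ResidueField A] ResidueField (StrictHenselization A) :=
    IsSepClosure.equiv (ResidueField A) (ResidueField S) (ResidueField (StrictHenselization A))
  obtain ⟨g, ⟨hg1, hg2⟩, -⟩ := Hensel.IsStrictHenselization.universal (R := A) (S := S)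
    (StrictHenselization A) (algebraMap A (StrictHenselization A))
    (σ : ResidueField S →ₐ[ResidueField A] _).toRingHom (algEquiv_comp_map _)
  obtain ⟨h, ⟨hh1, hh2⟩, -⟩ := Hensel.IsStrictHenselization.universal (R := A)
    (S := StrictHenselization A) S (algebraMap A S)
    (σ.symm : _ →ₐ[ResidueField A] ResidueField S).toRingHom (algEquiv_comp_map _)
  have hg : ∀ a : A, g (algebraMap A S a) = algebraMap A (StrictHenselization A) a := fun a =>
    congrArg (fun k : A →+* StrictHenselization A => k a) hg1
  have hh : ∀ a : A, h (algebraMap A (StrictHenselization A) a) = algebraMap A S a := fun a =>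
    congrArg (fun k : A →+* S => k a) hh1
  let g' : S →ₐ[A] StrictHenselization A := { g with commutes' := hg }
  let h' : StrictHenselization A →ₐ[A] S := { h with commutes' := hh }
  have h1 : h.comp g = RingHom.id S := by
    obtain ⟨k, -, hk⟩ := Hensel.IsStrictHenselization.universal (R := A) (S := S) S
      (algebraMap A S) (RingHom.id _) (by
        ext r; simp)
    have e1 : h.comp g = k := hk _ ⟨by rw [RingHom.comp_assoc, hg1, hh1], fun x => by
      rw [RingHom.comp_apply, hh2, hg2]
      simp⟩
    have e2 : RingHom.id S = k := hk _ ⟨by simp, fun x => by simp⟩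
    rw [e1, e2]
  have h2 : g.comp h = RingHom.id (StrictHenselization A) := by
    obtain ⟨k, -, hk⟩ := Hensel.IsStrictHenselization.universal (R := A)
      (S := StrictHenselization A) (StrictHenselization A)
      (algebraMap A (StrictHenselization A)) (RingHom.id _) (by
        ext r; simp)
    have e1 : g.comp h = k := hk _ ⟨by rw [RingHom.comp_assoc, hh1, hg1], fun x => by
      rw [RingHom.comp_apply, hg2, hh2]
      simp⟩
    have e2 : RingHom.id (StrictHenselization A) = k := hk _ ⟨by simp, fun x => by simp⟩
    rw [e1, e2]
  refine ⟨AlgEquiv.ofAlgHom g' h' ?_ ?_⟩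
  · ext x
    exact congrArg (fun k : StrictHenselization A →+* StrictHenselization A => k x) h2
  · ext x
    exact congrArg (fun k : S →+* S => k x) h1

end StrictHenselization

end Groth.Agent.Lib.Helper12
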