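import Mathlib
import Groth.Prelude.Def_Brnch
import Groth.Agent.Lib.Helper12.BrnchDimF
import Groth.Agent.Lib.Helper12.StrictIsoB
import Groth.Agent.Lib.Helper12.BrnchCplB
import Groth.Agent.Lib.Helper5.ComplIso
import Groth.Agent.S0538
import Groth.Agent.S0541
import Groth.Agent.S0547
import Groth.Agent.S9243

/-!
# Branches of the completion in dimension one (S9241)
-/

set_option autoImplicit false
set_option linter.style.haveILetI false
universe u

namespace Groth.Agent.Lib.Helper12.BrnchDim

open IsLocalRing

section Cpl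

/-- the strict henselizations of `A` and of its completion have isomorphic completions -/
theorem nonempty_cpl_ringEquiv (A : Type u) [CommRing A] [IsLocalRing A] [IsNoetherianRing A]
    (S : Type u) [CommRing S] [IsLocalRing S] [Algebra A S] [IsLocalHom (algebraMap A S)]
    [Hensel.IsStrictHenselization A S]
    (S' : Type u) [CommRing S'] [IsLocalRing S'] [Algebra (AdicCompletion (maximalIdeal A) A) S']
    [IsLocalHom (algebraMap (AdicCompletion (maximalIdeal A) A) S')]
    [Hensel.IsStrictHenselization (AdicCompletion (maximalIdeal A) A) S'] :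
    Nonempty (AdicCompletion (maximalIdeal S) S ≃+* AdicCompletion (maximalIdeal S') S') := by
  obtain ⟨φ, hφ, hφloc⟩ := StrictIso.exists_map (A := A) (B := AdicCompletion (maximalIdeal A) A)
    (S := S) (S' := S') (AdicCompletion.residueField_map_bijective A).2
  haveI := hφloc
  letI : Algebra A S' :=
    ((algebraMap (AdicCompletion (maximalIdeal A) A) S').comp
      (algebraMap A (AdicCompletion (maximalIdeal A) A))).toAlgebra
  let φa : S →ₐ[A] S' := { φ with commutes' := fun a => RingHom.congr_fun hφ a }
  have hmS : maximalIdeal S = (maximalIdeal A).map (algebraMap A S) :=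
    (Groth.Agent.S0538.result A S).symm
  have hmS' : maximalIdeal S' = ((maximalIdeal A).map
      (algebraMap A (AdicCompletion (maximalIdeal A) A))).map
      (algebraMap (AdicCompletion (maximalIdeal A) A) S') := by
    rw [← AdicCompletion.maximalIdeal_eq_map]
    exact (Groth.Agent.S0538.result (AdicCompletion (maximalIdeal A) A) S').symm
  have hpowS : ∀ n, maximalIdeal S ^ n = (maximalIdeal A ^ n).map (algebraMap A S) := fun n => by
    rw [hmS, Ideal.map_pow]
  have hpowS' : ∀ n, maximalIdeal S' ^ n = ((maximalIdeal A ^ n).map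
      (algebraMap A (AdicCompletion (maximalIdeal A) A))).map
      (algebraMap (AdicCompletion (maximalIdeal A) A) S') := fun n => by
    rw [hmS', Ideal.map_pow, Ideal.map_pow]
  have hle : ∀ n, (maximalIdeal A ^ n).map (algebraMap A S) ≤
      (((maximalIdeal A ^ n).map (algebraMap A (AdicCompletion (maximalIdeal A) A))).map
        (algebraMap (AdicCompletion (maximalIdeal A) A) S')).comap φ := fun n => by
    rw [Ideal.map_le_iff_le_comap]
    intro a ha
    rw [Ideal.mem_comap, Ideal.mem_comap]
    have h1 : φ (algebraMap A S a) = algebraMap (AdicCompletion (maximalIdeal A) A) S'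
        (algebraMap A (AdicCompletion (maximalIdeal A) A) a) := RingHom.congr_fun hφ a
    rw [h1]
    exact Ideal.mem_map_of_mem _ (Ideal.mem_map_of_mem _ ha)
  have hbase : ∀ n, Function.Bijective (Ideal.quotientMap
      ((maximalIdeal A ^ n).map (algebraMap A (AdicCompletion (maximalIdeal A) A)))
      (algebraMap A (AdicCompletion (maximalIdeal A) A)) Ideal.le_comap_map) := fun n => by
    constructor
    · rw [injective_iff_map_eq_zero]
      intro x hx
      obtain ⟨a, rfl⟩ := Ideal.Quotient.mk_surjective x
      rw [Ideal.quotientMap_mk, Ideal.Quotient.eq_zero_iff_mem] at hx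
      exact Ideal.Quotient.eq_zero_iff_mem.mpr (Henselization.mem_pow_of_algebraMap_mem n a hx)
    · intro y
      obtain ⟨y, rfl⟩ := Ideal.Quotient.mk_surjective y
      obtain ⟨a, ha⟩ := Henselization.exists_sub_algebraMap_mem n y
      refine ⟨Ideal.Quotient.mk _ a, ?_⟩
      rw [Ideal.quotientMap_mk, eq_comm, Ideal.Quotient.eq]
      exact ha
  have hbij : ∀ n, 0 < n → Function.Bijective (Ideal.quotientMap _ φ (hle n)) := fun n hn =>
    StrictIso.quotient_bijective φ hφ (maximalIdeal A ^ n)
      (fun h => by
        have h1 : maximalIdeal A ^ n ≤ maximalIdeal A := Ideal.pow_le_self hn.ne'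
        rw [h] at h1
        exact (maximalIdeal.isMaximal A).ne_top (top_le_iff.mp h1))
      (hbase n) (hle n)
  have c1 : ∀ n, maximalIdeal S ^ n ≤ (maximalIdeal S' ^ n).comap φa := by
    intro n
    rw [hpowS, hpowS']
    exact hle n
  have c2 : ∀ n p, φa p ∈ maximalIdeal S' ^ n → p ∈ maximalIdeal S ^ n := by
    intro n p hp
    rcases Nat.eq_zero_or_pos n with rfl | hn
    · rw [pow_zero, Ideal.one_eq_top]; exact Submodule.mem_top
    · rw [hpowS]
      rw [hpowS'] at hp
      have h1 : Ideal.quotientMap _ φ (hle n) (Ideal.Quotient.mk _ p) = 0 := by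
        rw [Ideal.quotientMap_mk]
        exact Ideal.Quotient.eq_zero_iff_mem.mpr hp
      have h2 := (hbij n hn).1 (h1.trans (map_zero _).symm)
      exact Ideal.Quotient.eq_zero_iff_mem.mp h2
  have c3 : ∀ n s, ∃ p, s - φa p ∈ maximalIdeal S' ^ n := by
    intro n s
    rcases Nat.eq_zero_or_pos n with rfl | hn
    · exact ⟨0, by rw [pow_zero, Ideal.one_eq_top]; exact Submodule.mem_top⟩
    · obtain ⟨pbar, hp⟩ := (hbij n hn).2 (Ideal.Quotient.mk _ s)
      obtain ⟨p, rfl⟩ := Ideal.Quotient.mk_surjective pbar
      refine ⟨p, ?_⟩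
      rw [hpowS']
      rw [Ideal.quotientMap_mk] at hp
      exact Ideal.Quotient.eq.mp hp.symm
  obtain ⟨e⟩ := Groth.Agent.Lib.Helper5.ComplIso.complEquiv (R := A) φa (maximalIdeal S)
    (maximalIdeal S') c1 c2 c3
  exact ⟨e.toRingEquiv⟩

end Cpl

/-- minimal primes are counted the same in isomorphic rings -/
theorem card_minimalPrimes_of_ringEquiv {R T : Type u} [CommRing R] [CommRing T] (e : R ≃+* T) :
    ENat.card (minimalPrimes R) = ENat.card (minimalPrimes T) := by
  apply le_antisymm
  · refine BrnchCpl.card_minimalPrimes_le (e : R →+* T) (e.symm : T →+* R) ?_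
    have : (e.symm : T →+* R).comp (e : R →+* T) = RingHom.id R := by
      ext x; simp
    rw [this]
    intro P
    exact ⟨P, by ext1; rfl⟩
  · refine BrnchCpl.card_minimalPrimes_le (e.symm : T →+* R) (e : R →+* T) ?_
    have : (e : R →+* T).comp (e.symm : T →+* R) = RingHom.id T := by
      ext x; simp
    rw [this]
    intro P
    exact ⟨P, by ext1; rfl⟩

variable (A : Type u) [CommRing A] [IsLocalRing A] [IsNoetherianRing A]

theorem numGeomBranches_completion_eq_of_dim_one (hA : ringKrullDim A = 1) :
    Brnch.numGeomBranches (AdicCompletion (maximalIdeal A) A) = Brnch.numGeomBranches A := by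
  obtain ⟨S, _, _, _, _, hS⟩ := Groth.Agent.S0537.result A
  obtain ⟨S', _, _, _, _, hS'⟩ := Groth.Agent.S0537.result (AdicCompletion (maximalIdeal A) A)
  haveI := hS
  haveI := hS'
  rw [← Groth.Agent.S9238.result A S, ← Groth.Agent.S9238.result _ S']
  haveI : IsNoetherianRing S := (Groth.Agent.S0540.result A S).mp inferInstance
  haveI : IsNoetherianRing S' :=
    (Groth.Agent.S0540.result (AdicCompletion (maximalIdeal A) A) S').mp inferInstance
  haveI : HenselianLocalRing S := Hensel.IsStrictHenselization.henselian (R := A)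
  haveI : HenselianLocalRing S' :=
    Hensel.IsStrictHenselization.henselian (R := AdicCompletion (maximalIdeal A) A)
  have hdS : ringKrullDim S = 1 := by rw [Groth.Agent.S0541.result A S, hA]
  have hdS' : ringKrullDim S' = 1 := by
    rw [Groth.Agent.S0541.result (AdicCompletion (maximalIdeal A) A) S',
      Groth.Agent.S0547.result A, hA]
  have h1 := card_minimalPrimes_completion_eq S (by rw [Groth.Agent.S0547.result S, hdS])
  have h2 := card_minimalPrimes_completion_eq S' (by rw [Groth.Agent.S0547.result S', hdS'])
  obtain ⟨e⟩ := nonempty_cpl_ringEquiv A S S'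
  rw [← h1, ← h2]
  exact (card_minimalPrimes_of_ringEquiv e).symm

end Groth.Agent.Lib.Helper12.BrnchDim
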