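import Mathlib
import Groth.Agent.S7620
import Groth.Agent.Lib.Helper12.AssFlat

/-!
# Dimension comparison lemmas (towards S16575)
-/

set_option autoImplicit false
set_option linter.style.haveILetI false
universe u

namespace Groth.Agent.Lib.Helper12.C2

open TensorProduct

/-- the quotient of an integral algebra by a prime has the dimension of the quotient of the base
by the contraction -/
theorem ringKrullDim_quotient_of_isIntegral (S T : Type u) [CommRing S] [CommRing T] [Algebra S T]
    [Algebra.IsIntegral S T] (Q : Ideal T) :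
    ringKrullDim (T ⧸ Q) = ringKrullDim (S ⧸ Q.comap (algebraMap S T)) := by
  haveI : Q.LiesOver (Q.comap (algebraMap S T)) := ⟨rfl⟩
  exact Groth.Agent.S7620.ringKrullDim_eq_of_integral_injective (S ⧸ Q.comap (algebraMap S T))
    (T ⧸ Q) (FaithfulSMul.algebraMap_injective _ _)

/-- if `Q` is the only minimal prime below the maximal ideal `M`, and `M` the only maximal ideal
above `Q`, then `dim T/Q = ht M` -/
theorem ringKrullDim_quotient_eq_height {T : Type u} [CommRing T] (Q M : Ideal T) [hQ : Q.IsPrime]
    [hM : M.IsMaximal] (hQM : Q ≤ M)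
    (hmin : ∀ Q' ∈ minimalPrimes T, Q' ≤ M → Q' = Q)
    (hmax : ∀ M' : Ideal T, M'.IsMaximal → Q ≤ M' → M' = M) :
    ringKrullDim (T ⧸ Q) = M.height := by
  haveI : M.IsPrime := hM.isPrime
  have hset : PrimeSpectrum.zeroLocus (R := T) Q = Set.Iic (⟨M, inferInstance⟩ : PrimeSpectrum T) := by
    ext q
    rw [PrimeSpectrum.mem_zeroLocus, Set.mem_Iic, SetLike.coe_subset_coe]
    constructor
    · intro hq
      obtain ⟨M', hM', hqM'⟩ := Ideal.exists_le_maximal q.asIdeal q.2.ne_top
      have := hmax M' hM' (hq.trans hqM')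
      show q.asIdeal ≤ M
      rw [← this]
      exact hqM'
    · intro hq
      have hq' : q.asIdeal ≤ M := hq
      obtain ⟨Q', hQ', hQ'q⟩ := Ideal.exists_minimalPrimes_le (I := (⊥ : Ideal T))
        (J := q.asIdeal) bot_le
      have := hmin Q' hQ' (hQ'q.trans hq')
      rw [← this]
      exact hQ'q
  have hh : M.height = Order.height (⟨M, inferInstance⟩ : PrimeSpectrum T) :=
    PrimeSpectrum.height_eq_orderHeight ⟨M, inferInstance⟩
  rw [ringKrullDim_quotient, hset, hh, Order.height_eq_krullDim_Iic]

/-- heights are preserved under contraction along a flat map with zero-dimensional fibres -/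
theorem height_comap_eq (R T : Type u) [CommRing R] [CommRing T] [Algebra R T] [Module.Flat R T]
    (hfib : ∀ (p : Ideal R) [p.IsPrime], Ring.KrullDimLE 0 (p.ResidueField ⊗[R] T))
    (M : Ideal T) [hM : M.IsPrime] :
    (M.comap (algebraMap R T)).height = M.height := by
  haveI : (M.comap (algebraMap R T)).IsPrime := Ideal.comap_isPrime _ _
  have hh1 : M.height = Order.height (⟨M, hM⟩ : PrimeSpectrum T) :=
    PrimeSpectrum.height_eq_orderHeight ⟨M, hM⟩
  have hh2 : (M.comap (algebraMap R T)).height =
      Order.height (PrimeSpectrum.comap (algebraMap R T) ⟨M, hM⟩) :=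
    PrimeSpectrum.height_eq_orderHeight (PrimeSpectrum.comap (algebraMap R T) ⟨M, hM⟩)
  rw [hh1, hh2]
  apply le_antisymm
  · rw [Order.height_le_iff']
    intro l hl
    haveI : M.LiesOver l.last.asIdeal := ⟨by rw [hl]; rfl⟩
    obtain ⟨L, hlen, hlast, -⟩ := Ideal.exists_ltSeries_of_hasGoingDown l M
    rw [← hlen]
    exact Order.length_le_height (le_of_eq hlast)
  · have hsm : StrictMono (PrimeSpectrum.comap (algebraMap R T)) := by
      intro Q1 Q2 hlt
      have hle : PrimeSpectrum.comap (algebraMap R T) Q1 ≤ PrimeSpectrum.comap (algebraMap R T) Q2 :=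
        Ideal.comap_mono hlt.le
      refine lt_of_le_of_ne hle fun heq => ?_
      have h1 : Q1.asIdeal.comap (algebraMap R T) = Q2.asIdeal.comap (algebraMap R T) :=
        congrArg PrimeSpectrum.asIdeal heq
      have h2 := AssFlat.eq_of_le_of_comap_eq R T hfib Q1.asIdeal Q2.asIdeal hlt.le h1
      exact hlt.ne (PrimeSpectrum.ext h2)
    exact Order.height_le_height_apply_of_strictMono _ hsm ⟨M, hM⟩

end Groth.Agent.Lib.Helper12.C2
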