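import Mathlib
import Groth.Agent.Lib.Helper12.C2A
import Groth.Agent.Lib.Helper12.BrnchE
import Groth.Agent.Lib.Helper12.BrnchA
import Groth.Agent.Lib.Helper12.IndEtaleFibre

/-!
# The `c₂` condition: normalization versus an ind-étale henselian local algebra (towards S16575)
-/

set_option autoImplicit false
set_option linter.style.haveILetI false
universe u

namespace Groth.Agent.Lib.Helper12.C2

open TensorProduct IsLocalRing

section Fib

variable (A : Type u) [CommRing A] (A' : Type u) [CommRing A'] [Algebra A A']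
  (S : Type u) [CommRing S] [Algebra A S]

/-- the fibres of `A' → A' ⊗ S` are zero-dimensional when `S` is ind-étale over `A` -/
theorem krullDimLE_zero_fibre (hS : IndEtaleFibre.IsIndEssEtale A S) (p : Ideal A') [p.IsPrime] :
    Ring.KrullDimLE 0 (p.ResidueField ⊗[A'] (A' ⊗[A] S)) := by
  haveI : IsScalarTower A A' p.ResidueField := inferInstance
  have h0 : Ring.KrullDimLE 0 (p.ResidueField ⊗[A] S) :=
    IndEtaleFibre.krullDimLE_zero_tensor (κ := p.ResidueField) hS
  let e := Algebra.TensorProduct.cancelBaseChange A A' A' p.ResidueField S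
  rw [Ring.krullDimLE_iff] at h0 ⊢
  rw [ringKrullDim_eq_of_ringEquiv e.toRingEquiv]
  exact h0

end Fib

section Main

variable (A : Type u) [CommRing A] [IsLocalRing A] (S : Type u) [CommRing S] [IsLocalRing S]
  [Algebra A S] [IsLocalHom (algebraMap A S)] [Module.Flat A S]

attribute [local instance] Algebra.TensorProduct.rightAlgebra

/-- the key dimension equality -/
theorem dim_eq (hH : HenselianLocalRing S) (hS : IndEtaleFibre.IsIndEssEtale A S)
    (huniq : ∀ {Q1 Q2 M : Ideal ((CAlg2.normRed A) ⊗[A] S)},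
      Q1 ∈ minimalPrimes ((CAlg2.normRed A) ⊗[A] S) →
      Q2 ∈ minimalPrimes ((CAlg2.normRed A) ⊗[A] S) → M ≠ ⊤ → Q1 ≤ M → Q2 ≤ M → Q1 = Q2)
    {Q M : Ideal ((CAlg2.normRed A) ⊗[A] S)} (hQ : Q ∈ minimalPrimes ((CAlg2.normRed A) ⊗[A] S))
    (hM : M.IsMaximal) (hQM : Q ≤ M) (m' : Ideal (CAlg2.normRed A)) [m'.IsPrime]
    (hm' : M.comap (algebraMap (CAlg2.normRed A) ((CAlg2.normRed A) ⊗[A] S)) = m') :
    ringKrullDim (S ⧸ Q.comap (algebraMap S ((CAlg2.normRed A) ⊗[A] S))) =
      ringKrullDim (Localization.AtPrime m') := by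
  haveI : Q.IsPrime := hQ.1.1
  haveI : M.IsPrime := hM.isPrime
  haveI : M.IsMaximal := hM
  haveI : HenselianLocalRing S := hH
  haveI := BrnchHens.isIntegral_right A (CAlg2.normRed A) S
  have h1 := ringKrullDim_quotient_of_isIntegral S ((CAlg2.normRed A) ⊗[A] S) Q
  have h2 := IsLocalization.AtPrime.ringKrullDim_eq_height m' (Localization.AtPrime m')
  have hmax : ∀ M' : Ideal ((CAlg2.normRed A) ⊗[A] S), M'.IsMaximal → Q ≤ M' → M' = M :=
    fun M' hM' hle => BrnchHens.maximal_unique' A S hM' hM hle hQM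
  have hmin : ∀ Q' ∈ minimalPrimes ((CAlg2.normRed A) ⊗[A] S), Q' ≤ M → Q' = Q :=
    fun Q' hQ' hle => huniq hQ' hQ hM.ne_top hle hQM
  have h3 := ringKrullDim_quotient_eq_height (T := (CAlg2.normRed A) ⊗[A] S) Q M hQM hmin hmax
  have h4 := height_comap_eq (CAlg2.normRed A) ((CAlg2.normRed A) ⊗[A] S)
      (fun p _ => krullDimLE_zero_fibre A (CAlg2.normRed A) S hS p) M
  rw [← h1, h2, h3, ← hm', h4]

end Main

end Groth.Agent.Lib.Helper12.C2
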