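import Mathlib
import Groth.Agent.Lib.Helper12.C2B

/-!
# The `c₂` condition: normalization versus an ind-étale henselian local algebra, the
equivalence (towards S16575)
-/

set_option autoImplicit false
set_option linter.style.haveILetI false
universe u

namespace Groth.Agent.Lib.Helper12.C2

open TensorProduct IsLocalRing

variable (A : Type u) [CommRing A] [IsLocalRing A] (S : Type u) [CommRing S] [IsLocalRing S]
  [Algebra A S] [IsLocalHom (algebraMap A S)] [Module.Flat A S]

attribute [local instance] Algebra.TensorProduct.rightAlgebra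

theorem c2_iff (hH : HenselianLocalRing S) (hS : IndEtaleFibre.IsIndEssEtale A S)
    (huniq : ∀ {Q1 Q2 M : Ideal ((CAlg2.normRed A) ⊗[A] S)},
      Q1 ∈ minimalPrimes ((CAlg2.normRed A) ⊗[A] S) →
      Q2 ∈ minimalPrimes ((CAlg2.normRed A) ⊗[A] S) → M ≠ ⊤ → Q1 ≤ M → Q2 ≤ M → Q1 = Q2)
    (hbij : Set.BijOn (fun P : Ideal ((CAlg2.normRed A) ⊗[A] S) =>
        P.comap (Algebra.TensorProduct.includeRight.toRingHom :
          S →+* (CAlg2.normRed A) ⊗[A] S))
      (minimalPrimes ((CAlg2.normRed A) ⊗[A] S)) (minimalPrimes S)) :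
    (∀ m' : MaximalSpectrum (CAlg2.normRed A),
        (2 : WithBot ℕ∞) ≤ ringKrullDim (Localization.AtPrime m'.asIdeal)) ↔
      ∀ p ∈ minimalPrimes S, (2 : WithBot ℕ∞) ≤ ringKrullDim (S ⧸ p) := by
  constructor
  · intro h p hp
    obtain ⟨Q, hQ, hQp⟩ := hbij.surjOn hp
    obtain ⟨M, hM, hQM⟩ := Ideal.exists_le_maximal Q hQ.1.1.ne_top
    haveI := hM
    have hm'max := BrnchHens.isMaximal_comap_left A (CAlg2.normRed A) S M
    haveI := hm'max.isPrime
    have key := dim_eq A S hH hS huniq hQ hM hQM _ rfl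
    have hQp' : Q.comap (algebraMap S ((CAlg2.normRed A) ⊗[A] S)) = p := hQp
    rw [← hQp', key]
    exact h ⟨_, hm'max⟩
  · intro h m'
    haveI := m'.isMaximal
    haveI : Module.FaithfullyFlat A S := Module.FaithfullyFlat.of_flat_of_isLocalHom
    haveI : Module.FaithfullyFlat (CAlg2.normRed A) ((CAlg2.normRed A) ⊗[A] S) := inferInstance
    obtain ⟨P0, hP0⟩ := PrimeSpectrum.comap_surjective_of_faithfullyFlat
      (A := CAlg2.normRed A) (B := (CAlg2.normRed A) ⊗[A] S) ⟨m'.asIdeal, inferInstance⟩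
    have hP0' : P0.asIdeal.comap (algebraMap (CAlg2.normRed A) ((CAlg2.normRed A) ⊗[A] S)) =
        m'.asIdeal := congrArg PrimeSpectrum.asIdeal hP0
    obtain ⟨M, hM, hP0M⟩ := Ideal.exists_le_maximal P0.asIdeal P0.2.ne_top
    haveI := hM
    have hMm' : M.comap (algebraMap (CAlg2.normRed A) ((CAlg2.normRed A) ⊗[A] S)) =
        m'.asIdeal := by
      symm
      apply m'.isMaximal.eq_of_le (Ideal.comap_ne_top _ hM.ne_top)
      rw [← hP0']
      exact Ideal.comap_mono hP0M
    obtain ⟨Q, hQ, hQM⟩ := Ideal.exists_minimalPrimes_le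
      (I := (⊥ : Ideal ((CAlg2.normRed A) ⊗[A] S))) (J := M) bot_le
    have hp := hbij.mapsTo hQ
    have key := dim_eq A S hH hS huniq hQ hM hQM m'.asIdeal hMm'
    rw [← key]
    exact h _ hp

end Groth.Agent.Lib.Helper12.C2
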