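import Mathlib
import Groth.Agent.Lib.Helper21.DepthKit6
import Groth.Agent.Lib.Helper21.CatKit2
import Groth.Agent.Lib.Helper7.SupportLoc

/-!
# Cohen–Macaulay modules with full support: dimension formula and the catenary property
-/

set_option autoImplicit false
universe u
open IsLocalRing Module Order

namespace Groth.Agent.Lib.Helper12.CMCat

/-- along a saturated chain the height grows by one at each step -/
theorem height_eq_of_saturated {R : Type u} [CommRing R]
    (h : ∀ p q : PrimeSpectrum R, p ⋖ q → q.asIdeal.height = p.asIdeal.height + 1)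
    (s : LTSeries (PrimeSpectrum R))
    (hs : ∀ i : Fin s.length, s (Fin.castSucc i) ⋖ s (Fin.succ i)) (i : Fin (s.length + 1)) :
    (s i).asIdeal.height = s.head.asIdeal.height + ((i : ℕ) : ℕ∞) := by
  induction i using Fin.induction with
  | zero => simp [RelSeries.head]
  | succ i ih =>
    rw [h _ _ (hs i), ih, add_assoc]
    simp

/-- a Noetherian ring in which heights grow by one along covering pairs of primes is catenary -/
theorem isCatenary_of_height_covBy (R : Type u) [CommRing R] [IsNoetherianRing R]
    (h : ∀ p q : PrimeSpectrum R, p ⋖ q → q.asIdeal.height = p.asIdeal.height + 1) :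
    CAlg.IsCatenary R := by
  refine ⟨fun p q _ => ?_, fun s t hh hl hs ht => ?_⟩
  · obtain ⟨n, hn⟩ := ENat.ne_top_iff_exists.mp (Ideal.height_lt_top q.2.ne_top).ne
    refine ⟨n, fun s _ hsl => ?_⟩
    have := Order.length_le_height_last (p := s)
    rw [hsl, ← PrimeSpectrum.height_eq_orderHeight, ← hn] at this
    exact_mod_cast this
  · have h1 := height_eq_of_saturated h s hs (Fin.last _)
    have h2 := height_eq_of_saturated h t ht (Fin.last _)
    have e1 : s (Fin.last _) = t (Fin.last _) := hl
    rw [e1, h2, hh] at h1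
    obtain ⟨n, hn⟩ := ENat.ne_top_iff_exists.mp (Ideal.height_lt_top t.head.2.ne_top).ne
    rw [← hn] at h1
    simp only [Fin.val_last] at h1
    have : n + t.length = n + s.length := by exact_mod_cast h1
    omega

section Local

variable {A : Type u} [CommRing A] [IsLocalRing A] [IsNoetherianRing A]
variable {M : Type u} [AddCommGroup M] [Module A M] [Module.Finite A M]

/-- For a finite CM module with full support over a Noetherian local ring:
`ht p + dim A/p = dim A`. -/
theorem height_add_dim_eq (hM : LocCoh.IsCohenMacaulayModule A M)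
    (hsupp : Module.support A M = Set.univ) (p : PrimeSpectrum A) :
    ((p.asIdeal.height : ℕ∞) : WithBot ℕ∞) + ringKrullDim (A ⧸ p.asIdeal) = ringKrullDim A := by
  obtain ⟨-, h⟩ := Groth.Agent.Lib.Helper21.DepthKit.isCM_localizedModule_and_dim hM p
    (by rw [hsupp]; trivial)
  have h1 : supportDim A M = ringKrullDim A := by
    rw [Module.supportDim, hsupp]
    exact Order.krullDim_eq_of_orderIso OrderIso.Set.univ
  have h2 : supportDim A (M ⧸ (p.asIdeal • (⊤ : Submodule A M))) =
      ringKrullDim (A ⧸ p.asIdeal) := by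
    rw [Module.supportDim, Module.support_quotient, hsupp, Set.univ_inter, ringKrullDim_quotient]
  have h3 := Groth.Agent.Lib.Helper7.SupportLoc.supportDim_localized_eq_height hsupp p.asIdeal
  rw [h1, h2, h3] at h
  rw [h, add_comm]

/-- localization of a CM module with full support is again such -/
theorem isCM_localized (hM : LocCoh.IsCohenMacaulayModule A M)
    (hsupp : Module.support A M = Set.univ) (q : PrimeSpectrum A) :
    LocCoh.IsCohenMacaulayModule (Localization.AtPrime q.asIdeal)
      (LocalizedModule q.asIdeal.primeCompl M) ∧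
    Module.support (Localization.AtPrime q.asIdeal)
      (LocalizedModule q.asIdeal.primeCompl M) = Set.univ :=
  ⟨(Groth.Agent.Lib.Helper21.DepthKit.isCM_localizedModule_and_dim hM q
    (by rw [hsupp]; trivial)).1,
    Groth.Agent.Lib.Helper7.SupportLoc.support_localized_eq_univ hsupp q.asIdeal⟩

end Local

/-- dimension one of the quotient by a prime just below the maximal ideal of a localization -/
theorem ringKrullDim_quotient_map_of_covBy {A : Type u} [CommRing A] [IsNoetherianRing A]
    {p q : PrimeSpectrum A} (hpq : p ⋖ q) :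
    ringKrullDim (Localization.AtPrime q.asIdeal ⧸
      p.asIdeal.map (algebraMap A (Localization.AtPrime q.asIdeal))) = 1 := by
  set Aq := Localization.AtPrime q.asIdeal
  have hle : p.asIdeal ≤ q.asIdeal := hpq.le
  have hdisj : Disjoint (q.asIdeal.primeCompl : Set A) (p.asIdeal : Set A) := by
    rw [Set.disjoint_left]
    intro x hx hxp
    exact hx (hle hxp)
  haveI hp' : (p.asIdeal.map (algebraMap A Aq)).IsPrime :=
    IsLocalization.isPrime_of_isPrime_disjoint q.asIdeal.primeCompl Aq _ p.2 hdisj
  let p' : PrimeSpectrum Aq := ⟨p.asIdeal.map (algebraMap A Aq), hp'⟩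
  have hcomap : p'.asIdeal.comap (algebraMap A Aq) = p.asIdeal :=
    IsLocalization.comap_map_of_isPrime_disjoint q.asIdeal.primeCompl Aq p.2 hdisj
  change ringKrullDim (Aq ⧸ p'.asIdeal) = 1
  rw [Groth.Agent.Lib.Helper21.CatKit.ringKrullDim_quotient_eq_coheight]
  have hmax : ∀ y : PrimeSpectrum Aq, p' < y → y = IsLocalRing.closedPoint Aq := by
    intro y hy
    have hyle : y.asIdeal ≤ maximalIdeal Aq := IsLocalRing.le_maximalIdeal y.2.ne_top
    have h1 : p.asIdeal ≤ y.asIdeal.comap (algebraMap A Aq) := by
      rw [← hcomap]; exact Ideal.comap_mono hy.le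
    have h2 : y.asIdeal.comap (algebraMap A Aq) ≤ q.asIdeal :=
      (Ideal.comap_mono hyle).trans (IsLocalization.AtPrime.comap_maximalIdeal Aq q.asIdeal).le
    have h3 : y.asIdeal.comap (algebraMap A Aq) ≠ p.asIdeal := by
      intro h
      apply hy.ne
      apply PrimeSpectrum.ext
      change p.asIdeal.map (algebraMap A Aq) = y.asIdeal
      rw [← h, IsLocalization.map_comap q.asIdeal.primeCompl Aq]
    let y0 : PrimeSpectrum A := ⟨y.asIdeal.comap (algebraMap A Aq), Ideal.IsPrime.comap _⟩
    have h4 : p < y0 := lt_of_le_of_ne h1 (fun h => h3 (congrArg PrimeSpectrum.asIdeal h).symm)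
    have h5 : y0 = q := by
      by_contra hne
      exact hpq.2 h4 (lt_of_le_of_ne h2 hne)
    apply PrimeSpectrum.ext
    change y.asIdeal = maximalIdeal Aq
    rw [← IsLocalization.map_comap q.asIdeal.primeCompl Aq y.asIdeal,
      ← Localization.AtPrime.map_eq_maximalIdeal]
    exact congrArg (Ideal.map (algebraMap A Aq)) (congrArg PrimeSpectrum.asIdeal h5)
  have hlt : p' < IsLocalRing.closedPoint Aq := by
    refine lt_of_le_of_ne (IsLocalRing.le_maximalIdeal hp'.ne_top) ?_
    intro h
    have h1 : p'.asIdeal.comap (algebraMap A Aq) = q.asIdeal := by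
      rw [h]
      exact IsLocalization.AtPrime.comap_maximalIdeal Aq q.asIdeal
    rw [hcomap] at h1
    exact hpq.lt.ne (PrimeSpectrum.ext h1)
  have hcm : IsMax (IsLocalRing.closedPoint Aq) := by
    intro b hb
    exact IsLocalRing.le_maximalIdeal b.2.ne_top
  have : coheight p' = ((0 : ℕ) : ℕ∞) + 1 := by
    rw [coheight_eq_coe_add_one_iff]
    refine ⟨coheight_lt_top p', ⟨IsLocalRing.closedPoint Aq, hlt, ?_⟩, fun y hy => ?_⟩
    · simpa using hcm
    · rw [hmax y hy]
      simpa using hcm
  rw [this]
  rfl

section Local2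

variable {A : Type u} [CommRing A] [IsLocalRing A] [IsNoetherianRing A]
variable {M : Type u} [AddCommGroup M] [Module A M] [Module.Finite A M]

/-- For a finite CM module with full support, heights grow by one along covering pairs. -/
theorem height_eq_of_covBy (hM : LocCoh.IsCohenMacaulayModule A M)
    (hsupp : Module.support A M = Set.univ) {p q : PrimeSpectrum A} (hpq : p ⋖ q) :
    q.asIdeal.height = p.asIdeal.height + 1 := by
  set Aq := Localization.AtPrime q.asIdeal
  obtain ⟨hMq, hsq⟩ := isCM_localized hM hsupp q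
  have hle : p.asIdeal ≤ q.asIdeal := hpq.le
  have hdisj : Disjoint (q.asIdeal.primeCompl : Set A) (p.asIdeal : Set A) := by
    rw [Set.disjoint_left]
    intro x hx hxp
    exact hx (hle hxp)
  haveI hp' : (p.asIdeal.map (algebraMap A Aq)).IsPrime :=
    IsLocalization.isPrime_of_isPrime_disjoint q.asIdeal.primeCompl Aq _ p.2 hdisj
  let p' : PrimeSpectrum Aq := ⟨p.asIdeal.map (algebraMap A Aq), hp'⟩
  have hf := height_add_dim_eq hMq hsq p'
  have hht : p'.asIdeal.height = p.asIdeal.height :=
    IsLocalization.height_map_of_disjoint q.asIdeal.primeCompl p.asIdeal hdisj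
  have hdimq : ringKrullDim Aq = q.asIdeal.height :=
    IsLocalization.AtPrime.ringKrullDim_eq_height q.asIdeal Aq
  have hone : ringKrullDim (Aq ⧸ p'.asIdeal) = 1 := ringKrullDim_quotient_map_of_covBy hpq
  rw [hht, hdimq, hone] at hf
  have : ((p.asIdeal.height + 1 : ℕ∞) : WithBot ℕ∞) = ((q.asIdeal.height : ℕ∞) : WithBot ℕ∞) := by
    rw [← hf]; rfl
  exact (WithBot.coe_injective this).symm

/-- A Noetherian local ring carrying a finite CM module with full support is catenary. -/
theorem isCatenary_of_isCM (hM : LocCoh.IsCohenMacaulayModule A M)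
    (hsupp : Module.support A M = Set.univ) : CAlg.IsCatenary A :=
  isCatenary_of_height_covBy A fun _ _ hpq => height_eq_of_covBy hM hsupp hpq

/-- every maximal chain of primes has length `dim A` -/
theorem length_eq_ringKrullDim_of_saturated (hM : LocCoh.IsCohenMacaulayModule A M)
    (hsupp : Module.support A M = Set.univ) (s : LTSeries (PrimeSpectrum A))
    (hhead : s.head.asIdeal ∈ minimalPrimes A) (hlast : s.last.asIdeal = maximalIdeal A)
    (hsat : ∀ i : Fin s.length, s (Fin.castSucc i) ⋖ s (Fin.succ i)) :
    (s.length : WithBot ℕ∞) = ringKrullDim A := by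
  have h1 := height_eq_of_saturated (fun _ _ hpq => height_eq_of_covBy hM hsupp hpq) s hsat
    (Fin.last _)
  have h0 : s.head.asIdeal.height = 0 := Ideal.height_eq_zero_iff.mpr hhead
  have e1 : (s (Fin.last _)).asIdeal = maximalIdeal A := hlast
  rw [h0, zero_add, e1, Fin.val_last] at h1
  rw [← IsLocalRing.maximalIdeal_height_eq_ringKrullDim, h1]
  rfl

end Local2

end Groth.Agent.Lib.Helper12.CMCat
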