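import Mathlib
import Groth.Agent.Lib.Helper21.FibreBCAlg
import Groth.Agent.Lib.Helper21.CMFibKit

/-!
# Polynomial rings over Cohen–Macaulay rings are Cohen–Macaulay
-/

set_option autoImplicit false
universe u
open IsLocalRing Module Polynomial TensorProduct

namespace Groth.Agent.Lib.Helper12.CMCat

open Groth.Agent.Lib.Helper21 Groth.Agent.Lib.Helper21.CMKit Groth.Agent.Lib.Helper21.CMFibKit
open Groth.Agent.Lib.Helper21.FlatLocal Groth.Agent.Lib.Helper21.FibreBCAlg

/-- the fibre rings of `A → A[X]` are Cohen–Macaulay -/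
theorem isCM_fiber_polynomial (A : Type u) [CommRing A] [IsNoetherianRing A] (p : Ideal A)
    [p.IsPrime] : LocCoh.IsCohenMacaulayRing (p.Fiber A[X]) := by
  haveI := isNoetherianRing_fiber (R := A) (S := A[X]) p
  have h1 : LocCoh.IsCohenMacaulayRing (p.ResidueField)[X] := isCM_of_isRegularRing _
  exact isCM_of_ringEquiv (polyEquivTensor' A p.ResidueField).toRingEquiv h1

/-- **A Cohen–Macaulay ring has Cohen–Macaulay polynomial ring.** -/
theorem isCM_polynomial (A : Type u) [CommRing A] (h : LocCoh.IsCohenMacaulayRing A) :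
    LocCoh.IsCohenMacaulayRing A[X] := by
  haveI : IsNoetherianRing A := by haveI := h; infer_instance
  refine { isCohenMacaulayLocalRing_localization := fun r hr => ?_ }
  obtain ⟨Q, hQ, hr'⟩ := exists_fiber_prime (r.under A) r rfl
  have hfibCM := isCM_fiber_polynomial A (r.under A)
  have hfib : LocCoh.IsCohenMacaulayModule (Localization.AtPrime r)
      (EGA4.FibLocMod A A[X] r A[X]) :=
    (isCM_fiber_loc_iff (r.under A) Q r hr').1 (hfibCM.isCohenMacaulayLocalRing_localization Q)
  have hcd := codepth_eq_of_CM_fibres (A := A) (B := A[X]) r hfib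
  exact (isCMLocal_iff_of_codepth_eq hcd).2 (h.isCohenMacaulayLocalRing_localization _)

/-- multivariate version -/
theorem isCM_mvPolynomial (A : Type u) [CommRing A] (h : LocCoh.IsCohenMacaulayRing A) (n : ℕ) :
    LocCoh.IsCohenMacaulayRing (MvPolynomial (Fin n) A) := by
  haveI : IsNoetherianRing A := by haveI := h; infer_instance
  induction n with
  | zero => exact isCM_of_ringEquiv (MvPolynomial.isEmptyRingEquiv A (Fin 0)).symm h
  | succ n ih =>
    have h1 := isCM_polynomial _ ih
    exact isCM_of_ringEquiv (MvPolynomial.finSuccEquiv A n).symm.toRingEquiv h1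

end Groth.Agent.Lib.Helper12.CMCat
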