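import Mathlib
import Groth.Agent.Lib.Helper12.CMCatA
import Groth.Agent.Lib.Helper12.CMCatB
import Groth.Agent.Lib.lead.DimFormulaLoc
import Groth.Agent.S0552
import Groth.Agent.S9125

/-!
# Cohen–Macaulay rings are universally catenary
-/

set_option autoImplicit false
universe u
open IsLocalRing Module

namespace Groth.Agent.Lib.Helper12.CMCat

theorem support_self_eq_univ (R : Type u) [CommRing R] : Module.support R R = Set.univ := by
  rw [Module.support_of_algebra]
  have : RingHom.ker (algebraMap R R) = ⊥ := by
    rw [RingHom.ker_eq_bot_iff_eq_zero]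
    intro x hx
    simpa using hx
  rw [this]
  simp

/-- a Cohen–Macaulay local ring is catenary, and `ht p + dim A/p = dim A` -/
theorem isCatenary_of_isCMLocalRing (A : Type u) [CommRing A]
    [h : LocCoh.IsCohenMacaulayLocalRing A] : CAlg.IsCatenary A :=
  isCatenary_of_isCM (M := A) h.supportDim_eq_depth (support_self_eq_univ A)

theorem height_add_dim_eq_of_isCMLocalRing (A : Type u) [CommRing A]
    [h : LocCoh.IsCohenMacaulayLocalRing A] (p : PrimeSpectrum A) :
    ((p.asIdeal.height : ℕ∞) : WithBot ℕ∞) + ringKrullDim (A ⧸ p.asIdeal) = ringKrullDim A :=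
  height_add_dim_eq (M := A) h.supportDim_eq_depth (support_self_eq_univ A) p

/-- a Cohen–Macaulay ring is catenary -/
theorem isCatenary_of_isCMRing (T : Type u) [CommRing T] (h : LocCoh.IsCohenMacaulayRing T) :
    CAlg.IsCatenary T := by
  rw [Groth.Agent.S0552.result]
  intro m hm
  haveI := h.isCohenMacaulayLocalRing_localization m
  exact isCatenary_of_isCMLocalRing _

/-- **a Cohen–Macaulay ring is universally catenary** -/
theorem isUniversallyCatenary_of_isCMRing (R : Type u) [CommRing R]
    (h : LocCoh.IsCohenMacaulayRing R) : CAlg.IsUniversallyCatenary R := by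
  haveI : IsNoetherianRing R := by haveI := h; infer_instance
  refine ⟨inferInstance, fun S _ _ hS => ?_⟩
  obtain ⟨n, f, hf⟩ := Algebra.FiniteType.iff_quotient_mvPolynomial''.mp hS
  have h1 := isCatenary_of_isCMRing _ (isCM_mvPolynomial R h n)
  have h2 := Groth.Agent.S9125.result _ (RingHom.ker f.toRingHom) h1
  exact Groth.Agent.Lib.lead.DimFormulaLoc.isCatenary_of_ringEquiv
    (RingHom.quotientKerEquivOfSurjective hf) h2

end Groth.Agent.Lib.Helper12.CMCat
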