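import Mathlib
import Groth.Agent.Lib.Helper12.CMCatC
import Groth.Agent.S2604
import Groth.Agent.S5752
import Groth.Agent.Lib.Helper17.UnramBaseChange
import Groth.Agent.Lib.helper19.CompletionNoetherian

/-!
# Completion of a Cohen–Macaulay module; formal equidimensionality
-/

set_option autoImplicit false
universe u
open IsLocalRing Module TensorProduct

namespace Groth.Agent.Lib.Helper12.CMCat

/-- over a local ring whose maximal ideal is zero every nonzero finite module is CM -/
theorem isCM_of_maximalIdeal_eq_bot (F : Type u) [CommRing F] [IsLocalRing F]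
    [IsNoetherianRing F] (hF : maximalIdeal F = ⊥) (V : Type u) [AddCommGroup V] [Module F V]
    [Module.Finite F V] [Nontrivial V] : LocCoh.IsCohenMacaulayModule F V := by
  unfold LocCoh.IsCohenMacaulayModule
  have hd : LocCoh.depth F V = 0 := by
    rw [Groth.Agent.S5752.result]
    obtain ⟨v, hv⟩ := exists_ne (0 : V)
    rw [AssociatedPrimes.mem_iff, isAssociatedPrime_iff]
    refine ⟨inferInstance, v, ?_⟩
    rw [hF]
    refine le_antisymm bot_le ?_
    intro r hr
    rw [Submodule.mem_colon_singleton, Submodule.mem_bot] at hr
    rw [Ideal.mem_bot]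
    by_contra hr0
    have hu : IsUnit r := by
      by_contra hnu
      have : r ∈ maximalIdeal F := (IsLocalRing.mem_maximalIdeal r).mpr hnu
      rw [hF, Ideal.mem_bot] at this
      exact hr0 this
    apply hv
    have := congrArg (fun w => (hu.unit⁻¹ : Fˣ) • w) hr
    simpa [Units.smul_def, smul_smul] using this
  have hdim : supportDim F V = 0 := by
    have h1 : supportDim F V ≤ 0 := by
      refine (supportDim_le_ringKrullDim F V).trans ?_
      have hf : IsField F := IsLocalRing.isField_iff_maximalIdeal_eq.mpr hF
      exact (ringKrullDim_eq_zero_of_isField hf).le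
    have h2 : supportDim F V ≠ ⊥ := supportDim_ne_bot_of_nontrivial F V
    obtain ⟨n, hn⟩ := WithBot.ne_bot_iff_exists.mp h2
    rw [← hn] at h1 ⊢
    have : n ≤ 0 := by exact_mod_cast h1
    have : n = 0 := le_antisymm this bot_le
    rw [this]
    rfl
  rw [hd, hdim]
  rfl

section Cpl

variable (A : Type u) [CommRing A] [IsLocalRing A] [IsNoetherianRing A]
  (M : Type u) [AddCommGroup M] [Module A M] [Module.Finite A M]

instance isNoetherianRing_cpl : IsNoetherianRing (AdicCompletion (maximalIdeal A) A) :=
  Groth.Agent.Lib.helper19.isNoetherianRing_adicCompletion A _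

instance flat_cpl : Module.Flat A (AdicCompletion (maximalIdeal A) A) :=
  AdicCompletion.flat_of_isNoetherian _

theorem maximalIdeal_fibRing_cpl :
    maximalIdeal (EGA4.FibRing A (AdicCompletion (maximalIdeal A) A)) = ⊥ := by
  rw [← IsLocalRing.isField_iff_maximalIdeal_eq]
  have hmax : (EGA4.mB A (AdicCompletion (maximalIdeal A) A)).IsMaximal := by
    unfold EGA4.mB
    rw [← AdicCompletion.maximalIdeal_eq_map]
    infer_instance
  exact (Ideal.Quotient.maximal_ideal_iff_isField_quotient _).mp hmax

/-- the completion of a CM module is CM -/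
theorem isCM_baseChange_cpl (hM : LocCoh.IsCohenMacaulayModule A M) :
    LocCoh.IsCohenMacaulayModule (AdicCompletion (maximalIdeal A) A)
      (AdicCompletion (maximalIdeal A) A ⊗[A] M) := by
  haveI : Nontrivial M := Groth.Agent.Lib.Helper21.DepthKit.nontrivial_of_isCM hM
  refine (Groth.Agent.S2604.result A (AdicCompletion (maximalIdeal A) A) M
    (AdicCompletion (maximalIdeal A) A)).mpr ⟨hM, ?_⟩
  haveI : Nontrivial (EGA4.FibMod A (AdicCompletion (maximalIdeal A) A)
      (AdicCompletion (maximalIdeal A) A)) :=
    Groth.Agent.Lib.Helper21.FlatLocal.nontrivial_fibre (R := A)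
      (S := AdicCompletion (maximalIdeal A) A) (AdicCompletion (maximalIdeal A) A)
  haveI : Module.Finite (EGA4.FibRing A (AdicCompletion (maximalIdeal A) A))
      (EGA4.FibMod A (AdicCompletion (maximalIdeal A) A) (AdicCompletion (maximalIdeal A) A)) :=
    Module.Finite.of_restrictScalars_finite (AdicCompletion (maximalIdeal A) A) _ _
  exact isCM_of_maximalIdeal_eq_bot _ (maximalIdeal_fibRing_cpl A) _

theorem support_baseChange_cpl (hsupp : Module.support A M = Set.univ) :
    Module.support (AdicCompletion (maximalIdeal A) A)
      (AdicCompletion (maximalIdeal A) A ⊗[A] M) = Set.univ := by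
  rw [Set.eq_univ_iff_forall]
  intro q'
  exact Groth.Agent.Lib.Helper17.UnramBaseChange.mem_support_baseChange q'
    (by rw [hsupp]; trivial)

/-- **A Noetherian local ring with a finite CM module of full support is formally
equidimensional.** -/
theorem isFormallyEquidim_of_isCM (hM : LocCoh.IsCohenMacaulayModule A M)
    (hsupp : Module.support A M = Set.univ) : EGA4.IsFormallyEquidim A := by
  unfold EGA4.IsFormallyEquidim EGA4.IsEquidim
  intro P hP
  haveI : P.IsPrime := hP.1.1
  have h := height_add_dim_eq (isCM_baseChange_cpl A M hM) (support_baseChange_cpl A M hsupp)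
    ⟨P, inferInstance⟩
  have h0 : P.height = 0 := Ideal.height_eq_zero_iff.mpr hP
  simp only [h0] at h
  simpa using h

end Cpl

end Groth.Agent.Lib.Helper12.CMCat
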