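import Mathlib
import Groth.Agent.Lib.Helper12.CMCatD
import Groth.Agent.Lib.Helper12.HensFCC
import Groth.Agent.Lib.helper19.FlatHeight
import Groth.Agent.Lib.helper19.CompletionLocal
import Groth.Agent.Lib.Helper5.ComplIso

/-!
# Formal equidimensionality of quotients; quotients of CM rings are formally catenary
-/

set_option autoImplicit false
universe u
open IsLocalRing Module

namespace Groth.Agent.Lib.Helper12.CMCat

open Groth.Agent.Lib.Helper12.HensFC

theorem comap_maximalIdeal_ringEquiv {R S : Type u} [CommRing R] [CommRing S] [IsLocalRing R]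
    [IsLocalRing S] (e : R ≃+* S) : (maximalIdeal S).comap (e : R →+* S) = maximalIdeal R := by
  ext x
  rw [Ideal.mem_comap, IsLocalRing.mem_maximalIdeal, IsLocalRing.mem_maximalIdeal, mem_nonunits_iff,
    mem_nonunits_iff]
  change ¬ IsUnit (e x) ↔ _
  rw [isUnit_map_iff]

/-- the completion of a local ring only depends on the ring up to isomorphism -/
theorem nonempty_cpl_ringEquiv {R S : Type u} [CommRing R] [CommRing S] [IsLocalRing R]
    [IsLocalRing S] (e : R ≃+* S) :
    Nonempty (AdicCompletion (maximalIdeal R) R ≃+* AdicCompletion (maximalIdeal S) S) := by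
  letI : Algebra R S := (e : R →+* S).toAlgebra
  have h1 : ∀ n, maximalIdeal R ^ n ≤ (maximalIdeal S ^ n).comap (e : R →+* S) := by
    intro n
    rw [← comap_maximalIdeal_ringEquiv e]
    exact Ideal.le_comap_pow _ n
  have h2 : ∀ n, maximalIdeal S ^ n ≤ (maximalIdeal R ^ n).comap (e.symm : S →+* R) := by
    intro n
    rw [← comap_maximalIdeal_ringEquiv e.symm]
    exact Ideal.le_comap_pow _ n
  obtain ⟨E⟩ := Groth.Agent.Lib.Helper5.ComplIso.complEquiv (R := R) (Algebra.ofId R S)
    (maximalIdeal R) (maximalIdeal S) h1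
    (fun n p hp => by
      have := h2 n hp
      rw [Ideal.mem_comap] at this
      have e1 : (e.symm : S →+* R) ((Algebra.ofId R S) p) = p := e.symm_apply_apply p
      rwa [e1] at this)
    (fun n s => ⟨e.symm s, by
      have e1 : (Algebra.ofId R S) (e.symm s) = s := e.apply_symm_apply s
      rw [e1, sub_self]; exact Ideal.zero_mem _⟩)
  exact ⟨E.toRingEquiv⟩

theorem isFormallyEquidim_of_ringEquiv {R S : Type u} [CommRing R] [CommRing S] [IsLocalRing R]
    [IsLocalRing S] (e : R ≃+* S) (h : EGA4.IsFormallyEquidim R) : EGA4.IsFormallyEquidim S := by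
  obtain ⟨E⟩ := nonempty_cpl_ringEquiv e
  exact isEquidim_of_ringEquiv E h

section Quot

variable (R : Type u) [CommRing R] [IsLocalRing R] [IsNoetherianRing R]

/-- the completion of `R/J` is `R̂/J R̂` -/
theorem nonempty_cpl_quotient_equiv (J : Ideal R) [IsLocalRing (R ⧸ J)] :
    Nonempty (AdicCompletion (maximalIdeal (R ⧸ J)) (R ⧸ J) ≃+*
      (AdicCompletion (maximalIdeal R) R ⧸
        J.map (algebraMap R (AdicCompletion (maximalIdeal R) R)))) := by
  obtain ⟨hm, hi, hs⟩ := level_hat R
  obtain ⟨_, h⟩ := nonempty_complEquiv_quotient R (AdicCompletion (maximalIdeal R) R)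
    (algebraMap R (AdicCompletion (maximalIdeal R) R)) hm hi hs J
  exact h

theorem isFormallyEquidim_quotient_iff (J : Ideal R) [IsLocalRing (R ⧸ J)] :
    EGA4.IsFormallyEquidim (R ⧸ J) ↔
      EquidimOver (J.map (algebraMap R (AdicCompletion (maximalIdeal R) R))) := by
  obtain ⟨e⟩ := nonempty_cpl_quotient_equiv R J
  rw [← isEquidim_quotient_iff]
  exact ⟨fun h => isEquidim_of_ringEquiv e h, fun h => isEquidim_of_ringEquiv e.symm h⟩

theorem ringKrullDim_cpl_quotient (J : Ideal R) [IsLocalRing (R ⧸ J)] :
    ringKrullDim (AdicCompletion (maximalIdeal R) R ⧸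
        J.map (algebraMap R (AdicCompletion (maximalIdeal R) R))) = ringKrullDim (R ⧸ J) := by
  obtain ⟨e⟩ := nonempty_cpl_quotient_equiv R J
  rw [← ringKrullDim_eq_of_ringEquiv e]
  exact Groth.Agent.Lib.helper19.ringKrullDim_adicCompletion_eq_of_isNoetherianRing (R ⧸ J)

end Quot

theorem withBot_enat_add_left_cancel {a : ℕ} {x y : WithBot ℕ∞}
    (h : ((a : ℕ∞) : WithBot ℕ∞) + x = ((a : ℕ∞) : WithBot ℕ∞) + y) : x = y := by
  induction x using WithBot.recBotCoe with
  | bot =>
    induction y using WithBot.recBotCoe with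
    | bot => rfl
    | coe y =>
      rw [WithBot.add_bot, ← WithBot.coe_add] at h
      exact absurd h.symm WithBot.coe_ne_bot
  | coe x =>
    induction y using WithBot.recBotCoe with
    | bot =>
      rw [WithBot.add_bot, ← WithBot.coe_add] at h
      exact absurd h WithBot.coe_ne_bot
    | coe y =>
      rw [← WithBot.coe_add, ← WithBot.coe_add, WithBot.coe_inj] at h
      congr 1
      exact (ENat.add_right_injective_of_ne_top (ENat.coe_ne_top a)) h

section CM

variable (A : Type u) [CommRing A] [IsLocalRing A] [IsNoetherianRing A]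
  (M : Type u) [AddCommGroup M] [Module A M] [Module.Finite A M]

/-- for a ring with a finite CM module of full support, the minimal primes `Q` of `P Â` all
satisfy `dim Â/Q = dim A/P`. -/
theorem ringKrullDim_quotient_minimalPrime_cpl (hM : LocCoh.IsCohenMacaulayModule A M)
    (hsupp : Module.support A M = Set.univ) (P : Ideal A) [P.IsPrime]
    (Q : Ideal (AdicCompletion (maximalIdeal A) A))
    (hQ : Q ∈ (P.map (algebraMap A (AdicCompletion (maximalIdeal A) A))).minimalPrimes) :
    ringKrullDim (AdicCompletion (maximalIdeal A) A ⧸ Q) = ringKrullDim (A ⧸ P) := by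
  haveI : Q.IsPrime := hQ.1.1
  haveI := Groth.Agent.Lib.Helper19.FlatHeight.liesOver_of_mem_minimalPrimes A
    (AdicCompletion (maximalIdeal A) A) P Q hQ
  have hht := Groth.Agent.Lib.Helper19.FlatHeight.height_eq_of_mem_minimalPrimes A
    (AdicCompletion (maximalIdeal A) A) P Q hQ
  have h1 := height_add_dim_eq (isCM_baseChange_cpl A M hM) (support_baseChange_cpl A M hsupp)
    ⟨Q, inferInstance⟩
  have h2 := height_add_dim_eq hM hsupp ⟨P, inferInstance⟩
  have h3 := Groth.Agent.Lib.helper19.ringKrullDim_adicCompletion_eq_of_isNoetherianRing A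
  simp only at h1 h2
  rw [hht, h3, ← h2] at h1
  obtain ⟨n, hn⟩ := ENat.ne_top_iff_exists.mp (Ideal.height_lt_top (I := P) ‹P.IsPrime›.ne_top).ne
  rw [← hn] at h1
  exact withBot_enat_add_left_cancel h1

/-- **a local ring carrying a finite CM module of full support is formally catenary** -/
theorem isFormallyCatenary_of_isCM (hM : LocCoh.IsCohenMacaulayModule A M)
    (hsupp : Module.support A M = Set.univ) : EGA4.IsFormallyCatenary A := by
  intro P _
  rw [isFormallyEquidim_quotient_iff]
  intro Q hQ
  rw [ringKrullDim_quotient_minimalPrime_cpl A M hM hsupp P Q hQ, ringKrullDim_cpl_quotient]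

end CM

/-- formal catenarity passes to quotients -/
theorem isFormallyCatenary_of_surjective {A B : Type u} [CommRing A] [CommRing B] [IsLocalRing A]
    [IsLocalRing B] (f : A →+* B) (hf : Function.Surjective f) (hA : EGA4.IsFormallyCatenary A) :
    EGA4.IsFormallyCatenary B := by
  intro p _
  haveI : (p.comap f).IsPrime := Ideal.comap_isPrime f p
  let g : A ⧸ p.comap f →+* B ⧸ p := Ideal.quotientMap p f le_rfl
  let e : A ⧸ p.comap f ≃+* B ⧸ p :=
    RingEquiv.ofBijective g ⟨Ideal.quotientMap_injective, Ideal.quotientMap_surjective hf⟩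
  exact isFormallyEquidim_of_ringEquiv e (hA (p.comap f))

end Groth.Agent.Lib.Helper12.CMCat
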