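import Mathlib
import Groth.Agent.Lib.Helper12.BrnchDimF
import Groth.Agent.Lib.Helper12.CMCatE

/-!
# One-dimensional irreducible components of a henselian local ring and of its completion
(towards S16578)
-/

set_option autoImplicit false
set_option linter.style.haveILetI false
universe u

namespace Groth.Agent.Lib.Helper12.ImmGen

open IsLocalRing

/-- `R` has an irreducible component of dimension one -/
def H1 (R : Type u) [CommRing R] : Prop :=
  ∃ P ∈ minimalPrimes R, ringKrullDim (R ⧸ P) = 1

theorem ringKrullDim_quotient_radical {R : Type u} [CommRing R] (I : Ideal R) :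
    ringKrullDim (R ⧸ I.radical) = ringKrullDim (R ⧸ I) := by
  rw [ringKrullDim_quotient, ringKrullDim_quotient, PrimeSpectrum.zeroLocus_radical]

/-- `dim R/P = 1` in terms of chains of primes -/
theorem dim_quotient_eq_one_iff {T : Type u} [CommRing T] [IsLocalRing T] (q : Ideal T)
    [hq : q.IsPrime] :
    ringKrullDim (T ⧸ q) = 1 ↔
      ((∀ P : Ideal T, P.IsPrime → q ≤ P → P = q ∨ P = maximalIdeal T) ∧ q ≠ maximalIdeal T) := by
  have hsurj : Function.Surjective (Ideal.Quotient.mk q) := Ideal.Quotient.mk_surjective
  constructor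
  · intro hdim
    refine ⟨fun P hP hle => ?_, fun h => ?_⟩
    · haveI := hP
      by_cases hPq : P = q
      · exact Or.inl hPq
      · right
        haveI : Ring.KrullDimLE 1 (T ⧸ q) :=
          Ring.krullDimLE_iff.mpr (by rw [hdim]; exact le_refl _)
        have hker : RingHom.ker (Ideal.Quotient.mk q) ≤ P := by
          rw [Ideal.mk_ker]
          exact hle
        have hcm : (P.map (Ideal.Quotient.mk q)).comap (Ideal.Quotient.mk q) = P := by
          rw [Ideal.comap_map_of_surjective _ hsurj, ← RingHom.ker_eq_comap_bot]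
          exact sup_eq_left.mpr hker
        have hprime : (P.map (Ideal.Quotient.mk q)).IsPrime :=
          Ideal.map_isPrime_of_surjective hsurj hker
        have hne : P.map (Ideal.Quotient.mk q) ≠ ⊥ := by
          intro h0
          apply hPq
          rw [← hcm, h0, ← RingHom.ker_eq_comap_bot, Ideal.mk_ker]
        have hmax := Ring.krullDimLE_one_iff_of_noZeroDivisors.mp inferInstance _ hne hprime
        have hPmax : P.IsMaximal := by
          rw [← hcm]
          exact Ideal.comap_isMaximal_of_surjective _ hsurj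
        exact IsLocalRing.eq_maximalIdeal hPmax
    · have hmax : q.IsMaximal := h ▸ IsLocalRing.maximalIdeal.isMaximal _
      have hfield := (Ideal.Quotient.maximal_ideal_iff_isField_quotient q).mp hmax
      rw [ringKrullDim_eq_zero_of_isField hfield] at hdim
      exact zero_ne_one hdim
  · rintro ⟨hch, hne⟩
    have h1 : Ring.KrullDimLE 1 (T ⧸ q) := by
      rw [Ring.krullDimLE_one_iff_of_noZeroDivisors]
      intro I hI hIprime
      haveI := hIprime
      have hle : q ≤ I.comap (Ideal.Quotient.mk q) := by
        intro x hx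
        rw [Ideal.mem_comap, Ideal.Quotient.eq_zero_iff_mem.mpr hx]
        exact I.zero_mem
      rcases hch _ (Ideal.comap_isPrime _ _) hle with h | h
      · exfalso
        apply hI
        rw [← Ideal.map_comap_of_surjective _ hsurj I, h, Ideal.map_quotient_self]
      · have : (I.comap (Ideal.Quotient.mk q)).IsMaximal := h ▸ maximalIdeal.isMaximal T
        rw [← Ideal.map_comap_of_surjective _ hsurj I]
        exact Ideal.IsMaximal.map_of_surjective_of_ker_le hsurj (by rw [Ideal.mk_ker]; exact hle)
    have h2 : ¬ Ring.KrullDimLE 0 (T ⧸ q) := by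
      intro h0
      apply hne
      have hbotmax : (⊥ : Ideal (T ⧸ q)).IsMaximal :=
        Ring.krullDimLE_zero_iff.mp h0 ⊥ Ideal.isPrime_bot
      have hcomap : (⊥ : Ideal (T ⧸ q)).comap (Ideal.Quotient.mk q) = q := by
        rw [← RingHom.ker_eq_comap_bot, Ideal.mk_ker]
      have : q.IsMaximal := hcomap ▸ Ideal.comap_isMaximal_of_surjective _ hsurj
      exact IsLocalRing.eq_maximalIdeal this
    have h1' : ringKrullDim (T ⧸ q) ≤ 1 := Ring.krullDimLE_iff.mp h1
    have h2' : ¬ ringKrullDim (T ⧸ q) ≤ 0 := fun h => h2 (Ring.krullDimLE_iff.mpr h)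
    refine le_antisymm h1' ?_
    by_contra hlt
    apply h2'
    push_neg at hlt
    have hnn : (0 : WithBot ℕ∞) ≤ ringKrullDim (T ⧸ q) := ringKrullDim_nonneg_of_nontrivial
    revert hlt hnn h2'
    generalize ringKrullDim (T ⧸ q) = x
    intro h2' hlt hnn
    induction x using WithBot.recBotCoe with
    | bot => exact bot_le
    | coe x =>
      have hx1 : x < 1 := by exact_mod_cast hlt
      have hx0 : x = 0 := ENat.lt_one_iff_eq_zero.mp hx1
      rw [hx0]
      rfl

theorem H1_of_ringEquiv {R R' : Type u} [CommRing R] [CommRing R'] (e : R ≃+* R') (h : H1 R) :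
    H1 R' := by
  obtain ⟨P, hP, hdim⟩ := h
  haveI : P.IsPrime := hP.1.1
  refine ⟨P.map (e : R →+* R'), ?_, ?_⟩
  · have hmapcomap : P.map (e : R →+* R') = P.comap (e.symm : R' →+* R) :=
      Ideal.map_comap_of_equiv e
    rw [hmapcomap]
    refine ⟨⟨Ideal.comap_isPrime _ _, bot_le⟩, ?_⟩
    intro Q hQ hle
    haveI := hQ.1
    have h1 : Q.comap (e : R →+* R') ≤ P := by
      intro x hx
      have := hle hx
      rw [Ideal.mem_comap] at this
      have h2 : (e.symm : R' →+* R) ((e : R →+* R') x) = x := e.symm_apply_apply x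
      rwa [h2] at this
    have h3 : P ≤ Q.comap (e : R →+* R') := hP.2 ⟨Ideal.comap_isPrime _ _, bot_le⟩ h1
    intro y hy
    rw [Ideal.mem_comap] at hy
    have := h3 hy
    rw [Ideal.mem_comap] at this
    have h2 : (e : R →+* R') ((e.symm : R' →+* R) y) = y := e.apply_symm_apply y
    rwa [h2] at this
  · rw [← hdim]
    exact (ringKrullDim_eq_of_ringEquiv (Ideal.quotientEquiv P (P.map (e : R →+* R')) e rfl)).symm

section Hens

variable (R : Type u) [CommRing R] [HenselianLocalRing R] [IsNoetherianRing R]

/-- F1: a Noetherian henselian local ring has a one-dimensional component iff its completion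
does -/
theorem H1_completion_iff : H1 (AdicCompletion (maximalIdeal R) R) ↔ H1 R := by
  haveI : Module.FaithfullyFlat R (AdicCompletion (maximalIdeal R) R) :=
    Module.FaithfullyFlat.of_flat_of_isLocalHom
  have hflat : (algebraMap R (AdicCompletion (maximalIdeal R) R)).Flat :=
    RingHom.flat_algebraMap_iff.mpr inferInstance
  obtain ⟨hmaps, -⟩ := HensCompl.minimalPrimes_mapsTo_surjOn
    (algebraMap R (AdicCompletion (maximalIdeal R) R)) hflat
    PrimeSpectrum.comap_surjective_of_faithfullyFlat
  constructor
  · rintro ⟨q, hq, hdim⟩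
    haveI : q.IsPrime := hq.1.1
    obtain ⟨h1, h2⟩ := (dim_quotient_eq_one_iff q).mp hdim
    have h3 := BrnchDim.radical_map_comap_eq
      (fun N y => Henselization.exists_sub_algebraMap_mem N y) hq h1 h2
    have hP := hmaps hq
    refine ⟨q.comap (algebraMap R (AdicCompletion (maximalIdeal R) R)), hP, ?_⟩
    haveI : (q.comap (algebraMap R (AdicCompletion (maximalIdeal R) R))).IsPrime := hP.1.1
    haveI : IsLocalRing (R ⧸ q.comap (algebraMap R (AdicCompletion (maximalIdeal R) R))) :=
      IsLocalRing.of_surjective' (Ideal.Quotient.mk _) Ideal.Quotient.mk_surjective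
    rw [← CMCat.ringKrullDim_cpl_quotient R, ← ringKrullDim_quotient_radical, h3, hdim]
  · rintro ⟨P, hP, hdim⟩
    haveI hPprime : P.IsPrime := hP.1.1
    haveI : IsLocalRing (R ⧸ P) :=
      IsLocalRing.of_surjective' (Ideal.Quotient.mk _) Ideal.Quotient.mk_surjective
    have hne : P.map (algebraMap R (AdicCompletion (maximalIdeal R) R)) ≠ ⊤ := by
      intro h
      have h1 : P.map (algebraMap R (AdicCompletion (maximalIdeal R) R)) ≤
          maximalIdeal (AdicCompletion (maximalIdeal R) R) := by
        rw [Ideal.map_le_iff_le_comap, IsLocalRing.maximalIdeal_comap]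
        exact IsLocalRing.le_maximalIdeal hPprime.ne_top
      rw [h] at h1
      exact (maximalIdeal.isMaximal _).ne_top (top_le_iff.mp h1)
    obtain ⟨q, hqmin⟩ := Ideal.nonempty_minimalPrimes hne
    obtain ⟨hq, hqP⟩ := BrnchRad.minimal_over_map _ hflat hP hqmin
    haveI hqprime : q.IsPrime := hq.1.1
    refine ⟨q, hq, ?_⟩
    have hdimP : ringKrullDim (AdicCompletion (maximalIdeal R) R ⧸
        P.map (algebraMap R (AdicCompletion (maximalIdeal R) R))) = 1 := by
      rw [CMCat.ringKrullDim_cpl_quotient R, hdim]
    have hle : ringKrullDim (AdicCompletion (maximalIdeal R) R ⧸ q) ≤ 1 := by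
      rw [← hdimP]
      exact ringKrullDim_le_of_surjective (Ideal.Quotient.factor hqmin.1.2)
        (Ideal.Quotient.factor_surjective hqmin.1.2)
    have hqne : q ≠ maximalIdeal (AdicCompletion (maximalIdeal R) R) := by
      intro h
      have h1 : P = maximalIdeal R := by
        rw [← hqP, h, IsLocalRing.maximalIdeal_comap]
      have hmax : P.IsMaximal := h1 ▸ maximalIdeal.isMaximal R
      have hfield := (Ideal.Quotient.maximal_ideal_iff_isField_quotient P).mp hmax
      rw [ringKrullDim_eq_zero_of_isField hfield] at hdim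
      exact zero_ne_one hdim
    -- `dim ≤ 1` and `q` not maximal
    rw [dim_quotient_eq_one_iff]
    refine ⟨fun P' hP' hle' => ?_, hqne⟩
    haveI := hP'
    by_cases hP'q : P' = q
    · exact Or.inl hP'q
    · right
      haveI : Ring.KrullDimLE 1 (AdicCompletion (maximalIdeal R) R ⧸ q) :=
        Ring.krullDimLE_iff.mpr hle
      have hsurj : Function.Surjective (Ideal.Quotient.mk q) := Ideal.Quotient.mk_surjective
      have hker : RingHom.ker (Ideal.Quotient.mk q) ≤ P' := by
        rw [Ideal.mk_ker]
        exact hle'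
      have hcm : (P'.map (Ideal.Quotient.mk q)).comap (Ideal.Quotient.mk q) = P' := by
        rw [Ideal.comap_map_of_surjective _ hsurj, ← RingHom.ker_eq_comap_bot]
        exact sup_eq_left.mpr hker
      have hprime : (P'.map (Ideal.Quotient.mk q)).IsPrime :=
        Ideal.map_isPrime_of_surjective hsurj hker
      have hne' : P'.map (Ideal.Quotient.mk q) ≠ ⊥ := by
        intro h0
        apply hP'q
        rw [← hcm, h0, ← RingHom.ker_eq_comap_bot, Ideal.mk_ker]
      have hmax := Ring.krullDimLE_one_iff_of_noZeroDivisors.mp inferInstance _ hne' hprime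
      have hPmax : P'.IsMaximal := by
        rw [← hcm]
        exact Ideal.comap_isMaximal_of_surjective _ hsurj
      exact IsLocalRing.eq_maximalIdeal hPmax

end Hens

end Groth.Agent.Lib.Helper12.ImmGen
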