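import Mathlib
import Groth.Agent.Lib.Helper12.ImmGenA
import Groth.Agent.S0547

/-!
# The `c₂` condition for a henselian local ring and its completion (towards S16575)
-/

set_option autoImplicit false
set_option linter.style.haveILetI false
universe u

namespace Groth.Agent.Lib.Helper12.C2

open IsLocalRing

/-- every irreducible component has dimension at least two -/
def C2 (R : Type u) [CommRing R] : Prop :=
  ∀ p ∈ minimalPrimes R, (2 : WithBot ℕ∞) ≤ ringKrullDim (R ⧸ p)

/-- some irreducible component has dimension zero -/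
def H0 (R : Type u) [CommRing R] : Prop :=
  ∃ P ∈ minimalPrimes R, ringKrullDim (R ⧸ P) = 0

theorem two_le_iff {x : WithBot ℕ∞} (h0 : 0 ≤ x) : 2 ≤ x ↔ x ≠ 0 ∧ x ≠ 1 := by
  induction x using WithBot.recBotCoe with
  | bot => exact absurd h0 (by simp)
  | coe n =>
    have e2 : ((2 : ℕ∞) : WithBot ℕ∞) = 2 := rfl
    have e1 : ((1 : ℕ∞) : WithBot ℕ∞) = 1 := rfl
    have e0 : ((0 : ℕ∞) : WithBot ℕ∞) = 0 := rfl
    rw [← e2, ← e1, ← e0, WithBot.coe_le_coe, Ne, Ne, WithBot.coe_inj, WithBot.coe_inj]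
    constructor
    · intro h
      constructor
      · rintro rfl
        simp at h
      · rintro rfl
        have : (2 : ℕ∞) ≤ 1 := h
        exact absurd this (by decide)
    · rintro ⟨h1, h2⟩
      have h3 : 1 ≤ n := ENat.one_le_iff_ne_zero.mpr h1
      have h4 : 1 < n := lt_of_le_of_ne h3 (Ne.symm h2)
      have h5 := Order.add_one_le_of_lt h4
      have e : (1 : ℕ∞) + 1 = 2 := one_add_one_eq_two
      rwa [e] at h5

theorem c2_iff_not (R : Type u) [CommRing R] : C2 R ↔ ¬ H0 R ∧ ¬ ImmGen.H1 R := by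
  constructor
  · intro h
    refine ⟨?_, ?_⟩
    · rintro ⟨P, hP, hdim⟩
      have := h P hP
      rw [hdim] at this
      exact absurd this (by decide)
    · rintro ⟨P, hP, hdim⟩
      have := h P hP
      rw [hdim] at this
      exact absurd this (by decide)
  · rintro ⟨h0, h1⟩ p hp
    haveI : p.IsPrime := hp.1.1
    have hnn : (0 : WithBot ℕ∞) ≤ ringKrullDim (R ⧸ p) := ringKrullDim_nonneg_of_nontrivial
    rw [two_le_iff hnn]
    exact ⟨fun h => h0 ⟨p, hp, h⟩, fun h => h1 ⟨p, hp, h⟩⟩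

theorem H0_iff (R : Type u) [CommRing R] [IsLocalRing R] : H0 R ↔ ringKrullDim R ≤ 0 := by
  have e0 : ringKrullDim R ≤ 0 ↔ Ring.KrullDimLE 0 R := by
    rw [Ring.krullDimLE_iff]
    rfl
  rw [e0, Ring.krullDimLE_zero_iff]
  constructor
  · rintro ⟨P, hP, hdim⟩ I hI
    haveI : P.IsPrime := hP.1.1
    have hfield : IsField (R ⧸ P) := by
      haveI : Ring.KrullDimLE 0 (R ⧸ P) := Ring.krullDimLE_iff.mpr (le_of_eq hdim)
      exact Ring.KrullDimLE.isField_of_isDomain
    have hPmax : P.IsMaximal := (Ideal.Quotient.maximal_ideal_iff_isField_quotient P).mpr hfield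
    have hPm : P = maximalIdeal R := IsLocalRing.eq_maximalIdeal hPmax
    have hIle : I ≤ P := hPm ▸ IsLocalRing.le_maximalIdeal hI.ne_top
    have : P ≤ I := hP.2 ⟨hI, bot_le⟩ hIle
    have hIP : I = P := le_antisymm hIle this
    rw [hIP]
    exact hPmax
  · intro h
    refine ⟨maximalIdeal R, ⟨⟨inferInstance, bot_le⟩, fun Q hQ hle => ?_⟩, ?_⟩
    · have hQmax := h Q hQ.1
      rw [IsLocalRing.eq_maximalIdeal hQmax]
    · exact ringKrullDim_eq_zero_of_isField
        ((Ideal.Quotient.maximal_ideal_iff_isField_quotient _).mp (maximalIdeal.isMaximal R))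

theorem H0_of_ringEquiv {R R' : Type u} [CommRing R] [CommRing R'] (e : R ≃+* R') (h : H0 R) :
    H0 R' := by
  obtain ⟨P, hP, hdim⟩ := h
  haveI : P.IsPrime := hP.1.1
  refine ⟨P.map (e : R →+* R'), ?_, ?_⟩
  · have hmapcomap : P.map (e : R →+* R') = P.comap (e.symm : R' →+* R) :=
      Ideal.map_comap_of_equiv e
    rw [hmapcomap]
    refine ⟨⟨Ideal.comap_isPrime _ _, bot_le⟩, ?_⟩
    intro Q hQ hle
    haveI := hQ.1
    have h1 : Q.comap (e : R →+* R') ≤ P := by
      intro x hx
      have := hle hx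
      rw [Ideal.mem_comap] at this
      have h2 : (e.symm : R' →+* R) ((e : R →+* R') x) = x := e.symm_apply_apply x
      rwa [h2] at this
    have h3 : P ≤ Q.comap (e : R →+* R') := hP.2 ⟨Ideal.comap_isPrime _ _, bot_le⟩ h1
    intro y hy
    rw [Ideal.mem_comap] at hy
    have := h3 hy
    rw [Ideal.mem_comap] at this
    have h2 : (e : R →+* R') ((e.symm : R' →+* R) y) = y := e.apply_symm_apply y
    rwa [h2] at this
  · rw [← hdim]
    exact (ringKrullDim_eq_of_ringEquiv (Ideal.quotientEquiv P (P.map (e : R →+* R')) e rfl)).symm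

theorem C2_of_ringEquiv {R R' : Type u} [CommRing R] [CommRing R'] (e : R ≃+* R') (h : C2 R) :
    C2 R' := by
  rw [c2_iff_not] at h ⊢
  exact ⟨fun h0 => h.1 (H0_of_ringEquiv e.symm h0), fun h1 => h.2 (ImmGen.H1_of_ringEquiv e.symm h1)⟩

theorem C2_iff_of_ringEquiv {R R' : Type u} [CommRing R] [CommRing R'] (e : R ≃+* R') :
    C2 R ↔ C2 R' :=
  ⟨C2_of_ringEquiv e, C2_of_ringEquiv e.symm⟩

/-- a Noetherian henselian local ring is `c₂` iff its completion is -/
theorem C2_completion_iff (R : Type u) [CommRing R] [HenselianLocalRing R] [IsNoetherianRing R] :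
    C2 (AdicCompletion (maximalIdeal R) R) ↔ C2 R := by
  rw [c2_iff_not, c2_iff_not, ImmGen.H1_completion_iff, H0_iff, H0_iff,
    Groth.Agent.S0547.result R]

end Groth.Agent.Lib.Helper12.C2
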