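import Groth.Agent.Lib.Helper12.DepthExchange
import Mathlib.RingTheory.Flat.FaithfullyFlat.Algebra

set_option autoImplicit false
universe u

/-!
# Depth along faithfully flat local maps with `m_A B = m_B`
-/

namespace Groth.Agent.Lib.Helper12

open IsLocalRing RingTheory.Sequence

/-- The supremum of the lengths of weakly regular sequences in `I`. -/
noncomputable def regDepth {R : Type*} [CommRing R] (I : Ideal R) (M : Type*) [AddCommGroup M]
    [Module R M] : ℕ∞ :=
  ⨆ (rs : List R) (_ : IsWeaklyRegular M rs ∧ ∀ r ∈ rs, r ∈ I), (rs.length : ℕ∞)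

theorem smul_top_eq_self {R : Type*} [CommRing R] (I : Ideal R) :
    (I • ⊤ : Submodule R R) = I := by
  rw [smul_eq_mul, Ideal.mul_top]

section

variable {A : Type u} [CommRing A] [IsLocalRing A] [IsNoetherianRing A]

/-- If no element of the maximal ideal is regular on `A / (rs)`, then `A / (rs)` has a nonzero
element killed by the maximal ideal. -/
theorem exists_socle_of_forall_not_isSMulRegular (rs : List A)
    (hmax : ∀ y ∈ maximalIdeal A,
      ¬ IsSMulRegular (A ⧸ (Ideal.ofList rs • ⊤ : Submodule A A)) y) :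
    ∃ z : A, z ∉ Ideal.ofList rs ∧ ∀ a ∈ maximalIdeal A, a * z ∈ Ideal.ofList rs := by
  have h1 : ¬ Subsingleton ((A ⧸ maximalIdeal A) →ₗ[A]
      (A ⧸ (Ideal.ofList rs • ⊤ : Submodule A A))) := by
    rw [IsSMulRegular.subsingleton_linearMap_iff, Ideal.annihilator_quotient]
    rintro ⟨r, hr, hreg⟩
    exact hmax r hr hreg
  rw [not_subsingleton_iff_nontrivial] at h1
  obtain ⟨φ, hφ⟩ := exists_ne (0 : (A ⧸ maximalIdeal A) →ₗ[A]
      (A ⧸ (Ideal.ofList rs • ⊤ : Submodule A A)))
  have h2 : φ (Ideal.Quotient.mk _ 1) ≠ 0 := by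
    intro h0
    apply hφ
    apply LinearMap.ext
    intro x
    obtain ⟨a, rfl⟩ := Ideal.Quotient.mk_surjective x
    have : (Ideal.Quotient.mk (maximalIdeal A)) a = a • (Ideal.Quotient.mk (maximalIdeal A)) 1 := by
      rw [Algebra.smul_def, map_one, mul_one]
      rfl
    rw [this, map_smul, h0, smul_zero]
    rfl
  obtain ⟨z, hz⟩ := Submodule.Quotient.mk_surjective _ (φ (Ideal.Quotient.mk _ 1))
  refine ⟨z, ?_, ?_⟩
  · intro hmem
    apply h2
    rw [← hz, Submodule.Quotient.mk_eq_zero, smul_top_eq_self]
    exact hmem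
  · intro a ha
    have : a • φ (Ideal.Quotient.mk _ 1) = 0 := by
      rw [← map_smul]
      have : a • (Ideal.Quotient.mk (maximalIdeal A)) 1 = 0 := by
        rw [Algebra.smul_def, map_one, mul_one]
        exact Ideal.Quotient.eq_zero_iff_mem.mpr ha
      rw [this, map_zero]
    rw [← hz, ← Submodule.Quotient.mk_smul, Submodule.Quotient.mk_eq_zero, smul_top_eq_self] at this
    exact this

variable {B : Type u} [CommRing B] [IsLocalRing B] [IsNoetherianRing B] [Algebra A B]
  [Module.FaithfullyFlat A B]

theorem not_isSMulRegular_map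
    (hmap : (maximalIdeal A).map (algebraMap A B) = maximalIdeal B) (rs : List A) (z : A)
    (hz : z ∉ Ideal.ofList rs) (hz' : ∀ a ∈ maximalIdeal A, a * z ∈ Ideal.ofList rs) :
    ∀ y ∈ maximalIdeal B, ¬ IsSMulRegular
      (B ⧸ (Ideal.ofList (rs.map (algebraMap A B)) • ⊤ : Submodule B B)) y := by
  intro y hy hreg
  have hJ : Ideal.ofList (rs.map (algebraMap A B)) = (Ideal.ofList rs).map (algebraMap A B) :=
    (Ideal.map_ofList _ _).symm
  have h1 : algebraMap A B z ∉ (Ideal.ofList rs).map (algebraMap A B) := by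
    intro h
    apply hz
    rw [← Ideal.comap_map_eq_self_of_faithfullyFlat (B := B) (Ideal.ofList rs)]
    exact h
  have h2 : y * algebraMap A B z ∈ (Ideal.ofList rs).map (algebraMap A B) := by
    have hle : (maximalIdeal A).map (algebraMap A B) ≤
        Submodule.comap (LinearMap.mulRight B (algebraMap A B z))
          ((Ideal.ofList rs).map (algebraMap A B)) := by
      rw [Ideal.map_le_iff_le_comap]
      intro a ha
      show algebraMap A B a * algebraMap A B z ∈ (Ideal.ofList rs).map (algebraMap A B)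
      rw [← map_mul]
      exact Ideal.mem_map_of_mem _ (hz' a ha)
    rw [hmap] at hle
    exact hle hy
  have h3 : y • (Submodule.Quotient.mk (algebraMap A B z) :
      B ⧸ (Ideal.ofList (rs.map (algebraMap A B)) • ⊤ : Submodule B B)) = y • 0 := by
    rw [smul_zero, ← Submodule.Quotient.mk_smul, Submodule.Quotient.mk_eq_zero, smul_top_eq_self,
      hJ]
    exact h2
  have h4 := hreg h3
  rw [Submodule.Quotient.mk_eq_zero, smul_top_eq_self, hJ] at h4
  exact h1 h4

theorem regDepth_eq_of_faithfullyFlat
    (hmap : (maximalIdeal A).map (algebraMap A B) = maximalIdeal B) :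
    regDepth (maximalIdeal B) B = regDepth (maximalIdeal A) A := by
  have hmem : ∀ rs : List A, (∀ r ∈ rs, r ∈ maximalIdeal A) →
      ∀ r ∈ rs.map (algebraMap A B), r ∈ maximalIdeal B := by
    intro rs h r hr
    obtain ⟨a, ha, rfl⟩ := List.mem_map.mp hr
    rw [← hmap]
    exact Ideal.mem_map_of_mem _ (h a ha)
  apply le_antisymm
  · by_cases htop : regDepth (maximalIdeal A) A = ⊤
    · rw [htop]
      exact le_top
    · have hlt : regDepth (maximalIdeal A) A < ⊤ := lt_top_iff_ne_top.mpr htop
      unfold regDepth at hlt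
      rw [iSup_subtype'] at hlt
      haveI : Nonempty {rs : List A // IsWeaklyRegular A rs ∧ ∀ r ∈ rs, r ∈ maximalIdeal A} :=
        ⟨⟨[], IsWeaklyRegular.nil A A, by simp⟩⟩
      obtain ⟨⟨rs, hrs1, hrs2⟩, hrs⟩ := ENat.exists_eq_iSup_of_lt_top hlt
      -- maximality
      have hmax : ∀ y ∈ maximalIdeal A,
          ¬ IsSMulRegular (A ⧸ (Ideal.ofList rs • ⊤ : Submodule A A)) y := by
        intro y hy hreg
        have hw : IsWeaklyRegular A (rs ++ [y]) := by
          rw [isWeaklyRegular_append_iff, isWeaklyRegular_singleton_iff]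
          exact ⟨hrs1, hreg⟩
        have hm : ∀ r ∈ rs ++ [y], r ∈ maximalIdeal A := by
          intro r hr
          rcases List.mem_append.mp hr with h | h
          · exact hrs2 r h
          · rw [List.mem_singleton] at h
            rw [h]
            exact hy
        have : (((rs ++ [y]).length : ℕ) : ℕ∞) ≤ (rs.length : ℕ∞) := by
          rw [hrs]
          exact le_iSup (fun x : {rs : List A // IsWeaklyRegular A rs ∧
            ∀ r ∈ rs, r ∈ maximalIdeal A} => ((x.1.length : ℕ) : ℕ∞)) ⟨rs ++ [y], hw, hm⟩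
        rw [List.length_append, List.length_singleton] at this
        exact absurd (Nat.cast_le.mp this) (by omega)
      obtain ⟨z, hz, hz'⟩ := exists_socle_of_forall_not_isSMulRegular rs hmax
      have hmaxB := not_isSMulRegular_map hmap rs z hz hz'
      have hIM : maximalIdeal B • (⊤ : Submodule B B) < ⊤ := by
        rw [smul_top_eq_self]
        exact lt_top_iff_ne_top.mpr (maximalIdeal.isMaximal B).ne_top
      unfold regDepth
      apply iSup₂_le
      rintro ss ⟨hss1, hss2⟩
      refine le_iSup₂_of_le rs ⟨hrs1, hrs2⟩ ?_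
      have hreg : IsRegular B ss := IsRegular.of_isWeaklyRegular_of_mem_maximalIdeal B hss2 hss1
      have := length_le_of_forall_not_isSMulRegular (maximalIdeal B) B hIM
        (rs.map (algebraMap A B)) hrs1.of_flat hmaxB ss hreg hss2
      rw [List.length_map] at this
      exact Nat.cast_le.mpr this
  · unfold regDepth
    apply iSup₂_le
    intro rs hrs
    refine le_iSup₂_of_le (rs.map (algebraMap A B)) ⟨hrs.1.of_flat, hmem rs hrs.2⟩ ?_
    rw [List.length_map]

end

end Groth.Agent.Lib.Helper12
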