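import Mathlib
import Groth.Agent.Lib.Helper12.SerreNormalA
import Groth.Agent.Lib.Helper12.SerreNormalB
import Groth.Agent.Lib.Helper12.DepthFlat
import Groth.Agent.Lib.Helper12.BrnchDimB

/-!
# Components of a flat algebra over a normal local domain of dimension at least two have
dimension at least two (towards S16576)
-/

set_option autoImplicit false
set_option linter.style.haveILetI false
universe u

namespace Groth.Agent.Lib.Helper12.C2

open IsLocalRing

/-- a chain `q < Q < n` of primes gives `dim R/q ≥ 2` -/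
theorem two_le_dim_quotient_of_chain {R : Type u} [CommRing R] {q Q n : Ideal R} [hq : q.IsPrime]
    [hQ : Q.IsPrime] [hn : n.IsPrime] (h1 : q < Q) (h2 : Q < n) :
    (2 : WithBot ℕ∞) ≤ ringKrullDim (R ⧸ q) := by
  rw [ringKrullDim_quotient]
  let a : PrimeSpectrum.zeroLocus (R := R) q :=
    ⟨⟨q, hq⟩, by rw [PrimeSpectrum.mem_zeroLocus]⟩
  let b : PrimeSpectrum.zeroLocus (R := R) q :=
    ⟨⟨Q, hQ⟩, by rw [PrimeSpectrum.mem_zeroLocus]; exact h1.le⟩
  let c : PrimeSpectrum.zeroLocus (R := R) q :=
    ⟨⟨n, hn⟩, by rw [PrimeSpectrum.mem_zeroLocus]; exact (h1.trans h2).le⟩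
  have hab : a < b := h1
  have hbc : b < c := h2
  let s : LTSeries (PrimeSpectrum.zeroLocus (R := R) q) :=
    LTSeries.mk 2 ![a, b, c] (by
      rw [Fin.strictMono_iff_lt_succ]
      intro i
      fin_cases i
      · exact hab
      · exact hbc)
  have := Order.LTSeries.length_le_krullDim s
  exact this

theorem two_le_dim_quotient_of_flat_normal (A R : Type u) [CommRing A] [IsDomain A]
    [IsLocalRing A] [IsNoetherianRing A] [IsIntegrallyClosed A] [CommRing R] [IsNoetherianRing R]
    [Algebra A R] [Module.Flat A R]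
    (hJ : (maximalIdeal A).map (algebraMap A R) ≤ Ideal.jacobson ⊥)
    (hA : 2 ≤ (maximalIdeal A).height) {q : Ideal R} (hq : q ∈ minimalPrimes R) :
    (2 : WithBot ℕ∞) ≤ ringKrullDim (R ⧸ q) := by
  classical
  by_contra hcon
  haveI hqp : q.IsPrime := hq.1.1
  have hm0 : maximalIdeal A ≠ ⊥ := by
    intro h
    rw [h, Ideal.height_bot] at hA
    exact absurd hA (by decide)
  obtain ⟨b, hbm, hb0⟩ := Submodule.exists_mem_ne_zero_of_ne_bot hm0
  set bR := algebraMap A R b with hbR
  have hbreg : ∀ z : R, bR * z = 0 → z = 0 := by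
    intro z hz
    have h1 : IsSMulRegular R b :=
      Module.Flat.isSMulRegular_of_nonZeroDivisors (mem_nonZeroDivisors_of_ne_zero hb0)
    apply h1
    show b • z = b • 0
    rw [smul_zero, Algebra.smul_def]
    exact hz
  have hbpow : ∀ (m : ℕ) (z : R), bR ^ m * z = 0 → z = 0 := by
    intro m
    induction m with
    | zero => intro z hz; rwa [pow_zero, one_mul] at hz
    | succ m ih =>
      intro z hz
      rw [pow_succ, mul_assoc] at hz
      exact hbreg z (ih _ hz)
  have hbJ : bR ∈ Ideal.jacobson (⊥ : Ideal R) := hJ (Ideal.mem_map_of_mem _ hbm)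
  have hbq : bR ∉ q := by
    intro h
    have hnzd : bR ∈ nonZeroDivisors R := by
      rw [mem_nonZeroDivisors_iff_right]
      intro x hx
      rw [mul_comm] at hx
      exact hbreg x hx
    exact Set.disjoint_left.mp (Ideal.disjoint_nonZeroDivisors_of_mem_minimalPrimes hq) h hnzd
  -- `q` is the annihilator of an element
  have hass : q ∈ associatedPrimes R R := by
    apply Module.associatedPrimes.minimalPrimes_annihilator_subset_associatedPrimes R R
    have : Module.annihilator R R = ⊥ := Module.annihilator_eq_bot.mpr inferInstance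
    rw [this]
    exact hq
  obtain ⟨-, z, hz⟩ := isAssociatedPrime_iff.1 hass
  have hzq : ∀ r : R, r ∈ q ↔ r * z = 0 := by
    intro r
    rw [hz, Submodule.mem_colon_singleton, Submodule.mem_bot, smul_eq_mul]
  have hz0 : z ≠ 0 := by
    intro h
    apply hqp.ne_top
    rw [Ideal.eq_top_iff_one, hzq, h, mul_zero]
  -- Krull intersection
  have hkrull : ∃ k : ℕ, z ∉ Ideal.span {bR ^ k} := by
    by_contra hall
    push Not at hall
    apply hz0
    have h1 := Ideal.iInf_pow_smul_eq_bot_of_le_jacobson (R := R) (M := R) (I := Ideal.span {bR})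
      (by rw [Ideal.span_singleton_le_iff_mem]; exact hbJ)
    have h2 : z ∈ (⨅ i : ℕ, (Ideal.span {bR}) ^ i • ⊤ : Submodule R R) := by
      rw [Submodule.mem_iInf]
      intro i
      rw [smul_eq_mul, Ideal.mul_top, Ideal.span_singleton_pow]
      exact hall i
    rw [h1] at h2
    exact h2
  have hk0 : Nat.find hkrull ≠ 0 := by
    intro h0
    have := Nat.find_spec hkrull
    rw [h0, pow_zero, Ideal.span_singleton_one] at this
    exact this Submodule.mem_top
  obtain ⟨j, hj⟩ := Nat.exists_eq_succ_of_ne_zero hk0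
  have hzj : z ∈ Ideal.span {bR ^ j} := by
    have := Nat.find_min hkrull (m := j) (by rw [hj]; exact Nat.lt_succ_self j)
    push Not at this
    exact this
  obtain ⟨z', hz'⟩ := Ideal.mem_span_singleton'.1 hzj
  have hz'b : z' ∉ Ideal.span {bR} := by
    intro h
    obtain ⟨w, hw⟩ := Ideal.mem_span_singleton'.1 h
    have := Nat.find_spec hkrull
    apply this
    rw [hj, Ideal.mem_span_singleton']
    refine ⟨w, ?_⟩
    rw [← hz', ← hw, pow_succ]
    ring
  have hz'q : ∀ r : R, r ∈ q ↔ r * z' = 0 := by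
    intro r
    rw [hzq, ← hz']
    constructor
    · intro h
      apply hbpow j
      rw [← h]
      ring
    · intro h
      have : r * (z' * bR ^ j) = (r * z') * bR ^ j := by ring
      rw [this, h, zero_mul]
  obtain ⟨Q, hQprime, c, hQc, hQz⟩ := SerreNormal.exists_ass_of_notMem z' bR hz'b
  haveI := hQprime
  have hqQ : q ≤ Q := fun s hs => hQz s (by rw [(hz'q s).1 hs]; exact Ideal.zero_mem _)
  have hbQ : bR ∈ Q := hQz bR (Ideal.mul_mem_right _ _ (Ideal.mem_span_singleton_self bR))
  have hqQ' : q < Q := lt_of_le_of_ne hqQ (fun h => hbq (h ▸ hbQ))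
  have hc : c ∉ Ideal.span {bR} := fun h =>
    hQprime.ne_top ((Ideal.eq_top_iff_one _).2 ((hQc 1).2 (by rwa [one_mul])))
  -- `Q` is maximal
  have hQmax : Q.IsMaximal := by
    obtain ⟨n, hn, hQn⟩ := Ideal.exists_le_maximal Q hQprime.ne_top
    by_cases hQn' : Q = n
    · rw [hQn']; exact hn
    · exfalso
      haveI := hn.isPrime
      exact hcon (two_le_dim_quotient_of_chain hqQ' (lt_of_le_of_ne hQn hQn'))
  have hmQ : ∀ y ∈ maximalIdeal A, algebraMap A R y ∈ Q := by
    intro y hy
    have h1 : algebraMap A R y ∈ Ideal.jacobson (⊥ : Ideal R) := hJ (Ideal.mem_map_of_mem _ hy)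
    rw [Ideal.jacobson, Ideal.mem_sInf] at h1
    exact h1 ⟨bot_le, hQmax⟩
  have hmapspan : (Ideal.span {b}).map (algebraMap A R) = Ideal.span {bR} := by
    rw [Ideal.map_span, Set.image_singleton]
  by_cases hreg : ∃ y ∈ maximalIdeal A,
      IsSMulRegular (A ⧸ (Ideal.ofList [b] • ⊤ : Submodule A A)) y
  · obtain ⟨y, hym, hy⟩ := hreg
    have hy' : IsSMulRegular (A ⧸ Ideal.span {b}) y := by
      have e : (Ideal.ofList [b] • ⊤ : Submodule A A) = Ideal.span {b} := by
        rw [Ideal.ofList_singleton, smul_top_eq_self]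
      rw [e] at hy
      exact hy
    have h1 : algebraMap A R y * c ∈ (Ideal.span {b}).map (algebraMap A R) := by
      rw [hmapspan]
      exact (hQc _).1 (hmQ y hym)
    have h2 := BrnchDim.mem_map_of_mul_mem hy' h1
    rw [hmapspan] at h2
    exact hc h2
  · push Not at hreg
    obtain ⟨z₀, hz₀, hz₀'⟩ := exists_socle_of_forall_not_isSMulRegular [b] hreg
    rw [Ideal.ofList_singleton] at hz₀ hz₀'
    have h1 := SerreNormal.height_maximalIdeal_eq_one A b z₀ hb0 hbm hz₀ hz₀'
    rw [h1] at hA
    exact absurd hA (by decide)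

end Groth.Agent.Lib.Helper12.C2
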