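import Groth.Prelude.Def_FSch3
import Groth.Agent.Lib.Helper12.HenselizationNoeth2
import Groth.Agent.Lib.Helper5.ComplIso
import Groth.Agent.Lib.helper19.CompletionNoetherian
import Mathlib.RingTheory.AdicCompletion.AsTensorProduct
import Mathlib.RingTheory.RingHom.Flat
import Mathlib.RingTheory.Localization.Ideal

/-!
# Functoriality of adic completion (`FSch.complMap`) and flatness of the completion of a
localization map of Noetherian rings
-/

set_option autoImplicit false
universe u

namespace Groth.Agent.Lib.Helper12.FComplA

open FSch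

section ComplMap

variable {S T U : Type u} [CommRing S] [CommRing T] [CommRing U]
  (I : Ideal S) (K : Ideal T) (L : Ideal U) (g : S →+* T) (g' : T →+* U)

theorem evalₐ_complMap (h : I.map g ≤ K) (n : ℕ) (x : AdicCompletion I S) :
    AdicCompletion.evalₐ K n (complMap I K g h x) =
      Ideal.quotientMap (K ^ n) g (pow_le_comap_pow_of_map_le I K g h n)
        (AdicCompletion.evalₐ I n x) := by
  unfold complMap
  generalize_proofs
  rw [AdicCompletion.evalₐ_liftRingHom]
  · rfl
  · assumption

theorem complMap_of (h : I.map g ≤ K) (s : S) :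
    complMap I K g h (AdicCompletion.of I S s) = AdicCompletion.of K T (g s) := by
  apply AdicCompletion.ext_evalₐ
  intro n
  rw [evalₐ_complMap, AdicCompletion.evalₐ_of, AdicCompletion.evalₐ_of, Ideal.quotientMap_mk]

theorem complMap_algebraMap (h : I.map g ≤ K) (s : S) :
    complMap I K g h (algebraMap S (AdicCompletion I S) s) =
      algebraMap T (AdicCompletion K T) (g s) :=
  complMap_of I K g h s

theorem complMap_comp (h : I.map g ≤ K) (h' : K.map g' ≤ L) (h'' : I.map (g'.comp g) ≤ L)
    (x : AdicCompletion I S) :
    complMap K L g' h' (complMap I K g h x) = complMap I L (g'.comp g) h'' x := by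
  apply AdicCompletion.ext_evalₐ
  intro n
  rw [evalₐ_complMap, evalₐ_complMap, evalₐ_complMap]
  obtain ⟨y, hy⟩ := Ideal.Quotient.mk_surjective (AdicCompletion.evalₐ I n x)
  rw [← hy, Ideal.quotientMap_mk, Ideal.quotientMap_mk, Ideal.quotientMap_mk]
  rfl

end ComplMap

section Level

variable {R : Type u} [CommRing R] (I : Ideal R)

theorem exists_sub_algebraMap_mem (fg : I.FG) (n : ℕ) (y : AdicCompletion I R) :
    ∃ a : R, y - algebraMap R _ a ∈ (I.map (algebraMap R (AdicCompletion I R))) ^ n := by
  obtain ⟨a, ha⟩ := Ideal.Quotient.mk_surjective (AdicCompletion.evalₐ I n y)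
  refine ⟨a, ?_⟩
  rw [← Ideal.map_pow, ← ker_evalₐ_eq_map _ fg, RingHom.mem_ker]
  show AdicCompletion.evalₐ I n (y - AdicCompletion.of I R a) = 0
  rw [map_sub, AdicCompletion.evalₐ_of, ha, sub_self]

theorem mem_pow_of_algebraMap_mem (fg : I.FG) (n : ℕ) (a : R)
    (h : algebraMap R (AdicCompletion I R) a ∈
      (I.map (algebraMap R (AdicCompletion I R))) ^ n) : a ∈ I ^ n := by
  rw [← Ideal.map_pow, ← ker_evalₐ_eq_map _ fg, RingHom.mem_ker] at h
  have h' : AdicCompletion.evalₐ I n (AdicCompletion.of I R a) = 0 := h
  rw [AdicCompletion.evalₐ_of] at h'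
  exact Ideal.Quotient.eq_zero_iff_mem.mp h'

end Level

section Flat

variable {R R' : Type u} [CommRing R] [CommRing R'] [IsNoetherianRing R] (I : Ideal R)
  [Algebra R R'] (K : Ideal R')

/-- The completion of a localization map of Noetherian rings is flat. -/
theorem flat_complMap (M : Submonoid R) [IsLocalization M R']
    (hK : I.map (algebraMap R R') = K) :
    (complMap I K (algebraMap R R') hK.le).Flat := by
  classical
  subst hK
  set K : Ideal R' := I.map (algebraMap R R')
  haveI : IsNoetherianRing R' := IsLocalization.isNoetherianRing M R' inferInstance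
  haveI : IsNoetherianRing (AdicCompletion I R) :=
    Groth.Agent.Lib.helper19.isNoetherianRing_adicCompletion R I
  haveI : IsNoetherianRing (AdicCompletion K R') :=
    Groth.Agent.Lib.helper19.isNoetherianRing_adicCompletion R' K
  have fgI : I.FG := IsNoetherian.noetherian I
  have fgK : K.FG := IsNoetherian.noetherian K
  set c : AdicCompletion I R →+* AdicCompletion K R' :=
    complMap I K (algebraMap R R') le_rfl with hc
  letI : Algebra (AdicCompletion I R) (AdicCompletion K R') := c.toAlgebra
  let Mh : Submonoid (AdicCompletion I R) := M.map (algebraMap R (AdicCompletion I R))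
  let E := Localization Mh
  haveI : IsNoetherianRing E := IsLocalization.isNoetherianRing Mh E inferInstance
  have hc_alg : ∀ r : R, c (algebraMap R (AdicCompletion I R) r) =
      algebraMap R' (AdicCompletion K R') (algebraMap R R' r) := fun r => by
    rw [hc, complMap_algebraMap]
  have hunits : ∀ y : Mh,
      IsUnit ((Algebra.ofId (AdicCompletion I R) (AdicCompletion K R')) y) := by
    rintro ⟨_, m, hm, rfl⟩
    show IsUnit (c (algebraMap R (AdicCompletion I R) m))
    rw [hc_alg]
    exact (IsLocalization.map_units R' ⟨m, hm⟩).map _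
  let φ : E →ₐ[AdicCompletion I R] AdicCompletion K R' :=
    IsLocalization.liftAlgHom (M := Mh) hunits
  have hφc : ∀ d : AdicCompletion I R, φ (algebraMap (AdicCompletion I R) E d) = c d :=
    fun d => φ.commutes d
  let Ih : Ideal (AdicCompletion I R) := I.map (algebraMap R (AdicCompletion I R))
  let JE : Ideal E := Ih.map (algebraMap (AdicCompletion I R) E)
  let Kh : Ideal (AdicCompletion K R') := K.map (algebraMap R' (AdicCompletion K R'))
  have hIhc : Ih.map c = Kh := by
    show (I.map _).map c = (I.map (algebraMap R R')).map _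
    rw [Ideal.map_map, Ideal.map_map]
    congr 1
  have hφJE : JE.map (φ : E →+* AdicCompletion K R') = Kh := by
    rw [← hIhc]
    show (Ih.map _).map _ = _
    rw [Ideal.map_map]
    congr 1
    exact RingHom.ext hφc
  have hIhn : ∀ n : ℕ, Ih ^ n ≤ (Kh ^ n).comap c :=
    fun n => pow_le_comap_pow_of_map_le Ih Kh c hIhc.le n
  have hMh : ∀ m ∈ M, algebraMap R (AdicCompletion I R) m ∈ Mh := fun m hm => ⟨m, hm, rfl⟩
  obtain ⟨e⟩ := Groth.Agent.Lib.Helper5.ComplIso.complEquiv (R := AdicCompletion I R) φ JE Kh
    (fun n => pow_le_comap_pow_of_map_le JE Kh (φ : E →+* AdicCompletion K R') hφJE.le n)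
    (by
      intro n p hp
      obtain ⟨d, ⟨_, m, hm, rfl⟩, rfl⟩ := IsLocalization.exists_mk'_eq Mh p
      show _ ∈ (Ih.map (algebraMap (AdicCompletion I R) E)) ^ n
      rw [← Ideal.map_pow, IsLocalization.mk'_mem_map_algebraMap_iff Mh]
      -- `c d ∈ Kh ^ n`
      have h1 : c d ∈ Kh ^ n := by
        have : algebraMap (AdicCompletion I R) E d =
            IsLocalization.mk' E d (⟨algebraMap R (AdicCompletion I R) m, hMh m hm⟩ : Mh) *
              algebraMap (AdicCompletion I R) E (algebraMap R (AdicCompletion I R) m) := by
          rw [IsLocalization.mk'_spec]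
        rw [← hφc, this, map_mul]
        exact Ideal.mul_mem_right _ _ hp
      obtain ⟨r, hr⟩ := exists_sub_algebraMap_mem I fgI n d
      have h2 : c (d - algebraMap R _ r) ∈ Kh ^ n := hIhn n hr
      have h3 : algebraMap R' (AdicCompletion K R') (algebraMap R R' r) ∈ Kh ^ n := by
        rw [← hc_alg]
        have : c (algebraMap R _ r) = c d - c (d - algebraMap R _ r) := by
          rw [map_sub]; ring
        rw [this]
        exact Ideal.sub_mem _ h1 h2
      have h4 : algebraMap R R' r ∈ K ^ n := mem_pow_of_algebraMap_mem K fgK n _ h3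
      have h4' : algebraMap R R' r ∈ (I ^ n).map (algebraMap R R') := by
        rw [Ideal.map_pow]; exact h4
      rw [IsLocalization.algebraMap_mem_map_algebraMap_iff M] at h4'
      obtain ⟨t, ht, htr⟩ := h4'
      refine ⟨algebraMap R _ t, hMh t ht, ?_⟩
      have h5 : algebraMap R (AdicCompletion I R) t * d =
          algebraMap R _ t * (d - algebraMap R _ r) + algebraMap R _ (t * r) := by
        rw [map_mul]; ring
      rw [h5]
      refine Ideal.add_mem _ (Ideal.mul_mem_left _ _ hr) ?_
      rw [← Ideal.map_pow]
      exact Ideal.mem_map_of_mem _ htr)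
    (by
      intro n s
      obtain ⟨r', hr'⟩ := exists_sub_algebraMap_mem K fgK n s
      obtain ⟨⟨r, m⟩, hrm⟩ := IsLocalization.surj M r'
      refine ⟨IsLocalization.mk' E (algebraMap R (AdicCompletion I R) r)
        (⟨algebraMap R (AdicCompletion I R) m, hMh m m.2⟩ : Mh), ?_⟩
      have : φ (IsLocalization.mk' E (algebraMap R (AdicCompletion I R) r)
          (⟨algebraMap R (AdicCompletion I R) m, hMh m m.2⟩ : Mh)) =
          algebraMap R' (AdicCompletion K R') r' := by
        have hu : IsUnit (algebraMap R' (AdicCompletion K R') (algebraMap R R' m)) :=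
          (IsLocalization.map_units R' m).map _
        apply hu.mul_right_cancel
        rw [← hc_alg, ← hφc, ← map_mul]
        have : IsLocalization.mk' E (algebraMap R (AdicCompletion I R) r)
            (⟨algebraMap R (AdicCompletion I R) m, hMh m m.2⟩ : Mh) *
            algebraMap (AdicCompletion I R) E (algebraMap R (AdicCompletion I R) m) =
            algebraMap (AdicCompletion I R) E (algebraMap R (AdicCompletion I R) r) := by
          rw [IsLocalization.mk'_spec]
        rw [this, hφc, hc_alg, hφc, hc_alg, ← map_mul, hrm]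
      rw [this]
      exact hr')
  haveI : IsAdicComplete Kh (AdicCompletion K R') := AdicCompletion.isAdicComplete_self K fgK
  haveI : IsScalarTower (AdicCompletion I R) (AdicCompletion K R')
      (AdicCompletion Kh (AdicCompletion K R')) := IsScalarTower.of_algebraMap_eq (fun x => rfl)
  haveI : IsScalarTower (AdicCompletion I R) E (AdicCompletion JE E) :=
    IsScalarTower.of_algebraMap_eq (fun x => rfl)
  haveI : Module.Flat (AdicCompletion I R) E := IsLocalization.flat E Mh
  haveI : Module.Flat E (AdicCompletion JE E) := AdicCompletion.flat_of_isNoetherian JE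
  haveI : Module.Flat (AdicCompletion I R) (AdicCompletion JE E) :=
    Module.Flat.trans (AdicCompletion I R) E (AdicCompletion JE E)
  let e2 : AdicCompletion K R' ≃ₗ[AdicCompletion I R] AdicCompletion Kh (AdicCompletion K R') :=
    (AdicCompletion.ofAlgEquiv Kh).toLinearEquiv.restrictScalars (AdicCompletion I R)
  show Module.Flat (AdicCompletion I R) (AdicCompletion K R')
  exact Module.Flat.of_linearEquiv (e2.trans e.symm.toLinearEquiv)

end Flat

end Groth.Agent.Lib.Helper12.FComplA
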