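import Mathlib
import Groth.Prelude.Def_Found
import Groth.Agent.Lib.Helper12.CompleteNagata
import Groth.Agent.Lib.Helper12.HenselIntegralDomain
import Groth.Agent.Lib.Helper12.NoetherianAux
import Groth.Agent.S9405

/-!
# The integral closure of a complete local domain in a finite extension of its fraction field
is a complete local ring
-/

set_option autoImplicit false

namespace Groth.Agent.Lib.Helper12.ComplIntClosure

open IsLocalRing

universe u

/-- a finite local algebra over a complete Noetherian local ring is complete -/
theorem isAdicComplete_of_finite_local (A S : Type u) [CommRing A] [IsLocalRing A]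
    [IsNoetherianRing A] [IsAdicComplete (maximalIdeal A) A] [CommRing S] [Algebra A S]
    [Module.Finite A S] [IsLocalRing S] : IsAdicComplete (maximalIdeal S) S := by
  haveI : IsNoetherianRing S := IsNoetherianRing.of_finite A S
  set I := (maximalIdeal A).map (algebraMap A S) with hI
  have hcomp : IsAdicComplete I S :=
    (IsAdicComplete.map_algebraMap_iff ..).mpr
      (Groth.Agent.S9405.isAdicComplete_of_finite (maximalIdeal A) S)
  have hIle : I ≤ maximalIdeal S :=
    Groth.Agent.S9405.map_le_of_isMaximal A S (maximalIdeal S)
  have hrad : I.radical = maximalIdeal S := by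
    apply le_antisymm
    · exact (Ideal.IsPrime.radical_le_iff (maximalIdeal.isMaximal S).isPrime).mpr hIle
    · rw [Ideal.radical_eq_sInf]
      refine le_sInf ?_
      rintro p ⟨hIp, hp⟩
      have hpmax : p.IsMaximal := Groth.Agent.S9405.isMaximal_of_map_le A S p hp hIp
      rw [IsLocalRing.eq_maximalIdeal hpmax]
  obtain ⟨k, hk⟩ := Ideal.exists_radical_pow_le_of_fg I (IsNoetherian.noetherian _)
  rw [hrad] at hk
  haveI : IsPrecomplete I S := hcomp.toIsPrecomplete
  haveI : IsPrecomplete (maximalIdeal S) S :=
    Groth.Agent.S9405.isPrecomplete_of_pow_le I (maximalIdeal S) k hIle hk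
  haveI : IsHausdorff (maximalIdeal S) S := inferInstance
  exact { }

theorem main {A K' : Type u} [CommRing A] [IsDomain A] [IsLocalRing A] [IsNoetherianRing A]
    [IsAdicComplete (maximalIdeal A) A] [Field K'] [Algebra A K'] [Algebra (FractionRing A) K']
    [IsScalarTower A (FractionRing A) K'] [FiniteDimensional (FractionRing A) K'] :
    ∃ _ : IsLocalRing (integralClosure A K'),
      IsAdicComplete (maximalIdeal (integralClosure A K')) (integralClosure A K') := by
  haveI : Module.Finite A (integralClosure A K') :=
    CompleteNagata.isN2_complete_local_domain A K' inferInstance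
  haveI : HenselianLocalRing A := henselianLocalRing_of_henselianRing A
  haveI hloc : IsLocalRing (integralClosure A K') :=
    isLocalRing_of_finite_of_isDomain A (integralClosure A K')
  exact ⟨hloc, isAdicComplete_of_finite_local A (integralClosure A K')⟩

end Groth.Agent.Lib.Helper12.ComplIntClosure
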