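import Mathlib
import Groth.Agent.Lib.Helper12.C2A
import Groth.Agent.Lib.Helper12.C2E
import Groth.Agent.Lib.Helper12.BrnchE
import Groth.Agent.Lib.Helper12.ComplIntClosure

/-!
# Flat local algebras over a complete local domain of dimension at least two (towards S16576)
-/

set_option autoImplicit false
set_option linter.style.haveILetI false
universe u

namespace Groth.Agent.Lib.Helper12.C2

open IsLocalRing TensorProduct

/-- minimal primes lift along injective integral maps -/
theorem exists_minimalPrimes_comap_eq {S T : Type u} [CommRing S] [CommRing T] [Algebra S T]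
    [Algebra.IsIntegral S T] (hinj : Function.Injective (algebraMap S T)) {q : Ideal S}
    (hq : q ∈ minimalPrimes S) : ∃ Q ∈ minimalPrimes T, Q.comap (algebraMap S T) = q := by
  haveI : q.IsPrime := hq.1.1
  have hker : (⊥ : Ideal T).comap (algebraMap S T) ≤ q := by
    rw [← RingHom.ker_eq_comap_bot, (RingHom.injective_iff_ker_eq_bot _).mp hinj]
    exact bot_le
  obtain ⟨Q, -, hQprime, hQq⟩ := Ideal.exists_ideal_over_prime_of_isIntegral q (⊥ : Ideal T) hker
  obtain ⟨Q', hQ', hQ'Q⟩ := Ideal.exists_minimalPrimes_le (I := (⊥ : Ideal T)) (J := Q) bot_le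
  refine ⟨Q', hQ', ?_⟩
  haveI : Q'.IsPrime := hQ'.1.1
  have h1 : Q'.comap (algebraMap S T) ≤ q := hQq ▸ Ideal.comap_mono hQ'Q
  exact le_antisymm h1 (hq.2 ⟨Ideal.comap_isPrime _ _, bot_le⟩ h1)

attribute [local instance] Algebra.TensorProduct.rightAlgebra

theorem two_le_dim_quotient_of_flat_complete_domain (A' B' : Type u) [CommRing A'] [IsDomain A']
    [IsLocalRing A'] [IsNoetherianRing A'] [IsAdicComplete (maximalIdeal A') A'] [CommRing B']
    [IsLocalRing B'] [IsNoetherianRing B'] [Algebra A' B'] [Module.Flat A' B']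
    [IsLocalHom (algebraMap A' B')] (hA : (2 : WithBot ℕ∞) ≤ ringKrullDim A') {q' : Ideal B'}
    (hq' : q' ∈ minimalPrimes B') : (2 : WithBot ℕ∞) ≤ ringKrullDim (B' ⧸ q') := by
  classical
  let K := FractionRing A'
  let A'' := integralClosure A' K
  haveI hfin : Module.Finite A' A'' :=
    CompleteNagata.isN2_complete_local_domain A' K inferInstance
  obtain ⟨hloc, -⟩ := ComplIntClosure.main (A := A') (K' := K)
  haveI : IsLocalRing A'' := hloc
  haveI : IsNoetherianRing A'' := IsNoetherianRing.of_finite A' A''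
  haveI : IsIntegrallyClosed A'' :=
    integralClosure.isIntegrallyClosedOfFiniteExtension (R := A') K (L := K)
  haveI : Algebra.IsIntegral A' A'' := inferInstance
  have hinjA : Function.Injective (algebraMap A' A'') := by
    intro x y hxy
    have h1 : algebraMap A' K x = algebraMap A' K y := congrArg Subtype.val hxy
    exact IsFractionRing.injective A' K h1
  -- the height of the maximal ideal of `A''`
  have hdim : ringKrullDim A'' = ringKrullDim A' :=
    Groth.Agent.S7620.ringKrullDim_eq_of_integral_injective A' A'' hinjA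
  have hht : 2 ≤ (maximalIdeal A'').height := by
    have h1 : ((maximalIdeal A'').height : WithBot ℕ∞) = ringKrullDim A'' :=
      IsLocalRing.maximalIdeal_height_eq_ringKrullDim
    rw [← hdim, ← h1] at hA
    have hA' : ((2 : ℕ∞) : WithBot ℕ∞) ≤ ((maximalIdeal A'').height : WithBot ℕ∞) := hA
    exact WithBot.coe_le_coe.mp hA'
  -- the base change
  haveI : Algebra.IsIntegral B' (A'' ⊗[A'] B') := BrnchHens.isIntegral_right A' A'' B'
  haveI : IsNoetherianRing (A'' ⊗[A'] B') := by
    haveI : Module.Finite B' (B' ⊗[A'] A'') := inferInstance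
    haveI : IsNoetherianRing (B' ⊗[A'] A'') := IsNoetherianRing.of_finite B' (B' ⊗[A'] A'')
    exact isNoetherianRing_of_ringEquiv (B' ⊗[A'] A'')
      (Algebra.TensorProduct.comm A' B' A'').toRingEquiv
  have hinjB : Function.Injective (algebraMap B' (A'' ⊗[A'] B')) :=
    Algebra.TensorProduct.includeRight_injective (R := A') (A := A'') (B := B') hinjA
  obtain ⟨q'', hq'', hq''q'⟩ := exists_minimalPrimes_comap_eq (S := B') (T := A'' ⊗[A'] B')
    hinjB hq'
  have hdimq := ringKrullDim_quotient_of_isIntegral B' (A'' ⊗[A'] B') q''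
  rw [hq''q'] at hdimq
  rw [← hdimq]
  -- the Jacobson condition
  refine two_le_dim_quotient_of_flat_normal A'' (A'' ⊗[A'] B') ?_ hht hq''
  rw [Ideal.jacobson]
  refine le_sInf ?_
  rintro n ⟨-, hn⟩
  haveI := hn
  have hmax := BrnchHens.isMaximal_comap_left A' A'' B' n
  have heq := IsLocalRing.eq_maximalIdeal hmax
  rw [Ideal.map_le_iff_le_comap, heq]

end Groth.Agent.Lib.Helper12.C2
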