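import Mathlib
import Groth.Agent.Lib.Helper12.C2G
import Groth.Agent.Lib.Helper12.NormRedMinC
import Groth.Agent.Lib.Helper17.LocalFlat
import Groth.Agent.Lib.Helper5.FlatCohenD

/-!
# Flat local algebras over a complete local ring all of whose components have dimension at
least two (towards S16576)
-/

set_option autoImplicit false
set_option linter.style.haveILetI false
universe u

namespace Groth.Agent.Lib.Helper12.C2

open IsLocalRing

/-- the image of a minimal prime in a quotient by a smaller ideal is a minimal prime -/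
theorem map_mk_mem_minimalPrimes {R : Type u} [CommRing R] {I q : Ideal R} (hIq : I ≤ q)
    (hq : q ∈ minimalPrimes R) : q.map (Ideal.Quotient.mk I) ∈ minimalPrimes (R ⧸ I) := by
  haveI : q.IsPrime := hq.1.1
  have hsurj : Function.Surjective (Ideal.Quotient.mk I) := Ideal.Quotient.mk_surjective
  have hker : RingHom.ker (Ideal.Quotient.mk I) ≤ q := by rwa [Ideal.mk_ker]
  have hcm : (q.map (Ideal.Quotient.mk I)).comap (Ideal.Quotient.mk I) = q := by
    rw [Ideal.comap_map_of_surjective _ hsurj, ← RingHom.ker_eq_comap_bot]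
    exact sup_eq_left.mpr hker
  refine ⟨⟨Ideal.map_isPrime_of_surjective hsurj hker, bot_le⟩, fun Q' hQ' hle => ?_⟩
  haveI := hQ'.1
  have h1 : Q'.comap (Ideal.Quotient.mk I) ≤ q := hcm ▸ Ideal.comap_mono hle
  have h2 : q ≤ Q'.comap (Ideal.Quotient.mk I) := hq.2 ⟨Ideal.comap_isPrime _ _, bot_le⟩ h1
  calc q.map (Ideal.Quotient.mk I) ≤ (Q'.comap (Ideal.Quotient.mk I)).map (Ideal.Quotient.mk I) :=
        Ideal.map_mono h2
    _ = Q' := Ideal.map_comap_of_surjective _ hsurj Q'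

theorem two_le_dim_quotient_of_flat_complete (R₁ R₂ : Type u) [CommRing R₁] [IsLocalRing R₁]
    [IsNoetherianRing R₁] [IsAdicComplete (maximalIdeal R₁) R₁] [CommRing R₂] [IsLocalRing R₂]
    [IsNoetherianRing R₂] [Algebra R₁ R₂] [Module.Flat R₁ R₂] [IsLocalHom (algebraMap R₁ R₂)]
    (h1 : ∀ p ∈ minimalPrimes R₁, (2 : WithBot ℕ∞) ≤ ringKrullDim (R₁ ⧸ p)) {q : Ideal R₂}
    (hq : q ∈ minimalPrimes R₂) : (2 : WithBot ℕ∞) ≤ ringKrullDim (R₂ ⧸ q) := by
  haveI hqp : q.IsPrime := hq.1.1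
  set p : Ideal R₁ := q.comap (algebraMap R₁ R₂) with hp
  have hpmin : p ∈ minimalPrimes R₁ := NormRedMin.comap_mem_minimalPrimes_of_goingDown hq
  haveI : p.IsPrime := hpmin.1.1
  set I : Ideal R₂ := p.map (algebraMap R₁ R₂) with hI
  have hIq : I ≤ q := Ideal.map_comap_le
  haveI : Nontrivial (R₂ ⧸ I) :=
    Ideal.Quotient.nontrivial_iff.mpr (fun h => hqp.ne_top (top_le_iff.mp (h ▸ hIq)))
  haveI : IsLocalRing (R₁ ⧸ p) :=
    IsLocalRing.of_surjective' (Ideal.Quotient.mk p) Ideal.Quotient.mk_surjective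
  haveI : IsLocalRing (R₂ ⧸ I) :=
    IsLocalRing.of_surjective' (Ideal.Quotient.mk I) Ideal.Quotient.mk_surjective
  haveI : IsDomain (R₁ ⧸ p) := Ideal.Quotient.isDomain p
  haveI : IsAdicComplete (maximalIdeal (R₁ ⧸ p)) (R₁ ⧸ p) :=
    Groth.Agent.Lib.Helper5.FlatCohen.isAdicComplete_quotient p
  haveI hmkT : IsLocalHom (Ideal.Quotient.mk I) :=
    IsLocalHom.of_surjective _ Ideal.Quotient.mk_surjective
  haveI hloc : IsLocalHom (algebraMap (R₁ ⧸ p) (R₂ ⧸ I)) := by
    refine ⟨fun x hx => ?_⟩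
    obtain ⟨a, rfl⟩ := Ideal.Quotient.mk_surjective x
    have h1 : IsUnit ((Ideal.Quotient.mk I) (algebraMap R₁ R₂ a)) := hx
    have h2 : IsUnit (algebraMap R₁ R₂ a) := isUnit_of_map_unit _ _ h1
    exact (isUnit_of_map_unit (algebraMap R₁ R₂) a h2).map _
  haveI : Module.Flat (R₁ ⧸ p) (R₂ ⧸ I) :=
    Module.Flat.of_linearEquiv (Groth.Agent.Lib.Helper17.LocalFlat.tensorQuotEquiv p R₂).symm
  have hq' := map_mk_mem_minimalPrimes hIq hq
  have key := two_le_dim_quotient_of_flat_complete_domain (R₁ ⧸ p) (R₂ ⧸ I) (h1 p hpmin) hq'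
  rwa [ringKrullDim_eq_of_ringEquiv (DoubleQuot.quotQuotEquivQuotOfLE hIq)] at key

end Groth.Agent.Lib.Helper12.C2
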