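import Groth.Agent.Lib.Helper12.PairNoethA
import Groth.Agent.Lib.Helper12.NoethCrit

/-!
# The henselization of a noetherian pair is noetherian
-/

set_option autoImplicit false
universe u

namespace Groth.Agent.Lib.Helper12.PairNbhd

variable {A : Type u} [CommRing A] {I : Ideal A}

/-- Ideals of a noetherian ring are closed for the adic topology of an ideal in the radical. -/
theorem mem_of_forall_mem_sup_pow_of_le_jacobson {R : Type*} [CommRing R] [IsNoetherianRing R]
    (K : Ideal R) (hK : K ≤ Ideal.jacobson ⊥)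
    (J : Ideal R) (a : R) (h : ∀ n : ℕ, a ∈ J ⊔ K ^ n) : a ∈ J := by
  have key := Ideal.iInf_pow_smul_eq_bot_of_le_jacobson (R := R) (M := R ⧸ J) K hK
  have hmem : (Ideal.Quotient.mk J a) ∈ (⨅ i : ℕ, K ^ i • ⊤ : Submodule R (R ⧸ J)) := by
    rw [Submodule.mem_iInf]
    intro n
    obtain ⟨j, hj, c, hc, rfl⟩ := Submodule.mem_sup.mp (h n)
    have h1 : Ideal.Quotient.mk J (j + c) = c • (1 : R ⧸ J) := by
      rw [map_add, Ideal.Quotient.eq_zero_iff_mem.mpr hj, zero_add, Algebra.smul_def, mul_one]
      rfl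
    rw [h1]
    exact Submodule.smul_mem_smul hc Submodule.mem_top
  rw [key, Submodule.mem_bot] at hmem
  exact Ideal.Quotient.eq_zero_iff_mem.mp hmem

namespace Lim

section Noeth

variable [IsNoetherianRing A]

instance isNoetherianRing_G (i : PNbhd A I) : IsNoetherianRing i.G :=
  IsLocalization.isNoetherianRing (unitSub i.Ring i.σ) _ inferInstance

theorem of_comp_transR {i j : PNbhd A I} (h : i ≤ j) :
    (of A I j).comp (PNbhd.transR i j h) = of A I i := by
  ext x
  exact of_trans h x

theorem comap_map_of (i : PNbhd A I) (J : Ideal i.G) :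
    (J.map (of A I i)).comap (of A I i) = J := by
  letI := algebraOver i
  haveI := faithfullyFlat_over i
  exact Ideal.comap_map_eq_self_of_faithfullyFlat (B := Lim A I) J

theorem map_le_jacobson_stage (i : PNbhd A I) :
    I.map (algebraMap A i.G) ≤ Ideal.jacobson ⊥ := by
  rw [← ker_pt_stage]
  exact ker_zarPt_le_jacobson i.Ring i.σ

/-- Ideals extended from a neighbourhood are closed in the `I`-adic topology. -/
theorem mem_map_of_forall_mem_sup_pow (i : PNbhd A I) (J : Ideal i.G) (x : Lim A I)
    (h : ∀ n : ℕ, x ∈ J.map (of A I i) ⊔ (I.map (algebraMap A (Lim A I))) ^ n) :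
    x ∈ J.map (of A I i) := by
  obtain ⟨k, a, rfl⟩ := exists_of x
  obtain ⟨l, hil, hkl⟩ := exists_ge_ge i k
  have e1 : J.map (of A I i) = (J.map (PNbhd.transR i l hil)).map (of A I l) := by
    rw [Ideal.map_map, of_comp_transR]
  have e2 : of A I k a = of A I l (PNbhd.trans k l hkl a) := (of_trans hkl a).symm
  rw [e1, e2] at h ⊢
  apply Ideal.mem_map_of_mem
  apply mem_of_forall_mem_sup_pow_of_le_jacobson (I.map (algebraMap A l.G))
    (map_le_jacobson_stage l)
  intro n
  have := h n
  rw [← map_map_stage l I, ← Ideal.map_pow, ← Ideal.map_sup] at this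
  rw [← comap_map_of l (J.map (PNbhd.transR i l hil) ⊔ (I.map (algebraMap A l.G)) ^ n)]
  exact this

/-- Every finitely generated ideal of the limit comes from a neighbourhood. -/
theorem exists_map_of_eq_of_fg (J : Ideal (Lim A I)) (hJ : J.FG) :
    ∃ (i : PNbhd A I) (Ji : Ideal i.G), Ji.map (of A I i) = J := by
  obtain ⟨n, g, rfl⟩ := Submodule.fg_iff_exists_fin_generating_family.mp hJ
  obtain ⟨i, hi⟩ := exists_common_of g
  choose z hz using hi
  refine ⟨i, Ideal.span (Set.range z), ?_⟩
  rw [Ideal.map_span, ← Set.range_comp]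
  congr 2
  ext j
  exact hz j

theorem mem_of_forall_mem_sup_pow_of_fg (J : Ideal (Lim A I)) (hJ : J.FG) (x : Lim A I)
    (h : ∀ n : ℕ, x ∈ J ⊔ (I.map (algebraMap A (Lim A I))) ^ n) : x ∈ J := by
  obtain ⟨i, Ji, rfl⟩ := exists_map_of_eq_of_fg J hJ
  exact mem_map_of_forall_mem_sup_pow i Ji x h

instance isNoetherianRing : IsNoetherianRing (Lim A I) := by
  haveI : IsNoetherianRing (Lim A I ⧸ I.map (algebraMap A (Lim A I))) := by
    rw [← ker_pt_eq_map]
    exact isNoetherianRing_of_ringEquiv _
      (RingHom.quotientKerEquivOfSurjective (f := (pt A I : Lim A I →+* A ⧸ I))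
        pt_surjective).symm
  apply isNoetherianRing_of_fg_of_closed (I.map (algebraMap A (Lim A I)))
  · exact Ideal.FG.map (IsNoetherian.noetherian _) _
  · exact mem_of_forall_mem_sup_pow_of_fg

end Noeth

end Lim

/-- A henselization of a noetherian pair is noetherian. -/
theorem isNoetherianRing_of_isPairHenselization [IsNoetherianRing A] {B : Type u} [CommRing B]
    [Algebra A B] (hB : Hens2.IsPairHenselization A I B) : IsNoetherianRing B := by
  obtain ⟨e⟩ := PairUnique.nonempty_algEquiv (Lim.isPairHenselization A I) hB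
  exact isNoetherianRing_of_ringEquiv _ e.toRingEquiv

end Groth.Agent.Lib.Helper12.PairNbhd
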