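import Mathlib.Algebra.Colimit.Ring
import Mathlib.RingTheory.LocalRing.RingHom.Basic

set_option autoImplicit false

/-!
# Direct limits of local rings
-/

namespace Groth.Agent.Lib.Helper12

open Ring.DirectLimit

section
variable {ι : Type*} [Preorder ι] [Nonempty ι] [IsDirectedOrder ι] (G : ι → Type*)
  [∀ i, CommRing (G i)] (f : ∀ i j, i ≤ j → G i →+* G j)
  [DirectedSystem G fun i j h => f i j h]

theorem directLimit_nontrivial [∀ i, Nontrivial (G i)] :
    Nontrivial (Ring.DirectLimit G (f · · ·)) := by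
  refine ⟨⟨0, 1, fun h => ?_⟩⟩
  obtain ⟨i⟩ := ‹Nonempty ι›
  have h1 : of G (f · · ·) i 1 = 0 := by rw [map_one]; exact h.symm
  obtain ⟨j, hij, hj⟩ := of.zero_exact h1
  rw [map_one] at hj
  exact one_ne_zero hj

theorem directLimit_isLocalRing [∀ i, IsLocalRing (G i)] :
    IsLocalRing (Ring.DirectLimit G (f · · ·)) := by
  haveI := directLimit_nontrivial G f
  refine IsLocalRing.of_isUnit_or_isUnit_one_sub_self fun x => ?_
  obtain ⟨i, a, rfl⟩ := exists_of x
  rcases IsLocalRing.isUnit_or_isUnit_one_sub_self a with h | h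
  · exact Or.inl (h.map _)
  · right
    have := h.map (of G (f · · ·) i)
    rwa [map_sub, map_one] at this

theorem directLimit_isLocalHom_of [∀ i, IsLocalRing (G i)]
    (hf : ∀ i j h, IsLocalHom (f i j h)) (i : ι) :
    IsLocalHom (of G (f · · ·) i) := by
  refine ⟨fun a ha => ?_⟩
  obtain ⟨y, hy⟩ := ha.exists_right_inv
  obtain ⟨j, b, rfl⟩ := exists_of y
  obtain ⟨k, hik, hjk⟩ := exists_ge_ge i j
  have h0 : of G (f · · ·) k (f i k hik a * f j k hjk b - 1) = 0 := by
    rw [map_sub, map_mul, map_one, of_f, of_f, hy, sub_self]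
  obtain ⟨l, hkl, hl⟩ := of.zero_exact h0
  rw [map_sub, map_mul, map_one, sub_eq_zero] at hl
  have e1 : f k l hkl (f i k hik a) = f i l (hik.trans hkl) a :=
    DirectedSystem.map_map (f := fun i j h => f i j h) hik hkl a
  rw [e1] at hl
  have hu : IsUnit (f i l (hik.trans hkl) a) := IsUnit.of_mul_eq_one _ hl
  exact (hf i l _).map_nonunit a hu

end

end Groth.Agent.Lib.Helper12
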