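import Mathlib
import Groth.Agent.Lib.Helper12.PairTrunc
import Groth.Agent.Lib.Helper12.EtaleHomLift

/-!
# The henselization of a pair as the colimit of étale neighbourhoods with trivial quotient
-/

set_option autoImplicit false
universe u

namespace Groth.Agent.Lib.Helper12.PairNbhd

open TensorProduct

variable {A : Type u} [CommRing A] {I : Ideal A}

/-- The induced point of a localization away from an element which is a unit at the point. -/
noncomputable def awayPt {C : Type u} [CommRing C] [Algebra A C] (σ : C →ₐ[A] A ⧸ I) (g : C)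
    (hg : IsUnit (σ g)) : Localization.Away g →ₐ[A] A ⧸ I :=
  IsLocalization.liftAlgHom (M := Submonoid.powers g) (f := σ) (by
    rintro ⟨y, m, rfl⟩
    show IsUnit (σ (g ^ m))
    rw [map_pow]
    exact hg.pow m)

theorem awayPt_algebraMap {C : Type u} [CommRing C] [Algebra A C] (σ : C →ₐ[A] A ⧸ I) (g : C)
    (hg : IsUnit (σ g)) (c : C) : awayPt σ g hg (algebraMap C (Localization.Away g) c) = σ c := by
  unfold awayPt
  exact IsLocalization.lift_eq _ c

/-- Localizing a pointed algebra away from a suitable element gives an algebra with trivial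
quotient modulo `I`. -/
theorem away_quotient_bijective {C : Type u} [CommRing C] [Algebra A C] (σ : C →ₐ[A] A ⧸ I)
    (g : C) (hg : IsUnit (σ g))
    (hker : ∀ x, σ x = 0 → ∃ k : ℕ, x * g ^ k ∈ I.map (algebraMap A C)) :
    Function.Bijective (Ideal.quotientMap (I.map (algebraMap A (Localization.Away g)))
      (algebraMap A (Localization.Away g)) Ideal.le_comap_map) := by
  have hkill : ∀ z ∈ I.map (algebraMap A (Localization.Away g)), awayPt σ g hg z = 0 := by
    have : I.map (algebraMap A (Localization.Away g)) ≤ RingHom.ker (awayPt σ g hg) := by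
      rw [Ideal.map_le_iff_le_comap]
      intro a ha
      rw [Ideal.mem_comap, RingHom.mem_ker, AlgHom.commutes, Ideal.Quotient.algebraMap_eq,
        Ideal.Quotient.eq_zero_iff_mem]
      exact ha
    exact fun z hz => this hz
  have hgu : IsUnit (algebraMap C (Localization.Away g) g) :=
    IsLocalization.Away.algebraMap_isUnit g
  have hkerle : ∀ z, awayPt σ g hg z = 0 → z ∈ I.map (algebraMap A (Localization.Away g)) := by
    intro z hz
    obtain ⟨d, sd, rfl⟩ := IsLocalization.exists_mk'_eq (Submonoid.powers g) z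
    have h1 : IsLocalization.mk' (Localization.Away g) d sd *
        algebraMap C (Localization.Away g) sd = algebraMap C (Localization.Away g) d :=
      IsLocalization.mk'_spec _ d _
    have h2 : σ d = 0 := by
      rw [← awayPt_algebraMap σ g hg d, ← h1, map_mul, hz, zero_mul]
    obtain ⟨k, hk⟩ := hker d h2
    have h3 : algebraMap C (Localization.Away g) (d * g ^ k) ∈
        I.map (algebraMap A (Localization.Away g)) := by
      have := Ideal.mem_map_of_mem (algebraMap C (Localization.Away g)) hk
      rwa [Ideal.map_map, ← IsScalarTower.algebraMap_eq] at this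
    have hu : IsUnit (algebraMap C (Localization.Away g) sd *
        algebraMap C (Localization.Away g) (g ^ k)) := by
      rw [map_pow]
      exact (IsLocalization.map_units _ sd).mul (hgu.pow k)
    obtain ⟨u, hu⟩ := hu
    have h4 : IsLocalization.mk' (Localization.Away g) d sd * (u : Localization.Away g) ∈
        I.map (algebraMap A (Localization.Away g)) := by
      rw [hu, ← mul_assoc, h1, ← map_mul]
      exact h3
    have := Ideal.mul_mem_right (↑u⁻¹ : Localization.Away g) _ h4
    rwa [mul_assoc, Units.mul_inv, mul_one] at this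
  constructor
  · rw [injective_iff_map_eq_zero]
    intro x hx
    obtain ⟨a, rfl⟩ := Ideal.Quotient.mk_surjective x
    rw [Ideal.quotientMap_mk, Ideal.Quotient.eq_zero_iff_mem] at hx
    have := hkill _ hx
    rwa [AlgHom.commutes] at this
  · intro y
    obtain ⟨z, rfl⟩ := Ideal.Quotient.mk_surjective y
    obtain ⟨a, ha⟩ := Ideal.Quotient.mk_surjective (awayPt σ g hg z)
    refine ⟨Ideal.Quotient.mk I a, ?_⟩
    rw [Ideal.quotientMap_mk]
    symm
    rw [Ideal.Quotient.eq]
    apply hkerle
    rw [map_sub, AlgHom.commutes, Ideal.Quotient.algebraMap_eq, ha, sub_self]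

section PartA

variable {A' : Type u} [CommRing A'] [Algebra A A']
  (hbij : Function.Bijective (Ideal.quotientMap (I.map (algebraMap A A')) (algebraMap A A')
    Ideal.le_comap_map))

include hbij in
/-- Every element of an algebra with trivial quotient is congruent to an element of `A`. -/
theorem exists_sub_mem_of_bijective (x : A') :
    ∃ a : A, x - algebraMap A A' a ∈ I.map (algebraMap A A') := by
  obtain ⟨q, hq⟩ := hbij.2 (Ideal.Quotient.mk _ x)
  obtain ⟨a, rfl⟩ := Ideal.Quotient.mk_surjective q
  rw [Ideal.quotientMap_mk] at hq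
  exact ⟨a, Ideal.Quotient.eq.mp hq.symm⟩

include hbij in
/-- The point of an algebra with trivial quotient. -/
theorem exists_point_of_bijective :
    ∃ σ : A' →ₐ[A] A ⧸ I, ∀ x, σ x = 0 ↔ x ∈ I.map (algebraMap A A') := by
  let e := RingEquiv.ofBijective _ hbij
  let σ : A' →ₐ[A] A ⧸ I :=
    { (e.symm : A' ⧸ I.map (algebraMap A A') →+* A ⧸ I).comp (Ideal.Quotient.mk _) with
      commutes' := by
        intro a
        show e.symm (Ideal.Quotient.mk _ (algebraMap A A' a)) = _
        rw [RingEquiv.symm_apply_eq]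
        show _ = Ideal.quotientMap (I.map (algebraMap A A')) (algebraMap A A') Ideal.le_comap_map
          (Ideal.Quotient.mk I a)
        exact Ideal.quotientMap_mk.symm }
  refine ⟨σ, fun x => ?_⟩
  show e.symm (Ideal.Quotient.mk _ x) = 0 ↔ _
  rw [RingEquiv.symm_apply_eq, map_zero, Ideal.Quotient.eq_zero_iff_mem]

include hbij in
/-- Algebra maps from an algebra with trivial quotient agree modulo `I`. -/
theorem sub_mem_of_bijective {B : Type u} [CommRing B] [Algebra A B] (φ₁ φ₂ : A' →ₐ[A] B)
    (x : A') : φ₁ x - φ₂ x ∈ I.map (algebraMap A B) := by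
  obtain ⟨a, ha⟩ := exists_sub_mem_of_bijective hbij x
  have h : ∀ φ : A' →ₐ[A] B, φ x - algebraMap A B a ∈ I.map (algebraMap A B) := by
    intro φ
    have := Ideal.mem_map_of_mem (φ : A' →+* B) ha
    rw [Ideal.map_map, φ.comp_algebraMap] at this
    simpa using this
  have := Ideal.sub_mem _ (h φ₁) (h φ₂)
  simpa using this

include hbij in
/-- An étale algebra with trivial quotient has exactly one algebra map to a henselian pair. -/
theorem nonempty_unique_algHom [Algebra.Etale A A'] {B : Type u} [CommRing B] [Algebra A B]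
    [HenselianRing B (I.map (algebraMap A B))] : Nonempty (Unique (A' →ₐ[A] B)) := by
  obtain ⟨σ, -⟩ := exists_point_of_bijective hbij
  let gb : A ⧸ I →ₐ[A] B ⧸ I.map (algebraMap A B) :=
    Ideal.quotientMapₐ _ (Algebra.ofId A B) Ideal.le_comap_map
  obtain ⟨φ, -⟩ := exists_algHom_lift_of_etale_of_henselianRing (I.map (algebraMap A B))
    (gb.comp σ)
  refine ⟨⟨⟨φ⟩, fun φ' => ?_⟩⟩
  exact algHom_eq_of_henselianRing (I.map (algebraMap A B)) φ' φ
    (fun x => sub_mem_of_bijective hbij φ' φ x)

end PartA

/-- Every element of the limit comes from an étale algebra with trivial quotient. -/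
theorem Lim.exists_etale_of (x : Lim A I) :
    ∃ (A' : Type u) (_ : CommRing A') (_ : Algebra A A') (_ : Algebra.Etale A A'),
      Function.Bijective (Ideal.quotientMap (I.map (algebraMap A A')) (algebraMap A A')
        Ideal.le_comap_map) ∧ ∃ (φ : A' →ₐ[A] Lim A I) (s : A'), φ s = x := by
  obtain ⟨i, z, rfl⟩ := Lim.exists_of x
  obtain ⟨c, t, rfl⟩ := IsLocalization.exists_mk'_eq (unitSub i.Ring i.σ) z
  obtain ⟨c₀, hc₀1, hc₀⟩ := exists_ker_mul_mem i.Ring i.σ
  have hg : IsUnit (i.σ ((t : i.Ring) * c₀)) := by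
    rw [map_mul, hc₀1, mul_one]
    exact t.2
  have hbij := away_quotient_bijective i.σ ((t : i.Ring) * c₀) hg (fun x hx => ⟨1, by
    rw [pow_one, mul_comm (t : i.Ring), ← mul_assoc]
    exact Ideal.mul_mem_right _ _ (hc₀ x hx)⟩)
  have hgu : IsUnit (algebraMap i.Ring i.G ((t : i.Ring) * c₀)) :=
    (isUnit_algebraMap_iff i.Ring i.σ _).mpr hg
  let κ : Localization.Away ((t : i.Ring) * c₀) →ₐ[A] i.G :=
    IsLocalization.liftAlgHom (M := Submonoid.powers ((t : i.Ring) * c₀))
      (f := IsScalarTower.toAlgHom A i.Ring i.G) (by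
        rintro ⟨y, m, rfl⟩
        show IsUnit (algebraMap i.Ring i.G (((t : i.Ring) * c₀) ^ m))
        rw [map_pow]
        exact hgu.pow m)
  have hκ : ∀ d : i.Ring, κ (algebraMap i.Ring _ d) = algebraMap i.Ring i.G d := fun d =>
    IsLocalization.lift_eq _ d
  refine ⟨Localization.Away ((t : i.Ring) * c₀), inferInstance, inferInstance, inferInstance,
    hbij, (Lim.ofₐ A I i).comp κ,
    IsLocalization.mk' _ (c * c₀) ⟨(t : i.Ring) * c₀, Submonoid.mem_powers _⟩, ?_⟩
  show Lim.of A I i (κ _) = Lim.of A I i _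
  congr 1
  apply hgu.mul_left_cancel
  have h1 : algebraMap i.Ring i.G ((t : i.Ring) * c₀) *
      κ (IsLocalization.mk' _ (c * c₀) ⟨(t : i.Ring) * c₀, Submonoid.mem_powers _⟩) =
      algebraMap i.Ring i.G (c * c₀) := by
    rw [← hκ, ← map_mul, ← hκ]
    congr 1
    exact IsLocalization.mk'_spec' _ (c * c₀) ⟨(t : i.Ring) * c₀, Submonoid.mem_powers _⟩
  have h2 : algebraMap i.Ring i.G ((t : i.Ring) * c₀) * IsLocalization.mk' i.G c t =
      algebraMap i.Ring i.G (c * c₀) := by
    rw [map_mul, map_mul, mul_comm (algebraMap i.Ring i.G (t : i.Ring)), mul_assoc,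
      IsLocalization.mk'_spec' i.G c t, mul_comm]
  rw [h1, h2]

section PartC

variable {A' : Type u} [CommRing A'] [Algebra A A'] [Algebra.Etale A A']
  {B : Type u} [CommRing B] [Algebra A B]

/-- If an element of an étale algebra dies in a flat algebra `B`, then its annihilator generates
the unit ideal of `B`. -/
theorem one_mem_map_annihilator [Module.Flat A B] (φ : A' →ₐ[A] B) (s : A') (hs : φ s = 0) :
    (1 : B) ∈ (Ideal.span {s}).annihilator.map (φ : A' →+* B) := by
  classical
  -- the retraction `μ : B ⊗ A' → B`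
  let μ : B ⊗[A] A' →ₐ[B] B :=
    Algebra.TensorProduct.lift (AlgHom.id B B) φ (fun _ _ => Commute.all _ _)
  have hμ : ∀ (b : B) (a : A'), μ (b ⊗ₜ[A] a) = b * φ a := fun b a =>
    Algebra.TensorProduct.lift_tmul _ _ _ _ _
  let σ : B ⊗[A] A' →ₐ[B] B ⧸ (⊥ : Ideal B) := (Ideal.Quotient.mkₐ B ⊥).comp μ
  have hσ : ∀ x, σ x = 0 ↔ μ x = 0 := by
    intro x
    show Ideal.Quotient.mk ⊥ (μ x) = 0 ↔ _
    rw [Ideal.Quotient.eq_zero_iff_mem, Ideal.mem_bot]
  obtain ⟨c₀, hc₀1, hc₀⟩ := exists_ker_mul_mem (A := B) (I := ⊥) (B ⊗[A] A') σ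
  have hc₀1' : μ c₀ = 1 := by
    have : σ (c₀ - 1) = 0 := by rw [map_sub, hc₀1, map_one, sub_self]
    rw [hσ, map_sub, map_one, sub_eq_zero] at this
    exact this
  have hc₀' : ∀ x, μ x = 0 → x * c₀ = 0 := by
    intro x hx
    have := hc₀ x ((hσ x).mpr hx)
    rwa [Ideal.map_bot, Ideal.mem_bot] at this
  -- `c₀` is killed by `1 ⊗ s`
  have h1 : ((1 : B) ⊗ₜ[A] s) * c₀ = 0 := hc₀' _ (by rw [hμ, hs, mul_zero])
  let ms : A' →ₗ[A] A' := LinearMap.mulLeft A s
  have hms : ∀ x : B ⊗[A] A', ((1 : B) ⊗ₜ[A] s) * x = LinearMap.lTensor B ms x := by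
    intro x
    induction x using TensorProduct.induction_on with
    | zero => simp
    | tmul b a =>
      rw [Algebra.TensorProduct.tmul_mul_tmul, one_mul, LinearMap.lTensor_tmul]
      rfl
    | add x y hx hy => rw [mul_add, map_add, hx, hy]
  have hker : c₀ ∈ LinearMap.ker (LinearMap.lTensor B ms) := by
    rw [LinearMap.mem_ker, ← hms]
    exact h1
  have hexact := Module.Flat.lTensor_exact B (LinearMap.exact_subtype_ker_map ms)
  obtain ⟨w, hw⟩ := (hexact c₀).mp hker
  -- elements in the range are mapped by `μ` into the ideal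
  have hrange : ∀ w : B ⊗[A] (LinearMap.ker ms),
      μ (LinearMap.lTensor B (LinearMap.ker ms).subtype w) ∈
        (Ideal.span {s}).annihilator.map (φ : A' →+* B) := by
    intro w
    induction w using TensorProduct.induction_on with
    | zero => simp
    | tmul b a =>
      rw [LinearMap.lTensor_tmul, hμ]
      apply Ideal.mul_mem_left
      apply Ideal.mem_map_of_mem
      rw [Submodule.mem_annihilator_span_singleton, smul_eq_mul]
      have : ms a.1 = 0 := a.2
      rw [mul_comm]
      exact this
    | add x y hx hy =>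
      rw [map_add, map_add]
      exact Ideal.add_mem _ hx hy
  have := hrange w
  rwa [hw, hc₀1'] at this

end PartC

end Groth.Agent.Lib.Helper12.PairNbhd
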