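import Mathlib
import Groth.Agent.Lib.Helper12.PairColim

/-!
# Finite families in the henselization of a pair come from a common étale neighbourhood
-/

set_option autoImplicit false
universe u

namespace Groth.Agent.Lib.Helper12.PairNbhd

variable {A : Type u} [CommRing A] {I : Ideal A}

theorem Lim.exists_common_of {m : ℕ} (x : Fin m → Lim A I) :
    ∃ (i : PNbhd A I), ∀ j, ∃ z : i.G, Lim.of A I i z = x j := by
  induction m with
  | zero =>
    obtain ⟨i⟩ := (inferInstance : Nonempty (PNbhd A I))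
    exact ⟨i, fun j => j.elim0⟩
  | succ m ih =>
    obtain ⟨i, hi⟩ := ih (fun j => x j.succ)
    obtain ⟨i₀, z₀, hz₀⟩ := Lim.exists_of (x 0)
    obtain ⟨k, hik, hi₀k⟩ := exists_ge_ge i i₀
    refine ⟨k, Fin.cases ⟨PNbhd.trans i₀ k hi₀k z₀, by rw [Lim.of_trans, hz₀]⟩ (fun j => ?_)⟩
    obtain ⟨z, hz⟩ := hi j
    exact ⟨PNbhd.trans i k hik z, by rw [Lim.of_trans, hz]⟩

/-- Every finite family of elements of the limit comes from one étale algebra with trivial
quotient. -/
theorem Lim.exists_etale_of_fin {m : ℕ} (x : Fin m → Lim A I) :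
    ∃ (A' : Type u) (_ : CommRing A') (_ : Algebra A A') (_ : Algebra.Etale A A'),
      Function.Bijective (Ideal.quotientMap (I.map (algebraMap A A')) (algebraMap A A')
        Ideal.le_comap_map) ∧ ∃ (φ : A' →ₐ[A] Lim A I), ∀ j, ∃ s : A', φ s = x j := by
  obtain ⟨i, hi⟩ := Lim.exists_common_of x
  choose z hz using hi
  obtain ⟨t, ht⟩ := IsLocalization.exist_integer_multiples_of_finite (unitSub i.Ring i.σ) z
  choose c hc using ht
  obtain ⟨c₀, hc₀1, hc₀⟩ := exists_ker_mul_mem i.Ring i.σ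
  have hg : IsUnit (i.σ ((t : i.Ring) * c₀)) := by
    rw [map_mul, hc₀1, mul_one]
    exact t.2
  have hbij := away_quotient_bijective i.σ ((t : i.Ring) * c₀) hg (fun x hx => ⟨1, by
    rw [pow_one, mul_comm (t : i.Ring), ← mul_assoc]
    exact Ideal.mul_mem_right _ _ (hc₀ x hx)⟩)
  have hgu : IsUnit (algebraMap i.Ring i.G ((t : i.Ring) * c₀)) :=
    (isUnit_algebraMap_iff i.Ring i.σ _).mpr hg
  let κ : Localization.Away ((t : i.Ring) * c₀) →ₐ[A] i.G :=
    IsLocalization.liftAlgHom (M := Submonoid.powers ((t : i.Ring) * c₀))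
      (f := IsScalarTower.toAlgHom A i.Ring i.G) (by
        rintro ⟨y, m, rfl⟩
        show IsUnit (algebraMap i.Ring i.G (((t : i.Ring) * c₀) ^ m))
        rw [map_pow]
        exact hgu.pow m)
  have hκ : ∀ d : i.Ring, κ (algebraMap i.Ring _ d) = algebraMap i.Ring i.G d := fun d =>
    IsLocalization.lift_eq _ d
  refine ⟨Localization.Away ((t : i.Ring) * c₀), inferInstance, inferInstance, inferInstance,
    hbij, (Lim.ofₐ A I i).comp κ, fun j =>
    ⟨IsLocalization.mk' _ (c j * c₀) ⟨(t : i.Ring) * c₀, Submonoid.mem_powers _⟩, ?_⟩⟩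
  rw [← hz j]
  show Lim.of A I i (κ _) = Lim.of A I i _
  congr 1
  apply hgu.mul_left_cancel
  have h1 : algebraMap i.Ring i.G ((t : i.Ring) * c₀) *
      κ (IsLocalization.mk' _ (c j * c₀) ⟨(t : i.Ring) * c₀, Submonoid.mem_powers _⟩) =
      algebraMap i.Ring i.G (c j * c₀) := by
    rw [← hκ, ← map_mul, ← hκ]
    congr 1
    exact IsLocalization.mk'_spec' _ (c j * c₀) ⟨(t : i.Ring) * c₀, Submonoid.mem_powers _⟩
  have h2 : algebraMap i.Ring i.G ((t : i.Ring) * c₀) * z j =
      algebraMap i.Ring i.G (c j * c₀) := by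
    have := hc j
    rw [Algebra.smul_def] at this
    rw [map_mul, map_mul, this]
    ring
  rw [h1, h2]

end Groth.Agent.Lib.Helper12.PairNbhd
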