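import Mathlib
import Groth.Agent.Lib.Helper12.PairTrunc
import Groth.Agent.Lib.Helper12.HenselizationFlat
import Groth.Agent.Lib.Helper12.HenselizationUniv

/-!
# Henselization of a pair versus henselization of a local ring
-/

set_option autoImplicit false
universe u

namespace Groth.Agent.Lib.Helper12.PairUnique

open IsLocalRing

/-- A local ring which is henselian along its maximal ideal is a henselian local ring. -/
theorem henselianLocalRing_of_henselianRing {B : Type*} [CommRing B] [IsLocalRing B]
    (h : HenselianRing B (maximalIdeal B)) : HenselianLocalRing B where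
  is_henselian f hf a₀ h₁ h₂ := h.is_henselian f hf a₀ h₁ (h₂.map _)

/-- Henselian pairs transfer along ring isomorphisms. -/
theorem henselianRing_of_ringEquiv {B B' : Type u} [CommRing B] [CommRing B'] (e : B ≃+* B')
    (K : Ideal B) [HenselianRing B K] : HenselianRing B' (K.map (e : B →+* B')) := by
  letI : Algebra B B' := (e : B →+* B').toAlgebra
  haveI : Algebra.IsIntegral B B' := Algebra.isIntegral_of_surjective e.surjective
  exact henselianRing_map_of_isIntegral B K B'

/-- Being a henselization of a pair transfers along algebra isomorphisms. -/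
theorem isPairHenselization_of_algEquiv {A : Type u} [CommRing A] {I : Ideal A} {B B' : Type u}
    [CommRing B] [Algebra A B] [CommRing B'] [Algebra A B']
    (hB : Hens2.IsPairHenselization A I B) (e : B ≃ₐ[A] B') : Hens2.IsPairHenselization A I B' := by
  constructor
  · haveI := hB.1
    have := henselianRing_of_ringEquiv (e : B ≃+* B') (I.map (algebraMap A B))
    rw [Ideal.map_map] at this
    have hcomp : ((e : B ≃+* B') : B →+* B').comp (algebraMap A B) = algebraMap A B' := by
      ext a
      exact e.commutes a
    rwa [hcomp] at this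
  · intro C _ J f hJ hle
    obtain ⟨g, hg, huniq⟩ := hB.2 C J f hJ hle
    refine ⟨g.comp (e.symm : B' →+* B), ?_, ?_⟩
    · ext a
      show g (e.symm (algebraMap A B' a)) = f a
      rw [e.symm.commutes]
      exact RingHom.congr_fun hg a
    · intro g' hg'
      have : g'.comp (e : B →+* B') = g := huniq _ (by
        ext a
        show g' (e (algebraMap A B a)) = f a
        rw [e.commutes]
        exact RingHom.congr_fun hg' a)
      ext b
      show g' b = g (e.symm b)
      rw [← this]
      show g' b = g' (e (e.symm b))
      rw [e.apply_symm_apply]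

variable {A : Type u} [CommRing A] [IsLocalRing A]

/-- For a henselization `B` of the pair `(A, m)` which is local, `m B` is the maximal ideal. -/
theorem map_maximalIdeal_eq {B : Type u} [CommRing B] [IsLocalRing B] [Algebra A B]
    (hB : Hens2.IsPairHenselization A (maximalIdeal A) B) :
    (maximalIdeal A).map (algebraMap A B) = maximalIdeal B := by
  have hbij := quotientMap_bijective_aux hB 1 (maximalIdeal A)
    ((maximalIdeal A).map (algebraMap A B)) (pow_one _).symm rfl Ideal.le_comap_map
  have hfield : IsField (B ⧸ (maximalIdeal A).map (algebraMap A B)) :=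
    MulEquiv.isField ((Ideal.Quotient.maximal_ideal_iff_isField_quotient _).mp inferInstance)
      (RingEquiv.ofBijective _ hbij).symm.toMulEquiv
  exact eq_maximalIdeal (Ideal.Quotient.maximal_of_isField _ hfield)

/-- A local henselization of the pair `(A, m)` is a henselization of the local ring `A`. -/
theorem isHenselization_of_isPairHenselization {B : Type u} [CommRing B] [IsLocalRing B]
    [Algebra A B] [IsLocalHom (algebraMap A B)]
    (hB : Hens2.IsPairHenselization A (maximalIdeal A) B) : Hensel.IsHenselization A B where
  henselian := by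
    apply henselianLocalRing_of_henselianRing
    rw [← map_maximalIdeal_eq hB]
    exact hB.1
  universal T _ _ f hf := by
    apply hB.2 T (maximalIdeal T) f inferInstance
    rw [Ideal.map_le_iff_le_comap]
    intro a ha
    rw [Ideal.mem_comap, mem_maximalIdeal, mem_nonunits_iff] at *
    exact fun h => ha (hf.map_nonunit a h)

end Groth.Agent.Lib.Helper12.PairUnique

namespace Groth.Agent.Lib.Helper12.PairNbhd.Lim

open IsLocalRing

variable {A : Type u} [CommRing A] {I : Ideal A}

theorem isUnit_iff_isUnit_pt (x : Lim A I) : IsUnit x ↔ IsUnit (pt A I x) := by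
  constructor
  · intro h
    exact h.map _
  · intro h
    obtain ⟨q, hq⟩ := h.exists_right_inv
    obtain ⟨y, rfl⟩ := pt_surjective q
    have hker : x * y - 1 ∈ RingHom.ker (pt A I) := by
      rw [RingHom.mem_ker, map_sub, map_mul, hq, map_one, sub_self]
    have hu : IsUnit (x * y) := isUnit_of_sub_one_mem ker_pt_le_jacobson hker
    exact isUnit_of_mul_isUnit_left hu

variable [IsLocalRing A]

theorem isLocalRing (hI : I ≠ ⊤) : IsLocalRing (Lim A I) := by
  haveI : Nontrivial (A ⧸ I) := Ideal.Quotient.nontrivial_iff.mpr hI
  haveI : IsLocalRing (A ⧸ I) :=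
    IsLocalRing.of_surjective' (Ideal.Quotient.mk I) Ideal.Quotient.mk_surjective
  haveI : Nontrivial (Lim A I) := (pt A I).toRingHom.domain_nontrivial
  apply IsLocalRing.of_isUnit_or_isUnit_one_sub_self
  intro x
  rcases IsLocalRing.isUnit_or_isUnit_one_sub_self (pt A I x) with h | h
  · exact Or.inl ((isUnit_iff_isUnit_pt x).mpr h)
  · right
    rw [isUnit_iff_isUnit_pt, map_sub, map_one]
    exact h

theorem isLocalHom_algebraMap (hI : I ≠ ⊤) : IsLocalHom (algebraMap A (Lim A I)) := by
  constructor
  intro a ha
  have h1 : IsUnit (pt A I (algebraMap A (Lim A I) a)) := ha.map _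
  rw [AlgHom.commutes, Ideal.Quotient.algebraMap_eq] at h1
  by_contra hna
  have hmem : a ∈ maximalIdeal A := hna
  have hle : I ≤ maximalIdeal A := IsLocalRing.le_maximalIdeal hI
  -- `mk a` lies in the proper ideal `m / I`
  have h2 : Ideal.Quotient.mk I a ∈ (maximalIdeal A).map (Ideal.Quotient.mk I) :=
    Ideal.mem_map_of_mem _ hmem
  have h3 : (maximalIdeal A).map (Ideal.Quotient.mk I) = ⊤ := Ideal.eq_top_of_isUnit_mem _ h2 h1
  have h4 : maximalIdeal A = ⊤ := by
    have := congrArg (Ideal.comap (Ideal.Quotient.mk I)) h3
    rw [Ideal.comap_map_of_surjective _ Ideal.Quotient.mk_surjective, Ideal.comap_top,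
      ← RingHom.ker_eq_comap_bot, Ideal.mk_ker, sup_eq_left.mpr hle] at this
    exact this
  exact (maximalIdeal.isMaximal A).ne_top h4

end Groth.Agent.Lib.Helper12.PairNbhd.Lim
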