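import Groth.Agent.Lib.Helper12.EssEtale
import Mathlib.RingTheory.Unramified.LocalStructure
import Mathlib.RingTheory.QuasiFinite.Basic
import Mathlib.RingTheory.Etale.Basic

set_option autoImplicit false
universe u

namespace Groth.Agent.Lib.Helper12

open IsLocalRing TensorProduct

section
variable {A A₁ : Type u} [CommRing A] [IsLocalRing A] [CommRing A₁] [Algebra A A₁]

theorem essFiniteType_of_isEssentiallyEtale (h : EGA4loc.IsEssentiallyEtale A A₁) :
    Algebra.EssFiniteType A A₁ := by
  obtain ⟨C, _, _, q, _, hC, -, ⟨e⟩⟩ := h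
  exact (Algebra.EssFiniteType.iff_of_algEquiv e).mpr inferInstance

theorem formallyEtale_of_isEssentiallyEtale (h : EGA4loc.IsEssentiallyEtale A A₁) :
    Algebra.FormallyEtale A A₁ := by
  obtain ⟨C, _, _, q, _, hC, -, ⟨e⟩⟩ := h
  have : Algebra.FormallyEtale C (Localization.AtPrime q) :=
    Algebra.FormallyEtale.of_isLocalization q.primeCompl
  have : Algebra.FormallyEtale A (Localization.AtPrime q) :=
    Algebra.FormallyEtale.comp A C _
  exact Algebra.FormallyEtale.of_equiv e.symm

theorem quasiFinite_of_isEssentiallyEtale (h : EGA4loc.IsEssentiallyEtale A A₁) :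
    Algebra.QuasiFinite A A₁ := by
  have := essFiniteType_of_isEssentiallyEtale h
  have := formallyEtale_of_isEssentiallyEtale h
  infer_instance

end

/-- An algebra map between local algebras with local structure maps, whose source is quasi-finite
over the base, is a local homomorphism. -/
theorem isLocalHom_algHom_of_quasiFinite {A A₁ A₂ : Type*} [CommRing A] [IsLocalRing A]
    [CommRing A₁] [IsLocalRing A₁] [Algebra A A₁] [IsLocalHom (algebraMap A A₁)]
    [CommRing A₂] [IsLocalRing A₂] [Algebra A A₂] [IsLocalHom (algebraMap A A₂)]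
    [Algebra.QuasiFinite A A₁] (ψ : A₁ →ₐ[A] A₂) : IsLocalHom ψ.toRingHom := by
  refine ((local_hom_TFAE ψ.toRingHom).out 4 0).mp ?_
  have hP : ((maximalIdeal A₂).comap ψ.toRingHom).IsPrime := Ideal.comap_isPrime _ _
  refine Algebra.QuasiFinite.eq_of_le_of_under_eq (R := A) _ _
    (IsLocalRing.le_maximalIdeal hP.ne_top) ?_
  rw [Ideal.under, Ideal.under, Ideal.comap_comap]
  have h1 : ψ.toRingHom.comp (algebraMap A A₁) = algebraMap A A₂ := ψ.comp_algebraMap
  rw [h1]
  have e2 : (maximalIdeal A₂).comap (algebraMap A A₂) = maximalIdeal A :=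
    ((local_hom_TFAE (algebraMap A A₂)).out 0 4).mp ‹_›
  have e1 : (maximalIdeal A₁).comap (algebraMap A A₁) = maximalIdeal A :=
    ((local_hom_TFAE (algebraMap A A₁)).out 0 4).mp ‹_›
  rw [e1, e2]

/-- If `A → A₁` induces a surjection on residue fields, the residue of the image of any element
under an `A`-algebra local homomorphism `A₁ → A₂` is determined. -/
theorem residue_algHom_eq_of_surjective {A A₁ A₂ : Type*} [CommRing A] [IsLocalRing A]
    [CommRing A₁] [IsLocalRing A₁] [Algebra A A₁] [IsLocalHom (algebraMap A A₁)]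
    [CommRing A₂] [IsLocalRing A₂] [Algebra A A₂]
    (hs : Function.Surjective (IsLocalRing.ResidueField.map (algebraMap A A₁)))
    (ψ ψ' : A₁ →ₐ[A] A₂) [IsLocalHom ψ.toRingHom] [IsLocalHom ψ'.toRingHom] (x : A₁) :
    residue A₂ (ψ x) = residue A₂ (ψ' x) := by
  obtain ⟨a', ha'⟩ := hs (residue A₁ x)
  obtain ⟨a, rfl⟩ := residue_surjective a'
  rw [ResidueField.map_residue] at ha'
  have hx : x - algebraMap A A₁ a ∈ maximalIdeal A₁ := by
    rw [← residue_eq_zero_iff, map_sub, ha', sub_self]
  have key : ∀ (φ : A₁ →ₐ[A] A₂) [IsLocalHom φ.toRingHom],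
      residue A₂ (φ x) = residue A₂ (algebraMap A A₂ a) := by
    intro φ _
    rw [← sub_eq_zero, ← map_sub, residue_eq_zero_iff, ← φ.commutes, ← map_sub]
    have := ((local_hom_TFAE φ.toRingHom).out 0 3).mp ‹_›
    exact this hx
  rw [key ψ, key ψ']

end Groth.Agent.Lib.Helper12
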