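import Groth.Agent.Lib.Helper12.HensStruct
import Groth.Agent.Lib.Helper12.StrictStruct
import Groth.Agent.Lib.Helper12.EssEtale2
import Mathlib.RingTheory.Unramified.Finite
import Mathlib.RingTheory.Flat.EquationalCriterion

/-!
# Flatness over (strict) henselizations: flat cancellation for ind-(essentially étale) algebras
-/

set_option autoImplicit false
universe u

namespace Groth.Agent.Lib.Helper12.WEtFlat

/-- If `S` is a directed union of images of essentially finite type formally unramified
`R`-algebras, then an `S`-module which is flat over `R` is flat over `S`. -/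
theorem flat_of_forall_finset {R S M : Type u} [CommRing R] [CommRing S] [Algebra R S]
    [AddCommGroup M] [Module S M] [Module R M] [IsScalarTower R S M] (hR : Module.Flat R M)
    (h : ∀ s : Finset S, ∃ (E : Type u) (_ : CommRing E) (_ : Algebra R E)
      (_ : Algebra.EssFiniteType R E) (_ : Algebra.FormallyUnramified R E) (ψ : E →ₐ[R] S),
      ∀ x ∈ s, x ∈ ψ.range) : Module.Flat S M := by
  classical
  rw [Module.Flat.iff_forall_isTrivialRelation]
  intro l f x hfx
  obtain ⟨E, _, _, _, _, ψ, hψ⟩ := h (Finset.univ.image f)
  have hex : ∀ i, ∃ e : E, ψ e = f i := fun i =>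
    hψ (f i) (Finset.mem_image_of_mem f (Finset.mem_univ i))
  choose e he using hex
  letI : Module E M := Module.compHom M (ψ : E →+* S)
  have hsm : ∀ (c : E) (m : M), c • m = ψ c • m := fun _ _ => rfl
  haveI : IsScalarTower R E M := ⟨fun r c m => by
    rw [hsm, hsm, map_smul, smul_assoc]⟩
  haveI : Module.Flat E M := Algebra.FormallyUnramified.flat_of_restrictScalars R E M
  have hrel : ∑ i, e i • x i = 0 := by
    rw [← hfx]
    refine Finset.sum_congr rfl fun i _ => ?_
    rw [hsm, he]
  obtain ⟨k, a, y, hx, ha⟩ := Module.Flat.isTrivialRelation_of_sum_smul_eq_zero hrel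
  refine ⟨k, fun i j => ψ (a i j), y, ?_, ?_⟩
  · intro i
    rw [hx i]
    rfl
  · intro j
    have := congrArg ψ (ha j)
    rw [map_sum, map_zero] at this
    rw [← this]
    refine Finset.sum_congr rfl fun i _ => ?_
    rw [map_mul, he]

open IsLocalRing

variable (A : Type u) [CommRing A] [IsLocalRing A]

/-- Flat cancellation for a henselization. -/
theorem flat_of_isHenselization (S : Type u) [CommRing S] [IsLocalRing S] [Algebra A S]
    [IsLocalHom (algebraMap A S)] [Hensel.IsHenselization A S]
    (M : Type u) [AddCommGroup M] [Module S M] [Module A M] [IsScalarTower A S M]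
    (hM : Module.Flat A M) : Module.Flat S M := by
  refine flat_of_forall_finset hM fun s => ?_
  obtain ⟨i, ψ, -, -, hψ⟩ := HensStruct.exists_nbhd_range A S s
  have hE := i.isStrictlyEssentiallyEtale.1
  haveI : Algebra.FormallyEtale A i.G := formallyEtale_of_isEssentiallyEtale hE
  exact ⟨i.G, inferInstance, inferInstance, essFiniteType_of_isEssentiallyEtale hE,
    inferInstance, ψ, hψ⟩

/-- Flat cancellation for a strict henselization. -/
theorem flat_of_isStrictHenselization (S : Type u) [CommRing S] [IsLocalRing S] [Algebra A S]
    [IsLocalHom (algebraMap A S)] [Hensel.IsStrictHenselization A S]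
    (M : Type u) [AddCommGroup M] [Module S M] [Module A M] [IsScalarTower A S M]
    (hM : Module.Flat A M) : Module.Flat S M := by
  refine flat_of_forall_finset hM fun s => ?_
  obtain ⟨i, ψ, -, -, hψ⟩ := StrictStruct.exists_nbhd_range A S s
  exact ⟨i.G, inferInstance, inferInstance, inferInstance, inferInstance, ψ, hψ⟩

end Groth.Agent.Lib.Helper12.WEtFlat
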