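import Groth.Agent.Lib.Helper12.CohenFinA
import Groth.Agent.Lib.Helper1.PSDecomp
import Mathlib.RingTheory.MvPowerSeries.NoZeroDivisors

/-!
# Finiteness and injectivity of evaluation maps from power series rings
-/

set_option autoImplicit false
universe u v

namespace Groth.Agent.Lib.Helper12.CohenFin

open IsLocalRing

section PS

variable {Λ : Type u} [CommRing Λ] [IsLocalRing Λ] {n : ℕ}

/-- The maximal ideal of a power series ring over a local ring. -/
theorem maximalIdeal_ps_eq_sup :
    maximalIdeal (MvPowerSeries (Fin n) Λ) =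
      (maximalIdeal Λ).map (MvPowerSeries.C (σ := Fin n) (R := Λ)) ⊔
        Ideal.span (Set.range (MvPowerSeries.X : Fin n → MvPowerSeries (Fin n) Λ)) := by
  apply le_antisymm
  · intro f hf
    rw [Groth.Agent.Lib.Helper1.PSDecomp.mem_maximalIdeal_iff] at hf
    rw [Groth.Agent.Lib.Helper1.PSDecomp.decomp f]
    refine Submodule.add_mem_sup (Ideal.mem_map_of_mem _ hf) ?_
    refine Ideal.sum_mem _ fun i _ => ?_
    exact Ideal.mul_mem_right _ _ (Ideal.subset_span ⟨i, rfl⟩)
  · rw [sup_le_iff]
    constructor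
    · rw [Ideal.map_le_iff_le_comap]
      intro x hx
      exact Groth.Agent.Lib.Helper1.PSDecomp.C_mem_maximalIdeal hx
    · rw [Ideal.span_le]
      rintro _ ⟨i, rfl⟩
      exact Groth.Agent.Lib.Helper1.PSDecomp.X_mem_maximalIdeal i

theorem map_maximalIdeal_ps {R : Type*} [CommRing R] (Φ : MvPowerSeries (Fin n) Λ →+* R)
    (v : Λ →+* R) (a : Fin n → R) (hC : ∀ c, Φ (MvPowerSeries.C c) = v c)
    (hX : ∀ i, Φ (MvPowerSeries.X i) = a i) :
    (maximalIdeal (MvPowerSeries (Fin n) Λ)).map Φ =
      (maximalIdeal Λ).map v ⊔ Ideal.span (Set.range a) := by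
  rw [maximalIdeal_ps_eq_sup, Ideal.map_sup, Ideal.map_map, Ideal.map_span, ← Set.range_comp]
  congr 2
  · exact RingHom.ext hC
  · congr 1
    ext i : 1
    exact hX i

/-- Dimension bound for power series rings over a noetherian local ring. -/
theorem ringKrullDim_ps_le [IsNoetherianRing Λ] {r : ℕ} (g : Fin r → Λ)
    (hg : maximalIdeal Λ = Ideal.span (Set.range g)) :
    ringKrullDim (MvPowerSeries (Fin n) Λ) ≤ ((r + n : ℕ) : WithBot ℕ∞) := by
  refine (ringKrullDim_le_spanFinrank_maximalIdeal _).trans ?_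
  have hgen : maximalIdeal (MvPowerSeries (Fin n) Λ) =
      Ideal.span (Set.range (Sum.elim (fun i => MvPowerSeries.C (σ := Fin n) (g i))
        (MvPowerSeries.X : Fin n → MvPowerSeries (Fin n) Λ))) := by
    rw [maximalIdeal_ps_eq_sup, hg, Ideal.map_span, ← Set.range_comp, Set.Sum.elim_range,
      Ideal.span_union]
    rfl
  rw [hgen]
  have hfin : (Set.range (Sum.elim (fun i => MvPowerSeries.C (σ := Fin n) (g i))
      (MvPowerSeries.X : Fin n → MvPowerSeries (Fin n) Λ))).Finite := Set.finite_range _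
  have h1 := Submodule.spanFinrank_span_le_ncard_of_finite
    (R := MvPowerSeries (Fin n) Λ) hfin
  have h2 : (Set.range (Sum.elim (fun i => MvPowerSeries.C (σ := Fin n) (g i))
      (MvPowerSeries.X : Fin n → MvPowerSeries (Fin n) Λ))).ncard ≤ r + n := by
    have := Set.ncard_image_le (f := Sum.elim (fun i => MvPowerSeries.C (σ := Fin n) (g i))
      (MvPowerSeries.X : Fin n → MvPowerSeries (Fin n) Λ)) (Set.finite_univ)
    rw [Set.image_univ, Set.ncard_univ, Nat.card_eq_fintype_card, Fintype.card_sum,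
      Fintype.card_fin, Fintype.card_fin] at this
    exact this
  exact_mod_cast h1.trans h2

end PS

/-- A finite ring map from a domain of dimension at most `d` to a ring of dimension `d` is
injective. -/
theorem injective_of_finite_of_dim_le {S R : Type*} [CommRing S] [IsDomain S] [CommRing R]
    (Φ : S →+* R) (hfin : Φ.Finite) (d : ℕ) (hS : ringKrullDim S ≤ d) (hR : ringKrullDim R = d) :
    Function.Injective Φ := by
  rw [injective_iff_map_eq_zero]
  intro f hf
  by_contra hne
  have hnzd : f ∈ nonZeroDivisors S := mem_nonZeroDivisors_of_ne_zero hne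
  have h1 := ringKrullDim_quotient_succ_le_of_nonZeroDivisor hnzd
  let Ψ : S ⧸ Ideal.span {f} →+* R := Ideal.Quotient.lift (Ideal.span {f}) Φ (fun x hx => by
    obtain ⟨y, rfl⟩ := Ideal.mem_span_singleton'.mp hx
    rw [map_mul, hf, mul_zero])
  have hΨfin : Ψ.Finite := by
    have hcomp : Ψ.comp (Ideal.Quotient.mk (Ideal.span {f})) = Φ := by
      ext x
      rfl
    exact RingHom.Finite.of_comp_finite (f := Ideal.Quotient.mk (Ideal.span {f})) (hcomp ▸ hfin)
  letI : Algebra (S ⧸ Ideal.span {f}) R := Ψ.toAlgebra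
  haveI : Algebra.IsIntegral (S ⧸ Ideal.span {f}) R := by
    have : Ψ.IsIntegral := hΨfin.to_isIntegral
    exact ⟨this⟩
  have h2 : ringKrullDim R ≤ ringKrullDim (S ⧸ Ideal.span {f}) :=
    Groth.Agent.Lib.Helper29.ringKrullDim_le_of_isIntegral
  rw [hR] at h2
  have h3 : ((d : WithBot ℕ∞)) + 1 ≤ d := (add_le_add_left h2 1).trans (h1.trans hS)
  have h4 : ((d + 1 : ℕ) : WithBot ℕ∞) ≤ (d : WithBot ℕ∞) := by exact_mod_cast h3
  have h5 : d + 1 ≤ d := by exact_mod_cast h4
  omega

end Groth.Agent.Lib.Helper12.CohenFin
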