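import Groth.Agent.Lib.Helper12.HenselizationFlat

set_option autoImplicit false
universe u

/-!
# The henselization of `A` is also the henselization of each of its étale neighbourhoods
-/

namespace Groth.Agent.Lib.Helper12

open IsLocalRing

variable {A : Type u} [CommRing A] [IsLocalRing A]

namespace Henselization

/-- The algebra structure of the henselization over the local ring of a neighbourhood.
(Not an instance.) -/
noncomputable abbrev algebraOver (i : Nbhd A) : Algebra i.G (Henselization A) :=
  (of A i).toAlgebra

theorem isHenselization_over (i : Nbhd A) :
    letI := algebraOver i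
    haveI : IsLocalHom (algebraMap i.G (Henselization A)) := isLocalHom_of A i
    Hensel.IsHenselization i.G (Henselization A) := by
  letI := algebraOver i
  haveI : IsLocalHom (algebraMap i.G (Henselization A)) := isLocalHom_of A i
  refine ⟨inferInstance, ?_⟩
  intro T _ _ f hf
  letI : Algebra A T := (f.comp (algebraMap A i.G)).toAlgebra
  haveI : IsLocalHom (algebraMap A T) := by
    show IsLocalHom (f.comp (algebraMap A i.G))
    exact RingHom.isLocalHom_comp _ _
  let f' : i.G →ₐ[A] T := { f with commutes' := fun _ => rfl }
  have h1 : (lift A T).comp (ofₐ A i) = f' := Subsingleton.elim _ _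
  refine ⟨(lift A T).toRingHom, ?_, ?_⟩
  · ext x
    exact congrArg (fun h : i.G →ₐ[A] T => h x) h1
  · intro g hg
    have hc : ∀ a : A, g (algebraMap A (Henselization A) a) = algebraMap A T a := by
      intro a
      rw [algebraMap_eq i a]
      exact congrArg (fun h : i.G →+* T => h (algebraMap A i.G a)) hg
    let g' : Henselization A →ₐ[A] T := { g with commutes' := hc }
    have : g' = lift A T := Subsingleton.elim _ _
    have h2 : g'.toRingHom = (lift A T).toRingHom := by rw [this]
    exact h2

theorem faithfullyFlat_over (i : Nbhd A) :
    letI := algebraOver i
    Module.FaithfullyFlat i.G (Henselization A) := by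
  letI := algebraOver i
  haveI : IsLocalHom (algebraMap i.G (Henselization A)) := isLocalHom_of A i
  haveI := isHenselization_over i
  obtain ⟨e⟩ := nonempty_algEquiv (A := i.G) (Henselization A)
  haveI : Module.Flat i.G (Henselization A) := Module.Flat.of_linearEquiv e.toLinearEquiv
  exact Module.FaithfullyFlat.of_flat_of_isLocalHom

end Henselization

end Groth.Agent.Lib.Helper12
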