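import Mathlib

/-!
# Coflasque lattices, part A: `H¹ = 0` in terms of cocycles and coboundaries
-/

set_option autoImplicit false
open CategoryTheory

namespace Groth.Agent.Lib.Helper12.CoflasqueA

universe u

variable {k G : Type u} [CommRing k] [Group G]

theorem isZero_H1_iff (A : Rep k G) :
    Limits.IsZero (groupCohomology A 1) ↔
      ∀ f : G → A.V, (∀ g h : G, f (g * h) = A.ρ g (f h) + f g) →
        ∃ x : A.V, ∀ g : G, A.ρ g x - x = f g := by
  constructor
  · intro hz f hf
    have hmem : f ∈ groupCohomology.cocycles₁ A := (groupCohomology.mem_cocycles₁_iff f).2 hf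
    have hsub : Subsingleton (groupCohomology A 1) := ModuleCat.subsingleton_of_isZero hz
    have h0 : groupCohomology.H1π A ⟨f, hmem⟩ = 0 := Subsingleton.elim _ _
    rw [groupCohomology.H1π_eq_zero_iff] at h0
    obtain ⟨x, hx⟩ := h0
    refine ⟨x, fun g => ?_⟩
    have := congrFun hx g
    simpa using this
  · intro h
    have : Subsingleton (groupCohomology A 1) := by
      refine ⟨fun a b => ?_⟩
      have key : ∀ a : groupCohomology A 1, a = 0 := by
        intro a
        induction a using groupCohomology.H1_induction_on with
        | h x =>
          rw [groupCohomology.H1π_eq_zero_iff]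
          obtain ⟨y, hy⟩ := h x ((groupCohomology.mem_cocycles₁_iff _).1 x.2)
          refine ⟨y, ?_⟩
          funext g
          simpa using hy g
      rw [key a, key b]
    exact ModuleCat.isZero_of_subsingleton _

end Groth.Agent.Lib.Helper12.CoflasqueA
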