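import Mathlib

/-!
# Coflasque lattices, part B: equivariant sections of extensions by permutation modules
-/

set_option autoImplicit false

namespace Groth.Agent.Lib.Helper12.CoflasqueB

variable {k : Type*} [CommRing k] {Γ : Type*} [Group Γ] {X : Type*} [MulAction Γ X]
  {L M P : Type*} [AddCommGroup L] [AddCommGroup M] [AddCommGroup P]
  [Module k L] [Module k M] [Module k P]
  (ρL : Representation k Γ L) (ρM : Representation k Γ M) (ρP : Representation k Γ P)
  (b : X → P) (hb : ∀ γ y, ρP γ (b y) = b (γ • y))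
  (f : L →ₗ[k] M) (hf : ∀ γ l, f (ρL γ l) = ρM γ (f l)) (hfi : Function.Injective f)
  (p : M →ₗ[k] P) (hp : ∀ γ m, p (ρM γ m) = ρP γ (p m)) (hps : Function.Surjective p)
  (hpf : ∀ l, p (f l) = 0)
  (hex : ∀ m, p m = 0 → ∃ l, f l = m)
  (H : ∀ (Γ' : Subgroup Γ) (c : Γ' → L), (∀ g h : Γ', c (g * h) = ρL g (c h) + c g) →
      ∃ x : L, ∀ g : Γ', ρL g x - x = c g)

include hb hf hfi hp hps hpf hex H

theorem exists_fixed_lift (y : X) :
    ∃ e : M, p e = b y ∧ ∀ γ ∈ MulAction.stabilizer Γ y, ρM γ e = e := by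
  obtain ⟨e0, he0⟩ := hps (b y)
  have h1 : ∀ γ : MulAction.stabilizer Γ y, ∃ l, f l = ρM γ e0 - e0 := by
    intro γ
    apply hex
    rw [map_sub, hp, he0, hb]
    have : (γ : Γ) • y = y := γ.2
    rw [this, sub_self]
  choose c hc using h1
  have hcoc : ∀ g h : MulAction.stabilizer Γ y, c (g * h) = ρL g (c h) + c g := by
    intro g h
    apply hfi
    rw [hc, map_add, hf, hc, hc]
    have : ρM ((g * h : MulAction.stabilizer Γ y) : Γ) e0 = ρM g (ρM h e0) := by
      rw [Subgroup.coe_mul, map_mul]; rfl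
    rw [this, map_sub]
    abel
  obtain ⟨x, hx⟩ := H _ c hcoc
  refine ⟨e0 - f x, ?_, ?_⟩
  · rw [map_sub, he0, hpf, sub_zero]
  · intro γ hγ
    have h3 := hx ⟨γ, hγ⟩
    have h4 := hc ⟨γ, hγ⟩
    simp only at h3 h4
    rw [map_sub, ← hf]
    have : ρM γ e0 = e0 + f (c ⟨γ, hγ⟩) := by rw [h4]; abel
    rw [this, ← h3, map_sub]
    abel

theorem exists_equivariant_lift :
    ∃ σ : X → M, (∀ γ y, σ (γ • y) = ρM γ (σ y)) ∧ ∀ y, p (σ y) = b y := by
  classical
  have h1 := exists_fixed_lift ρL ρM ρP b hb f hf hfi p hp hps hpf hex H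
  choose e he1 he2 using h1
  -- orbit representatives
  let r : X → X := fun y => (Quotient.mk'' y : MulAction.orbitRel.Quotient Γ X).out
  have hr : ∀ y, ∃ γ : Γ, γ • r y = y := by
    intro y
    have h : (Quotient.mk'' (r y) : MulAction.orbitRel.Quotient Γ X) = Quotient.mk'' y :=
      Quotient.out_eq' _
    have h' := Quotient.exact' h
    -- `h' : r y ∈ orbit Γ y`, so `y ∈ orbit Γ (r y)`
    have h'' : y ∈ MulAction.orbit Γ (r y) := by
      have : r y ∈ MulAction.orbit Γ y := h'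
      exact (MulAction.orbitRel Γ X).symm this
    exact h''
  choose g hg using hr
  have hrr : ∀ (τ : Γ) (y : X), r (τ • y) = r y := by
    intro τ y
    have : (Quotient.mk'' (τ • y) : MulAction.orbitRel.Quotient Γ X) = Quotient.mk'' y := by
      apply Quotient.sound'
      exact ⟨τ, rfl⟩
    simp only [r, this]
  refine ⟨fun y => ρM (g y) (e (r y)), ?_, ?_⟩
  · intro τ y
    simp only
    rw [hrr τ y]
    -- `(g (τ • y))⁻¹ * τ * g y` stabilizes `r y`
    have hst : (g (τ • y))⁻¹ * (τ * g y) ∈ MulAction.stabilizer Γ (r y) := by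
      rw [MulAction.mem_stabilizer_iff, mul_smul, mul_smul, hg y]
      have := hg (τ • y)
      rw [hrr τ y] at this
      rw [inv_smul_eq_iff]
      exact this.symm
    have h2 := he2 (r y) _ hst
    rw [map_mul, map_mul] at h2
    have h3 : ρM (g (τ • y)) (ρM (g (τ • y))⁻¹ (ρM τ (ρM (g y) (e (r y))))) =
        ρM (g (τ • y)) (e (r y)) := congrArg _ h2
    rw [← Module.End.mul_apply, ← map_mul, mul_inv_cancel, map_one] at h3
    exact h3.symm
  · intro y
    simp only
    rw [hp, he1, hb, hg]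

end Groth.Agent.Lib.Helper12.CoflasqueB
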