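import Mathlib
import Groth.Agent.Lib.Helper12.CoflasqueA
import Groth.Agent.Lib.Helper12.CoflasqueB

/-!
# Coflasque lattices, part C: `H¹(Γ', Λ) = 0` for all `Γ'` implies permutation extensions split
-/

set_option autoImplicit false
open CategoryTheory

namespace Groth.Agent.Lib.Helper12.CoflasqueC

universe u
variable {k G : Type u} [CommRing k] [Group G]

theorem exact_concrete (E : ShortComplex (Rep.{u} k G)) (hE : E.Exact) (m : E.X₂.V)
    (hm : E.g.hom m = 0) : ∃ l, E.f.hom l = m := by
  have h1 : (E.map (forget₂ (Rep.{u} k G) (ModuleCat.{u} k))).Exact :=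
    (ShortComplex.exact_map_iff_of_faithful E _).2 hE
  rw [ShortComplex.moduleCat_exact_iff] at h1
  exact h1 m hm

theorem exact_of_concrete (E : ShortComplex (Rep.{u} k G))
    (h : ∀ m : E.X₂.V, E.g.hom m = 0 → ∃ l, E.f.hom l = m) : E.Exact := by
  rw [← ShortComplex.exact_map_iff_of_faithful E (forget₂ (Rep.{u} k G) (ModuleCat.{u} k)),
    ShortComplex.moduleCat_exact_iff]
  exact h

/-- the concrete form of the vanishing of `H¹` of all subgroups -/
theorem concrete_of_H1 (Λ : Rep.{u} k G)
    (H : ∀ Γ' : Subgroup G, Limits.IsZero (groupCohomology (Rep.res Γ'.subtype Λ) 1))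
    (Γ' : Subgroup G) (c : Γ' → Λ.V) (hc : ∀ g h : Γ', c (g * h) = Λ.ρ g (c h) + c g) :
    ∃ x : Λ.V, ∀ g : Γ', Λ.ρ g x - x = c g :=
  (CoflasqueA.isZero_H1_iff (Rep.res Γ'.subtype Λ)).1 (H Γ') c hc

theorem H1_of_concrete (Λ : Rep.{u} k G) (Γ' : Subgroup G)
    (H : ∀ (c : Γ' → Λ.V), (∀ g h : Γ', c (g * h) = Λ.ρ g (c h) + c g) →
      ∃ x : Λ.V, ∀ g : Γ', Λ.ρ g x - x = c g) :
    Limits.IsZero (groupCohomology (Rep.res Γ'.subtype Λ) 1) :=
  (CoflasqueA.isZero_H1_iff (Rep.res Γ'.subtype Λ)).2 H

theorem splitting_of_H1 (Λ : Rep.{u} k G)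
    (H : ∀ Γ' : Subgroup G, Limits.IsZero (groupCohomology (Rep.res Γ'.subtype Λ) 1))
    (X : Type u) [MulAction G X] (E : ShortComplex (Rep.{u} k G)) (hE : E.ShortExact)
    (α : E.X₁ ≅ Λ) (β : E.X₃ ≅ Rep.ofMulAction k G X) : Nonempty E.Splitting := by
  have hmono := hE.mono_f
  have hepi := hE.epi_g
  have hfi : Function.Injective E.f.hom := (Rep.mono_iff_injective E.f).1 hmono
  have hgs : Function.Surjective E.g.hom := (Rep.epi_iff_surjective E.g).1 hepi
  have hαinj : Function.Injective α.inv.hom := (Rep.mono_iff_injective α.inv).1 inferInstance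
  have hαsurj : Function.Surjective α.inv.hom := (Rep.epi_iff_surjective α.inv).1 inferInstance
  have hβinj : Function.Injective β.hom.hom := (Rep.mono_iff_injective β.hom).1 inferInstance
  have hβsurj : Function.Surjective β.hom.hom := (Rep.epi_iff_surjective β.hom).1 inferInstance
  obtain ⟨σ, hσ1, hσ2⟩ := CoflasqueB.exists_equivariant_lift (k := k) (Γ := G) (X := X)
    Λ.ρ E.X₂.ρ (Rep.ofMulAction k G X).ρ (fun y => MonoidAlgebra.single y 1)
    (fun γ y => Representation.ofMulAction_single γ y 1)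
    (E.f.hom.toLinearMap ∘ₗ α.inv.hom.toLinearMap)
    (fun γ l => by
      simp only [LinearMap.comp_apply]
      erw [Rep.hom_comm_apply α.inv γ l, Rep.hom_comm_apply E.f γ]
      rfl)
    (hfi.comp hαinj)
    (β.hom.hom.toLinearMap ∘ₗ E.g.hom.toLinearMap)
    (fun γ m => by
      simp only [LinearMap.comp_apply]
      erw [Rep.hom_comm_apply E.g γ m, Rep.hom_comm_apply β.hom γ]
      rfl)
    (hβsurj.comp hgs)
    (fun l => by
      simp only [LinearMap.comp_apply]
      have : E.g.hom (E.f.hom (α.inv.hom l)) = 0 := by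
        have h0 : (E.f ≫ E.g).hom (α.inv.hom l) = (0 : E.X₁ ⟶ E.X₃).hom (α.inv.hom l) := by
          rw [E.zero]
        exact h0
      erw [this]
      exact map_zero _)
    (fun m hm => by
      simp only [LinearMap.comp_apply] at hm
      have hm' : E.g.hom m = 0 := by
        apply hβinj
        erw [hm]
        exact (map_zero _).symm
      obtain ⟨l, hl⟩ := exact_concrete E hE.exact m hm'
      obtain ⟨l', hl'⟩ := hαsurj l
      exact ⟨l', by simp only [LinearMap.comp_apply]; erw [hl', hl]⟩)
    (concrete_of_H1 Λ H)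
  -- the linear extension of `σ`
  let sl : MonoidAlgebra k X →ₗ[k] E.X₂.V :=
    (Finsupp.linearCombination k σ) ∘ₗ (MonoidAlgebra.coeffLinearEquiv k).toLinearMap
  have hsl : ∀ (y : X) (r : k), sl (MonoidAlgebra.single y r) = r • σ y := by
    intro y r
    simp [sl]
  have hsl_eq : ∀ (γ : G) (v : MonoidAlgebra k X),
      sl ((Rep.ofMulAction k G X).ρ γ v) = E.X₂.ρ γ (sl v) := by
    intro γ v
    induction v using MonoidAlgebra.induction_linear with
    | zero => simp
    | add x y hx hy => simp only [map_add, hx, hy]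
    | single y r =>
      have : (Rep.ofMulAction k G X).ρ γ (MonoidAlgebra.single y r) =
          MonoidAlgebra.single (γ • y) r := Representation.ofMulAction_single γ y r
      rw [this, hsl, hsl, hσ1, map_smul]
  have hsl_p : ∀ v : MonoidAlgebra k X, β.hom.hom (E.g.hom (sl v)) = v := by
    intro v
    induction v using MonoidAlgebra.induction_linear with
    | zero => simp
    | add x y hx hy => rw [map_add, map_add, map_add, hx, hy]
    | single y r =>
      rw [hsl, map_smul, map_smul]
      have := hσ2 y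
      simp only [LinearMap.comp_apply] at this
      erw [this]
      rw [MonoidAlgebra.smul_single, smul_eq_mul, mul_one]
  let s' : Rep.ofMulAction k G X ⟶ E.X₂ :=
    ConcreteCategory.ofHom (C := Rep.{u} k G)
      (⟨sl, fun γ => LinearMap.ext fun v => hsl_eq γ v⟩ :
        (Rep.ofMulAction k G X).ρ.IntertwiningMap E.X₂.ρ)
  have hs : (β.hom ≫ s') ≫ E.g = 𝟙 E.X₃ := by
    apply Rep.hom_ext
    apply Representation.IntertwiningMap.ext
    apply LinearMap.ext
    intro v
    apply hβinj
    exact hsl_p (β.hom.hom v)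
  exact ⟨ShortComplex.Splitting.ofExactOfSection E hE.exact (β.hom ≫ s') hs hmono⟩

end Groth.Agent.Lib.Helper12.CoflasqueC
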