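import Mathlib

/-!
# Coflasque lattices, part D: the extension of `k[G/Γ']` by `Λ` attached to a 1-cocycle of `Γ'`
-/

set_option autoImplicit false
open CategoryTheory

namespace Groth.Agent.Lib.Helper12.CoflasqueD

universe u
variable {k G : Type u} [CommRing k] [Group G] (Λ : Rep.{u} k G) (Γ' : Subgroup G)
  (c : Γ' → Λ.V)

open Classical in
/-- coset representatives, normalized at the trivial coset -/
noncomputable def t (q : G ⧸ Γ') : G := if q = ((1 : G) : G ⧸ Γ') then 1 else q.out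

theorem t_spec (q : G ⧸ Γ') : ((t Γ' q : G) : G ⧸ Γ') = q := by
  unfold t
  split_ifs with h
  · exact h.symm
  · exact QuotientGroup.out_eq' q

theorem t_one : t Γ' ((1 : G) : G ⧸ Γ') = 1 := by
  unfold t
  rw [if_pos rfl]

theorem mem (γ : G) (q : G ⧸ Γ') : (t Γ' (γ • q))⁻¹ * γ * t Γ' q ∈ Γ' := by
  rw [mul_assoc, ← QuotientGroup.eq, t_spec]
  conv_lhs => rw [← t_spec Γ' q]
  rfl

open Classical in
/-- the cocycle extended by zero -/
noncomputable def c' (g : G) : Λ.V := if h : g ∈ Γ' then c ⟨g, h⟩ else 0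

theorem c'_of_mem {g : G} (h : g ∈ Γ') : c' Λ Γ' c g = c ⟨g, h⟩ := by
  unfold c'
  rw [dif_pos h]

variable (hc : ∀ g h : Γ', c (g * h) = Λ.ρ g (c h) + c g)

include hc in
theorem c'_mul {g h : G} (hg : g ∈ Γ') (hh : h ∈ Γ') :
    c' Λ Γ' c (g * h) = Λ.ρ g (c' Λ Γ' c h) + c' Λ Γ' c g := by
  rw [c'_of_mem Λ Γ' c hg, c'_of_mem Λ Γ' c hh, c'_of_mem Λ Γ' c (Γ'.mul_mem hg hh)]
  exact hc ⟨g, hg⟩ ⟨h, hh⟩

include hc in
theorem c'_one : c' Λ Γ' c 1 = 0 := by
  have h := c'_mul Λ Γ' c hc Γ'.one_mem Γ'.one_mem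
  rw [mul_one, map_one] at h
  simpa using h

/-- the twisting function -/
noncomputable def a (γ : G) (q : G ⧸ Γ') : Λ.V :=
  Λ.ρ (t Γ' (γ • q)) (c' Λ Γ' c ((t Γ' (γ • q))⁻¹ * γ * t Γ' q))

include hc in
theorem a_one (q : G ⧸ Γ') : a Λ Γ' c 1 q = 0 := by
  unfold a
  rw [one_smul, mul_one, inv_mul_cancel, c'_one Λ Γ' c hc, map_zero]

include hc in
theorem a_mul (γ γ' : G) (q : G ⧸ Γ') :
    a Λ Γ' c (γ * γ') q = Λ.ρ γ (a Λ Γ' c γ' q) + a Λ Γ' c γ (γ' • q) := by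
  unfold a
  rw [mul_smul]
  have h1 := mem Γ' γ (γ' • q)
  have h2 := mem Γ' γ' q
  have e : (t Γ' (γ • γ' • q))⁻¹ * (γ * γ') * t Γ' q =
      ((t Γ' (γ • γ' • q))⁻¹ * γ * t Γ' (γ' • q)) * ((t Γ' (γ' • q))⁻¹ * γ' * t Γ' q) := by
    group
  rw [e, c'_mul Λ Γ' c hc h1 h2, map_add]
  congr 1
  rw [← Module.End.mul_apply, ← map_mul, ← Module.End.mul_apply, ← map_mul]
  congr 2
  group

theorem a_of_mem {h : G} (hh : h ∈ Γ') :
    a Λ Γ' c h ((1 : G) : G ⧸ Γ') = c ⟨h, hh⟩ := by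
  unfold a
  have h1 : h • ((1 : G) : G ⧸ Γ') = ((1 : G) : G ⧸ Γ') := by
    rw [MulAction.Quotient.smul_coe, smul_eq_mul, mul_one, QuotientGroup.eq, mul_one]
    exact Γ'.inv_mem hh
  rw [h1, t_one, inv_one, one_mul, mul_one, map_one, c'_of_mem Λ Γ' c hh]
  rfl

/-- the linear extension of the twisting function -/
noncomputable def A (γ : G) : MonoidAlgebra k (G ⧸ Γ') →ₗ[k] Λ.V :=
  (Finsupp.linearCombination k (a Λ Γ' c γ)) ∘ₗ (MonoidAlgebra.coeffLinearEquiv k).toLinearMap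

theorem A_single (γ : G) (q : G ⧸ Γ') (r : k) :
    A Λ Γ' c γ (MonoidAlgebra.single q r) = r • a Λ Γ' c γ q := by
  simp [A]

include hc in
theorem A_one (v : MonoidAlgebra k (G ⧸ Γ')) : A Λ Γ' c 1 v = 0 := by
  induction v using MonoidAlgebra.induction_linear with
  | zero => simp
  | add x y hx hy => rw [map_add, hx, hy, add_zero]
  | single q r => rw [A_single, a_one Λ Γ' c hc, smul_zero]

include hc in
theorem A_mul (γ γ' : G) (v : MonoidAlgebra k (G ⧸ Γ')) :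
    A Λ Γ' c (γ * γ') v =
      Λ.ρ γ (A Λ Γ' c γ' v) + A Λ Γ' c γ (Representation.ofMulAction k G (G ⧸ Γ') γ' v) := by
  induction v using MonoidAlgebra.induction_linear with
  | zero => simp
  | add x y hx hy =>
    simp only [map_add, hx, hy]
    abel
  | single q r =>
    rw [Representation.ofMulAction_single, A_single, A_single, A_single,
      a_mul Λ Γ' c hc, smul_add, map_smul]

/-- the action on `Λ × k[G/Γ']` -/
noncomputable def ρE (hc : ∀ g h : Γ', c (g * h) = Λ.ρ g (c h) + c g) :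
    Representation k G (Λ.V × MonoidAlgebra k (G ⧸ Γ')) where
  toFun γ := LinearMap.prod ((Λ.ρ γ).coprod (A Λ Γ' c γ))
    ((Representation.ofMulAction k G (G ⧸ Γ') γ) ∘ₗ LinearMap.snd k _ _)
  map_one' := by
    apply LinearMap.ext
    rintro ⟨l, v⟩
    simp [A_one Λ Γ' c hc]
  map_mul' γ γ' := by
    apply LinearMap.ext
    rintro ⟨l, v⟩
    refine Prod.ext ?_ ?_
    · show Λ.ρ (γ * γ') l + A Λ Γ' c (γ * γ') v =
        Λ.ρ γ (Λ.ρ γ' l + A Λ Γ' c γ' v) +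
          A Λ Γ' c γ (Representation.ofMulAction k G (G ⧸ Γ') γ' v)
      rw [map_mul, A_mul Λ Γ' c hc, map_add, Module.End.mul_apply]
      abel
    · show Representation.ofMulAction k G (G ⧸ Γ') (γ * γ') v =
        Representation.ofMulAction k G (G ⧸ Γ') γ (Representation.ofMulAction k G (G ⧸ Γ') γ' v)
      rw [map_mul]
      rfl

theorem ρE_apply (γ : G) (l : Λ.V) (v : MonoidAlgebra k (G ⧸ Γ')) :
    ρE Λ Γ' c hc γ (l, v) =
      (Λ.ρ γ l + A Λ Γ' c γ v, Representation.ofMulAction k G (G ⧸ Γ') γ v) := rfl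

end Groth.Agent.Lib.Helper12.CoflasqueD
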