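import Mathlib
import Groth.Agent.Lib.Helper12.CoflasqueC
import Groth.Agent.Lib.Helper12.CoflasqueD

/-!
# Coflasque lattices, part E: split permutation extensions give vanishing `H¹`
-/

set_option autoImplicit false
open CategoryTheory

namespace Groth.Agent.Lib.Helper12.CoflasqueE

open CoflasqueD

universe u
variable {k G : Type u} [CommRing k] [Group G] (Λ : Rep.{u} k G) (Γ' : Subgroup G)
  (c : Γ' → Λ.V) (hc : ∀ g h : Γ', c (g * h) = Λ.ρ g (c h) + c g)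

/-- the inclusion of `Λ` -/
noncomputable def ι : Λ ⟶ Rep.of (ρE Λ Γ' c hc) :=
  ConcreteCategory.ofHom (C := Rep.{u} k G)
    (⟨LinearMap.inl k Λ.V (MonoidAlgebra k (G ⧸ Γ')), fun γ => LinearMap.ext fun l => by
        show ((Λ.ρ γ l, 0) : Λ.V × MonoidAlgebra k (G ⧸ Γ')) = ρE Λ Γ' c hc γ (l, 0)
        rw [ρE_apply, map_zero, map_zero, add_zero]⟩ :
      Λ.ρ.IntertwiningMap (Rep.of (ρE Λ Γ' c hc)).ρ)

/-- the projection to the permutation module -/
noncomputable def π : Rep.of (ρE Λ Γ' c hc) ⟶ Rep.ofMulAction k G (G ⧸ Γ') :=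
  ConcreteCategory.ofHom (C := Rep.{u} k G)
    (⟨LinearMap.snd k Λ.V (MonoidAlgebra k (G ⧸ Γ')), fun γ => LinearMap.ext fun x => by
        obtain ⟨l, v⟩ := x
        rfl⟩ :
      (Rep.of (ρE Λ Γ' c hc)).ρ.IntertwiningMap (Rep.ofMulAction k G (G ⧸ Γ')).ρ)

theorem ι_apply (l : Λ.V) : (ι Λ Γ' c hc).hom l = (l, 0) := rfl

theorem π_apply (x : Λ.V × MonoidAlgebra k (G ⧸ Γ')) : (π Λ Γ' c hc).hom x = x.2 := rfl

/-- the extension attached to the cocycle -/
noncomputable def E : ShortComplex (Rep.{u} k G) :=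
  ShortComplex.mk (ι Λ Γ' c hc) (π Λ Γ' c hc) (by
    apply Rep.hom_ext
    apply Representation.IntertwiningMap.ext
    apply LinearMap.ext
    intro l
    rfl)

theorem E_shortExact : (E Λ Γ' c hc).ShortExact := by
  have h1 : (E Λ Γ' c hc).Exact := by
    apply CoflasqueC.exact_of_concrete
    rintro ⟨l, v⟩ hm
    refine ⟨l, ?_⟩
    have hv : v = 0 := hm
    subst hv
    rfl
  have h2 : Mono (E Λ Γ' c hc).f := by
    rw [Rep.mono_iff_injective]
    intro l l' h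
    exact congrArg Prod.fst h
  have h3 : Epi (E Λ Γ' c hc).g := by
    rw [Rep.epi_iff_surjective]
    intro v
    exact ⟨((0 : Λ.V), v), rfl⟩
  exact ShortComplex.ShortExact.mk h1

include hc in
theorem coboundary_of_splitting (spl : (E Λ Γ' c hc).Splitting) :
    ∃ x : Λ.V, ∀ g : Γ', Λ.ρ g x - x = c g := by
  let r : Rep.of (ρE Λ Γ' c hc) ⟶ Λ := spl.r
  have hr : ∀ l : Λ.V, r.hom (l, 0) = l := by
    intro l
    have h0 : ((E Λ Γ' c hc).f ≫ spl.r).hom l = (𝟙 Λ : Λ ⟶ Λ).hom l := by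
      rw [spl.f_r]
      rfl
    exact h0
  refine ⟨r.hom (0, MonoidAlgebra.single ((1 : G) : G ⧸ Γ') 1), fun g => ?_⟩
  have h1 := Rep.hom_comm_apply r (g : G) (0, MonoidAlgebra.single ((1 : G) : G ⧸ Γ') 1)
  have h2 : (Rep.of (ρE Λ Γ' c hc)).ρ (g : G) (0, MonoidAlgebra.single ((1 : G) : G ⧸ Γ') 1) =
      (c g, MonoidAlgebra.single ((1 : G) : G ⧸ Γ') 1) := by
    show ρE Λ Γ' c hc (g : G) (0, MonoidAlgebra.single ((1 : G) : G ⧸ Γ') 1) = _
    rw [ρE_apply, map_zero, zero_add, A_single, one_smul, a_of_mem Λ Γ' c g.2,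
      Representation.ofMulAction_single]
    have h3 : (g : G) • ((1 : G) : G ⧸ Γ') = ((1 : G) : G ⧸ Γ') := by
      rw [MulAction.Quotient.smul_coe, smul_eq_mul, mul_one, QuotientGroup.eq, mul_one]
      exact Γ'.inv_mem g.2
    rw [h3]
  rw [h2] at h1
  have h4 : ((c g, MonoidAlgebra.single ((1 : G) : G ⧸ Γ') 1) :
      Λ.V × MonoidAlgebra k (G ⧸ Γ')) =
      (c g, 0) + (0, MonoidAlgebra.single ((1 : G) : G ⧸ Γ') 1) := by
    simp
  rw [h4, map_add, hr] at h1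
  rw [← h1]
  abel

end Groth.Agent.Lib.Helper12.CoflasqueE
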