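import Groth.Agent.Lib.Helper12.CohenExistA
import Mathlib.RingTheory.Flat.Equalizer
import Mathlib.LinearAlgebra.TensorProduct.Quotient

/-!
# Complete gonflement of a noetherian local ring; flat kernels
-/

set_option autoImplicit false
universe u v

namespace Groth.Agent.Lib.Helper12.CohenAlg

open IsLocalRing TensorProduct

/-- Complete gonflement: for a noetherian local ring `A` and any extension `K` of its residue field
there is a complete noetherian local ring `B`, flat over `A`, with `𝔪_A B = 𝔪_B` and residue
field `K`. -/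
theorem exists_complete_gonflement (A : Type u) [CommRing A] [IsNoetherianRing A] [IsLocalRing A]
    (K : Type u) [Field K] [Algebra (ResidueField A) K] :
    ∃ (B : Type u) (_ : CommRing B) (_ : Algebra A B) (_ : IsLocalRing B),
      IsNoetherianRing B ∧ IsLocalHom (algebraMap A B) ∧
      IsAdicComplete (maximalIdeal B) B ∧ Module.Flat A B ∧
      (maximalIdeal A).map (algebraMap A B) = maximalIdeal B ∧
      ∃ e : ResidueField B ≃+* K, ∀ a : A, e (residue B (algebraMap A B a)) =
        algebraMap (ResidueField A) K (residue A a) := by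
  obtain ⟨B, iB, iAB, hN, hloc, hlh, hflat, e, he⟩ :=
    Gonf.exists_noetherian_flat_local_algebra A K
  have hmax : ((maximalIdeal A).map (algebraMap A B)).IsMaximal := by
    apply Ideal.Quotient.maximal_of_isField
    exact MulEquiv.isField (Field.toIsField K) e.toMulEquiv
  have hmB : (maximalIdeal A).map (algebraMap A B) = maximalIdeal B :=
    IsLocalRing.eq_maximalIdeal hmax
  haveI hNΛ : IsNoetherianRing (AdicCompletion (maximalIdeal B) B) :=
    Groth.Agent.Lib.helper19.isNoetherianRing_adicCompletion B (maximalIdeal B)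
  haveI : IsScalarTower A B (AdicCompletion (maximalIdeal B) B) := inferInstance
  have hflatΛ : Module.Flat A (AdicCompletion (maximalIdeal B) B) :=
    Module.Flat.trans A B (AdicCompletion (maximalIdeal B) B)
  have hmΛ : (maximalIdeal A).map (algebraMap A (AdicCompletion (maximalIdeal B) B)) =
      maximalIdeal (AdicCompletion (maximalIdeal B) B) := by
    rw [AdicCompletion.maximalIdeal_eq_map (R := B),
      IsScalarTower.algebraMap_eq A B (AdicCompletion (maximalIdeal B) B), ← Ideal.map_map]
    exact congrArg (Ideal.map (algebraMap B (AdicCompletion (maximalIdeal B) B))) hmB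
  have hlhΛ : IsLocalHom (algebraMap A (AdicCompletion (maximalIdeal B) B)) :=
    ((IsLocalRing.local_hom_TFAE (algebraMap A (AdicCompletion (maximalIdeal B) B))).out 0 2).mpr
      hmΛ.le
  refine ⟨AdicCompletion (maximalIdeal B) B, inferInstance, inferInstance, inferInstance, hNΛ,
    hlhΛ, inferInstance, hflatΛ, hmΛ, ?_⟩
  have hbij := AdicCompletion.residueField_map_bijective B
  let e₁ : ResidueField B ≃+* ResidueField (AdicCompletion (maximalIdeal B) B) :=
    RingEquiv.ofBijective _ hbij
  let e₂ : ResidueField B ≃+* (B ⧸ (maximalIdeal A).map (algebraMap A B)) :=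
    Ideal.quotEquivOfEq hmB.symm
  refine ⟨e₁.symm.trans (e₂.trans e), fun a => ?_⟩
  have h1 : e₁.symm (residue _ (algebraMap A (AdicCompletion (maximalIdeal B) B) a)) =
      residue B (algebraMap A B a) := by
    rw [RingEquiv.symm_apply_eq]
    rfl
  rw [RingEquiv.trans_apply, h1, RingEquiv.trans_apply]
  exact he a

/-- If `M / N` is flat then `N ∩ I M = I N`. -/
theorem ker_inf_smul_top_le {A : Type*} [CommRing A] (I : Ideal A) {M M' : Type*}
    [AddCommGroup M] [Module A M] [AddCommGroup M'] [Module A M'] [Module.Flat A M']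
    (f : M →ₗ[A] M') (hf : Function.Surjective f) :
    LinearMap.ker f ⊓ (I • ⊤ : Submodule A M) ≤ I • LinearMap.ker f := by
  intro x ⟨hxk, hxI⟩
  have hinj := LinearMap.lTensor_injective_of_exact_of_flat f hf (LinearMap.ker f).subtype
    (LinearMap.ker f).subtype_injective (LinearMap.exact_subtype_ker_map f) (A ⧸ I)
  have h1 : ((1 : A ⧸ I) ⊗ₜ[A] x : (A ⧸ I) ⊗[A] M) = 0 := by
    apply (quotTensorEquivQuotSMul M I).injective
    rw [quotTensorEquivQuotSMul_mk_one_tmul, map_zero, Submodule.Quotient.mk_eq_zero]
    exact hxI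
  have h2 : ((1 : A ⧸ I) ⊗ₜ[A] (⟨x, hxk⟩ : LinearMap.ker f) :
      (A ⧸ I) ⊗[A] LinearMap.ker f) = 0 := by
    apply hinj
    rw [LinearMap.lTensor_tmul, map_zero]
    exact h1
  have h3 : (⟨x, hxk⟩ : LinearMap.ker f) ∈ (I • ⊤ : Submodule A (LinearMap.ker f)) := by
    rw [← Submodule.Quotient.mk_eq_zero, ← quotTensorEquivQuotSMul_mk_one_tmul, h2, map_zero]
  have h4 : x ∈ (I • ⊤ : Submodule A (LinearMap.ker f)).map (LinearMap.ker f).subtype :=
    ⟨_, h3, rfl⟩
  rwa [Submodule.map_smul'', Submodule.map_subtype_top] at h4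

/-- A surjective algebra map between noetherian local `A`-algebras with flat target, which is
injective modulo `𝔪_A`, is injective, provided `𝔪_A B ≤ 𝔪_B`. -/
theorem injective_of_flat_of_mod {A B B' : Type*} [CommRing A] [CommRing B] [CommRing B']
    [Algebra A B] [Algebra A B'] [IsLocalRing B] [IsNoetherianRing B] [Module.Flat A B']
    (I : Ideal A) (hI : I.map (algebraMap A B) ≤ maximalIdeal B)
    (v : B →ₐ[A] B') (hv : Function.Surjective v)
    (hmod : ∀ x, v x = 0 → x ∈ I.map (algebraMap A B)) : Function.Injective v := by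
  have hle := ker_inf_smul_top_le I v.toLinearMap hv
  have hker : ∀ x, v x = 0 → x ∈ I • LinearMap.ker v.toLinearMap := by
    intro x hx
    apply hle
    refine ⟨hx, ?_⟩
    rw [Ideal.smul_top_eq_map]
    exact hmod x hx
  have hN : RingHom.ker (v : B →+* B') ≤ maximalIdeal B • RingHom.ker (v : B →+* B') := by
    intro x hx
    have hx' := hker x hx
    refine Submodule.smul_induction_on hx' (fun a ha n hn => ?_) (fun y z hy hz => ?_)
    · have hsm : a • n = algebraMap A B a • n := by rw [Algebra.smul_def, smul_eq_mul]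
      rw [hsm]
      have hn' : n ∈ RingHom.ker (v : B →+* B') := hn
      exact Submodule.smul_mem_smul (hI (Ideal.mem_map_of_mem _ ha)) hn'
    · exact Submodule.add_mem _ hy hz
  have hbot : RingHom.ker (v : B →+* B') = ⊥ :=
    Submodule.eq_bot_of_le_smul_of_le_jacobson_bot (maximalIdeal B) _
      (IsNoetherian.noetherian _) hN (maximalIdeal_le_jacobson _)
  exact (RingHom.injective_iff_ker_eq_bot (v : B →+* B')).mpr hbot

end Groth.Agent.Lib.Helper12.CohenAlg
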