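import Groth.Agent.Lib.Helper12.CohenAlgA
import Groth.Agent.Lib.Helper5.CohenAlgSmooth
import Groth.Agent.Lib.Helper5.AdicLiftU

/-!
# Existence and uniqueness of Cohen algebras (EGA 0_IV 19.8.2)
-/

set_option autoImplicit false
universe u v

namespace Groth.Agent.Lib.Helper12.CohenAlg

open IsLocalRing EGA41

/-- Existence of a Cohen algebra with prescribed (separable) residue field extension. -/
theorem exists_isCohenAlgebra (A : Type u) [CommRing A] [IsLocalRing A] [IsNoetherianRing A]
    (K : Type u) [Field K] [Algebra (ResidueField A) K]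
    [Algebra.IsGeometricallyReduced (ResidueField A) K] :
    ∃ (B : Type u) (_ : CommRing B) (_ : IsLocalRing B) (_ : Algebra A B)
      (_ : IsLocalHom (algebraMap A B)),
      EGA41.IsCohenAlgebra A B ∧ Nonempty (ResidueField B ≃ₐ[ResidueField A] K) := by
  obtain ⟨B, i1, i2, i3, hN, hlh, hcomp, hflat, hm, e, he⟩ := exists_complete_gonflement A K
  let E : ResidueField B ≃ₐ[ResidueField A] K :=
    { e with
      commutes' := by
        intro x
        obtain ⟨a, rfl⟩ := residue_surjective x
        change e (algebraMap (ResidueField A) (ResidueField B) (residue A a)) = _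
        rw [ResidueField.algebraMap_residue]
        exact he a }
  have hgr : Algebra.IsGeometricallyReduced (ResidueField A) (ResidueField B) :=
    Algebra.IsGeometricallyReduced.of_injective E.toAlgHom E.injective
  exact ⟨B, i1, i3, i2, hlh, ⟨inferInstance, hN, hcomp, hflat, hm, hgr⟩, ⟨E⟩⟩

/-- Uniqueness of Cohen algebras with given residue field. -/
theorem nonempty_algEquiv_of_isCohenAlgebra {A : Type u} [CommRing A] [IsLocalRing A]
    (B B' : Type u) [CommRing B] [IsLocalRing B] [Algebra A B] [IsLocalHom (algebraMap A B)]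
    [CommRing B'] [IsLocalRing B'] [Algebra A B'] [IsLocalHom (algebraMap A B')]
    (hB : EGA41.IsCohenAlgebra A B) (hB' : EGA41.IsCohenAlgebra A B')
    (ε : ResidueField B ≃ₐ[ResidueField A] ResidueField B') :
    Nonempty (B ≃ₐ[A] B') := by
  have hfs := Groth.Agent.Lib.Helper5.CohenAlgSmooth.isFormallySmoothAdic_of_isCohenAlgebra hB
  obtain ⟨hNA, hNB, hcB, hflB, hmB, -⟩ := hB
  obtain ⟨-, hNB', hcB', hflB', hmB', -⟩ := hB'
  let u : B →ₐ[A] B' ⧸ maximalIdeal B' :=
    { (ε : ResidueField B →+* ResidueField B').comp (residue B) with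
      commutes' := by
        intro a
        change ε (residue B (algebraMap A B a)) = _
        rw [← ResidueField.algebraMap_residue, ε.commutes, ResidueField.algebraMap_residue]
        rfl }
  have hu : ∀ b, u b = ε (residue B b) := fun _ => rfl
  have hmap : (maximalIdeal B').map (Ideal.Quotient.mk (maximalIdeal B')) = ⊥ :=
    Ideal.map_quotient_self _
  haveI hH : IsHausdorff ((maximalIdeal B').map (Ideal.Quotient.mk (maximalIdeal B')))
      (B' ⧸ maximalIdeal B') := by
    rw [hmap]
    infer_instance
  obtain ⟨v, -, hv⟩ := Groth.Agent.Lib.Helper5.AdicLiftU.exists_lift_adicComplete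
    (maximalIdeal A) (maximalIdeal B) (maximalIdeal B') hfs
    ⟨1, by rw [pow_one, hmB']⟩ (maximalIdeal B') ⟨1, by rw [pow_one]⟩ u ⟨1, by
      rw [pow_one, Ideal.map_le_iff_le_comap]
      intro x hx
      rw [Ideal.mem_comap]
      have : u x = 0 := by
        rw [hu, (residue_eq_zero_iff x).mpr hx]
        exact map_zero ε
      change u x ∈ _
      rw [this]
      exact Ideal.zero_mem _⟩
  have hv' : ∀ b, Ideal.Quotient.mk (maximalIdeal B') (v b) = ε (residue B b) := fun b =>
    congrArg (fun f : B →ₐ[A] B' ⧸ maximalIdeal B' => f b) hv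
  -- `v` maps the maximal ideal onto the maximal ideal
  have hmapv : (maximalIdeal B).map (v : B →+* B') = maximalIdeal B' := by
    rw [← hmB, Ideal.map_map, AlgHom.comp_algebraMap, hmB']
  -- surjectivity
  have hsurj : Function.Surjective v := by
    haveI haus : IsHausdorff ((maximalIdeal B).map (v : B →+* B')) B' := by
      rw [hmapv]
      infer_instance
    haveI : IsPrecomplete (maximalIdeal B) B := hcB.toIsPrecomplete
    apply surjective_of_mk_map_comp_surjective (v : B →+* B') (I := maximalIdeal B)
    intro z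
    obtain ⟨b', rfl⟩ := Ideal.Quotient.mk_surjective z
    obtain ⟨y, hy⟩ := ε.surjective (residue B' b')
    obtain ⟨b, rfl⟩ := residue_surjective y
    refine ⟨b, ?_⟩
    rw [RingHom.comp_apply, Ideal.Quotient.mk_eq_mk_iff_sub_mem, hmapv, ← residue_eq_zero_iff,
      map_sub, sub_eq_zero]
    exact (hv' b).trans hy
  -- injectivity
  have hinj : Function.Injective v := by
    refine injective_of_flat_of_mod (maximalIdeal A) hmB.le v hsurj fun x hx => ?_
    rw [hmB, ← residue_eq_zero_iff]
    have h1 := hv' x
    rw [hx, map_zero] at h1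
    exact (map_eq_zero_iff ε ε.injective).mp h1.symm
  exact ⟨AlgEquiv.ofBijective v ⟨hinj, hsurj⟩⟩

end Groth.Agent.Lib.Helper12.CohenAlg
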