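import Groth.Agent.Lib.Helper12.GonfI
import Groth.Agent.Lib.helper19.CompletionLocal
import Groth.Agent.Lib.helper19.CompletionNoetherian

/-!
# Complete gonflement of a discrete valuation ring; existence of Cohen rings
-/

set_option autoImplicit false
universe u v

namespace Groth.Agent.Lib.Helper12.CohenExist

open IsLocalRing

/-- Complete gonflement: for a noetherian local ring `A` whose maximal ideal is generated by a
nonzerodivisor `π` and any extension `K` of its residue field, there is a complete discrete
valuation ring `Λ`, flat over `A`, with uniformizer `π` and residue field `K`. -/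
theorem exists_complete_dvr (A : Type u) [CommRing A] [IsNoetherianRing A] [IsLocalRing A]
    (π : A) (hπ : maximalIdeal A = Ideal.span {π}) (hreg : π ∈ nonZeroDivisors A)
    (K : Type u) [Field K] [Algebra (ResidueField A) K] :
    ∃ (Λ : Type u) (_ : CommRing Λ) (_ : Algebra A Λ) (_ : IsDomain Λ)
      (_ : IsDiscreteValuationRing Λ),
      IsAdicComplete (maximalIdeal Λ) Λ ∧ maximalIdeal Λ = Ideal.span {algebraMap A Λ π} ∧
      Module.Flat A Λ ∧
      ∃ e : ResidueField Λ ≃+* K, ∀ a : A, e (residue Λ (algebraMap A Λ a)) =
        algebraMap (ResidueField A) K (residue A a) := by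
  obtain ⟨B, iB, iAB, hN, hloc, hlh, hflat, e, he⟩ :=
    Gonf.exists_noetherian_flat_local_algebra A K
  have hmax : ((maximalIdeal A).map (algebraMap A B)).IsMaximal := by
    apply Ideal.Quotient.maximal_of_isField
    exact MulEquiv.isField (Field.toIsField K) e.toMulEquiv
  have hmB : (maximalIdeal A).map (algebraMap A B) = maximalIdeal B :=
    IsLocalRing.eq_maximalIdeal hmax
  have hmB' : maximalIdeal B = Ideal.span {algebraMap A B π} := by
    rw [← hmB, hπ, Ideal.map_span, Set.image_singleton]
  have hregB : algebraMap A B π ∈ nonZeroDivisors B := by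
    have h1 : IsSMulRegular A π := by
      intro x y hxy
      have h := (mem_nonZeroDivisors_iff_right.mp hreg) (x - y)
      have : (x - y) * π = 0 := by
        have hxy' : π * x = π * y := hxy
        rw [sub_mul, mul_comm x, mul_comm y, hxy', sub_self]
      exact sub_eq_zero.mp (h this)
    have h2 : IsSMulRegular B (algebraMap A B π) := h1.of_flat
    rw [mem_nonZeroDivisors_iff_right]
    intro x hx
    apply h2
    change algebraMap A B π • x = algebraMap A B π • (0 : B)
    rw [smul_eq_mul, smul_zero, mul_comm]
    exact hx
  have hdomB : IsDomain B :=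
    Groth.Agent.Lib.Helper12.Hironaka.isDomain_of_maximalIdeal_eq_span (algebraMap A B π) hregB hmB'
  have hdvrB : IsDiscreteValuationRing B := by
    have hnf : ¬ IsField B := by
      rw [IsLocalRing.isField_iff_maximalIdeal_eq, hmB', Ideal.span_singleton_eq_bot]
      exact nonZeroDivisors.ne_zero hregB
    have hprin : (maximalIdeal B).IsPrincipal := ⟨⟨algebraMap A B π, hmB'⟩⟩
    exact ((IsDiscreteValuationRing.TFAE B hnf).out 0 4).mpr hprin
  haveI hNΛ : IsNoetherianRing (AdicCompletion (maximalIdeal B) B) :=
    Groth.Agent.Lib.helper19.isNoetherianRing_adicCompletion B (maximalIdeal B)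
  obtain ⟨hdomΛ, hdvrΛ⟩ :=
    (Groth.Agent.Lib.helper19.isDiscreteValuationRing_adicCompletion_iff_of_isNoetherianRing B).mp
      ⟨hdomB, hdvrB⟩
  haveI : IsScalarTower A B (AdicCompletion (maximalIdeal B) B) := inferInstance
  have hflatΛ : Module.Flat A (AdicCompletion (maximalIdeal B) B) :=
    Module.Flat.trans A B (AdicCompletion (maximalIdeal B) B)
  refine ⟨AdicCompletion (maximalIdeal B) B, inferInstance, inferInstance, hdomΛ, hdvrΛ, ?_, ?_, hflatΛ, ?_⟩
  · exact inferInstanceAs (IsAdicComplete (maximalIdeal (AdicCompletion (maximalIdeal B) B))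
      (AdicCompletion (maximalIdeal B) B))
  · have h := AdicCompletion.maximalIdeal_eq_map (R := B)
    have h2 : (maximalIdeal B).map (algebraMap B (AdicCompletion (maximalIdeal B) B)) =
        Ideal.span {algebraMap B (AdicCompletion (maximalIdeal B) B) (algebraMap A B π)} := by
      have key : ∀ (I : Ideal B) (φ : B →+* AdicCompletion (maximalIdeal B) B) (x : B),
          I = Ideal.span {x} → I.map φ = Ideal.span {φ x} := by
        intro I φ x h
        rw [h, Ideal.map_span, Set.image_singleton]
      exact key _ _ _ hmB'
    rw [h, h2]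
    rfl
  · have hbij := AdicCompletion.residueField_map_bijective B
    let e₁ : ResidueField B ≃+* ResidueField (AdicCompletion (maximalIdeal B) B) :=
      RingEquiv.ofBijective _ hbij
    let e₂ : ResidueField B ≃+* (B ⧸ (maximalIdeal A).map (algebraMap A B)) :=
      Ideal.quotEquivOfEq hmB.symm
    refine ⟨e₁.symm.trans (e₂.trans e), fun a => ?_⟩
    have h1 : e₁.symm (residue _ (algebraMap A (AdicCompletion (maximalIdeal B) B) a)) =
        residue B (algebraMap A B a) := by
      rw [RingEquiv.symm_apply_eq]
      rfl
    rw [RingEquiv.trans_apply, h1, RingEquiv.trans_apply]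
    exact he a

end Groth.Agent.Lib.Helper12.CohenExist
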