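import Groth.Agent.Lib.Helper12.CohenExistA

/-!
# Existence of Cohen rings with a prescribed residue field
-/

set_option autoImplicit false
universe u v

namespace Groth.Agent.Lib.Helper12.CohenExist

open IsLocalRing

section Base

variable (p : ℕ) [Fact p.Prime] (k : Type u) [Field k] [CharP k p]

/-- The characteristic map `ULift ℤ → k`. -/
noncomputable def charMap : ULift.{u} ℤ →+* k :=
  (Int.castRingHom k).comp (ULift.ringEquiv : ULift.{u} ℤ ≃+* ℤ).toRingHom

theorem charMap_apply (z : ULift.{u} ℤ) : charMap k z = (z.down : k) := rfl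

instance : IsNoetherianRing (ULift.{u} ℤ) :=
  isNoetherianRing_of_ringEquiv ℤ (ULift.ringEquiv : ULift.{u} ℤ ≃+* ℤ).symm

instance charMap_ker_isPrime : (RingHom.ker (charMap.{u} k)).IsPrime := RingHom.ker_isPrime _

include p in
theorem ker_charMap : RingHom.ker (charMap.{u} k) = Ideal.span {((p : ℕ) : ULift.{u} ℤ)} := by
  apply le_antisymm
  · intro z hz
    rw [RingHom.mem_ker, charMap_apply, CharP.intCast_eq_zero_iff k p] at hz
    obtain ⟨c, hc⟩ := hz
    rw [Ideal.mem_span_singleton']
    refine ⟨ULift.up c, ?_⟩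
    apply ULift.ext
    simp [hc, mul_comm]
  · rw [Ideal.span_le, Set.singleton_subset_iff]
    change charMap k _ = 0
    rw [map_natCast]
    exact CharP.cast_eq_zero k p

end Base

/-- **Existence of Cohen rings.** -/
theorem exists_cohenRing (p : ℕ) [Fact p.Prime] (k : Type u) [Field k] [CharP k p] :
    ∃ (Λ : Type u) (_ : CommRing Λ) (_ : IsDomain Λ) (_ : IsDiscreteValuationRing Λ),
      IsAdicComplete (maximalIdeal Λ) Λ ∧ maximalIdeal Λ = Ideal.span {(p : Λ)} ∧
      Nonempty (ResidueField Λ ≃+* k) := by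
  let P : Ideal (ULift.{u} ℤ) := RingHom.ker (charMap.{u} k)
  let A := Localization.AtPrime P
  -- the residue field of `A` maps to `k`
  have hunits : ∀ y : P.primeCompl, IsUnit (charMap.{u} k y) := by
    intro y
    rw [isUnit_iff_ne_zero]
    exact y.2
  let φ : A →+* k := IsLocalization.lift hunits
  haveI hφ : IsLocalHom φ := by
    refine ⟨fun a ha => ?_⟩
    obtain ⟨⟨z, s⟩, hzs⟩ := IsLocalization.mk'_surjective P.primeCompl a
    rw [← hzs] at ha ⊢
    simp only at ha ⊢
    have h1 : φ (IsLocalization.mk' A z s) = charMap k z * (charMap k s)⁻¹ := by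
      rw [IsLocalization.lift_mk', Units.mul_inv_eq_iff_eq_mul, IsUnit.coe_liftRight]
      simp [mul_assoc, inv_mul_cancel₀ (hunits s).ne_zero]
    rw [h1] at ha
    have hz : z ∉ P := by
      intro hz
      have : charMap k z = 0 := hz
      rw [this, zero_mul] at ha
      exact not_isUnit_zero ha
    rw [IsLocalization.AtPrime.isUnit_mk'_iff A P]
    exact hz
  letI : Algebra (ResidueField A) k := (ResidueField.lift φ).toAlgebra
  -- the maximal ideal of `A` is generated by `p`
  have hmA : maximalIdeal A = Ideal.span {((p : ℕ) : A)} := by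
    rw [← Localization.AtPrime.map_eq_maximalIdeal]
    change Ideal.map _ (RingHom.ker (charMap.{u} k)) = _
    rw [ker_charMap p k, Ideal.map_span, Set.image_singleton, map_natCast]
  have hregZ : IsSMulRegular (ULift.{u} ℤ) ((p : ℕ) : ULift.{u} ℤ) := by
    intro a b hab
    have h := congrArg ULift.down hab
    apply ULift.ext
    simp only [smul_eq_mul, ULift.mul_down, ULift.down_natCast] at h
    exact mul_left_cancel₀ (Nat.cast_ne_zero.mpr (Fact.out : p.Prime).ne_zero) h
  have hregA : ((p : ℕ) : A) ∈ nonZeroDivisors A := by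
    have h2 : IsSMulRegular A (algebraMap (ULift.{u} ℤ) A ((p : ℕ) : ULift.{u} ℤ)) := hregZ.of_flat
    rw [map_natCast] at h2
    rw [mem_nonZeroDivisors_iff_right]
    intro x hx
    apply h2
    change ((p : ℕ) : A) • x = ((p : ℕ) : A) • (0 : A)
    rw [smul_eq_mul, smul_zero, mul_comm]
    exact hx
  obtain ⟨Λ, i1, i2, hdom, hdvr, hcomp, hmΛ, -, e, -⟩ :=
    exists_complete_dvr A ((p : ℕ) : A) hmA hregA k
  refine ⟨Λ, i1, hdom, hdvr, hcomp, ?_, ⟨e⟩⟩
  rw [hmΛ, map_natCast]

end Groth.Agent.Lib.Helper12.CohenExist
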