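import Groth.Agent.Lib.Helper12.CohenStructB
import Groth.Agent.Lib.Helper16.DComp4
import Groth.Agent.Lib.Helper16.DComp5
import Groth.Agent.Lib.Helper5.ComplKaehler
import Groth.Agent.Lib.Helper29.IntegralDim

/-!
# Tools for Noether normalisation of complete local rings
-/

set_option autoImplicit false
universe u v

namespace Groth.Agent.Lib.Helper12.CohenFin

open IsLocalRing

section Complete

variable {R : Type*} [CommRing R] {M : Type*} [AddCommGroup M] [Module R M]

/-- Completeness passes to smaller finitely generated ideals. -/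
theorem isAdicComplete_of_le (I J : Ideal R) [IsAdicComplete I M] (hJ : J.FG) (hle : J ≤ I) :
    IsAdicComplete J M := by
  have h1 : IsPrecomplete J M :=
    Groth.Agent.Lib.Helper16.DComp.isPrecomplete_of_fg J hJ
      (fun f hf => Groth.Agent.Lib.Helper16.DComp.DCf.of_isAdicComplete I (hle hf))
  have h2 : IsHausdorff J M := by
    refine ⟨fun x hx => ?_⟩
    apply IsHausdorff.haus (I := I) inferInstance
    intro n
    have := hx n
    rw [SModEq.zero] at this ⊢
    exact Submodule.smul_mono_left (Ideal.pow_right_mono hle n) this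
  exact { h1, h2 with }

end Complete

/-- Evaluation of power series at elements of the maximal ideal of a complete local ring. -/
theorem exists_eval (R : Type u) [CommRing R] [IsLocalRing R]
    [IsAdicComplete (maximalIdeal R) R] {Λ : Type u} [CommRing Λ] (v : Λ →+* R)
    {d : ℕ} (a : Fin d → R) (ha : ∀ i, a i ∈ maximalIdeal R) :
    ∃ Φ : MvPowerSeries (Fin d) Λ →+* R,
      (∀ c, Φ (MvPowerSeries.C c) = v c) ∧ (∀ i, Φ (MvPowerSeries.X i) = a i) := by
  have hle : Ideal.span (Set.range a) ≤ maximalIdeal R := by
    rw [Ideal.span_le]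
    rintro _ ⟨i, rfl⟩
    exact ha i
  have hfg : (Ideal.span (Set.range a)).FG := by
    classical
    exact ⟨Finset.univ.image a, by simp⟩
  have hc : IsAdicComplete (Ideal.span (Set.range a)) R :=
    isAdicComplete_of_le (maximalIdeal R) _ hfg hle
  let e : R ≃ₐ[R] AdicCompletion (Ideal.span (Set.range a)) R :=
    AdicCompletion.ofAlgEquiv (Ideal.span (Set.range a))
  let Φ : MvPowerSeries (Fin d) Λ →+* R :=
    (e.symm : AdicCompletion (Ideal.span (Set.range a)) R →+* R).comp
      ((Groth.Agent.Lib.helper19.psToCompletion a).comp (MvPowerSeries.map v))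
  refine ⟨Φ, fun c => ?_, fun i => ?_⟩
  · change e.symm (Groth.Agent.Lib.helper19.psToCompletion a
      (MvPowerSeries.map v (MvPowerSeries.C c))) = v c
    rw [MvPowerSeries.map_C, Groth.Agent.Lib.helper19.psToCompletion_C, AlgEquiv.commutes]
    rfl
  · change e.symm (Groth.Agent.Lib.helper19.psToCompletion a
      (MvPowerSeries.map v (MvPowerSeries.X i))) = a i
    rw [MvPowerSeries.map_X, Groth.Agent.Lib.helper19.psToCompletion_X, AlgEquiv.commutes]
    rfl

/-- A module of finite length over a local ring `R` is finite over any base `Λ` over which the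
residue field of `R` is finite. -/
theorem finite_of_isFiniteLength_aux {Λ R : Type*} [CommRing Λ] [CommRing R] [IsLocalRing R]
    [Algebra Λ R] [Module.Finite Λ (ResidueField R)] (M : Type*) [AddCommGroup M] [Module R M]
    (h : IsFiniteLength R M) :
    ∀ [Module Λ M] [IsScalarTower Λ R M], Module.Finite Λ M := by
  induction h with
  | of_subsingleton =>
    intro _ _
    infer_instance
  | @of_simple_quotient M _ _ N hsimple hN ih =>
    intro _ _
    have hNfin : Module.Finite Λ N := ih
    obtain ⟨I, hI, ⟨e⟩⟩ := isSimpleModule_iff_quot_maximal.mp hsimple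
    have hIm : I = maximalIdeal R := IsLocalRing.eq_maximalIdeal hI
    subst hIm
    have hkfin : Module.Finite Λ (R ⧸ maximalIdeal R) := ‹Module.Finite Λ (ResidueField R)›
    have hQfin : Module.Finite Λ (M ⧸ N) :=
      Module.Finite.equiv (e.restrictScalars Λ).symm
    have hQfin' : Module.Finite Λ (M ⧸ N.restrictScalars Λ) :=
      Module.Finite.equiv (Submodule.Quotient.restrictScalarsEquiv Λ N).symm
    have hNfin' : Module.Finite Λ (N.restrictScalars Λ) := hNfin
    exact Module.Finite.of_submodule_quotient (N.restrictScalars Λ)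

theorem finite_of_isFiniteLength {Λ R : Type*} [CommRing Λ] [CommRing R] [IsLocalRing R]
    [Algebra Λ R] [Module.Finite Λ (ResidueField R)] (M : Type*) [AddCommGroup M] [Module R M]
    [Module Λ M] [IsScalarTower Λ R M] (h : IsFiniteLength R M) : Module.Finite Λ M :=
  finite_of_isFiniteLength_aux M h

/-- Existence of a system of parameters. -/
theorem exists_sop (R : Type u) [CommRing R] [IsLocalRing R] [IsNoetherianRing R] :
    ∃ (d : ℕ) (a : Fin d → R), ringKrullDim R = d ∧ (∀ i, a i ∈ maximalIdeal R) ∧
      IsArtinianRing (R ⧸ Ideal.span (Set.range a)) := by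
  classical
  obtain ⟨s, hs, hcard⟩ := Ideal.exists_finset_card_eq_height_of_isNoetherianRing (maximalIdeal R)
  have hrange : Set.range (fun i : Fin s.card => ((s.equivFin.symm i : s) : R)) = (s : Set R) := by
    ext y
    constructor
    · rintro ⟨i, rfl⟩
      exact (s.equivFin.symm i).2
    · intro hy
      exact ⟨s.equivFin ⟨y, hy⟩, by simp⟩
  refine ⟨s.card, fun i => ((s.equivFin.symm i : s) : R), ?_, fun i => ?_, ?_⟩
  · rw [← IsLocalRing.maximalIdeal_height_eq_ringKrullDim, ← hcard]
    rfl
  · exact hs.1.2 (Ideal.subset_span (s.equivFin.symm i).2)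
  · rw [hrange]
    exact IsLocalRing.quotient_artinian_of_mem_minimalPrimes_of_isLocalRing _ hs

end Groth.Agent.Lib.Helper12.CohenFin
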