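import Groth.Agent.Lib.Helper12.CohenFinB

/-!
# Finiteness of evaluation maps from power series rings (complete Nakayama)
-/

set_option autoImplicit false
universe u v

namespace Groth.Agent.Lib.Helper12.CohenFin

open IsLocalRing

/-- Let `Λ` be a complete local ring, `R` a noetherian local `Λ`-algebra whose residue field is
finite over `Λ`, and `Φ : Λ[[T]] → R` a `Λ`-map sending the variables to elements `a i` such that
`R / (𝔪_Λ R + (a))` is artinian. Then `Φ` is finite. -/
theorem finite_eval {Λ R : Type u} [CommRing Λ] [IsLocalRing Λ]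
    [IsPrecomplete (maximalIdeal Λ) Λ] [CommRing R] [IsLocalRing R] [IsNoetherianRing R]
    [Algebra Λ R] [Module.Finite Λ (ResidueField R)] {n : ℕ}
    (Φ : MvPowerSeries (Fin n) Λ →+* R) (a : Fin n → R)
    (hC : ∀ c, Φ (MvPowerSeries.C c) = algebraMap Λ R c)
    (hX : ∀ i, Φ (MvPowerSeries.X i) = a i)
    (hv : (maximalIdeal Λ).map (algebraMap Λ R) ≤ maximalIdeal R)
    (ha : ∀ i, a i ∈ maximalIdeal R)
    (hart : IsArtinianRing (R ⧸ ((maximalIdeal Λ).map (algebraMap Λ R) ⊔
      Ideal.span (Set.range a)))) : Φ.Finite := by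
  letI : Algebra (MvPowerSeries (Fin n) Λ) R := Φ.toAlgebra
  change Module.Finite (MvPowerSeries (Fin n) Λ) R
  haveI : IsScalarTower Λ (MvPowerSeries (Fin n) Λ) R :=
    IsScalarTower.of_algebraMap_eq (fun c => (hC c).symm)
  set J : Ideal R := (maximalIdeal Λ).map (algebraMap Λ R) ⊔ Ideal.span (Set.range a) with hJ
  have hmap : (maximalIdeal (MvPowerSeries (Fin n) Λ)).map
      (algebraMap (MvPowerSeries (Fin n) Λ) R) = J :=
    map_maximalIdeal_ps Φ (algebraMap Λ R) a hC hX
  have hJle : J ≤ maximalIdeal R := by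
    rw [hJ, sup_le_iff, Ideal.span_le]
    refine ⟨hv, ?_⟩
    rintro _ ⟨i, rfl⟩
    exact ha i
  haveI : IsPrecomplete (maximalIdeal (MvPowerSeries (Fin n) Λ)) (MvPowerSeries (Fin n) Λ) :=
    Groth.Agent.Lib.Helper1.PSDecomp.isPrecomplete
  haveI : IsHausdorff (maximalIdeal (MvPowerSeries (Fin n) Λ)) R := by
    rw [← IsHausdorff.map_algebraMap_iff (S := R), hmap]
    exact IsHausdorff.of_le_jacobson _ _ (hJle.trans (maximalIdeal_le_jacobson _))
  refine Groth.Agent.Lib.Helper5.ComplKaehler.finite_of_finite_quotient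
    (maximalIdeal (MvPowerSeries (Fin n) Λ)) (N := R) ?_
  -- `R / J` has finite length over `R`
  haveI : IsArtinian R (R ⧸ J) :=
    isArtinian_of_surjective_algebraMap (R := R ⧸ J) (S := R) (M := R ⧸ J)
      Ideal.Quotient.mk_surjective
  have hfl : IsFiniteLength R (R ⧸ J) :=
    isFiniteLength_iff_isNoetherian_isArtinian.mpr ⟨inferInstance, inferInstance⟩
  have hΛfin : Module.Finite Λ (R ⧸ J) := finite_of_isFiniteLength (R ⧸ J) hfl
  haveI : IsScalarTower Λ (MvPowerSeries (Fin n) Λ) (R ⧸ J) := by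
    refine ⟨fun c f x => ?_⟩
    obtain ⟨y, rfl⟩ := Ideal.Quotient.mk_surjective x
    rw [Algebra.smul_def c f, Algebra.smul_def, Algebra.smul_def, Algebra.smul_def, map_mul,
      mul_assoc]
    congr 1
    change Ideal.Quotient.mk J (Φ (algebraMap Λ (MvPowerSeries (Fin n) Λ) c)) =
      Ideal.Quotient.mk J (algebraMap Λ R c)
    rw [MvPowerSeries.algebraMap_apply, Algebra.algebraMap_self_apply, hC]
  have hSfin : Module.Finite (MvPowerSeries (Fin n) Λ) (R ⧸ J) :=
    Module.Finite.of_restrictScalars_finite Λ (MvPowerSeries (Fin n) Λ) (R ⧸ J)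
  have h1 : (maximalIdeal (MvPowerSeries (Fin n) Λ)) • (⊤ : Submodule (MvPowerSeries (Fin n) Λ) R) =
      J.restrictScalars (MvPowerSeries (Fin n) Λ) := by
    rw [Ideal.smul_top_eq_map, hmap]
  have e1 : (R ⧸ ((maximalIdeal (MvPowerSeries (Fin n) Λ)) •
      (⊤ : Submodule (MvPowerSeries (Fin n) Λ) R))) ≃ₗ[MvPowerSeries (Fin n) Λ]
      (R ⧸ J.restrictScalars (MvPowerSeries (Fin n) Λ)) := Submodule.quotEquivOfEq _ _ h1
  have e2 : (R ⧸ J.restrictScalars (MvPowerSeries (Fin n) Λ)) ≃ₗ[MvPowerSeries (Fin n) Λ]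
      (R ⧸ J) := Submodule.Quotient.restrictScalarsEquiv (MvPowerSeries (Fin n) Λ) J
  exact Module.Finite.equiv (e1.trans e2).symm

end Groth.Agent.Lib.Helper12.CohenFin
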