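import Groth.Agent.Lib.Helper12.CohenFinC
import Groth.Agent.Lib.Helper1.RegPS

/-!
# Noether normalisation for complete local rings containing a field
-/

set_option autoImplicit false
universe u v

namespace Groth.Agent.Lib.Helper12.CohenFin

open IsLocalRing

theorem isLocalHom_eval {Λ R : Type u} [CommRing Λ] [IsLocalRing Λ] [CommRing R] [IsLocalRing R]
    {n : ℕ} (Φ : MvPowerSeries (Fin n) Λ →+* R) (v : Λ →+* R) (a : Fin n → R)
    (hC : ∀ c, Φ (MvPowerSeries.C c) = v c) (hX : ∀ i, Φ (MvPowerSeries.X i) = a i)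
    (hv : (maximalIdeal Λ).map v ≤ maximalIdeal R) (ha : ∀ i, a i ∈ maximalIdeal R) :
    IsLocalHom Φ := by
  refine ⟨fun f hf => ?_⟩
  by_contra hnu
  have hfm : f ∈ maximalIdeal (MvPowerSeries (Fin n) Λ) := hnu
  have h1 : Φ f ∈ (maximalIdeal (MvPowerSeries (Fin n) Λ)).map Φ := Ideal.mem_map_of_mem _ hfm
  rw [map_maximalIdeal_ps Φ v a hC hX] at h1
  have hle : (maximalIdeal Λ).map v ⊔ Ideal.span (Set.range a) ≤ maximalIdeal R := by
    rw [sup_le_iff, Ideal.span_le]
    refine ⟨hv, ?_⟩
    rintro _ ⟨i, rfl⟩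
    exact ha i
  exact (hle h1) hf

/-- Noether normalisation for a complete noetherian local ring over a field `k₀` over which the
residue field is finite. -/
theorem exists_finite_injective_of_field {k₀ A : Type u} [Field k₀] [CommRing A] [IsLocalRing A]
    [IsNoetherianRing A] [IsAdicComplete (maximalIdeal A) A] [Algebra k₀ A]
    [Module.Finite k₀ (ResidueField A)] :
    ∃ (n : ℕ) (w : MvPowerSeries (Fin n) k₀ →ₐ[k₀] A), Function.Injective w ∧
      IsLocalHom w.toRingHom ∧ w.toRingHom.Finite ∧ ringKrullDim A = n := by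
  obtain ⟨d, a, hdim, ha, hart⟩ := exists_sop A
  obtain ⟨Φ, hC, hX⟩ := exists_eval A (algebraMap k₀ A) a ha
  have hm0 : maximalIdeal k₀ = ⊥ := IsLocalRing.maximalIdeal_eq_bot
  haveI : IsPrecomplete (maximalIdeal k₀) k₀ := by
    rw [hm0]
    infer_instance
  have hv : (maximalIdeal k₀).map (algebraMap k₀ A) ≤ maximalIdeal A := by
    rw [hm0, Ideal.map_bot]
    exact bot_le
  have hart' : IsArtinianRing (A ⧸ ((maximalIdeal k₀).map (algebraMap k₀ A) ⊔
      Ideal.span (Set.range a))) := by
    have : (maximalIdeal k₀).map (algebraMap k₀ A) ⊔ Ideal.span (Set.range a) =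
        Ideal.span (Set.range a) := by rw [hm0, Ideal.map_bot, bot_sup_eq]
    rw [this]
    exact hart
  have hfin : Φ.Finite := finite_eval Φ a hC hX hv ha hart'
  have hloc : IsLocalHom Φ := isLocalHom_eval Φ (algebraMap k₀ A) a hC hX hv ha
  haveI : IsDomain (MvPowerSeries (Fin d) k₀) := NoZeroDivisors.to_isDomain _
  have hinj : Function.Injective Φ :=
    injective_of_finite_of_dim_le Φ hfin d
      (Groth.Agent.Lib.Helper1.RegPS.ringKrullDim_ps d).le hdim
  let w : MvPowerSeries (Fin d) k₀ →ₐ[k₀] A :=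
    { Φ with
      commutes' := fun c => by
        change Φ (algebraMap k₀ (MvPowerSeries (Fin d) k₀) c) = _
        rw [MvPowerSeries.algebraMap_apply, Algebra.algebraMap_self_apply, hC] }
  exact ⟨d, w, hinj, hloc, hfin, hdim⟩

end Groth.Agent.Lib.Helper12.CohenFin
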