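import Groth.Agent.Lib.Helper12.CohenFinE
import Mathlib.RingTheory.MvPowerSeries.Rename

/-!
# Universe-polymorphic evaluation of power series; complete DVRs with a coefficient field
-/

set_option autoImplicit false
universe u v w

namespace Groth.Agent.Lib.Helper12.CohenFin

open IsLocalRing

/-- Universe-polymorphic version of `exists_surjective_of_lift`. -/
theorem exists_eval_surjective (R : Type v) [CommRing R] [IsLocalRing R]
    [IsAdicComplete (maximalIdeal R) R] {Λ : Type w} [CommRing Λ] (v : Λ →+* R)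
    (hv : Function.Surjective ((residue R).comp v))
    {d : ℕ} (a : Fin d → R) (ha : Ideal.span (Set.range a) = maximalIdeal R) :
    ∃ Φ : MvPowerSeries (Fin d) Λ →+* R, Function.Surjective Φ ∧
      (∀ c, Φ (MvPowerSeries.C c) = v c) ∧ ∀ i, Φ (MvPowerSeries.X i) = a i := by
  have hc : IsAdicComplete (Ideal.span (Set.range a)) R := by rw [ha]; infer_instance
  let e : R ≃ₐ[R] AdicCompletion (Ideal.span (Set.range a)) R :=
    AdicCompletion.ofAlgEquiv (Ideal.span (Set.range a))
  let Φ : MvPowerSeries (Fin d) Λ →+* R :=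
    (e.symm : AdicCompletion (Ideal.span (Set.range a)) R →+* R).comp
      ((Groth.Agent.Lib.helper19.psToCompletion a).comp (MvPowerSeries.map v))
  have hX : ∀ i, Φ (MvPowerSeries.X i) = a i := by
    intro i
    change e.symm (Groth.Agent.Lib.helper19.psToCompletion a
      (MvPowerSeries.map v (MvPowerSeries.X i))) = a i
    rw [MvPowerSeries.map_X, Groth.Agent.Lib.helper19.psToCompletion_X, AlgEquiv.commutes]
    rfl
  have hC : ∀ c, Φ (MvPowerSeries.C c) = v c := by
    intro c
    change e.symm (Groth.Agent.Lib.helper19.psToCompletion a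
      (MvPowerSeries.map v (MvPowerSeries.C c))) = v c
    rw [MvPowerSeries.map_C, Groth.Agent.Lib.helper19.psToCompletion_C, AlgEquiv.commutes]
    rfl
  refine ⟨Φ, ?_, hC, hX⟩
  have hmap : (Ideal.span (Set.range
      (MvPowerSeries.X : Fin d → MvPowerSeries (Fin d) Λ))).map Φ = maximalIdeal R := by
    rw [Ideal.map_span, ← Set.range_comp, ← ha]
    congr 2
    ext i : 1
    exact hX i
  have haus : IsHausdorff ((Ideal.span (Set.range
      (MvPowerSeries.X : Fin d → MvPowerSeries (Fin d) Λ))).map Φ) R := by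
    rw [hmap]
    infer_instance
  apply surjective_of_mk_map_comp_surjective Φ
    (I := Ideal.span (Set.range (MvPowerSeries.X : Fin d → MvPowerSeries (Fin d) Λ)))
  intro z
  obtain ⟨r, rfl⟩ := Ideal.Quotient.mk_surjective z
  obtain ⟨c, hc⟩ := hv (residue R r)
  refine ⟨MvPowerSeries.C c, ?_⟩
  rw [RingHom.comp_apply, hC, Ideal.Quotient.mk_eq_mk_iff_sub_mem, hmap, ← residue_eq_zero_iff,
    map_sub, sub_eq_zero]
  exact hc

/-- A complete DVR with a coefficient field `K` is `K[[t]]`, with `t` any chosen uniformizer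
(S12630). -/
theorem exists_algEquiv_powerSeries (K : Type u) (A : Type v) [Field K]
    [CommRing A] [IsDomain A] [IsDiscreteValuationRing A]
    [IsAdicComplete (IsLocalRing.maximalIdeal A) A]
    [Algebra K A] (hK : Function.Bijective (algebraMap K (IsLocalRing.ResidueField A)))
    (x : A) (hx : IsLocalRing.maximalIdeal A = Ideal.span {x}) :
    ∃ e : PowerSeries K ≃ₐ[K] A, e PowerSeries.X = x := by
  have hv : Function.Surjective ((residue A).comp (algebraMap K A)) := hK.2
  have ha : Ideal.span (Set.range (fun _ : Fin 1 => x)) = maximalIdeal A := by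
    rw [hx]
    congr 1
    ext y
    simp
  obtain ⟨Φ, hsurj, hC, hX⟩ := exists_eval_surjective A (algebraMap K A) hv (fun _ : Fin 1 => x) ha
  haveI : IsDomain (MvPowerSeries (Fin 1) K) := NoZeroDivisors.to_isDomain _
  have hdimA : ringKrullDim A = ((1 : ℕ) : WithBot ℕ∞) := by
    rw [IsPrincipalIdealRing.ringKrullDim_eq_one A (IsDiscreteValuationRing.not_isField A)]
    rfl
  have hinj : Function.Injective Φ :=
    Groth.Agent.Lib.Helper1.RegPS.injective_of_ringKrullDim_eq Φ hsurj 1
      (Groth.Agent.Lib.Helper1.RegPS.ringKrullDim_ps 1) hdimA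
  let e₀ : MvPowerSeries (Fin 1) K ≃ₐ[K] A :=
    AlgEquiv.ofBijective
      { Φ with
        commutes' := fun c => by
          change Φ (algebraMap K (MvPowerSeries (Fin 1) K) c) = _
          rw [MvPowerSeries.algebraMap_apply, Algebra.algebraMap_self_apply, hC] }
      ⟨hinj, hsurj⟩
  let e₁ : PowerSeries K ≃ₐ[K] MvPowerSeries (Fin 1) K :=
    MvPowerSeries.renameEquiv K (Equiv.ofUnique Unit (Fin 1))
  refine ⟨e₁.trans e₀, ?_⟩
  change Φ (MvPowerSeries.rename (Equiv.ofUnique Unit (Fin 1)) (MvPowerSeries.X ())) = x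
  rw [MvPowerSeries.rename_X]
  exact hX _

end Groth.Agent.Lib.Helper12.CohenFin
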