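import Groth.Agent.Lib.Helper12.CohenFinE

/-!
# Presentations of local rings with `𝔪² = 0` by power series rings: kernel is `𝔫²`
-/

set_option autoImplicit false
universe u v

namespace Groth.Agent.Lib.Helper12.CohenSq

open IsLocalRing Groth.Agent.Lib.Helper1

section Ker

variable {Λ A : Type u} [CommRing Λ] [IsLocalRing Λ] [CommRing A] [IsLocalRing A]
  {r s : ℕ} (v : Λ →+* A) (π : Fin r → Λ) (a : Fin s → A)
  (Φ : MvPowerSeries (Fin s) Λ →+* A)

theorem map_mem_maximalIdeal (hC : ∀ c, Φ (MvPowerSeries.C c) = v c)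
    (hX : ∀ i, Φ (MvPowerSeries.X i) = a i)
    (hvm : (maximalIdeal Λ).map v ≤ maximalIdeal A) (ha : ∀ i, a i ∈ maximalIdeal A)
    {f : MvPowerSeries (Fin s) Λ} (hf : f ∈ maximalIdeal (MvPowerSeries (Fin s) Λ)) :
    Φ f ∈ maximalIdeal A := by
  have h1 : Φ f ∈ (maximalIdeal (MvPowerSeries (Fin s) Λ)).map Φ := Ideal.mem_map_of_mem _ hf
  rw [CohenFin.map_maximalIdeal_ps Φ v a hC hX] at h1
  have hle : (maximalIdeal Λ).map v ⊔ Ideal.span (Set.range a) ≤ maximalIdeal A := by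
    rw [sup_le_iff, Ideal.span_le]
    refine ⟨hvm, ?_⟩
    rintro _ ⟨i, rfl⟩
    exact ha i
  exact hle h1

theorem sq_le_ker (hsq : maximalIdeal A ^ 2 = ⊥) (hC : ∀ c, Φ (MvPowerSeries.C c) = v c)
    (hX : ∀ i, Φ (MvPowerSeries.X i) = a i)
    (hvm : (maximalIdeal Λ).map v ≤ maximalIdeal A) (ha : ∀ i, a i ∈ maximalIdeal A) :
    maximalIdeal (MvPowerSeries (Fin s) Λ) ^ 2 ≤ RingHom.ker Φ := by
  rw [RingHom.ker_eq_comap_bot, ← Ideal.map_le_iff_le_comap, Ideal.map_pow, ← hsq]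
  apply Ideal.pow_right_mono
  rw [Ideal.map_le_iff_le_comap]
  intro f hf
  exact map_mem_maximalIdeal v a Φ hC hX hvm ha hf

theorem ker_le_sq (hsq : maximalIdeal A ^ 2 = ⊥) (hπ : maximalIdeal Λ = Ideal.span (Set.range π))
    (hC : ∀ c, Φ (MvPowerSeries.C c) = v c) (hX : ∀ i, Φ (MvPowerSeries.X i) = a i)
    (hvm : (maximalIdeal Λ).map v ≤ maximalIdeal A) (ha : ∀ i, a i ∈ maximalIdeal A)
    (hLI : ∀ (l : Fin r → Λ) (c : Fin s → Λ),
      ∑ j, v (π j) * v (l j) + ∑ i, v (c i) * a i = 0 →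
        (∀ j, l j ∈ maximalIdeal Λ) ∧ ∀ i, c i ∈ maximalIdeal Λ) :
    RingHom.ker Φ ≤ maximalIdeal (MvPowerSeries (Fin s) Λ) ^ 2 := by
  intro g hg
  rw [RingHom.mem_ker] at hg
  have hmm : ∀ x ∈ maximalIdeal A, ∀ y ∈ maximalIdeal A, x * y = 0 := by
    intro x hx y hy
    have : x * y ∈ maximalIdeal A ^ 2 := by
      rw [pow_two]
      exact Ideal.mul_mem_mul hx hy
    rwa [hsq, Ideal.mem_bot] at this
  have hdec := PSDecomp.decomp g
  set g₀ : Λ := MvPowerSeries.coeff 0 g with hg₀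
  set c : Fin s → Λ := fun i => MvPowerSeries.constantCoeff (PSDecomp.part i g) with hc
  -- `Φ (part i g) - v (c i) ∈ 𝔪`
  have hpart : ∀ i, Φ (PSDecomp.part i g) - v (c i) ∈ maximalIdeal A := by
    intro i
    have h1 : PSDecomp.part i g - MvPowerSeries.C (c i) ∈
        maximalIdeal (MvPowerSeries (Fin s) Λ) := by
      rw [PSDecomp.mem_maximalIdeal_iff, map_sub]
      have : MvPowerSeries.constantCoeff (MvPowerSeries.C (c i) : MvPowerSeries (Fin s) Λ) = c i :=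
        MvPowerSeries.constantCoeff_C _
      rw [this, sub_self]
      exact Ideal.zero_mem _
    have h2 := map_mem_maximalIdeal v a Φ hC hX hvm ha h1
    rwa [map_sub, hC] at h2
  have hterm : ∀ i, a i * Φ (PSDecomp.part i g) = v (c i) * a i := by
    intro i
    have : a i * Φ (PSDecomp.part i g) = a i * v (c i) + a i * (Φ (PSDecomp.part i g) - v (c i)) := by
      ring
    rw [this, hmm _ (ha i) _ (hpart i), add_zero, mul_comm]
  have hΦg : v g₀ + ∑ i, v (c i) * a i = 0 := by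
    have h1 : Φ g = v g₀ + ∑ i, a i * Φ (PSDecomp.part i g) := by
      conv_lhs => rw [hdec]
      rw [map_add, hC, map_sum]
      congr 1
      refine Finset.sum_congr rfl fun i _ => ?_
      rw [map_mul, hX]
    rw [hg] at h1
    rw [h1]
    congr 1
    exact Finset.sum_congr rfl fun i _ => (hterm i).symm
  -- `g₀ ∈ 𝔪_Λ`
  have hg₀m : g₀ ∈ maximalIdeal Λ := by
    by_contra hnot
    have hu : IsUnit g₀ := by rwa [mem_maximalIdeal, mem_nonunits_iff, not_not] at hnot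
    have hvu : IsUnit (v g₀) := hu.map v
    have hvm' : v g₀ ∈ maximalIdeal A := by
      have : v g₀ = - ∑ i, v (c i) * a i := eq_neg_of_add_eq_zero_left hΦg
      rw [this]
      exact Ideal.neg_mem_iff _ |>.mpr (Ideal.sum_mem _ fun i _ => Ideal.mul_mem_left _ _ (ha i))
    exact hvm' hvu
  rw [hπ] at hg₀m
  obtain ⟨l, hl⟩ := (Ideal.mem_span_range_iff_exists_fun).mp hg₀m
  have hsum : ∑ j, v (π j) * v (l j) + ∑ i, v (c i) * a i = 0 := by
    rw [← hΦg]
    congr 1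
    rw [← hl, map_sum]
    exact Finset.sum_congr rfl fun j _ => by rw [map_mul, mul_comm]
  obtain ⟨hlm, hcm⟩ := hLI l c hsum
  -- conclude
  rw [hdec, pow_two]
  refine Ideal.add_mem _ ?_ (Ideal.sum_mem _ fun i _ => ?_)
  · change MvPowerSeries.C g₀ ∈ _
    rw [← hl, map_sum]
    refine Ideal.sum_mem _ fun j _ => ?_
    rw [map_mul]
    refine Ideal.mul_mem_mul (PSDecomp.C_mem_maximalIdeal (hlm j)) (PSDecomp.C_mem_maximalIdeal ?_)
    rw [hπ]
    exact Ideal.subset_span ⟨j, rfl⟩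
  · refine Ideal.mul_mem_mul (PSDecomp.X_mem_maximalIdeal i) ?_
    rw [PSDecomp.mem_maximalIdeal_iff]
    exact hcm i

end Ker

end Groth.Agent.Lib.Helper12.CohenSq
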