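import Groth.Agent.Lib.Helper12.CohenSqA
import Mathlib.RingTheory.RegularLocalRing.Defs

/-!
# Regularity of power series rings over regular coefficient rings; dimension lower bound
-/

set_option autoImplicit false
universe u v

namespace Groth.Agent.Lib.Helper12.CohenSq

open IsLocalRing Groth.Agent.Lib.Helper1

theorem add_le_ringKrullDim_mvPowerSeries (A : Type*) [CommRing A] (d : ℕ) :
    ringKrullDim A + (d : WithBot ℕ∞) ≤ ringKrullDim (MvPowerSeries (Fin d) A) := by
  induction d with
  | zero =>
    rw [Nat.cast_zero, add_zero]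
    exact (ringKrullDim_eq_of_ringEquiv
      (MvPowerSeries.isEmptyEquiv (σ := Fin 0) (R := A)).toRingEquiv).ge
  | succ n ih =>
    rw [ringKrullDim_eq_of_ringEquiv (MvPowerSeries.finSuccEquiv A n).toRingEquiv]
    refine le_trans ?_ ringKrullDim_succ_le_ringKrullDim_powerseries
    push_cast
    rw [← add_assoc]
    gcongr

section PS

variable {Λ : Type u} [CommRing Λ] [IsLocalRing Λ] [IsNoetherianRing Λ] {n r : ℕ}

theorem spanFinrank_maximalIdeal_ps_le (g : Fin r → Λ)
    (hg : maximalIdeal Λ = Ideal.span (Set.range g)) :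
    (maximalIdeal (MvPowerSeries (Fin n) Λ)).spanFinrank ≤ r + n := by
  have hgen : maximalIdeal (MvPowerSeries (Fin n) Λ) =
      Ideal.span (Set.range (Sum.elim (fun i => MvPowerSeries.C (σ := Fin n) (g i))
        (MvPowerSeries.X : Fin n → MvPowerSeries (Fin n) Λ))) := by
    rw [CohenFin.maximalIdeal_ps_eq_sup, hg, Ideal.map_span, ← Set.range_comp, Set.Sum.elim_range,
      Ideal.span_union]
    rfl
  rw [hgen]
  have hfin : (Set.range (Sum.elim (fun i => MvPowerSeries.C (σ := Fin n) (g i))
      (MvPowerSeries.X : Fin n → MvPowerSeries (Fin n) Λ))).Finite := Set.finite_range _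
  have h1 := Submodule.spanFinrank_span_le_ncard_of_finite
    (R := MvPowerSeries (Fin n) Λ) hfin
  have h2 : (Set.range (Sum.elim (fun i => MvPowerSeries.C (σ := Fin n) (g i))
      (MvPowerSeries.X : Fin n → MvPowerSeries (Fin n) Λ))).ncard ≤ r + n := by
    have := Set.ncard_image_le (f := Sum.elim (fun i => MvPowerSeries.C (σ := Fin n) (g i))
      (MvPowerSeries.X : Fin n → MvPowerSeries (Fin n) Λ)) (Set.finite_univ)
    rw [Set.image_univ, Set.ncard_univ, Nat.card_eq_fintype_card, Fintype.card_sum,
      Fintype.card_fin, Fintype.card_fin] at this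
    exact this
  exact h1.trans h2

/-- Power series over a regular local ring (whose maximal ideal is generated by `dim` many
elements) form a regular local ring. -/
theorem isRegularLocalRing_ps (g : Fin r → Λ)
    (hg : maximalIdeal Λ = Ideal.span (Set.range g)) (hdim : (r : WithBot ℕ∞) ≤ ringKrullDim Λ) :
    IsRegularLocalRing (MvPowerSeries (Fin n) Λ) := by
  apply IsRegularLocalRing.of_spanFinrank_maximalIdeal_le
  have h1 : ((maximalIdeal (MvPowerSeries (Fin n) Λ)).spanFinrank : WithBot ℕ∞) ≤
      ((r + n : ℕ) : WithBot ℕ∞) := by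
    exact_mod_cast spanFinrank_maximalIdeal_ps_le (n := n) g hg
  refine h1.trans ?_
  refine le_trans ?_ (add_le_ringKrullDim_mvPowerSeries Λ n)
  push_cast
  gcongr

end PS

end Groth.Agent.Lib.Helper12.CohenSq
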