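import Groth.Agent.Lib.Helper12.CohenSqB

/-!
# Artinian local rings with `𝔪² = 0` are of the form `B / 𝔫²` with `B` regular (EGA 0_IV 19.8.x)
-/

set_option autoImplicit false
universe u v

namespace Groth.Agent.Lib.Helper12.CohenSq

open IsLocalRing Groth.Agent.Lib.Helper1

/-- Scalars from the residue field act on the cotangent space through lifts. -/
theorem residue_smul_toCotangent {A : Type*} [CommRing A] [IsLocalRing A] (t : A)
    (y : maximalIdeal A) :
    (residue A t) • (maximalIdeal A).toCotangent y = (maximalIdeal A).toCotangent (t • y) := by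
  rw [map_smul]
  exact (algebraMap_smul (ResidueField A) t ((maximalIdeal A).toCotangent y))

theorem exists_regular_presentation {A : Type u} [CommRing A] [IsLocalRing A] [IsArtinianRing A]
    (hsq : maximalIdeal A ^ 2 = ⊥) {Λ : Type u} [CommRing Λ] [IsLocalRing Λ] [IsNoetherianRing Λ]
    [IsPrecomplete (maximalIdeal Λ) Λ] (v : Λ →+* A)
    (hv : Function.Surjective ((residue A).comp v))
    {r : ℕ} (π : Fin r → Λ) (hπ : maximalIdeal Λ = Ideal.span (Set.range π))
    (hπm : ∀ j, v (π j) ∈ maximalIdeal A)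
    (hLI : LinearIndependent (ResidueField A)
      (fun j => (maximalIdeal A).toCotangent ⟨v (π j), hπm j⟩))
    (hdim : (r : WithBot ℕ∞) ≤ ringKrullDim Λ) :
    ∃ (s : ℕ) (_ : IsRegularLocalRing (MvPowerSeries (Fin s) Λ)),
      Nonempty (A ≃+* MvPowerSeries (Fin s) Λ ⧸ maximalIdeal (MvPowerSeries (Fin s) Λ) ^ 2) := by
  classical
  let x : Fin r → CotangentSpace A := fun j => (maximalIdeal A).toCotangent ⟨v (π j), hπm j⟩
  let U : Submodule (ResidueField A) (CotangentSpace A) :=
    Submodule.span (ResidueField A) (Set.range x)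
  obtain ⟨W', hW'⟩ := Submodule.exists_isCompl U
  let s := Module.finrank (ResidueField A) W'
  let bW : Module.Basis (Fin s) (ResidueField A) W' := Module.finBasis (ResidueField A) W'
  have hlift : ∀ i, ∃ y : (maximalIdeal A), (maximalIdeal A).toCotangent y = (bW i : CotangentSpace A) :=
    fun i => (maximalIdeal A).toCotangent_surjective _
  choose y hy using hlift
  let a : Fin s → A := fun i => (y i : A)
  have ha : ∀ i, a i ∈ (maximalIdeal A) := fun i => (y i).2
  obtain ⟨Φ, hC, hX⟩ := CohenFin.exists_eval A v a ha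
  have hvm : (maximalIdeal Λ).map v ≤ (maximalIdeal A) := by
    rw [hπ, Ideal.map_span, Ideal.span_le]
    rintro _ ⟨_, ⟨j, rfl⟩, rfl⟩
    exact hπm j
  -- the key computation in the cotangent space
  have hzmem : ∀ (l : Fin r → Λ) (c : Fin s → Λ),
      ∑ j, v (π j) * v (l j) + ∑ i, v (c i) * a i ∈ (maximalIdeal A) := by
    intro l c
    refine Ideal.add_mem _ (Ideal.sum_mem _ fun j _ => Ideal.mul_mem_right _ _ (hπm j))
      (Ideal.sum_mem _ fun i _ => Ideal.mul_mem_left _ _ (ha i))
  have hcot : ∀ (l : Fin r → Λ) (c : Fin s → Λ),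
      (maximalIdeal A).toCotangent ⟨∑ j, v (π j) * v (l j) + ∑ i, v (c i) * a i, hzmem l c⟩ =
        ∑ j, residue A (v (l j)) • x j + ∑ i, residue A (v (c i)) • (bW i : CotangentSpace A) := by
    intro l c
    have h1 : (⟨∑ j, v (π j) * v (l j) + ∑ i, v (c i) * a i, hzmem l c⟩ : (maximalIdeal A)) =
        ∑ j, v (l j) • (⟨v (π j), hπm j⟩ : (maximalIdeal A)) + ∑ i, v (c i) • y i := by
      apply Subtype.ext
      simp only [Submodule.coe_add, Submodule.coe_sum, Submodule.coe_smul, smul_eq_mul]
      congr 1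
      exact Finset.sum_congr rfl fun j _ => mul_comm _ _
    rw [h1, map_add, map_sum, map_sum]
    refine congrArg₂ (· + ·) ?_ ?_
    · refine Finset.sum_congr rfl fun j _ => ?_
      exact (residue_smul_toCotangent (v (l j)) ⟨v (π j), hπm j⟩).symm
    · refine Finset.sum_congr rfl fun i _ => ?_
      rw [← hy i]
      exact (residue_smul_toCotangent (v (c i)) (y i)).symm
  -- generation
  have hgen : (maximalIdeal Λ).map v ⊔ Ideal.span (Set.range a) = (maximalIdeal A) := by
    apply le_antisymm
    · rw [sup_le_iff, Ideal.span_le]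
      refine ⟨hvm, ?_⟩
      rintro _ ⟨i, rfl⟩
      exact ha i
    · intro y₀ hy₀
      have hw : (maximalIdeal A).toCotangent ⟨y₀, hy₀⟩ ∈ U ⊔ W' := by
        rw [hW'.sup_eq_top]
        exact Submodule.mem_top
      obtain ⟨u, hu, w', hw', huw⟩ := Submodule.mem_sup.mp hw
      obtain ⟨μ, hμ⟩ := (Submodule.mem_span_range_iff_exists_fun (ResidueField A)).mp hu
      have hrepr : w' = ∑ i, (bW.repr ⟨w', hw'⟩ i) • (bW i : CotangentSpace A) := by
        have h := congrArg (Subtype.val) (bW.sum_repr ⟨w', hw'⟩)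
        simp only [Submodule.coe_sum, Submodule.coe_smul] at h
        exact h.symm
      have hl : ∀ j, ∃ t : Λ, residue A (v t) = μ j := fun j => hv (μ j)
      choose l hl' using hl
      have hc : ∀ i, ∃ t : Λ, residue A (v t) = bW.repr ⟨w', hw'⟩ i := fun i => hv _
      choose c hc' using hc
      have hz := hcot l c
      simp_rw [hl', hc'] at hz
      rw [hμ, ← hrepr, huw, Ideal.toCotangent_eq, hsq, Ideal.mem_bot, sub_eq_zero] at hz
      change ∑ j, v (π j) * v (l j) + ∑ i, v (c i) * a i = y₀ at hz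
      rw [← hz]
      refine Submodule.add_mem_sup (Ideal.sum_mem _ fun j _ => Ideal.mul_mem_right _ _ ?_)
        (Ideal.sum_mem _ fun i _ => Ideal.mul_mem_left _ _ (Ideal.subset_span ⟨i, rfl⟩))
      apply Ideal.mem_map_of_mem
      rw [hπ]
      exact Ideal.subset_span ⟨j, rfl⟩
  -- linear independence
  have hLI' : ∀ (l : Fin r → Λ) (c : Fin s → Λ),
      ∑ j, v (π j) * v (l j) + ∑ i, v (c i) * a i = 0 →
        (∀ j, l j ∈ maximalIdeal Λ) ∧ ∀ i, c i ∈ maximalIdeal Λ := by
    intro l c hsum
    have hz := hcot l c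
    have h0 : (⟨∑ j, v (π j) * v (l j) + ∑ i, v (c i) * a i, hzmem l c⟩ : (maximalIdeal A)) = 0 :=
      Subtype.ext hsum
    rw [h0, map_zero] at hz
    have hu : ∑ j, residue A (v (l j)) • x j ∈ U :=
      Submodule.sum_mem _ fun j _ => Submodule.smul_mem _ _ (Submodule.subset_span ⟨j, rfl⟩)
    have hw' : ∑ i, residue A (v (c i)) • (bW i : CotangentSpace A) ∈ W' :=
      Submodule.sum_mem _ fun i _ => Submodule.smul_mem _ _ (bW i).2
    have hu' : ∑ j, residue A (v (l j)) • x j ∈ W' := by
      have : ∑ j, residue A (v (l j)) • x j =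
          - ∑ i, residue A (v (c i)) • (bW i : CotangentSpace A) :=
        eq_neg_of_add_eq_zero_left hz.symm
      rw [this]
      exact W'.neg_mem hw'
    have hu0 : ∑ j, residue A (v (l j)) • x j = 0 :=
      Submodule.disjoint_def.mp hW'.disjoint _ hu hu'
    have hw0 : ∑ i, residue A (v (c i)) • (bW i : CotangentSpace A) = 0 := by
      rw [hu0, zero_add] at hz
      exact hz.symm
    have hunit : ∀ t : Λ, residue A (v t) = 0 → t ∈ maximalIdeal Λ := by
      intro t ht
      by_contra hnot
      have hu : IsUnit t := by rwa [mem_maximalIdeal, mem_nonunits_iff, not_not] at hnot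
      have := (residue_eq_zero_iff _).mp ht
      exact this (hu.map v)
    constructor
    · intro j
      exact hunit _ (Fintype.linearIndependent_iff.mp hLI _ hu0 j)
    · intro i
      have hw0' : ∑ i, residue A (v (c i)) • bW i = 0 := by
        apply Subtype.ext
        simp only [Submodule.coe_sum, Submodule.coe_smul, Submodule.coe_zero]
        exact hw0
      exact hunit _ (Fintype.linearIndependent_iff.mp bW.linearIndependent _ hw0' i)
  -- kernel
  have hker : RingHom.ker Φ = maximalIdeal (MvPowerSeries (Fin s) Λ) ^ 2 :=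
    le_antisymm (ker_le_sq v π a Φ hsq hπ hC hX hvm ha hLI') (sq_le_ker v a Φ hsq hC hX hvm ha)
  -- surjectivity
  have hsurj : Function.Surjective Φ := by
    haveI : IsPrecomplete (maximalIdeal (MvPowerSeries (Fin s) Λ)) (MvPowerSeries (Fin s) Λ) :=
      PSDecomp.isPrecomplete
    have hmap : (maximalIdeal (MvPowerSeries (Fin s) Λ)).map Φ = (maximalIdeal A) :=
      (CohenFin.map_maximalIdeal_ps Φ v a hC hX).trans hgen
    haveI : IsHausdorff ((maximalIdeal (MvPowerSeries (Fin s) Λ)).map Φ) A := by
      rw [hmap]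
      infer_instance
    apply surjective_of_mk_map_comp_surjective Φ (I := maximalIdeal (MvPowerSeries (Fin s) Λ))
    intro z
    obtain ⟨t, rfl⟩ := Ideal.Quotient.mk_surjective z
    obtain ⟨c, hc⟩ := hv (residue A t)
    refine ⟨MvPowerSeries.C c, ?_⟩
    rw [RingHom.comp_apply, hC, Ideal.Quotient.mk_eq_mk_iff_sub_mem, hmap, ← residue_eq_zero_iff,
      map_sub, sub_eq_zero]
    exact hc
  have hreg : IsRegularLocalRing (MvPowerSeries (Fin s) Λ) := isRegularLocalRing_ps π hπ hdim
  exact ⟨s, hreg, ⟨(RingHom.quotientKerEquivOfSurjective hsurj).symm.trans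
    (Ideal.quotEquivOfEq hker)⟩⟩

end Groth.Agent.Lib.Helper12.CohenSq
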