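import Groth.Agent.Lib.Helper12.CohenSqC

/-!
# Coefficient ring dichotomy and S2458
-/

set_option autoImplicit false
universe u v

namespace Groth.Agent.Lib.Helper12.CohenSq

open IsLocalRing Groth.Agent.Lib.Helper1

/-- A complete local ring either has a coefficient field, or it has mixed characteristic `(0,p)`
with `p ≠ 0` and receives a Cohen ring surjecting onto its residue field. -/
theorem exists_coeff_cases (R : Type u) [CommRing R] [IsLocalRing R]
    [IsAdicComplete (maximalIdeal R) R] :
    (∃ (K : Type u) (_ : Field K) (σ : K →+* R), Function.Surjective ((residue R).comp σ)) ∨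
    (∃ (p : ℕ) (_ : p.Prime) (Λ : Type u) (_ : CommRing Λ) (_ : IsDomain Λ)
      (_ : IsDiscreteValuationRing Λ) (v : Λ →+* R),
      IsAdicComplete (maximalIdeal Λ) Λ ∧ maximalIdeal Λ = Ideal.span {(p : Λ)} ∧
      Function.Surjective ((residue R).comp v) ∧ ((p : ℕ) : R) ≠ 0 ∧
      ((p : ℕ) : R) ∈ maximalIdeal R) := by
  obtain ⟨p, hp⟩ := CharP.exists (ResidueField R)
  rcases CharP.char_is_prime_or_zero (ResidueField R) p with hpp | rfl
  · haveI : Fact p.Prime := ⟨hpp⟩
    obtain ⟨Λ, i1, hdom, hdvr, v, hcomp, hmΛ, e, he⟩ :=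
      CohenStruct.exists_coefficientRing_of_charP R p
    have hvsurj : Function.Surjective ((residue R).comp v) := by
      intro x
      obtain ⟨y, hy⟩ := e.surjective x
      obtain ⟨c, rfl⟩ := residue_surjective y
      exact ⟨c, (he c).trans hy⟩
    have hpm : ((p : ℕ) : R) ∈ maximalIdeal R := by
      rw [← residue_eq_zero_iff, map_natCast]
      exact CharP.cast_eq_zero _ p
    by_cases hp0 : ((p : ℕ) : R) = 0
    · left
      have hker : ∀ x ∈ maximalIdeal Λ, v x = 0 := by
        intro x hx
        rw [hmΛ] at hx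
        obtain ⟨y, rfl⟩ := Ideal.mem_span_singleton'.mp hx
        rw [map_mul, map_natCast, hp0, mul_zero]
      let σ : ResidueField Λ →+* R := Ideal.Quotient.lift (maximalIdeal Λ) v hker
      have hσ : Function.Surjective ((residue R).comp σ) := by
        intro x
        obtain ⟨c, hc⟩ := hvsurj x
        exact ⟨residue Λ c, hc⟩
      exact ⟨ResidueField Λ, inferInstance, σ, hσ⟩
    · right
      exact ⟨p, hpp, Λ, i1, hdom, hdvr, v, hcomp, hmΛ, hvsurj, hp0, hpm⟩
  · left
    obtain ⟨Λ, i1, v, hΛ, hv⟩ := CohenStruct.exists_coefficientRing R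
    haveI : CharZero (ResidueField R) := CharP.charP_to_charZero _
    have hv' : Function.Surjective ((residue R).comp v) := hv
    rcases hΛ with hfield | hcohen
    · letI := hfield.toField
      exact ⟨Λ, inferInstance, v, hv'⟩
    · exfalso
      obtain ⟨hdom, hdvr, -, q, hq, hmq⟩ := hcohen
      have hq0 : ((q : ℕ) : Λ) ∈ maximalIdeal Λ := by
        rw [hmq]
        exact Ideal.mem_span_singleton_self _
      have hmax : (RingHom.ker ((residue R).comp v)).IsMaximal :=
        RingHom.ker_isMaximal_of_surjective _ hv'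
      have hkm := IsLocalRing.eq_maximalIdeal hmax
      have hq1 : ((q : ℕ) : Λ) ∈ RingHom.ker ((residue R).comp v) := by
        rw [hkm]
        exact hq0
      rw [RingHom.mem_ker, map_natCast] at hq1
      exact hq.ne_zero (Nat.cast_eq_zero.mp hq1)

/-- **EGA 0_IV 19.8.x** (S2458). -/
theorem exists_regular_mod_sq {A : Type u} [CommRing A] [IsLocalRing A] [IsArtinianRing A]
    (h : maximalIdeal A ^ 2 = ⊥) :
    ∃ (B : Type u) (_ : CommRing B) (_ : IsRegularLocalRing B),
      Nonempty (A ≃+* B ⧸ IsLocalRing.maximalIdeal B ^ 2) := by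
  rcases exists_coeff_cases A with ⟨K, iK, σ, hσ⟩ | ⟨p, hpp, Λ, i1, hdom, hdvr, v, hcomp, hmΛ, hv,
    hp0, hpm⟩
  · have hm0 : maximalIdeal K = ⊥ := IsLocalRing.maximalIdeal_eq_bot
    haveI : IsPrecomplete (maximalIdeal K) K := by
      rw [hm0]
      infer_instance
    have hπ : maximalIdeal K = Ideal.span (Set.range (fun j : Fin 0 => (j.elim0 : K))) := by
      rw [hm0, Set.range_eq_empty, Ideal.span_empty]
    obtain ⟨s, hreg, he⟩ := exists_regular_presentation h σ hσ (fun j : Fin 0 => (j.elim0 : K)) hπ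
      (fun j => j.elim0) linearIndependent_empty_type (by
        rw [Nat.cast_zero]
        exact ringKrullDim_nonneg_of_nontrivial)
    exact ⟨MvPowerSeries (Fin s) K, inferInstance, hreg, he⟩
  · haveI : IsPrecomplete (maximalIdeal Λ) Λ := hcomp.toIsPrecomplete
    have hπ : maximalIdeal Λ = Ideal.span (Set.range (fun _ : Fin 1 => ((p : ℕ) : Λ))) := by
      rw [hmΛ]
      congr 1
      ext y
      simp
    have hπm : ∀ j : Fin 1, v ((fun _ : Fin 1 => ((p : ℕ) : Λ)) j) ∈ maximalIdeal A := by
      intro j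
      rw [map_natCast]
      exact hpm
    have hLI : LinearIndependent (ResidueField A)
        (fun j : Fin 1 => (maximalIdeal A).toCotangent
          ⟨v ((fun _ : Fin 1 => ((p : ℕ) : Λ)) j), hπm j⟩) := by
      rw [linearIndependent_unique_iff]
      intro h0
      rw [Ideal.toCotangent_eq_zero, h, Ideal.mem_bot] at h0
      change v ((p : ℕ) : Λ) = 0 at h0
      rw [map_natCast] at h0
      exact hp0 h0
    have hdim : ((1 : ℕ) : WithBot ℕ∞) ≤ ringKrullDim Λ := by
      rw [IsPrincipalIdealRing.ringKrullDim_eq_one Λ (IsDiscreteValuationRing.not_isField Λ)]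
      rfl
    obtain ⟨s, hreg, he⟩ := exists_regular_presentation h v hv _ hπ hπm hLI hdim
    exact ⟨MvPowerSeries (Fin s) Λ, inferInstance, hreg, he⟩

end Groth.Agent.Lib.Helper12.CohenSq
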