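import Groth.Agent.Lib.Helper12.CohenSqD

/-!
# Minimal presentations of complete local rings containing a field (EGA 0_IV 19.8.8)
-/

set_option autoImplicit false
universe u v

namespace Groth.Agent.Lib.Helper12.CohenSq

open IsLocalRing Groth.Agent.Lib.Helper1

section Ker

variable {Λ A : Type u} [CommRing Λ] [IsLocalRing Λ] [CommRing A] [IsLocalRing A]
  {r s : ℕ} (v : Λ →+* A) (π : Fin r → Λ) (a : Fin s → A)
  (Φ : MvPowerSeries (Fin s) Λ →+* A)

/-- Version of `ker_le_sq` without the hypothesis `𝔪² = 0`: independence is required modulo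
`𝔪²`. -/
theorem ker_le_sq' (hπ : maximalIdeal Λ = Ideal.span (Set.range π))
    (hC : ∀ c, Φ (MvPowerSeries.C c) = v c) (hX : ∀ i, Φ (MvPowerSeries.X i) = a i)
    (hvm : (maximalIdeal Λ).map v ≤ maximalIdeal A) (ha : ∀ i, a i ∈ maximalIdeal A)
    (hLI : ∀ (l : Fin r → Λ) (c : Fin s → Λ),
      ∑ j, v (π j) * v (l j) + ∑ i, v (c i) * a i ∈ maximalIdeal A ^ 2 →
        (∀ j, l j ∈ maximalIdeal Λ) ∧ ∀ i, c i ∈ maximalIdeal Λ) :
    RingHom.ker Φ ≤ maximalIdeal (MvPowerSeries (Fin s) Λ) ^ 2 := by
  intro g hg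
  rw [RingHom.mem_ker] at hg
  have hmm : ∀ x ∈ maximalIdeal A, ∀ y ∈ maximalIdeal A, x * y ∈ maximalIdeal A ^ 2 := by
    intro x hx y hy
    rw [pow_two]
    exact Ideal.mul_mem_mul hx hy
  have hsqle : maximalIdeal A ^ 2 ≤ maximalIdeal A := Ideal.pow_le_self two_ne_zero
  have hdec := PSDecomp.decomp g
  set g₀ : Λ := MvPowerSeries.coeff 0 g with hg₀
  set c : Fin s → Λ := fun i => MvPowerSeries.constantCoeff (PSDecomp.part i g) with hc
  have hpart : ∀ i, Φ (PSDecomp.part i g) - v (c i) ∈ maximalIdeal A := by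
    intro i
    have h1 : PSDecomp.part i g - MvPowerSeries.C (c i) ∈
        maximalIdeal (MvPowerSeries (Fin s) Λ) := by
      rw [PSDecomp.mem_maximalIdeal_iff, map_sub]
      have : MvPowerSeries.constantCoeff (MvPowerSeries.C (c i) : MvPowerSeries (Fin s) Λ) = c i :=
        MvPowerSeries.constantCoeff_C _
      rw [this, sub_self]
      exact Ideal.zero_mem _
    have h2 := map_mem_maximalIdeal v a Φ hC hX hvm ha h1
    rwa [map_sub, hC] at h2
  have hΦg : v g₀ + ∑ i, v (c i) * a i ∈ maximalIdeal A ^ 2 := by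
    have h1 : Φ g = v g₀ + ∑ i, a i * Φ (PSDecomp.part i g) := by
      conv_lhs => rw [hdec]
      rw [map_add, hC, map_sum]
      congr 1
      refine Finset.sum_congr rfl fun i _ => ?_
      rw [map_mul, hX]
    rw [hg] at h1
    have h2 : v g₀ + ∑ i, v (c i) * a i =
        - ∑ i, a i * (Φ (PSDecomp.part i g) - v (c i)) := by
      have h3 : ∑ i, a i * (Φ (PSDecomp.part i g) - v (c i)) =
          ∑ i, a i * Φ (PSDecomp.part i g) - ∑ i, v (c i) * a i := by
        rw [← Finset.sum_sub_distrib]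
        exact Finset.sum_congr rfl fun i _ => by ring
      rw [h3]
      linear_combination (-1 : A) * h1
    rw [h2]
    exact Ideal.neg_mem_iff _ |>.mpr (Ideal.sum_mem _ fun i _ => hmm _ (ha i) _ (hpart i))
  have hg₀m : g₀ ∈ maximalIdeal Λ := by
    by_contra hnot
    have hu : IsUnit g₀ := by rwa [mem_maximalIdeal, mem_nonunits_iff, not_not] at hnot
    have hvu : IsUnit (v g₀) := hu.map v
    have hvm' : v g₀ ∈ maximalIdeal A := by
      have : v g₀ = (v g₀ + ∑ i, v (c i) * a i) - ∑ i, v (c i) * a i := by ring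
      rw [this]
      exact Ideal.sub_mem _ (hsqle hΦg) (Ideal.sum_mem _ fun i _ => Ideal.mul_mem_left _ _ (ha i))
    exact hvm' hvu
  rw [hπ] at hg₀m
  obtain ⟨l, hl⟩ := (Ideal.mem_span_range_iff_exists_fun).mp hg₀m
  have hsum : ∑ j, v (π j) * v (l j) + ∑ i, v (c i) * a i ∈ maximalIdeal A ^ 2 := by
    have : ∑ j, v (π j) * v (l j) = v g₀ := by
      rw [← hl, map_sum]
      exact Finset.sum_congr rfl fun j _ => by rw [map_mul, mul_comm]
    rw [this]
    exact hΦg
  obtain ⟨hlm, hcm⟩ := hLI l c hsum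
  rw [hdec, pow_two]
  refine Ideal.add_mem _ ?_ (Ideal.sum_mem _ fun i _ => ?_)
  · change MvPowerSeries.C g₀ ∈ _
    rw [← hl, map_sum]
    refine Ideal.sum_mem _ fun j _ => ?_
    rw [map_mul]
    refine Ideal.mul_mem_mul (PSDecomp.C_mem_maximalIdeal (hlm j)) (PSDecomp.C_mem_maximalIdeal ?_)
    rw [hπ]
    exact Ideal.subset_span ⟨j, rfl⟩
  · refine Ideal.mul_mem_mul (PSDecomp.X_mem_maximalIdeal i) ?_
    rw [PSDecomp.mem_maximalIdeal_iff]
    exact hcm i

end Ker

/-- A complete noetherian local ring with a coefficient field is a quotient of a power series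
ring by an ideal contained in the square of the maximal ideal. -/
theorem exists_surjective_ker_le_sq (A : Type u) [CommRing A] [IsLocalRing A] [IsNoetherianRing A]
    [IsAdicComplete (maximalIdeal A) A] (K : Type u) [Field K] (σ : K →+* A)
    (hσ : Function.Surjective ((residue A).comp σ)) :
    ∃ (n : ℕ) (f : MvPowerSeries (Fin n) K →+* A), Function.Surjective f ∧
      RingHom.ker f ≤ maximalIdeal (MvPowerSeries (Fin n) K) ^ 2 := by
  classical
  let n := Module.finrank (ResidueField A) (CotangentSpace A)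
  let bW : Module.Basis (Fin n) (ResidueField A) (CotangentSpace A) :=
    Module.finBasis (ResidueField A) (CotangentSpace A)
  have hlift : ∀ i, ∃ y : maximalIdeal A, (maximalIdeal A).toCotangent y = bW i :=
    fun i => (maximalIdeal A).toCotangent_surjective _
  choose y hy using hlift
  let a : Fin n → A := fun i => (y i : A)
  have ha : ∀ i, a i ∈ maximalIdeal A := fun i => (y i).2
  -- the `a i` generate the maximal ideal
  have hspan : Ideal.span (Set.range a) = maximalIdeal A := by
    have h1 : Submodule.span (ResidueField A) ((maximalIdeal A).toCotangent '' Set.range y) = ⊤ := by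
      rw [← Set.range_comp]
      have : ((maximalIdeal A).toCotangent ∘ y) = bW := funext hy
      rw [this]
      exact bW.span_eq
    have h2 := (IsLocalRing.CotangentSpace.span_image_eq_top_iff).mp h1
    apply le_antisymm
    · rw [Ideal.span_le]
      rintro _ ⟨i, rfl⟩
      exact ha i
    · intro z hz
      have hz' : (⟨z, hz⟩ : maximalIdeal A) ∈ Submodule.span A (Set.range y) := by
        rw [h2]
        exact Submodule.mem_top
      have h3 := Submodule.mem_map_of_mem (f := (maximalIdeal A).subtype) hz'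
      rw [Submodule.map_span, ← Set.range_comp] at h3
      exact h3
  obtain ⟨Φ, hsurj, hC, hX⟩ := CohenStruct.exists_surjective_of_lift A σ hσ a hspan
  refine ⟨n, Φ, hsurj, ?_⟩
  have hm0 : maximalIdeal K = ⊥ := IsLocalRing.maximalIdeal_eq_bot
  have hπ : maximalIdeal K = Ideal.span (Set.range (fun j : Fin 0 => (j.elim0 : K))) := by
    rw [hm0, Set.range_eq_empty, Ideal.span_empty]
  have hvm : (maximalIdeal K).map σ ≤ maximalIdeal A := by
    rw [hm0, Ideal.map_bot]
    exact bot_le
  refine ker_le_sq' σ (fun j : Fin 0 => (j.elim0 : K)) a Φ hπ hC hX hvm ha ?_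
  intro l c hsum
  refine ⟨fun j => j.elim0, fun i => ?_⟩
  rw [Finset.univ_eq_empty, Finset.sum_empty, zero_add] at hsum
  have hmem : ∑ i, σ (c i) * a i ∈ maximalIdeal A :=
    Ideal.sum_mem _ fun i _ => Ideal.mul_mem_left _ _ (ha i)
  have h0 : (maximalIdeal A).toCotangent ⟨∑ i, σ (c i) * a i, hmem⟩ = 0 := by
    rw [Ideal.toCotangent_eq_zero]
    exact hsum
  have h1 : (⟨∑ i, σ (c i) * a i, hmem⟩ : maximalIdeal A) = ∑ i, σ (c i) • y i := by
    apply Subtype.ext
    simp only [Submodule.coe_sum, Submodule.coe_smul, smul_eq_mul]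
    rfl
  rw [h1, map_sum] at h0
  have h2 : ∑ i, residue A (σ (c i)) • bW i = 0 := by
    rw [← h0]
    refine Finset.sum_congr rfl fun i _ => ?_
    rw [← hy i]
    exact residue_smul_toCotangent _ _
  have h3 := Fintype.linearIndependent_iff.mp bW.linearIndependent _ h2 i
  rw [hm0, Ideal.mem_bot]
  by_contra hne
  have hu : IsUnit (c i) := isUnit_iff_ne_zero.mpr hne
  exact ((residue_eq_zero_iff _).mp h3) (hu.map σ)

end Groth.Agent.Lib.Helper12.CohenSq
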