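import Groth.Agent.Lib.Helper12.CohenExistB
import Groth.Agent.Lib.Helper5.CohenRingLift
import Groth.Agent.Lib.helper19.CompletionNoetherian

/-!
# Cohen structure theorem: complete local rings are quotients of power series rings
-/

set_option autoImplicit false
universe u v

namespace Groth.Agent.Lib.Helper12.CohenStruct

open IsLocalRing Groth.Agent.Lib.Helper5 Groth.Agent.Lib.Helper5.FormallyProjU

/-- Lifting a ring map to the residue field of a complete local ring along an adically formally
smooth `ℤ`-algebra. No noetherian hypothesis. -/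
theorem exists_lift_to_complete {W R : Type u} [CommRing W] [CommRing R] [IsLocalRing R]
    [IsAdicComplete (maximalIdeal R) R] (𝔞 : Ideal ℤ) (𝔟 : Ideal W) (hfs : IsFSA ℤ 𝔞 W 𝔟)
    (u : W →+* R ⧸ maximalIdeal R) (h𝔞 : 𝔞.map (algebraMap ℤ R) ≤ maximalIdeal R)
    (h𝔟 : ∀ x ∈ 𝔟, u x = 0) :
    ∃ v : W →+* R, (Ideal.Quotient.mk (maximalIdeal R)).comp v = u := by
  let u' : W →ₐ[ℤ] R ⧸ maximalIdeal R := { u with commutes' := fun n => by simp }
  have hmap : (maximalIdeal R).map (Ideal.Quotient.mk (maximalIdeal R)) = ⊥ :=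
    Ideal.map_quotient_self _
  haveI hH : IsHausdorff ((maximalIdeal R).map (Ideal.Quotient.mk (maximalIdeal R)))
      (R ⧸ maximalIdeal R) := by
    rw [hmap]
    infer_instance
  obtain ⟨v, -, hv⟩ := AdicLiftU.exists_lift_adicComplete 𝔞 𝔟 (maximalIdeal R) hfs
    ⟨1, by rw [pow_one]; exact h𝔞⟩ (maximalIdeal R) ⟨1, by rw [pow_one]⟩ u' ⟨1, by
      rw [pow_one, Ideal.map_le_iff_le_comap]
      intro x hx
      rw [Ideal.mem_comap]
      have : u' x = 0 := h𝔟 x hx
      change u' x ∈ _
      rw [this]
      exact Ideal.zero_mem _⟩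
  refine ⟨v, RingHom.ext fun x => ?_⟩
  exact congrArg (fun f : W →ₐ[ℤ] R ⧸ maximalIdeal R => f x) hv

/-- A ring map `v : Λ → R` to a complete local ring that is surjective on residue fields extends
to a surjection from a power series ring sending the variables to generators of the maximal
ideal. -/
theorem exists_surjective_of_lift (R : Type u) [CommRing R] [IsLocalRing R]
    [IsAdicComplete (maximalIdeal R) R] {Λ : Type u} [CommRing Λ] (v : Λ →+* R)
    (hv : Function.Surjective ((Ideal.Quotient.mk (maximalIdeal R)).comp v))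
    {d : ℕ} (a : Fin d → R) (ha : Ideal.span (Set.range a) = maximalIdeal R) :
    ∃ Φ : MvPowerSeries (Fin d) Λ →+* R, Function.Surjective Φ ∧
      (∀ c, Φ (MvPowerSeries.C c) = v c) ∧ ∀ i, Φ (MvPowerSeries.X i) = a i := by
  have hc : IsAdicComplete (Ideal.span (Set.range a)) R := by rw [ha]; infer_instance
  let e : R ≃ₐ[R] AdicCompletion (Ideal.span (Set.range a)) R :=
    AdicCompletion.ofAlgEquiv (Ideal.span (Set.range a))
  let Φ : MvPowerSeries (Fin d) Λ →+* R :=
    (e.symm : AdicCompletion (Ideal.span (Set.range a)) R →+* R).comp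
      ((Groth.Agent.Lib.helper19.psToCompletion a).comp (MvPowerSeries.map v))
  have hX : ∀ i, Φ (MvPowerSeries.X i) = a i := by
    intro i
    change e.symm (Groth.Agent.Lib.helper19.psToCompletion a
      (MvPowerSeries.map v (MvPowerSeries.X i))) = a i
    rw [MvPowerSeries.map_X, Groth.Agent.Lib.helper19.psToCompletion_X, AlgEquiv.commutes]
    rfl
  have hC : ∀ c, Φ (MvPowerSeries.C c) = v c := by
    intro c
    change e.symm (Groth.Agent.Lib.helper19.psToCompletion a
      (MvPowerSeries.map v (MvPowerSeries.C c))) = v c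
    rw [MvPowerSeries.map_C, Groth.Agent.Lib.helper19.psToCompletion_C, AlgEquiv.commutes]
    rfl
  refine ⟨Φ, ?_, hC, hX⟩
  have hmap : (Ideal.span (Set.range
      (MvPowerSeries.X : Fin d → MvPowerSeries (Fin d) Λ))).map Φ = maximalIdeal R := by
    rw [Ideal.map_span, ← Set.range_comp, ← ha]
    congr 2
    ext i : 1
    exact hX i
  have haus : IsHausdorff ((Ideal.span (Set.range
      (MvPowerSeries.X : Fin d → MvPowerSeries (Fin d) Λ))).map Φ) R := by
    rw [hmap]
    infer_instance
  apply surjective_of_mk_map_comp_surjective Φ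
    (I := Ideal.span (Set.range (MvPowerSeries.X : Fin d → MvPowerSeries (Fin d) Λ)))
  intro z
  obtain ⟨r, rfl⟩ := Ideal.Quotient.mk_surjective z
  obtain ⟨c, hc⟩ := hv (Ideal.Quotient.mk _ r)
  refine ⟨MvPowerSeries.C c, ?_⟩
  rw [RingHom.comp_apply, hC, Ideal.Quotient.mk_eq_mk_iff_sub_mem, hmap]
  rw [RingHom.comp_apply, Ideal.Quotient.mk_eq_mk_iff_sub_mem] at hc
  exact hc

/-- **Cohen structure theorem**: existence of a coefficient ring. A complete local ring receives
a map from a field or a Cohen ring inducing an isomorphism on residue fields. -/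
theorem exists_coefficientRing (R : Type u) [CommRing R] [IsLocalRing R]
    [IsAdicComplete (maximalIdeal R) R] :
    ∃ (Λ : Type u) (_ : CommRing Λ) (v : Λ →+* R), (IsField Λ ∨ CAlg.IsCohenRing Λ) ∧
      Function.Surjective ((Ideal.Quotient.mk (maximalIdeal R)).comp v) := by
  obtain ⟨p, hp⟩ := CharP.exists (ResidueField R)
  rcases CharP.char_is_prime_or_zero (ResidueField R) p with hpp | rfl
  · -- mixed or positive characteristic
    haveI : Fact p.Prime := ⟨hpp⟩
    obtain ⟨Λ, i1, hdom, hdvr, hcomp, hm, ⟨e⟩⟩ := CohenExist.exists_cohenRing p (ResidueField R)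
    have hΛ : CAlg.IsCohenRing Λ := ⟨hdom, hdvr, hcomp, p, hpp, hm⟩
    obtain ⟨q, hq, hmax, hfs⟩ := CohenRingSmoothU.isFSA_int_of_isCohenRing Λ hΛ
    let u : Λ →+* R ⧸ maximalIdeal R := (e : ResidueField Λ →+* ResidueField R).comp (residue Λ)
    have hqp : ((q : ℕ) : ResidueField R) = 0 := by
      have h1 : residue Λ ((q : ℕ) : Λ) = 0 := by
        rw [residue_eq_zero_iff, hmax]
        exact Ideal.mem_span_singleton_self _
      have h2 : u ((q : ℕ) : Λ) = 0 := by
        change e (residue Λ _) = 0
        rw [h1, map_zero]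
      rw [map_natCast] at h2
      exact h2
    have hA : (Ideal.span {(q : ℤ)}).map (algebraMap ℤ R) ≤ maximalIdeal R := by
      rw [Ideal.map_span, Set.image_singleton, Ideal.span_le, Set.singleton_subset_iff]
      change algebraMap ℤ R (q : ℤ) ∈ maximalIdeal R
      rw [← residue_eq_zero_iff, eq_intCast, Int.cast_natCast, map_natCast]
      exact hqp
    have hB : ∀ x ∈ maximalIdeal Λ, u x = 0 := by
      intro x hx
      change e (residue Λ x) = 0
      rw [(residue_eq_zero_iff x).mpr hx, map_zero]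
    obtain ⟨v, hv⟩ := exists_lift_to_complete (Ideal.span {(q : ℤ)}) (maximalIdeal Λ) hfs u hA hB
    refine ⟨Λ, i1, v, Or.inr hΛ, ?_⟩
    rw [hv]
    exact e.surjective.comp residue_surjective
  · -- residue characteristic zero
    have : CharZero (ResidueField R) := CharP.charP_to_charZero _
    have hfs := CohenRingSmoothU.isFSA_int_of_field (ResidueField R)
      (Field.toIsField (ResidueField R))
    have hA : (⊥ : Ideal ℤ).map (algebraMap ℤ R) ≤ maximalIdeal R := by
      rw [Ideal.map_bot]
      exact bot_le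
    have hB : ∀ x ∈ (⊥ : Ideal (ResidueField R)), (RingHom.id (R ⧸ maximalIdeal R)) x = 0 := by
      intro x hx
      rw [Ideal.mem_bot] at hx
      exact hx
    obtain ⟨v, hv⟩ := exists_lift_to_complete (R := R) ⊥ ⊥ hfs (RingHom.id _) hA hB
    refine ⟨ResidueField R, inferInstance, v, Or.inl (Field.toIsField _), ?_⟩
    rw [hv]
    exact Function.surjective_id

/-- **Cohen structure theorem** (S0580). -/
theorem exists_surjective_mvPowerSeries (R : Type u) [CommRing R] [IsLocalRing R]
    [IsAdicComplete (maximalIdeal R) R] (hfg : (maximalIdeal R).FG) :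
    ∃ (Λ : Type u) (_ : CommRing Λ) (n : ℕ) (f : MvPowerSeries (Fin n) Λ →+* R),
      (IsField Λ ∨ CAlg.IsCohenRing Λ) ∧ Function.Surjective f := by
  obtain ⟨Λ, i1, v, hΛ, hv⟩ := exists_coefficientRing R
  obtain ⟨n, a, ha⟩ := Submodule.fg_iff_exists_fin_generating_family.mp hfg
  obtain ⟨Φ, hΦ, -, -⟩ := exists_surjective_of_lift R v hv a ha
  exact ⟨Λ, i1, n, Φ, hΛ, hΦ⟩

end Groth.Agent.Lib.Helper12.CohenStruct
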