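import Groth.Agent.Lib.Helper12.CohenStructA

/-!
# Coefficient rings in residue characteristic `p`, and Artinian quotients of Cohen rings
-/

set_option autoImplicit false
universe u v

namespace Groth.Agent.Lib.Helper12.CohenStruct

open IsLocalRing Groth.Agent.Lib.Helper5 Groth.Agent.Lib.Helper5.FormallyProjU

/-- Refined coefficient ring in residue characteristic `p`. -/
theorem exists_coefficientRing_of_charP (R : Type u) [CommRing R] [IsLocalRing R]
    [IsAdicComplete (maximalIdeal R) R] (p : ℕ) [Fact p.Prime] [CharP (ResidueField R) p] :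
    ∃ (Λ : Type u) (_ : CommRing Λ) (_ : IsDomain Λ) (_ : IsDiscreteValuationRing Λ)
      (v : Λ →+* R), IsAdicComplete (maximalIdeal Λ) Λ ∧ maximalIdeal Λ = Ideal.span {(p : Λ)} ∧
      ∃ e : ResidueField Λ ≃+* ResidueField R, ∀ x, residue R (v x) = e (residue Λ x) := by
  obtain ⟨Λ, i1, hdom, hdvr, hcomp, hm, ⟨e⟩⟩ := CohenExist.exists_cohenRing p (ResidueField R)
  have hΛ : CAlg.IsCohenRing Λ := ⟨hdom, hdvr, hcomp, p, (Fact.out : p.Prime), hm⟩
  obtain ⟨q, hq, hmax, hfs⟩ := CohenRingSmoothU.isFSA_int_of_isCohenRing Λ hΛ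
  let u : Λ →+* R ⧸ maximalIdeal R := (e : ResidueField Λ →+* ResidueField R).comp (residue Λ)
  have hqp : ((q : ℕ) : ResidueField R) = 0 := by
    have h1 : residue Λ ((q : ℕ) : Λ) = 0 := by
      rw [residue_eq_zero_iff, hmax]
      exact Ideal.mem_span_singleton_self _
    have h2 : u ((q : ℕ) : Λ) = 0 := by
      change e (residue Λ _) = 0
      rw [h1, map_zero]
    rw [map_natCast] at h2
    exact h2
  have hA : (Ideal.span {(q : ℤ)}).map (algebraMap ℤ R) ≤ maximalIdeal R := by
    rw [Ideal.map_span, Set.image_singleton, Ideal.span_le, Set.singleton_subset_iff]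
    change algebraMap ℤ R (q : ℤ) ∈ maximalIdeal R
    rw [← residue_eq_zero_iff, eq_intCast, Int.cast_natCast, map_natCast]
    exact hqp
  have hB : ∀ x ∈ maximalIdeal Λ, u x = 0 := by
    intro x hx
    change e (residue Λ x) = 0
    rw [(residue_eq_zero_iff x).mpr hx, map_zero]
  obtain ⟨v, hv⟩ := exists_lift_to_complete (Ideal.span {(q : ℤ)}) (maximalIdeal Λ) hfs u hA hB
  refine ⟨Λ, i1, hdom, hdvr, v, hcomp, hm, e, fun x => ?_⟩
  exact congrArg (fun f : Λ →+* R ⧸ maximalIdeal R => f x) hv

/-- For a surjective ring map between local rings the maximal ideal maps onto the maximal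
ideal. -/
theorem map_maximalIdeal_of_surjective {W A : Type*} [CommRing W] [CommRing A] [IsLocalRing W]
    [IsLocalRing A] (f : W →+* A) (hf : Function.Surjective f) :
    (maximalIdeal W).map f = maximalIdeal A := by
  apply le_antisymm
  · rw [Ideal.map_le_iff_le_comap]
    intro w hw
    rw [Ideal.mem_comap, mem_maximalIdeal, mem_nonunits_iff]
    intro hu
    obtain ⟨b, hb⟩ := hu.exists_right_inv
    obtain ⟨w', rfl⟩ := hf b
    rw [← map_mul] at hb
    -- `w * w' - 1 ∈ ker f ⊆ 𝔪`, so `w * w'` is a unit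
    have h1 : w * w' - 1 ∈ maximalIdeal W := by
      by_contra hnot
      have hunit : IsUnit (w * w' - 1) := by
        rwa [mem_maximalIdeal, mem_nonunits_iff, not_not] at hnot
      have h0 : f (w * w' - 1) = 0 := by rw [map_sub, hb, map_one, sub_self]
      have : IsUnit (f (w * w' - 1)) := hunit.map f
      rw [h0] at this
      exact not_isUnit_zero this
    have h2 : w * w' ∈ maximalIdeal W := Ideal.mul_mem_right _ _ hw
    have h3 : (1 : W) ∈ maximalIdeal W := by
      have := Ideal.sub_mem _ h2 h1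
      rwa [sub_sub_cancel] at this
    exact (Ideal.ne_top_iff_one _).mp (maximalIdeal.isMaximal W).ne_top h3
  · intro a ha
    obtain ⟨w, rfl⟩ := hf a
    apply Ideal.mem_map_of_mem
    rw [mem_maximalIdeal, mem_nonunits_iff]
    intro hu
    exact ha (hu.map f)

/-- An Artinian local ring whose maximal ideal is generated by the residue characteristic
`p > 0` is a quotient of a Cohen ring. -/
theorem exists_cohenRing_surjective_of_artinian (A : Type u) [CommRing A] [IsLocalRing A]
    [IsArtinianRing A] (p : ℕ) [Fact p.Prime] [CharP (ResidueField A) p]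
    (hm : maximalIdeal A = Ideal.span {(p : A)}) :
    ∃ (Λ : Type u) (_ : CommRing Λ) (v : Λ →+* A), CAlg.IsCohenRing Λ ∧ Function.Surjective v := by
  obtain ⟨Λ, i1, hdom, hdvr, v, hcomp, hmΛ, e, he⟩ := exists_coefficientRing_of_charP A p
  refine ⟨Λ, i1, v, ⟨hdom, hdvr, hcomp, p, (Fact.out : p.Prime), hmΛ⟩, ?_⟩
  have hmap : (maximalIdeal Λ).map v = maximalIdeal A := by
    rw [hmΛ, Ideal.map_span, Set.image_singleton, map_natCast, hm]
  haveI haus : IsHausdorff ((maximalIdeal Λ).map v) A := by
    rw [hmap]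
    infer_instance
  haveI : IsPrecomplete (maximalIdeal Λ) Λ := hcomp.toIsPrecomplete
  apply surjective_of_mk_map_comp_surjective v (I := maximalIdeal Λ)
  intro z
  obtain ⟨a, rfl⟩ := Ideal.Quotient.mk_surjective z
  obtain ⟨y, hy⟩ := e.surjective (residue A a)
  obtain ⟨w, rfl⟩ := residue_surjective y
  refine ⟨w, ?_⟩
  rw [RingHom.comp_apply, Ideal.Quotient.mk_eq_mk_iff_sub_mem, hmap, ← residue_eq_zero_iff,
    map_sub, he, hy, sub_self]

end Groth.Agent.Lib.Helper12.CohenStruct
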