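import Mathlib
import Groth.Agent.Lib.helper19.ComplUnram6

/-!
Helper library (helper12): surjectivity of maps between completions of noetherian local rings
(complete Nakayama), when `m_A B = m_B` and the residue field map is surjective.
-/

set_option autoImplicit false
set_option linter.style.haveILetI false

namespace Groth.Agent.Lib.Helper12.ComplSurj

universe u

variable {A B : Type u} [CommRing A] [CommRing B] [IsLocalRing A] [IsLocalRing B]
  [IsNoetherianRing A] [IsNoetherianRing B] [Algebra A B] [IsLocalHom (algebraMap A B)]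

theorem surjective_of_compat
    (hm : Ideal.map (algebraMap A B) (IsLocalRing.maximalIdeal A) = IsLocalRing.maximalIdeal B)
    (hk : Function.Surjective (IsLocalRing.ResidueField.map (algebraMap A B)))
    (ψ : AdicCompletion (IsLocalRing.maximalIdeal A) A →+*
      AdicCompletion (IsLocalRing.maximalIdeal B) B)
    (hψ : ψ.comp (algebraMap A (AdicCompletion (IsLocalRing.maximalIdeal A) A)) =
      (algebraMap B (AdicCompletion (IsLocalRing.maximalIdeal B) B)).comp (algebraMap A B)) :
    Function.Surjective ψ := by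
  have hmψ : (IsLocalRing.maximalIdeal (AdicCompletion (IsLocalRing.maximalIdeal A) A)).map ψ =
      IsLocalRing.maximalIdeal (AdicCompletion (IsLocalRing.maximalIdeal B) B) :=
    (Groth.Agent.Lib.Helper19.ComplUnram.map_eq_iff ψ hψ).mpr hm
  haveI : IsHausdorff ((IsLocalRing.maximalIdeal
      (AdicCompletion (IsLocalRing.maximalIdeal A) A)).map ψ)
      (AdicCompletion (IsLocalRing.maximalIdeal B) B) := by
    rw [hmψ]
    infer_instance
  apply surjective_of_mk_map_comp_surjective ψ
    (I := IsLocalRing.maximalIdeal (AdicCompletion (IsLocalRing.maximalIdeal A) A))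
  intro z
  obtain ⟨y, rfl⟩ := Ideal.Quotient.mk_surjective z
  obtain ⟨b, hb⟩ := Ideal.Quotient.mk_surjective
    (AdicCompletion.evalOneₐ (IsLocalRing.maximalIdeal B) y)
  obtain ⟨a', ha'⟩ := hk (IsLocalRing.residue B b)
  obtain ⟨a, rfl⟩ := IsLocalRing.residue_surjective a'
  refine ⟨algebraMap A _ a, ?_⟩
  rw [RingHom.comp_apply, Ideal.Quotient.mk_eq_mk_iff_sub_mem, hmψ,
    AdicCompletion.maximalIdeal_eq_map,
    ← AdicCompletion.ker_evalOneₐ_eq_map _ (IsNoetherian.noetherian _), RingHom.mem_ker]
  have h1 : ψ (algebraMap A _ a) = algebraMap B _ (algebraMap A B a) :=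
    RingHom.congr_fun hψ a
  rw [h1]
  simp only [AlgHom.toRingHom_eq_coe, RingHom.coe_coe, map_sub, AlgHom.commutes]
  rw [← hb, Ideal.Quotient.algebraMap_eq, ← map_sub, Ideal.Quotient.eq_zero_iff_mem,
    ← IsLocalRing.residue_eq_zero_iff, map_sub, ← ha', IsLocalRing.ResidueField.map_residue,
    sub_self]

end Groth.Agent.Lib.Helper12.ComplSurj
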