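import Groth.Agent.Lib.Helper12.EssEtale3

set_option autoImplicit false
universe u

namespace Groth.Agent.Lib.Helper12

open IsLocalRing

/-- Let `A'` be an essentially étale local `A`-algebra, `B` a henselian local `A`-algebra (local
structure maps) and `α : κ(A') → κ(B)` a ring map compatible with the maps from `A`.  Then there
is exactly one `A`-algebra map `A' → B` inducing `α` on residue fields. -/
theorem existsUnique_algHom_of_isEssentiallyEtale (A A' : Type u) [CommRing A] [IsLocalRing A]
    [CommRing A'] [IsLocalRing A'] [Algebra A A'] [IsLocalHom (algebraMap A A')]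
    (hA' : EGA4loc.IsEssentiallyEtale A A')
    (B : Type u) [CommRing B] [HenselianLocalRing B] [Algebra A B] [IsLocalHom (algebraMap A B)]
    (α : ResidueField A' →+* ResidueField B)
    (hα' : ∀ a : A, α (residue A' (algebraMap A A' a)) = residue B (algebraMap A B a)) :
    ∃! ψ' : A' →ₐ[A] B, ∀ x : A', residue B (ψ' x) = α (residue A' x) := by
  have hqf := quasiFinite_of_isEssentiallyEtale hA'
  have heft := essFiniteType_of_isEssentiallyEtale hA'
  have hfe := formallyEtale_of_isEssentiallyEtale hA'
  obtain ⟨C, _, _, q, _, hC, hq, ⟨e⟩⟩ := hA'
  let e' : Localization.AtPrime q →+* A' := (e.symm : Localization.AtPrime q →+* A')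
  have he' : IsLocalHom e' := by
    refine ⟨fun a ha => ?_⟩
    have : IsUnit (e (e' a)) := ha.map e
    simpa [e'] using this
  let ρ : q.ResidueField →+* ResidueField A' := ResidueField.map e'
  let τ : q.ResidueField →+* ResidueField B := α.comp ρ
  have hτ : τ.comp (algebraMap A q.ResidueField) = (residue B).comp (algebraMap A B) := by
    ext a
    simp only [RingHom.comp_apply, τ, ρ]
    have h1 : algebraMap A q.ResidueField a =
        residue (Localization.AtPrime q) (algebraMap A (Localization.AtPrime q) a) := rfl
    rw [h1, ResidueField.map_residue]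
    have h2 : e' (algebraMap A (Localization.AtPrime q) a) = algebraMap A A' a := by
      simp [e']
    rw [h2, hα']
  obtain ⟨f, ⟨hf1, hf2⟩, -⟩ := Groth.Agent.S0501.result A B C q τ hτ
  have hunit : ∀ y : q.primeCompl, IsUnit (f y) := by
    rintro ⟨y, hy⟩
    by_contra hu
    apply hy
    rw [← hf1]
    exact hu
  let g : Localization.AtPrime q →ₐ[A] B := IsLocalization.liftAlgHom (M := q.primeCompl) hunit
  have hg : ∀ c : C, g (algebraMap C _ c) = f c := fun c => by
    show IsLocalization.lift hunit (algebraMap C _ c) = _
    rw [IsLocalization.lift_eq]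
    rfl
  let ψ' : A' →ₐ[A] B := g.comp (e : A' →ₐ[A] Localization.AtPrime q)
  have hres : ∀ x : A', residue B (ψ' x) = α (residue A' x) := by
    have key : ((residue B).comp g.toRingHom) = (α.comp (residue A')).comp e' := by
      apply IsLocalization.ringHom_ext q.primeCompl
      ext c
      simp only [RingHom.comp_apply]
      have : g.toRingHom (algebraMap C _ c) = f c := hg c
      rw [this, hf2]
      simp only [τ, ρ, RingHom.comp_apply]
      have h1 : algebraMap C q.ResidueField c =
          residue (Localization.AtPrime q) (algebraMap C (Localization.AtPrime q) c) := rfl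
      rw [h1, ResidueField.map_residue]
    intro x
    have := congrArg (fun h : Localization.AtPrime q →+* ResidueField B => h (e x)) key
    simp only [RingHom.comp_apply] at this
    have h3 : e' (e x) = x := by simp [e']
    rw [h3] at this
    exact this
  refine ⟨ψ', hres, ?_⟩
  intro φ hφres
  apply algHom_eq_of_formallyUnramified_of_isLocalRing
  intro a
  rw [← IsLocalRing.residue_eq_zero_iff, map_sub, sub_eq_zero, hres]
  exact hφres a

end Groth.Agent.Lib.Helper12
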