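import Mathlib.RingTheory.Etale.StandardEtale
import Mathlib.RingTheory.AdjoinRoot
import Mathlib.RingTheory.Nakayama
import Mathlib.RingTheory.LocalRing.ResidueField.Basic
import Mathlib.FieldTheory.Separable
import Mathlib.RingTheory.TensorProduct.Basic

set_option autoImplicit false
universe u

namespace Groth.Agent.Lib.Helper12

open IsLocalRing Polynomial

theorem aeval_mem_map_of_coeff_mem {R A : Type*} [CommRing R] [CommRing A] [Algebra R A]
    (t : R[X]) (I : Ideal R) (h : ∀ i, t.coeff i ∈ I) (x : A) :
    aeval x t ∈ Ideal.map (algebraMap R A) I := by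
  rw [aeval_eq_sum_range]
  refine Ideal.sum_mem _ (fun i _ => ?_)
  rw [Algebra.smul_def]
  exact Ideal.mul_mem_right _ _ (Ideal.mem_map_of_mem _ (h i))

/-- `R[X]/(f)` is étale when `f` is monic and separable. -/
theorem etale_adjoinRoot_of_separable {R : Type u} [CommRing R] (f : R[X]) (hf : f.Monic)
    (hsep : f.Separable) : Algebra.Etale R (AdjoinRoot f) := by
  obtain ⟨a, b, hab⟩ := hsep
  let P : StandardEtalePair R := ⟨f, hf, 1, ⟨b, a, 0, by rw [pow_zero, ← hab]; ring⟩⟩
  have h1 : P.HasMap (AdjoinRoot.root f) :=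
    ⟨by show aeval (AdjoinRoot.root f) f = 0; rw [AdjoinRoot.aeval_eq, AdjoinRoot.mk_self],
     by show IsUnit (aeval (AdjoinRoot.root f) (1 : R[X])); rw [map_one]; exact isUnit_one⟩
  let e : P.Ring ≃ₐ[R] AdjoinRoot f :=
    .ofAlgHom (P.lift (AdjoinRoot.root f) h1)
      (AdjoinRoot.liftAlgHom f (Algebra.ofId R P.Ring) P.X P.hasMap_X.1)
      (by ext; simp) (by ext; simp)
  exact Algebra.Etale.of_equiv e

/-- A monic polynomial over a local ring is separable as soon as its reduction is. -/
theorem separable_of_separable_map_residue {R : Type u} [CommRing R] [IsLocalRing R] (f : R[X])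
    (hf : f.Monic) (hsep : (f.map (residue R)).Separable) : f.Separable := by
  obtain ⟨a', b', hab⟩ := hsep
  obtain ⟨a, rfl⟩ := Polynomial.map_surjective (residue R) residue_surjective a'
  obtain ⟨b, rfl⟩ := Polynomial.map_surjective (residue R) residue_surjective b'
  set t : R[X] := a * f + b * derivative f - 1 with ht
  have htm : ∀ i, t.coeff i ∈ maximalIdeal R := by
    intro i
    have : t.map (residue R) = 0 := by
      rw [ht, Polynomial.map_sub, Polynomial.map_add, Polynomial.map_mul, Polynomial.map_mul,
        Polynomial.map_one, ← derivative_map, hab, sub_self]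
    rw [← residue_eq_zero_iff, ← coeff_map, this, coeff_zero]
  have : Module.Finite R (AdjoinRoot f) := hf.finite_adjoinRoot
  have hmkt : AdjoinRoot.mk f t ∈ Ideal.map (algebraMap R (AdjoinRoot f)) (maximalIdeal R) := by
    rw [← AdjoinRoot.aeval_eq]
    exact aeval_mem_map_of_coeff_mem t _ htm _
  have hbt : AdjoinRoot.mk f b * AdjoinRoot.mk f (derivative f) = 1 + AdjoinRoot.mk f t := by
    rw [ht, map_sub, map_add, map_mul, map_mul, AdjoinRoot.mk_self, map_one]
    ring
  let μ : AdjoinRoot f →ₗ[R] AdjoinRoot f := LinearMap.mulLeft R (AdjoinRoot.mk f (derivative f))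
  have hμ : Function.Surjective μ := by
    apply LinearMap.surjective_of_surjective_comp_mkQ μ (maximalIdeal R)
    · rw [jacobson_eq_maximalIdeal _ bot_ne_top]
    · intro z
      obtain ⟨z, rfl⟩ := Submodule.mkQ_surjective _ z
      refine ⟨AdjoinRoot.mk f b * z, ?_⟩
      simp only [LinearMap.comp_apply]
      rw [← sub_eq_zero, ← map_sub, Submodule.mkQ_apply, Submodule.Quotient.mk_eq_zero,
        Ideal.smul_top_eq_map]
      show AdjoinRoot.mk f (derivative f) * (AdjoinRoot.mk f b * z) - z ∈
        Ideal.map (algebraMap R (AdjoinRoot f)) (maximalIdeal R)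
      have : AdjoinRoot.mk f (derivative f) * (AdjoinRoot.mk f b * z) - z =
          AdjoinRoot.mk f t * z := by
        linear_combination z * hbt
      rw [this]
      exact Ideal.mul_mem_right _ _ hmkt
  obtain ⟨w, hw⟩ := hμ 1
  obtain ⟨c, rfl⟩ := AdjoinRoot.mk_surjective w
  have hw' : AdjoinRoot.mk f (derivative f * c - 1) = 0 := by
    rw [map_sub, map_mul, map_one, sub_eq_zero]
    exact hw
  rw [AdjoinRoot.mk_eq_zero] at hw'
  obtain ⟨d, hd⟩ := hw'
  exact ⟨-d, c, by linear_combination hd⟩

/-- `R[X]/(f)` is étale over a local ring when `f` is monic with separable reduction. -/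
theorem etale_adjoinRoot_of_separable_map_residue {R : Type u} [CommRing R] [IsLocalRing R]
    (f : R[X]) (hf : f.Monic) (hsep : (f.map (residue R)).Separable) :
    Algebra.Etale R (AdjoinRoot f) :=
  etale_adjoinRoot_of_separable f hf (separable_of_separable_map_residue f hf hsep)

open TensorProduct in
/-- Base change of `R[X]/(f)` to the residue field. -/
theorem nonempty_tensorAdjoinRootEquiv (R : Type u) [CommRing R] [IsLocalRing R] (f : R[X]) :
    Nonempty ((ResidueField R) ⊗[R] AdjoinRoot f ≃ₐ[ResidueField R]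
      AdjoinRoot (f.map (residue R))) := by
  let e₁ := AdjoinRoot.tensorAlgEquiv (R := R) (S := R) (T := ResidueField R) f
    (f.map Algebra.TensorProduct.includeRight.toRingHom) rfl
  have h_eq : (f.map (Algebra.TensorProduct.includeRight :
      R →ₐ[R] ResidueField R ⊗[R] R).toRingHom).map
      (Algebra.TensorProduct.rid R (ResidueField R) (ResidueField R)) = f.map (residue R) := by
    rw [Polynomial.map_map]
    congr 1
    ext r
    simp only [AlgHom.toRingHom_eq_coe, RingHom.coe_comp, RingHom.coe_coe, Function.comp_apply,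
      Algebra.TensorProduct.includeRight_apply, Algebra.TensorProduct.rid_tmul]
    rw [← Algebra.algebraMap_eq_smul_one, ResidueField.algebraMap_eq]
  let e₂ := AdjoinRoot.mapAlgEquiv (R := ResidueField R)
    (Algebra.TensorProduct.rid R (ResidueField R) (ResidueField R))
    (f.map (Algebra.TensorProduct.includeRight :
      R →ₐ[R] ResidueField R ⊗[R] R).toRingHom) (f.map (residue R)) (by rw [h_eq])
  exact ⟨e₁.trans e₂⟩

end Groth.Agent.Lib.Helper12
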