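import Mathlib
import Groth.Prelude.Def_EssEt
import Groth.Agent.Lib.Helper12.EssEtaleLift
import Groth.Agent.S0518
import Groth.Agent.S0505

/-!
# Essentially étale local algebras over a complete local ring come from a henselian subring with
the same residue field
-/

set_option autoImplicit false
universe u

namespace Groth.Agent.Lib.Helper12.CompleteEssEtale

open IsLocalRing TensorProduct

section Residue

variable (R A E : Type u) [CommRing R] [IsLocalRing R]
  [CommRing A] [IsLocalRing A] [Algebra R A] [IsLocalHom (algebraMap R A)]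
  [CommRing E] [IsLocalRing E] [Algebra A E] [IsLocalHom (algebraMap A E)]
  [Algebra R E] [IsScalarTower R A E] [IsLocalHom (algebraMap R E)]

/-- The residue field of an essentially étale local `A`-algebra is finite étale over the residue
field of `R`, if `R → A` is an isomorphism on residue fields. -/
theorem etale_residueField (hres : Function.Bijective (ResidueField.map (algebraMap R A)))
    (hE : EGA4loc.IsEssentiallyEtale A E) :
    Module.Finite (ResidueField R) (ResidueField E) ∧
      Algebra.Etale (ResidueField R) (ResidueField E) := by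
  haveI := essFiniteType_of_isEssentiallyEtale hE
  haveI := formallyEtale_of_isEssentiallyEtale hE
  haveI : Module.Finite (ResidueField A) (ResidueField E) := inferInstance
  haveI : Algebra.IsSeparable (ResidueField A) (ResidueField E) := inferInstance
  have hbij : Function.Bijective (algebraMap (ResidueField R) (ResidueField A)) := hres
  haveI : Module.Finite (ResidueField R) (ResidueField A) :=
    Module.Finite.of_surjective (Algebra.linearMap (ResidueField R) (ResidueField A)) hbij.2
  haveI : Algebra.IsSeparable (ResidueField R) (ResidueField A) := by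
    refine ⟨fun x => ?_⟩
    obtain ⟨y, rfl⟩ := hbij.2 x
    exact isSeparable_algebraMap y
  haveI : Module.Finite (ResidueField R) (ResidueField E) :=
    Module.Finite.trans (ResidueField A) (ResidueField E)
  haveI : Algebra.IsSeparable (ResidueField R) (ResidueField E) :=
    Algebra.IsSeparable.trans (ResidueField R) (ResidueField A) (ResidueField E)
  haveI : Algebra.FormallyEtale (ResidueField R) (ResidueField E) :=
    Algebra.FormallyEtale.of_isSeparable _ _
  haveI : Algebra.FinitePresentation (ResidueField R) (ResidueField E) :=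
    Algebra.FinitePresentation.of_finiteType.mp inferInstance
  exact ⟨inferInstance, ⟨inferInstance, inferInstance⟩⟩

end Residue

section LocalCrit

/-- An integral algebra over a local ring whose closed fibre is a field is local. -/
theorem isLocalRing_of_isField_quotient (B C : Type*) [CommRing B] [IsLocalRing B] [CommRing C]
    [Algebra B C] [Algebra.IsIntegral B C]
    (h : IsField (C ⧸ (maximalIdeal B).map (algebraMap B C))) : IsLocalRing C := by
  have hJ : ((maximalIdeal B).map (algebraMap B C)).IsMaximal :=
    Ideal.Quotient.maximal_of_isField _ h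
  refine IsLocalRing.of_unique_max_ideal ⟨_, hJ, fun M hM => ?_⟩
  have h1 : (M.comap (algebraMap B C)).IsMaximal :=
    Ideal.isMaximal_comap_of_isIntegral_of_isMaximal M
  have h2 : M.comap (algebraMap B C) = maximalIdeal B := IsLocalRing.eq_maximalIdeal h1
  have h3 : (maximalIdeal B).map (algebraMap B C) ≤ M := by
    rw [Ideal.map_le_iff_le_comap, h2]
  exact (hJ.eq_of_le hM.ne_top h3).symm

/-- In the situation above the maximal ideal is the extension of that of the base. -/
theorem maximalIdeal_eq_map_of_isField_quotient (B C : Type*) [CommRing B] [IsLocalRing B]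
    [CommRing C] [IsLocalRing C] [Algebra B C]
    (h : IsField (C ⧸ (maximalIdeal B).map (algebraMap B C))) :
    maximalIdeal C = (maximalIdeal B).map (algebraMap B C) :=
  (IsLocalRing.eq_maximalIdeal (Ideal.Quotient.maximal_of_isField _ h)).symm

end LocalCrit

section Fibre

variable (R A S L : Type u) [CommRing R] [IsLocalRing R]
  [CommRing A] [IsLocalRing A] [Algebra R A] [IsLocalHom (algebraMap R A)]
  [CommRing S] [Algebra R S] [Field L] [Algebra (ResidueField R) L]

/-- The closed fibre of `A ⊗ S` over `A` is the closed fibre of `S` over `R`, if `R → A` is an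
isomorphism on residue fields. -/
theorem isField_quotient_tensor (hres : Function.Bijective (ResidueField.map (algebraMap R A)))
    (e0 : (ResidueField R) ⊗[R] S ≃ₐ[ResidueField R] L) :
    IsField ((A ⊗[R] S) ⧸ (maximalIdeal A).map (algebraMap A (A ⊗[R] S))) := by
  have hbij : Function.Bijective (algebraMap (ResidueField R) (ResidueField A)) := hres
  let ε : ResidueField R ≃ₐ[R] ResidueField A :=
    AlgEquiv.ofBijective (IsScalarTower.toAlgHom R (ResidueField R) (ResidueField A)) hbij
  let c1 := (Algebra.TensorProduct.quotIdealMapEquivTensorQuot (A ⊗[R] S)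
    (maximalIdeal A)).toRingEquiv
  let c2 := (Algebra.TensorProduct.comm A (A ⊗[R] S) (A ⧸ maximalIdeal A)).toRingEquiv
  let c3 := (Algebra.TensorProduct.cancelBaseChange R A A (ResidueField A) S).toRingEquiv
  let c4 := (Algebra.TensorProduct.congr ε.symm (AlgEquiv.refl (R := R) (A₁ := S))).toRingEquiv
  let c5 := e0.toRingEquiv
  exact MulEquiv.isField (Field.toIsField L)
    ((((c1.trans c2).trans c3).trans c4).trans c5).toMulEquiv

theorem isField_quotient (e0 : (ResidueField R) ⊗[R] S ≃ₐ[ResidueField R] L) :
    IsField (S ⧸ (maximalIdeal R).map (algebraMap R S)) := by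
  let c1 := (Algebra.TensorProduct.quotIdealMapEquivTensorQuot S (maximalIdeal R)).toRingEquiv
  let c2 := (Algebra.TensorProduct.comm R S (R ⧸ maximalIdeal R)).toRingEquiv
  let c5 := e0.toRingEquiv
  exact MulEquiv.isField (Field.toIsField L) ((c1.trans c2).trans c5).toMulEquiv

end Fibre

section Main

theorem main (R A E : Type u) [CommRing R] [HenselianLocalRing R]
    [CommRing A] [IsLocalRing A] [IsNoetherianRing A] [IsAdicComplete (maximalIdeal A) A]
    [Algebra R A] [IsLocalHom (algebraMap R A)]
    (hres : Function.Bijective (ResidueField.map (algebraMap R A)))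
    [CommRing E] [IsLocalRing E] [Algebra A E] [IsLocalHom (algebraMap A E)]
    (hE : EGA4loc.IsEssentiallyEtale A E) :
    ∃ (S : Type u) (_ : CommRing S) (_ : IsLocalRing S) (_ : Algebra R S),
      Module.Finite R S ∧ Algebra.Etale R S ∧ Nonempty (E ≃ₐ[A] A ⊗[R] S) := by
  letI : Algebra R E := ((algebraMap A E).comp (algebraMap R A)).toAlgebra
  haveI : IsScalarTower R A E := IsScalarTower.of_algebraMap_eq (fun _ => rfl)
  haveI : IsLocalHom (algebraMap R E) :=
    RingHom.isLocalHom_comp (algebraMap A E) (algebraMap R A)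
  obtain ⟨hfin, het⟩ := etale_residueField R A E hres hE
  obtain ⟨S, _, _, hSfin, hSet, ⟨e0⟩⟩ := Groth.Agent.S0518.result R (ResidueField E)
  have hSfield := isField_quotient R S (ResidueField E) e0
  haveI : IsLocalRing S := isLocalRing_of_isField_quotient R S hSfield
  refine ⟨S, inferInstance, inferInstance, inferInstance, hSfin, hSet, ?_⟩
  -- the algebra `E' = A ⊗ S`
  have hE'field := isField_quotient_tensor R A S (ResidueField E) hres e0
  haveI : IsLocalRing (A ⊗[R] S) := isLocalRing_of_isField_quotient A (A ⊗[R] S) hE'field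
  have hmE' : maximalIdeal (A ⊗[R] S) = (maximalIdeal A).map (algebraMap A (A ⊗[R] S)) :=
    maximalIdeal_eq_map_of_isField_quotient A (A ⊗[R] S) hE'field
  haveI : HenselianLocalRing A :=
    { is_henselian := fun f hf a₀ h1 h2 =>
        HenselianRing.is_henselian (I := maximalIdeal A) f hf a₀ h1 (h2.map _) }
  haveI : HenselianLocalRing (A ⊗[R] S) := Groth.Agent.S0505.result A (A ⊗[R] S)
  haveI hlocAE' : IsLocalHom (algebraMap A (A ⊗[R] S)) := by
    refine ⟨fun a ha => ?_⟩
    by_contra hnu
    have : algebraMap A (A ⊗[R] S) a ∈ maximalIdeal (A ⊗[R] S) := by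
      rw [hmE']
      exact Ideal.mem_map_of_mem _ hnu
    exact this ha
  haveI hlocRE' : IsLocalHom (algebraMap R (A ⊗[R] S)) := by
    rw [IsScalarTower.algebraMap_eq R A (A ⊗[R] S)]
    exact RingHom.isLocalHom_comp _ _
  -- the map on residue fields
  let f : ResidueField R →ₐ[R] ResidueField (A ⊗[R] S) :=
    IsScalarTower.toAlgHom R (ResidueField R) (ResidueField (A ⊗[R] S))
  let g : S →ₐ[R] ResidueField (A ⊗[R] S) :=
    (IsScalarTower.toAlgHom R (A ⊗[R] S) (ResidueField (A ⊗[R] S))).comp
      Algebra.TensorProduct.includeRight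
  let α : ResidueField E →+* ResidueField (A ⊗[R] S) :=
    ((Algebra.TensorProduct.productMap f g : (ResidueField R) ⊗[R] S →ₐ[R] _).toRingHom).comp
      (e0.symm : ResidueField E →+* (ResidueField R) ⊗[R] S)
  -- compatibility over `R`
  have hαR : ∀ r : R, α (residue E (algebraMap R E r)) =
      residue (A ⊗[R] S) (algebraMap R (A ⊗[R] S) r) := by
    intro r
    have h1 : residue E (algebraMap R E r) =
        algebraMap (ResidueField R) (ResidueField E) (residue R r) := rfl
    rw [h1]
    show (Algebra.TensorProduct.productMap f g) (e0.symm (algebraMap _ _ (residue R r))) = _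
    rw [e0.symm.commutes]
    show (Algebra.TensorProduct.productMap f g) ((residue R r) ⊗ₜ[R] (1 : S)) = _
    rw [Algebra.TensorProduct.productMap_apply_tmul, map_one, mul_one]
    rfl
  -- every element of `A` is congruent to an element of `R`
  have hAR : ∀ a : A, ∃ r : R, a - algebraMap R A r ∈ maximalIdeal A := by
    intro a
    obtain ⟨x, hx⟩ := hres.2 (residue A a)
    obtain ⟨r, rfl⟩ := residue_surjective x
    refine ⟨r, ?_⟩
    rw [← Ideal.Quotient.eq_zero_iff_mem, map_sub]
    exact sub_eq_zero.mpr hx.symm
  have hα' : ∀ a : A, α (residue E (algebraMap A E a)) =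
      residue (A ⊗[R] S) (algebraMap A (A ⊗[R] S) a) := by
    intro a
    obtain ⟨r, hr⟩ := hAR a
    have h1 : residue E (algebraMap A E a) = residue E (algebraMap R E r) := by
      rw [IsScalarTower.algebraMap_apply R A E, ← sub_eq_zero, ← map_sub, ← map_sub]
      exact (residue_eq_zero_iff _).mpr (map_nonunit (algebraMap A E) _ hr)
    have h2 : residue (A ⊗[R] S) (algebraMap A (A ⊗[R] S) a) =
        residue (A ⊗[R] S) (algebraMap R (A ⊗[R] S) r) := by
      rw [IsScalarTower.algebraMap_apply R A (A ⊗[R] S), ← sub_eq_zero, ← map_sub, ← map_sub]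
      exact (residue_eq_zero_iff _).mpr (map_nonunit (algebraMap A (A ⊗[R] S)) _ hr)
    rw [h1, h2, hαR]
  obtain ⟨φ, hφ, -⟩ := existsUnique_algHom_of_isEssentiallyEtale A E hE (A ⊗[R] S) α hα'
  -- `α` is surjective
  have hprod : ∀ y : A ⊗[R] S, ∃ w : (ResidueField R) ⊗[R] S,
      Algebra.TensorProduct.productMap f g w = residue (A ⊗[R] S) y := by
    intro y
    induction y using TensorProduct.induction_on with
    | zero => exact ⟨0, by simp⟩
    | tmul a s =>
      obtain ⟨r, hr⟩ := hAR a
      refine ⟨(residue R r) ⊗ₜ[R] s, ?_⟩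
      rw [Algebra.TensorProduct.productMap_apply_tmul]
      have h1 : (a ⊗ₜ[R] s : A ⊗[R] S) =
          algebraMap A (A ⊗[R] S) a * ((1 : A) ⊗ₜ[R] s) := by
        show a ⊗ₜ[R] s = (a ⊗ₜ[R] (1 : S)) * ((1 : A) ⊗ₜ[R] s)
        rw [Algebra.TensorProduct.tmul_mul_tmul, mul_one, one_mul]
      have h2 : residue (A ⊗[R] S) (algebraMap A (A ⊗[R] S) a) =
          residue (A ⊗[R] S) (algebraMap R (A ⊗[R] S) r) := by
        rw [IsScalarTower.algebraMap_apply R A (A ⊗[R] S), ← sub_eq_zero, ← map_sub, ← map_sub]
        exact (residue_eq_zero_iff _).mpr (map_nonunit (algebraMap A (A ⊗[R] S)) _ hr)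
      rw [h1, map_mul, h2]
      rfl
    | add y₁ y₂ h₁ h₂ =>
      obtain ⟨w₁, hw₁⟩ := h₁
      obtain ⟨w₂, hw₂⟩ := h₂
      exact ⟨w₁ + w₂, by rw [map_add, map_add, hw₁, hw₂]⟩
  have hαsurj : ∀ y : A ⊗[R] S, ∃ x : E, residue (A ⊗[R] S) (φ x) = residue (A ⊗[R] S) y := by
    intro y
    obtain ⟨w, hw⟩ := hprod y
    obtain ⟨x, hx⟩ := residue_surjective (e0 w)
    refine ⟨x, ?_⟩
    rw [hφ, hx, ← hw]
    show (Algebra.TensorProduct.productMap f g) (e0.symm (e0 w)) = _
    rw [e0.symm_apply_apply]
  -- surjectivity by Nakayama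
  have hsurj : Function.Surjective φ := by
    have h1 : (⊤ : Submodule A (A ⊗[R] S)) ≤
        LinearMap.range φ.toLinearMap ⊔ maximalIdeal A • (⊤ : Submodule A (A ⊗[R] S)) := by
      intro y _
      obtain ⟨x, hx⟩ := hαsurj y
      have h2 : y - φ x ∈ maximalIdeal (A ⊗[R] S) := by
        rw [← residue_eq_zero_iff, map_sub, hx, sub_self]
      rw [hmE'] at h2
      have h2' : y - φ x ∈ maximalIdeal A • (⊤ : Submodule A (A ⊗[R] S)) := by
        rw [Ideal.smul_top_eq_map]
        exact h2
      have h3 : y = φ x + (y - φ x) := by ring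
      rw [h3]
      exact Submodule.add_mem_sup ⟨x, rfl⟩ h2'
    have h4 := Submodule.le_of_le_smul_of_le_jacobson_bot (Module.Finite.fg_top)
      (IsLocalRing.maximalIdeal_le_jacobson ⊥) h1
    intro y
    obtain ⟨x, hx⟩ := h4 (Submodule.mem_top (x := y))
    exact ⟨x, hx⟩
  -- injectivity by flatness
  have hinj : Function.Injective φ := by
    letI : Algebra E (A ⊗[R] S) := φ.toRingHom.toAlgebra
    haveI : IsScalarTower A E (A ⊗[R] S) :=
      IsScalarTower.of_algebraMap_eq (fun a => (φ.commutes a).symm)
    haveI := essFiniteType_of_isEssentiallyEtale hE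
    haveI := formallyEtale_of_isEssentiallyEtale hE
    haveI : Algebra.FormallyEtale E (A ⊗[R] S) :=
      Algebra.FormallyEtale.of_restrictScalars (R := A)
    haveI : Module.Finite E (A ⊗[R] S) := Module.Finite.of_restrictScalars_finite A E _
    haveI : IsNoetherianRing E := Algebra.EssFiniteType.isNoetherianRing A E
    haveI : Algebra.FinitePresentation E (A ⊗[R] S) :=
      Algebra.FinitePresentation.of_finiteType.mp inferInstance
    haveI : Algebra.Etale E (A ⊗[R] S) := ⟨inferInstance, inferInstance⟩
    haveI : Module.Flat E (A ⊗[R] S) := inferInstance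
    haveI : IsLocalHom (algebraMap E (A ⊗[R] S)) := by
      refine ⟨fun x hx => ?_⟩
      have hx' : IsUnit (φ x) := hx
      by_contra hnu
      have h1 : residue E x = 0 := (residue_eq_zero_iff _).mpr hnu
      have h2 : residue (A ⊗[R] S) (φ x) = 0 := by rw [hφ, h1, map_zero]
      exact ((residue_eq_zero_iff _).mp h2) hx'
    haveI : Module.FaithfullyFlat E (A ⊗[R] S) := Module.FaithfullyFlat.of_flat_of_isLocalHom
    exact FaithfulSMul.algebraMap_injective E (A ⊗[R] S)
  exact ⟨AlgEquiv.ofBijective φ ⟨hinj, hsurj⟩⟩

end Main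

end Groth.Agent.Lib.Helper12.CompleteEssEtale
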