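import Mathlib

/-!
# The image of a finite étale algebra over a normal domain in a field

Let `A'` be an integrally closed domain, `E` a finite étale `A'`-algebra and `μ : E → L₁` an
`A'`-algebra map into a field in which `A'` embeds and which is generated by the range of `μ`.
Then the kernel of `μ` is generated by an idempotent and the range of `μ` is the integral closure of
`A'` in `L₁`.
-/

set_option autoImplicit false
universe u

namespace Groth.Agent.Lib.Helper12.CompositumEtale

open TensorProduct Polynomial

section IC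

variable (A' : Type u) [CommRing A'] [IsDomain A'] [IsIntegrallyClosed A']
  (E : Type u) [CommRing E] [Algebra A' E] [Algebra.Smooth A' E]

/-- Elements of `E ⊗ Frac A'` integral over `A'` come from `E`. -/
theorem exists_of_isIntegral (z : E ⊗[A'] FractionRing A') (hz : IsIntegral A' z) :
    ∃ y : E, y ⊗ₜ[A'] (1 : FractionRing A') = z := by
  have hzE : IsIntegral E z := IsIntegral.tower_top hz
  obtain ⟨w, hw⟩ := (TensorProduct.toIntegralClosure_bijective_of_smooth
    (R := A') (S := E) (B := FractionRing A')).2 ⟨z, hzE⟩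
  have hrange : ∀ w : E ⊗[A'] integralClosure A' (FractionRing A'), ∃ e : E,
      ((TensorProduct.toIntegralClosure A' E (FractionRing A') w :
        integralClosure E (E ⊗[A'] FractionRing A')) : E ⊗[A'] FractionRing A') =
        e ⊗ₜ[A'] (1 : FractionRing A') := by
    intro w
    induction w using TensorProduct.induction_on with
    | zero => exact ⟨0, by simp⟩
    | tmul a b =>
      obtain ⟨c, hc⟩ := IsIntegrallyClosed.isIntegral_iff.mp b.2
      refine ⟨c • a, ?_⟩
      show a ⊗ₜ[A'] (b : FractionRing A') = (c • a) ⊗ₜ[A'] (1 : FractionRing A')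
      rw [← hc, Algebra.algebraMap_eq_smul_one, TensorProduct.smul_tmul]
    | add z w hz hw =>
      obtain ⟨e1, h1⟩ := hz
      obtain ⟨e2, h2⟩ := hw
      exact ⟨e1 + e2, by rw [map_add, TensorProduct.add_tmul, ← h1, ← h2]; rfl⟩
  obtain ⟨e, he⟩ := hrange w
  exact ⟨e, by rw [← he, hw]⟩

end IC

section Idem

/-- The kernel of a ring map from a reduced artinian ring to a field is the annihilator of an
idempotent. -/
theorem exists_idem_ker {R : Type*} [CommRing R] [IsArtinianRing R] [IsReduced R] {L : Type*}
    [Field L] (φ : R →+* L) :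
    ∃ ε : R, IsIdempotentElem ε ∧ ∀ x, φ x = 0 ↔ ε * x = 0 := by
  classical
  haveI : (RingHom.ker φ).IsPrime := RingHom.ker_isPrime φ
  have hmax : (RingHom.ker φ).IsMaximal := IsArtinianRing.isMaximal_of_isPrime _
  let m₀ : MaximalSpectrum R := ⟨RingHom.ker φ, hmax⟩
  let e := IsArtinianRing.equivPi R
  have hcomp : ∀ (x : R) (m : MaximalSpectrum R),
      e (e.symm (Pi.single m₀ 1) * x) m = if m = m₀ then e x m else 0 := by
    intro x m
    rw [map_mul, e.apply_symm_apply, Pi.mul_apply]
    by_cases hm : m = m₀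
    · subst hm
      rw [Pi.single_eq_same, one_mul, if_pos rfl]
    · rw [Pi.single_eq_of_ne hm, zero_mul, if_neg hm]
  refine ⟨e.symm (Pi.single m₀ 1), ?_, ?_⟩
  · show e.symm (Pi.single m₀ 1) * e.symm (Pi.single m₀ 1) = e.symm (Pi.single m₀ 1)
    apply e.injective
    funext m
    rw [hcomp, e.apply_symm_apply]
    by_cases hm : m = m₀
    · rw [if_pos hm]
    · rw [if_neg hm, Pi.single_eq_of_ne hm]
  · intro x
    have h0 : φ x = 0 ↔ e x m₀ = 0 := by
      rw [IsArtinianRing.equivPi_apply, Ideal.Quotient.eq_zero_iff_mem]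
      exact Iff.rfl
    rw [h0]
    constructor
    · intro hx
      apply e.injective
      rw [map_zero]
      funext m
      rw [hcomp]
      by_cases hm : m = m₀
      · rw [if_pos hm, hm, hx]; rfl
      · rw [if_neg hm]; rfl
    · intro hx
      have := congrFun (congrArg e hx) m₀
      rw [hcomp, if_pos rfl, map_zero] at this
      exact this

end Idem

section Main

variable (A' : Type u) [CommRing A'] [IsDomain A'] [IsIntegrallyClosed A']
  (E : Type u) [CommRing E] [Algebra A' E] [Algebra.Etale A' E] [Module.Finite A' E]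
  (L₁ : Type u) [Field L₁] [Algebra A' L₁]

theorem isArtinianRing_tensor : IsArtinianRing (E ⊗[A'] FractionRing A') := by
  let c := Algebra.TensorProduct.comm A' E (FractionRing A')
  haveI : IsArtinianRing (FractionRing A' ⊗[A'] E) := IsArtinianRing.of_finite (FractionRing A') _
  exact c.symm.toRingEquiv.isArtinianRing

theorem isReduced_tensor : IsReduced (E ⊗[A'] FractionRing A') := by
  let c := Algebra.TensorProduct.comm A' E (FractionRing A')
  haveI : IsReduced (FractionRing A' ⊗[A'] E) :=
    Algebra.FormallyUnramified.isReduced_of_field (FractionRing A') _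
  exact isReduced_of_injective c.toRingEquiv.toRingHom c.injective

variable {A' E L₁}

/-- The extension of `μ` to `E ⊗ Frac A'`. -/
noncomputable def muF (hinj' : Function.Injective (algebraMap A' L₁)) (μ : E →ₐ[A'] L₁) :
    E ⊗[A'] FractionRing A' →ₐ[A'] L₁ :=
  Algebra.TensorProduct.productMap μ
    (IsFractionRing.liftAlgHom (g := Algebra.ofId A' L₁) hinj')

theorem muF_tmul_one (hinj' : Function.Injective (algebraMap A' L₁)) (μ : E →ₐ[A'] L₁) (y : E) :
    muF hinj' μ (y ⊗ₜ[A'] (1 : FractionRing A')) = μ y := by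
  rw [muF, Algebra.TensorProduct.productMap_apply_tmul, map_one, mul_one]

theorem tmul_one_injective :
    Function.Injective (fun y : E => y ⊗ₜ[A'] (1 : FractionRing A')) :=
  Algebra.TensorProduct.includeLeft_injective (S := E)
    (IsFractionRing.injective A' (FractionRing A'))

/-- The main theorem. -/
theorem exists_idem_and_range (hinj' : Function.Injective (algebraMap A' L₁)) (μ : E →ₐ[A'] L₁)
    (hgen : Subfield.closure (Set.range μ) = ⊤) :
    (∃ e : E, IsIdempotentElem e ∧ RingHom.ker μ = Ideal.span {1 - e}) ∧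
      ∀ x : L₁, IsIntegral A' x → ∃ y : E, μ y = x := by
  classical
  haveI := isArtinianRing_tensor A' E
  haveI := isReduced_tensor A' E
  set μF := muF hinj' μ with hμF
  obtain ⟨ε, hε, hker⟩ := exists_idem_ker (μF : E ⊗[A'] FractionRing A' →+* L₁)
  have hker' : ∀ x, μF x = 0 ↔ ε * x = 0 := hker
  -- `ε` is integral, hence comes from `E`
  have hεint : IsIntegral A' ε := by
    refine ⟨X * (X - C 1), monic_X.mul (monic_X_sub_C 1), ?_⟩
    rw [eval₂_mul, eval₂_X, eval₂_sub, eval₂_X, eval₂_C, map_one, mul_sub, mul_one, hε.eq,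
      sub_self]
  obtain ⟨e, he⟩ := exists_of_isIntegral A' E ε hεint
  have hee : IsIdempotentElem e := by
    apply tmul_one_injective (A' := A') (E := E)
    show (e * e) ⊗ₜ[A'] (1 : FractionRing A') = e ⊗ₜ[A'] (1 : FractionRing A')
    have : (e * e) ⊗ₜ[A'] (1 : FractionRing A') =
        (e ⊗ₜ[A'] (1 : FractionRing A')) * (e ⊗ₜ[A'] (1 : FractionRing A')) := by
      rw [Algebra.TensorProduct.tmul_mul_tmul, one_mul]
    rw [this, he, hε.eq]
  have hμε : μF ε = 1 := by
    have h1 : μF (1 - ε) = 0 := by
      rw [hker', mul_sub, mul_one, hε.eq, sub_self]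
    rw [map_sub, map_one, sub_eq_zero] at h1
    exact h1.symm
  refine ⟨⟨e, hee, ?_⟩, ?_⟩
  · ext x
    rw [RingHom.mem_ker, Ideal.mem_span_singleton']
    have h1 : μ x = 0 ↔ e * x = 0 := by
      rw [← muF_tmul_one hinj' μ x, ← hμF, hker', ← he, Algebra.TensorProduct.tmul_mul_tmul,
        one_mul]
      constructor
      · intro h
        apply tmul_one_injective (A' := A') (E := E)
        show (e * x) ⊗ₜ[A'] (1 : FractionRing A') = (0 : E) ⊗ₜ[A'] (1 : FractionRing A')
        rw [h, TensorProduct.zero_tmul]
      · intro h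
        rw [h, TensorProduct.zero_tmul]
    show μ x = 0 ↔ _
    rw [h1]
    constructor
    · intro h
      exact ⟨x, by rw [mul_sub, mul_one, mul_comm x e, h, sub_zero]⟩
    · rintro ⟨a, rfl⟩
      rw [← mul_assoc, mul_comm e a, mul_assoc, mul_sub, mul_one, hee.eq, sub_self, mul_zero]
  · -- the range of `μF` is a subfield, hence everything
    haveI : (RingHom.ker (μF : E ⊗[A'] FractionRing A' →+* L₁)).IsPrime := RingHom.ker_isPrime _
    have hmax : (RingHom.ker (μF : E ⊗[A'] FractionRing A' →+* L₁)).IsMaximal :=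
      IsArtinianRing.isMaximal_of_isPrime _
    let Φ : Subfield L₁ :=
      { (μF : E ⊗[A'] FractionRing A' →+* L₁).range with
        inv_mem' := by
          rintro _ ⟨z, rfl⟩
          by_cases hz : μF z = 0
          · exact ⟨0, by rw [map_zero]; show (0 : L₁) = (μF z)⁻¹; rw [hz, inv_zero]⟩
          · have hz' : z ∉ RingHom.ker (μF : E ⊗[A'] FractionRing A' →+* L₁) := hz
            obtain ⟨w, hw⟩ := hmax.exists_inv hz'
            refine ⟨w, ?_⟩
            obtain ⟨i, hi, hiw⟩ := hw
            have h2 : μF w * μF z + μF i = 1 := by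
              rw [← map_mul, ← map_add]
              show μF (w * z + i) = 1
              rw [hiw, map_one]
            have h3 : μF i = 0 := hi
            rw [h3, add_zero] at h2
            exact (eq_inv_of_mul_eq_one_left h2) }
    have hΦ : Subfield.closure (Set.range μ) ≤ Φ := by
      rw [Subfield.closure_le]
      rintro _ ⟨y, rfl⟩
      exact ⟨y ⊗ₜ[A'] (1 : FractionRing A'), muF_tmul_one hinj' μ y⟩
    have hsurj : ∀ x : L₁, ∃ z, μF z = x := by
      intro x
      have : x ∈ Φ := hΦ (by rw [hgen]; trivial)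
      exact this
    intro x hx
    obtain ⟨p, hp, hpx⟩ := hx
    obtain ⟨z, rfl⟩ := hsurj x
    -- `ε * z` is integral
    have hpz : ε * aeval z p = 0 := by
      rw [← hker', ← Polynomial.aeval_algHom_apply, aeval_def]
      exact hpx
    have hpow : ∀ i : ℕ, ε * (ε * z) ^ i = ε * z ^ i := by
      intro i
      rw [mul_pow, ← mul_assoc, ← pow_succ', hε.pow_succ_eq]
    have hpz' : ε * aeval (ε * z) p = ε * aeval z p := by
      rw [aeval_eq_sum_range, aeval_eq_sum_range, Finset.mul_sum, Finset.mul_sum]
      refine Finset.sum_congr rfl fun i _ => ?_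
      rw [mul_smul_comm, mul_smul_comm, hpow]
    have hint : IsIntegral A' (ε * z) := by
      refine ⟨X * p, monic_X.mul hp, ?_⟩
      rw [← aeval_def, map_mul, aeval_X, mul_comm ε z, mul_assoc, mul_comm z ε, hpz', hpz,
        mul_zero]
    obtain ⟨y, hy⟩ := exists_of_isIntegral A' E (ε * z) hint
    refine ⟨y, ?_⟩
    rw [← muF_tmul_one hinj' μ y, hy, ← hμF, map_mul, hμε, one_mul]

end Main

end Groth.Agent.Lib.Helper12.CompositumEtale
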