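import Mathlib
import Groth.Agent.Lib.Helper12.PairLocal

/-!
# A local ring integral over a henselian local ring is henselian
-/

set_option autoImplicit false
universe u

namespace Groth.Agent.Lib.Helper12

open IsLocalRing

theorem henselianLocalRing_of_isIntegral (A : Type u) [CommRing A] [HenselianLocalRing A]
    (B : Type u) [CommRing B] [IsLocalRing B] [Algebra A B] [Algebra.IsIntegral A B] :
    HenselianLocalRing B := by
  have hmaxle : (maximalIdeal A).map (algebraMap A B) ≤ maximalIdeal B := by
    have : ((maximalIdeal B).comap (algebraMap A B)).IsMaximal :=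
      Ideal.isMaximal_comap_of_isIntegral_of_isMaximal (maximalIdeal B)
    rw [Ideal.map_le_iff_le_comap, IsLocalRing.eq_maximalIdeal this]
  apply PairUnique.henselianLocalRing_of_henselianRing
  haveI : HenselianRing B ((maximalIdeal A).map (algebraMap A B)) :=
    henselianRing_map_of_isIntegral A (maximalIdeal A) B
  apply henselianRing_of_le_radical ((maximalIdeal A).map (algebraMap A B)) (maximalIdeal B) hmaxle
  intro x hx
  have : x ∈ ((maximalIdeal A).map (algebraMap A B)).radical := by
    rw [Ideal.radical_eq_sInf, Ideal.mem_sInf]
    rintro P ⟨hle, hP⟩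
    haveI := hP
    have hcomap : P.comap (algebraMap A B) = maximalIdeal A := by
      have hne : P.comap (algebraMap A B) ≠ ⊤ := (Ideal.comap_isPrime _ P).ne_top
      exact ((maximalIdeal.isMaximal A).eq_of_le hne (Ideal.map_le_iff_le_comap.mp hle)).symm
    have hPmax : P.IsMaximal :=
      Ideal.isMaximal_of_isIntegral_of_isMaximal_comap P (hcomap ▸ maximalIdeal.isMaximal A)
    rw [IsLocalRing.eq_maximalIdeal hPmax]
    exact hx
  exact this

end Groth.Agent.Lib.Helper12
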