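import Mathlib
import Groth.Agent.Lib.Helper12.HenselIntegralLocal
import Groth.Agent.Lib.Helper12.HenselPairOps
import Groth.Agent.Lib.Helper12.HenselRadical

/-!
# Integral algebras over henselian pairs / henselian local rings, universe-polymorphic versions
-/

set_option autoImplicit false
universe u v

namespace Groth.Agent.Lib.Helper12.HensInt

open IsLocalRing

/-- An integral algebra over a henselian pair is henselian (two universes). -/
theorem henselianRing_map_of_isIntegral (A : Type u) [CommRing A] (I : Ideal A) [HenselianRing A I]
    (B : Type v) [CommRing B] [Algebra A B] [Algebra.IsIntegral A B] :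
    HenselianRing B (Ideal.map (algebraMap A B) I) := by
  apply henselianRing_of_idemLiftFinite
  intro C _ _ hfin
  haveI := hfin
  letI : Algebra A C := Algebra.compHom C (algebraMap A B)
  haveI : IsScalarTower A B C := IsScalarTower.of_algebraMap_eq (fun _ => rfl)
  haveI : Algebra.IsIntegral B C := inferInstance
  haveI : Algebra.IsIntegral A C := Algebra.IsIntegral.trans B
  have key : Ideal.map (algebraMap B C) (Ideal.map (algebraMap A B) I) =
      Ideal.map (algebraMap A C) I := by
    rw [Ideal.map_map, ← IsScalarTower.algebraMap_eq]
  have transport : ∀ (J J' : Ideal C), J' = J →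
      Set.BijOn (Ideal.Quotient.mk J) {e : C | IsIdempotentElem e} {e | IsIdempotentElem e} →
      Set.BijOn (Ideal.Quotient.mk J') {e : C | IsIdempotentElem e} {e | IsIdempotentElem e} := by
    intro J J' h hb
    subst h
    exact hb
  exact transport _ _ key
    (bijOn_idempotents_of_isIntegral HenselianRing.jac (factorLift_of_henselianRing (I := I)) C)

/-- For an integral algebra over a local ring, every prime containing the image of the maximal
ideal is maximal. -/
theorem isMaximal_of_map_maximalIdeal_le (A : Type u) [CommRing A] [IsLocalRing A]
    (B : Type v) [CommRing B] [Algebra A B] [Algebra.IsIntegral A B] (P : Ideal B) [P.IsPrime]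
    (hle : (maximalIdeal A).map (algebraMap A B) ≤ P) : P.IsMaximal := by
  have hcomap : P.comap (algebraMap A B) = maximalIdeal A := by
    have hne : P.comap (algebraMap A B) ≠ ⊤ := (Ideal.comap_isPrime _ P).ne_top
    exact ((maximalIdeal.isMaximal A).eq_of_le hne (Ideal.map_le_iff_le_comap.mp hle)).symm
  exact Ideal.isMaximal_of_isIntegral_of_isMaximal_comap P (hcomap ▸ maximalIdeal.isMaximal A)

/-- For an integral algebra over a local ring, every maximal ideal contains the image of the
maximal ideal. -/
theorem map_maximalIdeal_le_of_isMaximal (A : Type u) [CommRing A] [IsLocalRing A]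
    (B : Type v) [CommRing B] [Algebra A B] [Algebra.IsIntegral A B] (M : Ideal B) [M.IsMaximal] :
    (maximalIdeal A).map (algebraMap A B) ≤ M := by
  have : (M.comap (algebraMap A B)).IsMaximal :=
    Ideal.isMaximal_comap_of_isIntegral_of_isMaximal M
  rw [Ideal.map_le_iff_le_comap, IsLocalRing.eq_maximalIdeal this]

/-- A local ring integral over a henselian local ring is henselian (two universes). -/
theorem henselianLocalRing_of_isIntegral (A : Type u) [CommRing A] [HenselianLocalRing A]
    (B : Type v) [CommRing B] [IsLocalRing B] [Algebra A B] [Algebra.IsIntegral A B] :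
    HenselianLocalRing B := by
  have hmaxle : (maximalIdeal A).map (algebraMap A B) ≤ maximalIdeal B :=
    map_maximalIdeal_le_of_isMaximal A B (maximalIdeal B)
  apply PairUnique.henselianLocalRing_of_henselianRing
  haveI : HenselianRing B ((maximalIdeal A).map (algebraMap A B)) :=
    henselianRing_map_of_isIntegral A (maximalIdeal A) B
  apply henselianRing_of_le_radical ((maximalIdeal A).map (algebraMap A B)) (maximalIdeal B) hmaxle
  intro x hx
  rw [Ideal.radical_eq_sInf, Ideal.mem_sInf]
  rintro P ⟨hle, hP⟩
  haveI := hP
  have hPmax : P.IsMaximal := isMaximal_of_map_maximalIdeal_le A B P hle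
  rw [IsLocalRing.eq_maximalIdeal hPmax]
  exact hx

/-- The structure map of a local ring integral over a local ring is local. -/
theorem isLocalHom_of_isIntegral (A : Type u) [CommRing A] [IsLocalRing A]
    (B : Type v) [CommRing B] [IsLocalRing B] [Algebra A B] [Algebra.IsIntegral A B] :
    IsLocalHom (algebraMap A B) := by
  refine ⟨fun a ha => ?_⟩
  by_contra hna
  have h1 : a ∈ maximalIdeal A := hna
  have h2 : algebraMap A B a ∈ maximalIdeal B :=
    map_maximalIdeal_le_of_isMaximal A B (maximalIdeal B) (Ideal.mem_map_of_mem _ h1)
  exact h2 ha

/-- The residue field of a local ring integral over a strictly henselian local ring is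
separably closed. -/
theorem isSepClosed_residueField_of_isIntegral (A : Type u) [CommRing A] [IsLocalRing A]
    [IsSepClosed (ResidueField A)]
    (B : Type v) [CommRing B] [IsLocalRing B] [Algebra A B] [Algebra.IsIntegral A B] :
    IsSepClosed (ResidueField B) := by
  haveI := isLocalHom_of_isIntegral A B
  haveI : Algebra.IsIntegral (ResidueField A) (ResidueField B) :=
    Ideal.Quotient.algebra_isIntegral_of_liesOver (maximalIdeal B) (maximalIdeal A)
  haveI : Algebra.IsAlgebraic (ResidueField A) (ResidueField B) := Algebra.IsIntegral.isAlgebraic
  exact Algebra.IsAlgebraic.isSepClosed (F := ResidueField A) (E := ResidueField B)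

end Groth.Agent.Lib.Helper12.HensInt
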