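import Mathlib
import Groth.Agent.Lib.Helper12.HenselIntegralLocal2

/-!
# Connected–étale sequence, part A: Jacobson-radical lemmas for augmented finite local algebras

* `map_maximalIdeal_le_jacobson`: `𝔪_R · D ≤ Jac(D)` for `D` integral over local `R`.
* `exists_pow_mem_map_maximalIdeal`: `𝔪_B ≤ √(𝔪_R B)` for a local ring `B` finite over `R`.
* `mem_jacobson_of_rho_eq_zero`: for `C` finite over `R` and `A₀` a finite local `R`-algebra
  with augmentation `ε̄ : A₀ → R`, the kernel of `id ⊗ ε̄ : C ⊗ A₀ → C` lies in the Jacobson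
  radical.
-/

set_option autoImplicit false
universe u v w

namespace Groth.Agent.Lib.Helper12.ConnEtA

open TensorProduct IsLocalRing

/-- `𝔪_R · D ≤ Jac(D)` for `D` integral over a local ring `R`. -/
theorem map_maximalIdeal_le_jacobson (R : Type u) [CommRing R] [IsLocalRing R]
    (D : Type v) [CommRing D] [Algebra R D] [Algebra.IsIntegral R D] :
    (maximalIdeal R).map (algebraMap R D) ≤ Ideal.jacobson ⊥ := by
  rw [Ideal.jacobson]
  refine le_sInf fun M hM => ?_
  haveI := hM.2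
  exact HensInt.map_maximalIdeal_le_of_isMaximal R D M

/-- The Jacobson radical is a radical ideal. -/
theorem mem_jacobson_of_pow_mem {D : Type*} [CommRing D] {x : D} {n : ℕ}
    (h : x ^ n ∈ Ideal.jacobson (⊥ : Ideal D)) : x ∈ Ideal.jacobson (⊥ : Ideal D) := by
  have h1 : x ∈ (Ideal.jacobson (⊥ : Ideal D)).radical := ⟨n, h⟩
  have h2 := Ideal.radical_le_jacobson h1
  rwa [Ideal.jacobson_idem] at h2

/-- An element congruent to `1` modulo the Jacobson radical is a unit. -/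
theorem isUnit_of_one_sub_mem_jacobson {D : Type*} [CommRing D] {z : D}
    (h : 1 - z ∈ Ideal.jacobson (⊥ : Ideal D)) : IsUnit z := by
  have := Ideal.mem_jacobson_bot.mp h (-1)
  have h2 : (1 - z) * -1 + 1 = z := by ring
  rwa [h2] at this

/-- An idempotent in the Jacobson radical is zero. -/
theorem eq_zero_of_isIdempotentElem_of_mem_jacobson {D : Type*} [CommRing D] {f : D}
    (hf : IsIdempotentElem f) (h : f ∈ Ideal.jacobson (⊥ : Ideal D)) : f = 0 := by
  have hu : IsUnit (1 - f) := by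
    apply isUnit_of_one_sub_mem_jacobson
    rwa [sub_sub_cancel]
  have h0 : f * (1 - f) = 0 := by rw [mul_sub, mul_one, hf.eq, sub_self]
  exact (hu.mul_left_eq_zero).mp h0

/-- For a local ring `B` finite over a local ring `R`: `𝔪_B ≤ √(𝔪_R B)`. -/
theorem exists_pow_mem_map_maximalIdeal (R : Type u) [CommRing R] [IsLocalRing R]
    (B : Type v) [CommRing B] [IsLocalRing B] [Algebra R B] [Module.Finite R B]
    {x : B} (hx : x ∈ maximalIdeal B) :
    ∃ n : ℕ, x ^ n ∈ (maximalIdeal R).map (algebraMap R B) := by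
  letI : Field (R ⧸ maximalIdeal R) := Ideal.Quotient.field _
  haveI : Module.Finite (R ⧸ maximalIdeal R) (B ⧸ (maximalIdeal R).map (algebraMap R B)) :=
    Module.Finite.of_restrictScalars_finite R _ _
  haveI : IsArtinianRing (B ⧸ (maximalIdeal R).map (algebraMap R B)) :=
    IsArtinianRing.of_finite (R ⧸ maximalIdeal R) _
  obtain ⟨n, hn⟩ := IsArtinianRing.isNilpotent_jacobson_bot
    (R := B ⧸ (maximalIdeal R).map (algebraMap R B))
  have hxJ : Ideal.Quotient.mk ((maximalIdeal R).map (algebraMap R B)) x ∈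
      Ideal.jacobson (⊥ : Ideal (B ⧸ (maximalIdeal R).map (algebraMap R B))) := by
    rw [Ideal.jacobson, Ideal.mem_sInf]
    rintro M ⟨-, hM⟩
    haveI := hM
    have hmax : (M.comap (Ideal.Quotient.mk ((maximalIdeal R).map (algebraMap R B)))).IsMaximal :=
      Ideal.comap_isMaximal_of_surjective _ Ideal.Quotient.mk_surjective
    have := IsLocalRing.eq_maximalIdeal hmax
    rw [← Ideal.mem_comap, this]
    exact hx
  refine ⟨n, ?_⟩
  have h1 := Ideal.pow_mem_pow hxJ n
  rw [hn, Ideal.zero_eq_bot, Ideal.mem_bot, ← map_pow, Ideal.Quotient.eq_zero_iff_mem] at h1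
  exact h1

section rho

variable (R : Type u) [CommRing R] (C : Type v) [CommRing C] [Algebra R C]
  (A₀ : Type w) [CommRing A₀] [Algebra R A₀] (εb : A₀ →ₐ[R] R)

/-- `id ⊗ ε̄ : C ⊗ A₀ → C`. -/
noncomputable def rho : C ⊗[R] A₀ →ₐ[R] C :=
  Algebra.TensorProduct.lift (AlgHom.id R C) ((Algebra.ofId R C).comp εb)
    (fun _ _ => Commute.all _ _)

@[simp] theorem rho_tmul (c : C) (a : A₀) :
    rho R C A₀ εb (c ⊗ₜ[R] a) = c * algebraMap R C (εb a) := by
  simp [rho, Algebra.ofId_apply]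

variable {R C A₀ εb}

/-- If all `1 ⊗ x`, `x ∈ ker ε̄`, lie in an ideal `K`, then `z - ρ(z) ⊗ 1 ∈ K` for all `z`. -/
theorem sub_rho_tmul_mem (K : Ideal (C ⊗[R] A₀))
    (hK : ∀ x : A₀, εb x = 0 → (1 : C) ⊗ₜ[R] x ∈ K) (z : C ⊗[R] A₀) :
    z - (rho R C A₀ εb z) ⊗ₜ[R] (1 : A₀) ∈ K := by
  induction z using TensorProduct.induction_on with
  | zero => simp
  | tmul c a =>
    have h1 : c ⊗ₜ[R] a - (rho R C A₀ εb (c ⊗ₜ[R] a)) ⊗ₜ[R] (1 : A₀) =
        (c ⊗ₜ[R] (1 : A₀)) * ((1 : C) ⊗ₜ[R] (a - algebraMap R A₀ (εb a))) := by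
      rw [rho_tmul, Algebra.TensorProduct.tmul_mul_tmul, mul_one, one_mul, TensorProduct.tmul_sub,
        Algebra.algebraMap_eq_smul_one, Algebra.algebraMap_eq_smul_one, TensorProduct.tmul_smul,
        mul_smul_comm, mul_one, TensorProduct.smul_tmul']
    rw [h1]
    refine K.mul_mem_left _ (hK _ ?_)
    rw [map_sub, AlgHom.commutes, Algebra.algebraMap_self_apply, sub_self]
  | add x y hx hy =>
    have : x + y - (rho R C A₀ εb (x + y)) ⊗ₜ[R] (1 : A₀) =
        (x - (rho R C A₀ εb x) ⊗ₜ[R] (1 : A₀)) + (y - (rho R C A₀ εb y) ⊗ₜ[R] (1 : A₀)) := by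
      rw [map_add, TensorProduct.add_tmul]; ring
    rw [this]
    exact K.add_mem hx hy

end rho

/-- **Key lemma.** `R` local, `C` a finite `R`-algebra, `A₀` a local ring finite over `R` with
an augmentation `ε̄ : A₀ → R`. Then `ker (id ⊗ ε̄ : C ⊗ A₀ → C) ≤ Jac(C ⊗ A₀)`. -/
theorem mem_jacobson_of_rho_eq_zero (R : Type u) [CommRing R] [IsLocalRing R]
    (C : Type v) [CommRing C] [Algebra R C] [Module.Finite R C]
    (A₀ : Type w) [CommRing A₀] [IsLocalRing A₀] [Algebra R A₀] [Module.Finite R A₀]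
    (εb : A₀ →ₐ[R] R) {z : C ⊗[R] A₀} (hz : rho R C A₀ εb z = 0) :
    z ∈ Ideal.jacobson (⊥ : Ideal (C ⊗[R] A₀)) := by
  have hK : ∀ x : A₀, εb x = 0 → (1 : C) ⊗ₜ[R] x ∈ Ideal.jacobson (⊥ : Ideal (C ⊗[R] A₀)) := by
    intro x hx
    have hxm : x ∈ maximalIdeal A₀ := by
      rw [mem_maximalIdeal, mem_nonunits_iff]
      intro hu
      have := hu.map εb
      rw [hx] at this
      exact not_isUnit_zero this
    obtain ⟨n, hn⟩ := exists_pow_mem_map_maximalIdeal R A₀ hxm
    apply mem_jacobson_of_pow_mem (n := n)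
    apply map_maximalIdeal_le_jacobson R (C ⊗[R] A₀)
    have h1 : ((1 : C) ⊗ₜ[R] x) ^ n =
        (Algebra.TensorProduct.includeRight : A₀ →ₐ[R] C ⊗[R] A₀) (x ^ n) := by
      rw [Algebra.TensorProduct.includeRight_apply, Algebra.TensorProduct.tmul_pow, one_pow]
    rw [h1]
    have h2 := Ideal.mem_map_of_mem
      (Algebra.TensorProduct.includeRight : A₀ →ₐ[R] C ⊗[R] A₀).toRingHom hn
    rw [Ideal.map_map] at h2
    have h3 : (Algebra.TensorProduct.includeRight : A₀ →ₐ[R] C ⊗[R] A₀).toRingHom.comp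
        (algebraMap R A₀) = algebraMap R (C ⊗[R] A₀) :=
      (Algebra.TensorProduct.includeRight : A₀ →ₐ[R] C ⊗[R] A₀).comp_algebraMap
    rw [h3] at h2
    exact h2
  have := sub_rho_tmul_mem _ hK z
  rwa [hz, TensorProduct.zero_tmul, sub_zero] at this

/-- An idempotent of `C ⊗ A₀` mapping to `1` under `id ⊗ ε̄` is `1`. -/
theorem eq_one_of_isIdempotentElem_of_rho_eq_one (R : Type u) [CommRing R] [IsLocalRing R]
    (C : Type v) [CommRing C] [Algebra R C] [Module.Finite R C]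
    (A₀ : Type w) [CommRing A₀] [IsLocalRing A₀] [Algebra R A₀] [Module.Finite R A₀]
    (εb : A₀ →ₐ[R] R) {f : C ⊗[R] A₀} (hf : IsIdempotentElem f)
    (h1 : rho R C A₀ εb f = 1) : f = 1 := by
  have h2 : rho R C A₀ εb (1 - f) = 0 := by rw [map_sub, map_one, h1, sub_self]
  have h3 := eq_zero_of_isIdempotentElem_of_mem_jacobson hf.one_sub
    (mem_jacobson_of_rho_eq_zero R C A₀ εb h2)
  exact (sub_eq_zero.mp h3).symm

/-- An element of `C ⊗ A₀` mapping to `1` under `id ⊗ ε̄` is a unit. -/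
theorem isUnit_of_rho_eq_one (R : Type u) [CommRing R] [IsLocalRing R]
    (C : Type v) [CommRing C] [Algebra R C] [Module.Finite R C]
    (A₀ : Type w) [CommRing A₀] [IsLocalRing A₀] [Algebra R A₀] [Module.Finite R A₀]
    (εb : A₀ →ₐ[R] R) {z : C ⊗[R] A₀} (h1 : rho R C A₀ εb z = 1) : IsUnit z := by
  apply isUnit_of_one_sub_mem_jacobson
  apply mem_jacobson_of_rho_eq_zero R C A₀ εb
  rw [map_sub, map_one, h1, sub_self]

end Groth.Agent.Lib.Helper12.ConnEtA
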