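import Mathlib
import Groth.Agent.Lib.Helper12.ConnEtA

/-!
# Connected–étale sequence, part B: the unit component of a finite Hopf algebra over a local ring

`J` is an ideal of a commutative bialgebra `A` over a local ring `R` on which the counit vanishes
and with `A ⧸ J` local (e.g. `J = (1 - e)` for the idempotent `e` of the unit component).
-/

set_option autoImplicit false
universe u v w

namespace Groth.Agent.Lib.Helper12.ConnEtB

open TensorProduct IsLocalRing Coalgebra ConnEtA

section general

variable {R : Type u} [CommRing R] {A : Type v} [CommRing A] [Bialgebra R A]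
  (J : Ideal A) (hJ : ∀ a ∈ J, Bialgebra.counitAlgHom R A a = 0)

/-- The augmentation `A ⧸ J → R` induced by the counit. -/
noncomputable def epsBar : A ⧸ J →ₐ[R] R :=
  Ideal.Quotient.liftₐ J (Bialgebra.counitAlgHom R A) hJ

@[simp] theorem epsBar_mk (a : A) : epsBar J hJ (Ideal.Quotient.mk J a) = counit (R := R) a := rfl

include hJ in
/-- In the local ring `A ⧸ J`, an idempotent of `A` with counit `1` maps to `1`. -/
theorem mk_eq_one_of_isIdempotentElem [Nontrivial R] [IsLocalRing (A ⧸ J)] {f : A}
    (hf : IsIdempotentElem f) (h1 : counit (R := R) f = 1) : Ideal.Quotient.mk J f = 1 := by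
  have hid : IsIdempotentElem (Ideal.Quotient.mk J f) := hf.map _
  rcases IsLocalRing.isUnit_or_isUnit_one_sub_self (Ideal.Quotient.mk J f) with hu | hu
  · -- unit idempotent is 1
    have h2 : Ideal.Quotient.mk J f * (Ideal.Quotient.mk J f - 1) = 0 := by
      rw [mul_sub, mul_one, hid.eq, sub_self]
    have h3 := (hu.mul_right_eq_zero).mp h2
    exact sub_eq_zero.mp h3
  · -- then f ↦ 0, contradiction with ε
    exfalso
    have h2 : Ideal.Quotient.mk J f * (1 - Ideal.Quotient.mk J f) = 0 := by
      rw [mul_sub, mul_one, hid.eq, sub_self]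
    have h3 : Ideal.Quotient.mk J f = 0 := (hu.mul_left_eq_zero).mp h2
    have h4 := congrArg (epsBar J hJ) h3
    rw [epsBar_mk, h1, map_zero] at h4
    exact one_ne_zero h4

/-- `(ψ ⊗ π)(Δ a) ↦ ψ a` under `id ⊗ ε̄`. -/
theorem rho_map_comul {C : Type w} [CommRing C] [Algebra R C] (ψ : A →ₐ[R] C) (a : A) :
    rho R C (A ⧸ J) (epsBar J hJ)
      (Algebra.TensorProduct.map ψ (Ideal.Quotient.mkₐ R J) (comul a)) = ψ a := by
  have key : ∀ z : A ⊗[R] A, rho R C (A ⧸ J) (epsBar J hJ)
      (Algebra.TensorProduct.map ψ (Ideal.Quotient.mkₐ R J) z) =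
      ψ (TensorProduct.rid R A ((counit (R := R) (A := A)).lTensor A z)) := by
    intro z
    induction z using TensorProduct.induction_on with
    | zero => simp
    | tmul x y =>
      simp only [Algebra.TensorProduct.map_tmul, rho_tmul, Ideal.Quotient.mkₐ_eq_mk, epsBar_mk,
        LinearMap.lTensor_tmul, TensorProduct.rid_tmul, map_smul]
      rw [Algebra.smul_def, mul_comm]
    | add x y hx hy => simp only [map_add, hx, hy]
  rw [key, Coalgebra.lTensor_counit_comul, TensorProduct.rid_tmul, one_smul]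

include hJ in
/-- The kernel of the augmentation lies in the maximal ideal. -/
theorem mem_maximalIdeal_of_epsBar_eq_zero [Nontrivial R] [IsLocalRing (A ⧸ J)] {x : A ⧸ J}
    (hx : epsBar J hJ x = 0) : x ∈ maximalIdeal (A ⧸ J) := by
  rw [mem_maximalIdeal, mem_nonunits_iff]
  intro hu
  have := hu.map (epsBar J hJ)
  rw [hx] at this
  exact not_isUnit_zero this

include hJ in
/-- The residue field of `A ⧸ J` is that of `R`. -/
theorem residue_comp_algebraMap_surjective [Nontrivial R] [IsLocalRing (A ⧸ J)] :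
    Function.Surjective (⇑(IsLocalRing.residue (A ⧸ J)) ∘ ⇑(algebraMap R (A ⧸ J))) := by
  intro y
  obtain ⟨x, rfl⟩ := IsLocalRing.residue_surjective y
  refine ⟨epsBar J hJ x, ?_⟩
  rw [Function.comp_apply, ← sub_eq_zero, ← map_sub, IsLocalRing.residue_eq_zero_iff]
  apply mem_maximalIdeal_of_epsBar_eq_zero J hJ
  rw [map_sub, AlgHom.commutes, Algebra.algebraMap_self_apply, sub_self]

end general

/-- `e ↦ 1` in `A ⧸ (1 - e)`. -/
theorem mk_self_eq_one {A : Type v} [CommRing A] (e : A) :
    Ideal.Quotient.mk (Ideal.span ({1 - e} : Set A)) e = 1 := by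
  have h0 : (1 - e) ∈ Ideal.span ({1 - e} : Set A) := Ideal.subset_span (Set.mem_singleton _)
  have h : e - 1 ∈ Ideal.span ({1 - e} : Set A) := by
    have h1 : e - 1 = -(1 - e) := by ring
    rw [h1]
    exact (Ideal.span ({1 - e} : Set A)).neg_mem h0
  have h2 := (Ideal.Quotient.mk_eq_mk_iff_sub_mem e 1).mpr h
  rw [h2, map_one]

section unitComponent

variable (R : Type u) [CommRing R] [IsLocalRing R] (A : Type v) [CommRing A] [HopfAlgebra R A]
  [Module.Finite R A] (e : A) (he : IsIdempotentElem e)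
  (hε : Bialgebra.counitAlgHom R A e = 1)

omit [IsLocalRing R] [Module.Finite R A] in
include hε in
theorem counit_eq_zero_of_mem {a : A} (ha : a ∈ Ideal.span ({1 - e} : Set A)) :
    Bialgebra.counitAlgHom R A a = 0 := by
  obtain ⟨b, rfl⟩ := Ideal.mem_span_singleton'.mp ha
  rw [map_mul, map_sub, map_one, hε, sub_self, mul_zero]

variable [IsLocalRing (A ⧸ Ideal.span ({1 - e} : Set A))]

include he hε in
/-- `(π ⊗ π)(Δ e) = 1` in `A⁰ ⊗ A⁰`. -/
theorem map_mk_comul_eq_one :
    Algebra.TensorProduct.map (Ideal.Quotient.mkₐ R (Ideal.span ({1 - e} : Set A)))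
      (Ideal.Quotient.mkₐ R (Ideal.span ({1 - e} : Set A))) (comul e) = 1 := by
  have hJ := fun a (ha : a ∈ Ideal.span ({1 - e} : Set A)) => counit_eq_zero_of_mem R A e hε ha
  apply eq_one_of_isIdempotentElem_of_rho_eq_one R (A ⧸ Ideal.span ({1 - e} : Set A))
    (A ⧸ Ideal.span ({1 - e} : Set A)) (epsBar _ hJ)
  · have : IsIdempotentElem (Bialgebra.comulAlgHom R A e) := he.map _
    exact this.map (Algebra.TensorProduct.map (Ideal.Quotient.mkₐ R (Ideal.span ({1 - e} : Set A)))
      (Ideal.Quotient.mkₐ R (Ideal.span ({1 - e} : Set A))))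
  · rw [rho_map_comul]
    exact mk_self_eq_one e

omit [Module.Finite R A] in
include he hε in
/-- `π (S e) = 1`. -/
theorem mk_antipode_eq_one :
    Ideal.Quotient.mk (Ideal.span ({1 - e} : Set A)) (HopfAlgebra.antipode R e) = 1 := by
  have hJ := fun a (ha : a ∈ Ideal.span ({1 - e} : Set A)) => counit_eq_zero_of_mem R A e hε ha
  apply mk_eq_one_of_isIdempotentElem _ hJ
  · exact he.map (HopfAlgebra.antipodeAlgHom R A)
  · rw [HopfAlgebra.counit_antipode]; exact hε

include he hε in
/-- The ideal `(1 - e)` of the unit component is a Hopf ideal. -/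
theorem isHopfIdeal : (Ideal.span ({1 - e} : Set A)).IsHopfIdeal R := by
  have hJ := fun a (ha : a ∈ Ideal.span ({1 - e} : Set A)) => counit_eq_zero_of_mem R A e hε ha
  refine { counit_eq_zero := ?_, map_mkQ_comul_eq_zero := ?_, antipode_mem := ?_ }
  · intro x hx
    exact hJ x hx
  · intro x hx
    change (Algebra.TensorProduct.map (Ideal.Quotient.mkₐ R (Ideal.span ({1 - e} : Set A)))
      (Ideal.Quotient.mkₐ R (Ideal.span ({1 - e} : Set A)))) (Bialgebra.comulAlgHom R A x) = 0
    obtain ⟨b, rfl⟩ := Ideal.mem_span_singleton'.mp hx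
    rw [map_mul, map_mul, map_sub, map_sub, map_one, map_one, Bialgebra.comulAlgHom_apply,
      Bialgebra.comulAlgHom_apply, map_mk_comul_eq_one R A e he hε, sub_self, mul_zero]
  · intro x hx
    obtain ⟨b, rfl⟩ := Ideal.mem_span_singleton'.mp hx
    rw [← Ideal.Quotient.eq_zero_iff_mem]
    have : HopfAlgebra.antipode R (b * (1 - e)) =
        HopfAlgebra.antipode R b * (1 - HopfAlgebra.antipode R e) := by
      rw [HopfAlgebra.antipode_mul_distrib, map_sub, HopfAlgebra.antipode_one]
    rw [this, map_mul, map_sub, map_one, mk_antipode_eq_one R A e he hε, sub_self, mul_zero]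

end unitComponent

end Groth.Agent.Lib.Helper12.ConnEtB
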