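import Mathlib
import Groth.Prelude.Def_SGA3
import Groth.Agent.Lib.Helper12.ConnEtB

/-!
# Connected–étale sequence, part C: normality of the unit component
-/

set_option autoImplicit false
universe u

namespace Groth.Agent.Lib.Helper12.ConnEtC

open TensorProduct WithConv IsLocalRing ConnEtA ConnEtB

section conv3

variable (k : Type u) [CommRing k] (A : Type u) [CommRing A] [HopfAlgebra k A]

/-- The triple convolution of `Dyn.conv3` is the triple product in the convolution monoid. -/
theorem conv3_eq {C : Type u} [CommRing C] [Algebra k C] (f g h : A →ₐ[k] C) :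
    Dyn.conv3 k A f g h = (toConv f * toConv g * toConv h).ofConv := by
  rw [AlgHom.convMul_def, AlgHom.convMul_def]
  simp only [ofConv_toConv]
  unfold Dyn.conv3
  congr 1
  rw [← AlgHom.comp_assoc]
  congr 1
  rw [← Algebra.TensorProduct.map_comp, AlgHom.comp_id, AlgHom.comp_assoc]

end conv3

section normal

variable (R : Type u) [CommRing R] [IsLocalRing R] (A : Type u) [CommRing A] [HopfAlgebra R A]
  [Module.Finite R A] (e : A) (he : IsIdempotentElem e)
  (hε : Bialgebra.counitAlgHom R A e = 1) [IsLocalRing (A ⧸ Ideal.span ({1 - e} : Set A))]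

include he hε in
/-- The unit component of a finite Hopf algebra over a local ring is normal. -/
theorem isNormalHopfIdeal : SGA3.IsNormalHopfIdeal R A (Ideal.span ({1 - e} : Set A)) := by
  have hJ := fun a (ha : a ∈ Ideal.span ({1 - e} : Set A)) => counit_eq_zero_of_mem R A e hε ha
  intro T _ _ g h hh a ha
  -- the universal case
  let hbar : A ⧸ Ideal.span ({1 - e} : Set A) →ₐ[R] T :=
    Ideal.Quotient.liftₐ (Ideal.span ({1 - e} : Set A)) h hh
  let g' : A →ₐ[R] A ⊗[R] (A ⧸ Ideal.span ({1 - e} : Set A)) :=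
    Algebra.TensorProduct.includeLeft
  let h' : A →ₐ[R] A ⊗[R] (A ⧸ Ideal.span ({1 - e} : Set A)) :=
    (Algebra.TensorProduct.includeRight).comp (Ideal.Quotient.mkₐ R (Ideal.span ({1 - e} : Set A)))
  let θ : A ⊗[R] (A ⧸ Ideal.span ({1 - e} : Set A)) →ₐ[R] T :=
    Algebra.TensorProduct.lift g hbar (fun _ _ => Commute.all _ _)
  have hθg : θ.comp g' = g := by
    ext x; simp [θ, g']
  have hθh : θ.comp h' = h := by
    ext x; simp [θ, h', hbar]
  let c' : A →ₐ[R] A ⊗[R] (A ⧸ Ideal.span ({1 - e} : Set A)) :=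
    (toConv g' * toConv h' * toConv (g'.comp (HopfAlgebra.antipodeAlgHom R A))).ofConv
  have hθc : θ.comp c' = Dyn.conv3 R A g h (g.comp (HopfAlgebra.antipodeAlgHom R A)) := by
    rw [conv3_eq]
    simp only [c']
    rw [AlgHom.comp_convMul_distrib, ofConv_toConv, AlgHom.comp_convMul_distrib]
    simp only [ofConv_toConv, toConv_ofConv, ← AlgHom.comp_assoc, hθg, hθh]
  -- ρ ∘ c' is the trivial homomorphism
  have hρc : (rho R A (A ⧸ Ideal.span ({1 - e} : Set A)) (epsBar _ hJ)).comp c' =
      (1 : WithConv (A →ₐ[R] A)).ofConv := by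
    have h1 : (rho R A (A ⧸ Ideal.span ({1 - e} : Set A)) (epsBar _ hJ)).comp g' =
        AlgHom.id R A := by
      ext x; simp [g']
    have h2 : (rho R A (A ⧸ Ideal.span ({1 - e} : Set A)) (epsBar _ hJ)).comp h' =
        (1 : WithConv (A →ₐ[R] A)).ofConv := by
      ext x; simp [h', AlgHom.convOne_def, Algebra.ofId_apply]
    simp only [c']
    rw [AlgHom.comp_convMul_distrib, ofConv_toConv, AlgHom.comp_convMul_distrib]
    simp only [ofConv_toConv, toConv_ofConv, ← AlgHom.comp_assoc, h1, h2]
    rw [mul_one]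
    have h3 : toConv (AlgHom.id R A) * toConv ((AlgHom.id R A).comp (HopfAlgebra.antipodeAlgHom R A))
        = 1 := mul_inv_cancel (toConv (AlgHom.id R A))
    rw [h3]
  have hce : c' e = 1 := by
    apply eq_one_of_isIdempotentElem_of_rho_eq_one R A (A ⧸ Ideal.span ({1 - e} : Set A))
      (epsBar _ hJ) (he.map c')
    have := congrArg (fun f : A →ₐ[R] A => f e) hρc
    simp only [AlgHom.comp_apply] at this
    rw [this]
    change algebraMap R A (Coalgebra.counit e) = 1
    have hε' : Coalgebra.counit (R := R) e = 1 := hε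
    rw [hε', map_one]
  obtain ⟨b, rfl⟩ := Ideal.mem_span_singleton'.mp ha
  rw [← hθc, AlgHom.comp_apply, map_mul, map_sub, map_one, hce, sub_self, mul_zero, map_zero]

end normal

end Groth.Agent.Lib.Helper12.ConnEtC
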