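import Mathlib
import Groth.Agent.Lib.Helper12.ConnEtB

/-!
# Connected–étale sequence, part D: maps from unramified algebras are determined modulo `ker ρ`
-/

set_option autoImplicit false
universe u v w w'

namespace Groth.Agent.Lib.Helper12.ConnEtD

open TensorProduct IsLocalRing ConnEtA ConnEtB

/-- Two algebra maps from a finite-type unramified algebra `C'` to `C ⊗ A₀` that agree after
`id ⊗ ε̄ : C ⊗ A₀ → C` are equal. -/
theorem algHom_eq_of_rho_comp_eq (R : Type u) [CommRing R] [IsLocalRing R]
    (C : Type v) [CommRing C] [Algebra R C] [Module.Finite R C]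
    (A₀ : Type w) [CommRing A₀] [IsLocalRing A₀] [Algebra R A₀] [Module.Finite R A₀]
    (εb : A₀ →ₐ[R] R)
    (C' : Type w') [CommRing C'] [Algebra R C'] [Algebra.EssFiniteType R C']
    [Algebra.FormallyUnramified R C']
    (α β : C' →ₐ[R] C ⊗[R] A₀)
    (h : (rho R C A₀ εb).comp α = (rho R C A₀ εb).comp β) : α = β := by
  let m : C' ⊗[R] C' →ₐ[R] C ⊗[R] A₀ :=
    Algebra.TensorProduct.lift α β (fun _ _ => Commute.all _ _)
  have hm : (rho R C A₀ εb).comp m =
      ((rho R C A₀ εb).comp α).comp (Algebra.TensorProduct.lmul' R) := by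
    apply Algebra.TensorProduct.ext'
    intro x y
    have hy := congrArg (fun f : C' →ₐ[R] C => f y) h
    simp only [AlgHom.comp_apply] at hy
    simp only [m, AlgHom.comp_apply, Algebra.TensorProduct.lift_tmul, map_mul,
      Algebra.TensorProduct.lmul'_apply_tmul, hy]
  have hunit : IsUnit (m (Algebra.FormallyUnramified.elem R C')) := by
    apply isUnit_of_rho_eq_one R C A₀ εb
    have := congrArg (fun f : C' ⊗[R] C' →ₐ[R] C => f (Algebra.FormallyUnramified.elem R C')) hm
    simp only [AlgHom.comp_apply] at this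
    rw [this, Algebra.FormallyUnramified.lmul_elem, map_one, map_one]
  ext s
  have h1 := congrArg m (Algebra.FormallyUnramified.one_tmul_sub_tmul_one_mul_elem (R := R) (S := C') s)
  rw [map_mul, map_sub, map_zero] at h1
  have h2 := (hunit.mul_left_eq_zero).mp h1
  simp only [m, Algebra.TensorProduct.lift_tmul, map_one, one_mul, mul_one] at h2
  exact (sub_eq_zero.mp h2).symm

/-- A nonzero idempotent of a local ring is `1`. -/
theorem eq_one_of_isIdempotentElem_of_ne_zero {D : Type*} [CommRing D] [IsLocalRing D] {f : D}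
    (hf : IsIdempotentElem f) (h0 : f ≠ 0) : f = 1 := by
  rcases IsLocalRing.isUnit_or_isUnit_one_sub_self f with hu | hu
  · have h2 : f * (f - 1) = 0 := by rw [mul_sub, mul_one, hf.eq, sub_self]
    exact sub_eq_zero.mp ((hu.mul_right_eq_zero).mp h2)
  · have h2 : f * (1 - f) = 0 := by rw [mul_sub, mul_one, hf.eq, sub_self]
    exact absurd ((hu.mul_left_eq_zero).mp h2) h0

end Groth.Agent.Lib.Helper12.ConnEtD
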