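import Mathlib
import Groth.Agent.Lib.Helper12.ConnEtD

/-!
# Connected–étale sequence, part E: extensions

* `isLocalRing_of_isIntegral_of_quotient`: `A''` local, `I''` a proper ideal, `A` integral over
  `A''` and `A ⧸ I''A` local ⇒ `A` local.
* `exists_idempotent_of_formallyUnramified`: an augmented unramified algebra of finite type splits
  off its augmentation: `ker ε = (1 - u)` for an idempotent `u`.
* `formallyUnramified_of_counit_ker`: a Hopf algebra whose augmentation ideal is killed by an
  idempotent `e` with `ε e = 1` is unramified.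
* `mk_eq_mk_of_unitIdempotents`: uniqueness of the unit-component idempotent.
-/

set_option autoImplicit false
universe u v w

namespace Groth.Agent.Lib.Helper12.ConnEtE

open TensorProduct IsLocalRing WithConv ConnEtA ConnEtB ConnEtD

/-- `A''` local, `I ≤ 𝔪''`, `A` integral over `A''`, `A ⧸ I·A` local ⇒ `A` local. -/
theorem isLocalRing_of_isIntegral_of_quotient (A'' : Type u) [CommRing A''] [IsLocalRing A'']
    (A : Type v) [CommRing A] [Algebra A'' A] [Algebra.IsIntegral A'' A]
    (I : Ideal A'') (hI : I ≤ maximalIdeal A'')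
    [IsLocalRing (A ⧸ I.map (algebraMap A'' A))] : IsLocalRing A := by
  apply IsLocalRing.of_unique_max_ideal
  have hmax : ((maximalIdeal (A ⧸ I.map (algebraMap A'' A))).comap
      (Ideal.Quotient.mk (I.map (algebraMap A'' A)))).IsMaximal :=
    Ideal.comap_isMaximal_of_surjective _ Ideal.Quotient.mk_surjective
  refine ⟨_, hmax, fun M hM => ?_⟩
  haveI := hM
  have hJM : I.map (algebraMap A'' A) ≤ M :=
    (Ideal.map_mono hI).trans (HensInt.map_maximalIdeal_le_of_isMaximal A'' A M)
  have hle : M ≤ (maximalIdeal (A ⧸ I.map (algebraMap A'' A))).comap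
      (Ideal.Quotient.mk (I.map (algebraMap A'' A))) := by
    intro x hx
    rw [Ideal.mem_comap, mem_maximalIdeal, mem_nonunits_iff]
    intro hu
    obtain ⟨y, hy⟩ := hu.exists_right_inv
    obtain ⟨y, rfl⟩ := Ideal.Quotient.mk_surjective y
    rw [← map_mul, ← map_one (Ideal.Quotient.mk (I.map (algebraMap A'' A))),
      Ideal.Quotient.mk_eq_mk_iff_sub_mem] at hy
    have h1 : (1 : A) ∈ M := by
      have h2 : (1 : A) = x * y - (x * y - 1) := by ring
      rw [h2]
      exact M.sub_mem (M.mul_mem_right _ hx) (hJM hy)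
    exact hM.ne_top ((Ideal.eq_top_iff_one M).mpr h1)
  exact hM.eq_of_le hmax.ne_top hle

/-- An augmented unramified algebra of finite type: the augmentation ideal is killed by an
idempotent `u` with `ε u = 1`. -/
theorem exists_idempotent_of_formallyUnramified (R : Type u) [CommRing R]
    (B : Type v) [CommRing B] [Algebra R B] [Algebra.EssFiniteType R B]
    [Algebra.FormallyUnramified R B] (ε : B →ₐ[R] R) :
    ∃ u : B, IsIdempotentElem u ∧ ε u = 1 ∧ ∀ x : B, ε x = 0 → x * u = 0 := by
  let u : B := rho R B B ε (Algebra.FormallyUnramified.elem R B)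
  have h1 : ∀ s : B, (algebraMap R B (ε s) - s) * u = 0 := by
    intro s
    have := congrArg (rho R B B ε)
      (Algebra.FormallyUnramified.one_tmul_sub_tmul_one_mul_elem (R := R) (S := B) s)
    rw [map_mul, map_sub, map_zero, rho_tmul, rho_tmul, one_mul, map_one, map_one, mul_one] at this
    exact this
  have h2 : ε u = 1 := by
    have hcomp : ε.comp (rho R B B ε) = ε.comp (Algebra.TensorProduct.lmul' R) := by
      apply Algebra.TensorProduct.ext'
      intro x y
      simp [Algebra.TensorProduct.lmul'_apply_tmul]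
    have := congrArg (fun f : B ⊗[R] B →ₐ[R] R => f (Algebra.FormallyUnramified.elem R B)) hcomp
    simp only [AlgHom.comp_apply] at this
    rw [Algebra.FormallyUnramified.lmul_elem, map_one] at this
    exact this
  refine ⟨u, ?_, h2, ?_⟩
  · have := h1 u
    rw [h2, map_one, sub_mul, one_mul, sub_eq_zero] at this
    exact this.symm
  · intro x hx
    have := h1 x
    rw [hx, map_zero, zero_sub, neg_mul, neg_eq_zero] at this
    exact this

section hopf

variable (R : Type u) [CommRing R] (A : Type v) [CommRing A] [HopfAlgebra R A]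

/-- `δ(a) = Σ a₁ ⊗ S(a₂)`, the comorphism of `(g, h) ↦ g h⁻¹`. -/
noncomputable def delta : A →ₐ[R] A ⊗[R] A :=
  (toConv (Algebra.TensorProduct.includeLeft : A →ₐ[R] A ⊗[R] A) *
    toConv ((Algebra.TensorProduct.includeRight : A →ₐ[R] A ⊗[R] A).comp
      (HopfAlgebra.antipodeAlgHom R A))).ofConv

theorem lmul'_delta (a : A) :
    Algebra.TensorProduct.lmul' R (delta R A a) = algebraMap R A (Coalgebra.counit a) := by
  have h : (Algebra.TensorProduct.lmul' R).comp (delta R A) =
      (1 : WithConv (A →ₐ[R] A)).ofConv := by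
    unfold delta
    rw [AlgHom.comp_convMul_distrib]
    have h1 : (Algebra.TensorProduct.lmul' (S := A) R).comp
        (toConv (Algebra.TensorProduct.includeLeft : A →ₐ[R] A ⊗[R] A)).ofConv = AlgHom.id R A := by
      ext x; simp
    have h2 : (Algebra.TensorProduct.lmul' (S := A) R).comp
        (toConv ((Algebra.TensorProduct.includeRight : A →ₐ[R] A ⊗[R] A).comp
          (HopfAlgebra.antipodeAlgHom R A))).ofConv =
        (AlgHom.id R A).comp (HopfAlgebra.antipodeAlgHom R A) := by
      ext x; simp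
    rw [h1, h2]
    have h3 : toConv (AlgHom.id R A) * toConv ((AlgHom.id R A).comp (HopfAlgebra.antipodeAlgHom R A))
        = 1 := mul_inv_cancel (toConv (AlgHom.id R A))
    rw [h3]
  exact congrArg (fun f : A →ₐ[R] A => f a) h

theorem delta_mul_includeRight :
    toConv (delta R A) * toConv (Algebra.TensorProduct.includeRight : A →ₐ[R] A ⊗[R] A) =
      toConv (Algebra.TensorProduct.includeLeft : A →ₐ[R] A ⊗[R] A) := by
  unfold delta
  rw [toConv_ofConv, mul_assoc]
  have h1 : toConv ((Algebra.TensorProduct.includeRight : A →ₐ[R] A ⊗[R] A).comp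
        (HopfAlgebra.antipodeAlgHom R A)) *
      toConv (Algebra.TensorProduct.includeRight : A →ₐ[R] A ⊗[R] A) = 1 := by
    have h2 := AlgHom.comp_convMul_distrib (Algebra.TensorProduct.includeRight : A →ₐ[R] A ⊗[R] A)
      (toConv (HopfAlgebra.antipodeAlgHom R A)) (toConv (AlgHom.id R A))
    rw [AlgHom.antipode_id_cancel] at h2
    simp only [ofConv_toConv, AlgHom.comp_id] at h2
    apply WithConv.ofConv_injective
    rw [← h2]
    ext x
    simp [AlgHom.convOne_def, Algebra.ofId_apply, Algebra.TensorProduct.algebraMap_apply]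
  rw [h1, mul_one]

/-- If the augmentation ideal of a Hopf algebra `A` is killed by an element `e` with `ε e = 1`,
then `A` is unramified over `R`. -/
theorem formallyUnramified_of_counit_ker [Algebra.EssFiniteType R A] (e : A)
    (hε : Coalgebra.counit (R := R) e = 1)
    (hker : ∀ x : A, Coalgebra.counit (R := R) x = 0 → x * e = 0) :
    Algebra.FormallyUnramified R A := by
  rw [Algebra.FormallyUnramified.iff_exists_tensorProduct]
  refine ⟨delta R A e, ?_, ?_⟩
  · intro s
    have h1 := congrArg (fun f : WithConv (A →ₐ[R] A ⊗[R] A) => f.ofConv s)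
      (delta_mul_includeRight R A)
    have h2 : (1 : WithConv (A →ₐ[R] A ⊗[R] A)) *
        toConv (Algebra.TensorProduct.includeRight : A →ₐ[R] A ⊗[R] A) =
        toConv (Algebra.TensorProduct.includeRight : A →ₐ[R] A ⊗[R] A) := one_mul _
    have h2' := congrArg (fun f : WithConv (A →ₐ[R] A ⊗[R] A) => f.ofConv s) h2
    simp only [ofConv_toConv] at h1 h2'
    have h1' : (toConv (delta R A) *
        toConv (Algebra.TensorProduct.includeRight : A →ₐ[R] A ⊗[R] A)) s = s ⊗ₜ[R] 1 := h1
    have h2'' : ((1 : WithConv (A →ₐ[R] A ⊗[R] A)) *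
        toConv (Algebra.TensorProduct.includeRight : A →ₐ[R] A ⊗[R] A)) s = 1 ⊗ₜ[R] s := h2'
    rw [AlgHom.convMul_apply] at h1' h2''
    obtain ⟨ι, t, l, r, hrepr⟩ : ∃ (ι : Type v) (t : Finset ι) (l r : ι → A),
        Coalgebra.comul (R := R) s = ∑ i ∈ t, l i ⊗ₜ[R] r i := by
      let 𝓡 := Coalgebra.Repr.arbitrary R s
      exact ⟨_, 𝓡.index, 𝓡.left, 𝓡.right, 𝓡.eq.symm⟩
    rw [hrepr, map_sum] at h1' h2''
    simp only [Algebra.TensorProduct.lift_tmul, ofConv_toConv] at h1' h2''
    rw [← h1', ← h2'', ← Finset.sum_sub_distrib, Finset.sum_mul]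
    apply Finset.sum_eq_zero
    intro i _
    have h3 : ((1 : WithConv (A →ₐ[R] A ⊗[R] A)).ofConv (l i)) =
        delta R A (algebraMap R A (Coalgebra.counit (l i))) := by
      rw [AlgHom.commutes]; rfl
    rw [h3, ← sub_mul, mul_right_comm, ← map_sub, ← map_mul, hker, map_zero, zero_mul]
    rw [map_sub, Bialgebra.counit_algebraMap, sub_self]
  · rw [lmul'_delta, hε, map_one]

end hopf

/-- Uniqueness of the unit-component idempotent modulo `J`. -/
theorem mk_eq_mk_of_unitIdempotents {R : Type u} [CommRing R] [Nontrivial R]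
    {A : Type v} [CommRing A] (J : Ideal A) (ε : A →+* R) (hJ : ∀ a ∈ J, ε a = 0) (x y : A)
    (hx : IsIdempotentElem (Ideal.Quotient.mk J x)) (hy : IsIdempotentElem (Ideal.Quotient.mk J y))
    (hεx : ε x = 1) (hεy : ε y = 1)
    [IsLocalRing (A ⧸ (J ⊔ Ideal.span ({1 - x} : Set A)))]
    [IsLocalRing (A ⧸ (J ⊔ Ideal.span ({1 - y} : Set A)))] :
    Ideal.Quotient.mk J x = Ideal.Quotient.mk J y := by
  -- key: for such `x`, `y`: `x - x * y ∈ J`
  have key : ∀ (x y : A), IsIdempotentElem (Ideal.Quotient.mk J x) →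
      IsIdempotentElem (Ideal.Quotient.mk J y) → ε x = 1 → ε y = 1 →
      IsLocalRing (A ⧸ (J ⊔ Ideal.span ({1 - x} : Set A))) → x - x * y ∈ J := by
    intro x y hx hy hεx hεy hloc
    have hyid : IsIdempotentElem (Ideal.Quotient.mk (J ⊔ Ideal.span ({1 - x} : Set A)) y) := by
      have h1 : y * y - y ∈ J := by
        rw [← Ideal.Quotient.mk_eq_mk_iff_sub_mem, map_mul]; exact hy
      have h2 : y * y - y ∈ J ⊔ Ideal.span ({1 - x} : Set A) := Ideal.mem_sup_left h1
      rw [← Ideal.Quotient.mk_eq_mk_iff_sub_mem, map_mul] at h2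
      exact h2
    have hker : ∀ a ∈ J ⊔ Ideal.span ({1 - x} : Set A), ε a = 0 := by
      intro a ha
      obtain ⟨j, hj, b, hb, rfl⟩ := Submodule.mem_sup.mp ha
      obtain ⟨c, rfl⟩ := Ideal.mem_span_singleton'.mp hb
      rw [map_add, hJ j hj, map_mul, map_sub, map_one, hεx, sub_self, mul_zero, add_zero]
    have hne : Ideal.Quotient.mk (J ⊔ Ideal.span ({1 - x} : Set A)) y ≠ 0 := by
      intro h0
      rw [Ideal.Quotient.eq_zero_iff_mem] at h0
      have := hker y h0
      rw [hεy] at this
      exact one_ne_zero this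
    have h1 := eq_one_of_isIdempotentElem_of_ne_zero hyid hne
    rw [← map_one (Ideal.Quotient.mk (J ⊔ Ideal.span ({1 - x} : Set A))),
      Ideal.Quotient.mk_eq_mk_iff_sub_mem] at h1
    obtain ⟨j, hj, b, hb, hsum⟩ := Submodule.mem_sup.mp h1
    obtain ⟨c, rfl⟩ := Ideal.mem_span_singleton'.mp hb
    have hxx : x * x - x ∈ J := by
      rw [← Ideal.Quotient.mk_eq_mk_iff_sub_mem, map_mul]; exact hx
    have h3 : x - x * y = -(x * j) + c * (x * x - x) := by
      have : x * (y - 1) = x * (j + c * (1 - x)) := by rw [hsum]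
      linear_combination (-1 : A) * this
    rw [h3]
    exact J.add_mem (J.neg_mem (J.mul_mem_left _ hj)) (J.mul_mem_left _ hxx)
  have h1 := key x y hx hy hεx hεy inferInstance
  have h2 := key y x hy hx hεy hεx inferInstance
  rw [← Ideal.Quotient.mk_eq_mk_iff_sub_mem] at h1 h2
  rw [h1, h2, mul_comm]

end Groth.Agent.Lib.Helper12.ConnEtE
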