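import Mathlib
import Groth.Agent.Lib.Helper12.ConnEtE

/-!
# Connected–étale sequence, part F: the unit component of an extension
-/

set_option autoImplicit false
universe u v w

namespace Groth.Agent.Lib.Helper12.ConnEtF

open TensorProduct IsLocalRing ConnEtA ConnEtB ConnEtD ConnEtE

/-- `A ⧸ (1 - e)` is flat over any ring over which `A` is flat. -/
theorem flat_quotient_idempotent (S : Type u) [CommRing S] (A : Type v) [CommRing A] [Algebra S A]
    [Module.Flat S A] {e : A} (he : IsIdempotentElem e) :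
    Module.Flat S (A ⧸ Ideal.span ({1 - e} : Set A)) := by
  have hloc : IsLocalization.Away e (A ⧸ Ideal.span ({1 - e} : Set A)) :=
    IsLocalization.Away.quotient_of_isIdempotentElem he
  have hfl : Module.Flat A (A ⧸ Ideal.span ({1 - e} : Set A)) :=
    IsLocalization.flat (A ⧸ Ideal.span ({1 - e} : Set A)) (Submonoid.powers e)
  exact Module.Flat.trans S A (A ⧸ Ideal.span ({1 - e} : Set A))

section

variable {R : Type u} [CommRing R] [Nontrivial R] {A : Type v} [CommRing A] [Algebra R A]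
  (ε : A →ₐ[R] R) (J : Ideal A) (hJ : ∀ a ∈ J, ε a = 0) (e : A) (hεe : ε e = 1)

include hJ hεe in
theorem eps_eq_zero_of_mem_sup {a : A} (ha : a ∈ J ⊔ Ideal.span ({1 - e} : Set A)) : ε a = 0 := by
  obtain ⟨j, hj, b, hb, rfl⟩ := Submodule.mem_sup.mp ha
  obtain ⟨c, rfl⟩ := Ideal.mem_span_singleton'.mp hb
  rw [map_add, hJ j hj, map_mul, map_sub, map_one, hεe, sub_self, mul_zero, add_zero]

include hJ hεe in
/-- `A ⧸ (J + (1 - e))` is local when `A ⧸ (1 - e)` is. -/
theorem isLocalRing_quotient_sup [IsLocalRing (A ⧸ Ideal.span ({1 - e} : Set A))] :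
    IsLocalRing (A ⧸ (J ⊔ Ideal.span ({1 - e} : Set A))) := by
  haveI : Nontrivial (A ⧸ (J ⊔ Ideal.span ({1 - e} : Set A))) := by
    rw [Ideal.Quotient.nontrivial_iff]
    intro htop
    have h1 : (1 : A) ∈ J ⊔ Ideal.span ({1 - e} : Set A) := htop ▸ Submodule.mem_top
    have := eps_eq_zero_of_mem_sup ε J hJ e hεe h1
    rw [map_one] at this
    exact one_ne_zero this
  exact IsLocalRing.of_surjective'
    (Ideal.Quotient.factor (le_sup_right : Ideal.span ({1 - e} : Set A) ≤ J ⊔ Ideal.span {1 - e}))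
    (Ideal.Quotient.factor_surjective _)

include hJ hεe in
/-- If `A ⧸ J` is unramified of finite type over `R` and `A ⧸ (1 - e)` is local, then
`A = R + J + (1 - e)`. -/
theorem sub_algebraMap_mem_sup [IsLocalRing (A ⧸ Ideal.span ({1 - e} : Set A))]
    [Algebra.EssFiniteType R (A ⧸ J)] [Algebra.FormallyUnramified R (A ⧸ J)] (a : A) :
    a - algebraMap R A (ε a) ∈ J ⊔ Ideal.span ({1 - e} : Set A) := by
  haveI := isLocalRing_quotient_sup ε J hJ e hεe
  have hker := fun a (ha : a ∈ J ⊔ Ideal.span ({1 - e} : Set A)) =>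
    eps_eq_zero_of_mem_sup ε J hJ e hεe ha
  have hle : J ≤ J ⊔ Ideal.span ({1 - e} : Set A) := le_sup_left
  have hsurj : Function.Surjective (Ideal.Quotient.factorₐ R hle) :=
    Ideal.Quotient.factor_surjective hle
  haveI : Algebra.FormallyUnramified R (A ⧸ (J ⊔ Ideal.span ({1 - e} : Set A))) :=
    Algebra.FormallyUnramified.of_surjective _ hsurj
  haveI : Algebra.EssFiniteType R (A ⧸ (J ⊔ Ideal.span ({1 - e} : Set A))) :=
    Algebra.EssFiniteType.of_surjective _ hsurj
  let εB : A ⧸ (J ⊔ Ideal.span ({1 - e} : Set A)) →ₐ[R] R :=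
    Ideal.Quotient.liftₐ _ ε hker
  obtain ⟨u, huid, huε, huker⟩ := exists_idempotent_of_formallyUnramified R _ εB
  have hu1 : u = 1 := by
    apply eq_one_of_isIdempotentElem_of_ne_zero huid
    intro h0
    rw [h0, map_zero] at huε
    exact zero_ne_one huε
  rw [← Ideal.Quotient.eq_zero_iff_mem]
  have h1 := huker (Ideal.Quotient.mk _ (a - algebraMap R A (ε a))) ?_
  · rwa [hu1, mul_one] at h1
  · change ε (a - algebraMap R A (ε a)) = 0
    rw [map_sub, AlgHom.commutes, Algebra.algebraMap_self_apply, sub_self]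

end

end Groth.Agent.Lib.Helper12.ConnEtF
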