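import Groth.Agent.Lib.Helper12.IdemLift
import Mathlib.RingTheory.AdjoinRoot

set_option autoImplicit false
universe u v

/-!
# Coprimality lifts modulo an ideal in the Jacobson radical (one factor monic)
-/

namespace Groth.Agent.Lib.Helper12

open Polynomial

variable {A : Type*} [CommRing A] {I : Ideal A}

theorem isCoprime_of_isCoprime_map_mk_of_monic (hjac : I ≤ Ideal.jacobson ⊥) {g h : A[X]}
    (hg : g.Monic)
    (hcop : IsCoprime (g.map (Ideal.Quotient.mk I)) (h.map (Ideal.Quotient.mk I))) :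
    IsCoprime g h := by
  obtain ⟨r₀, s₀, hrs⟩ := hcop
  obtain ⟨r, rfl⟩ := Polynomial.map_surjective _ Ideal.Quotient.mk_surjective r₀
  obtain ⟨s, rfl⟩ := Polynomial.map_surjective _ Ideal.Quotient.mk_surjective s₀
  haveI : Module.Finite A (AdjoinRoot g) := hg.finite_adjoinRoot
  set w : A[X] := r * g + s * h - 1 with hw
  have hwmap : w.map (Ideal.Quotient.mk I) = 0 := by
    rw [hw, Polynomial.map_sub, Polynomial.map_add, Polynomial.map_mul, Polynomial.map_mul,
      Polynomial.map_one, hrs, sub_self]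
  have hwmem : AdjoinRoot.mk g w ∈ I.map (algebraMap A (AdjoinRoot g)) := by
    have := aeval_mem_map_of_coeff_mem (coeff_mem_of_map_mk_eq_zero hwmap) (AdjoinRoot.root g)
    rwa [AdjoinRoot.aeval_eq] at this
  let N : Submodule A (AdjoinRoot g) :=
    (Ideal.span {AdjoinRoot.mk g h}).restrictScalars A
  have htop : (⊤ : Submodule A (AdjoinRoot g)) ≤ N := by
    apply Submodule.le_of_le_smul_of_le_jacobson_bot Module.Finite.fg_top hjac
    intro x _
    have e : x = x * AdjoinRoot.mk g s * AdjoinRoot.mk g h + (-(x * AdjoinRoot.mk g w)) := by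
      have : AdjoinRoot.mk g w = AdjoinRoot.mk g s * AdjoinRoot.mk g h - 1 := by
        rw [hw, map_sub, map_add, map_mul, map_mul, AdjoinRoot.mk_self, mul_zero, zero_add,
          map_one]
      rw [this]
      ring
    rw [e]
    refine Submodule.add_mem_sup ?_ ?_
    · show _ ∈ Ideal.span {AdjoinRoot.mk g h}
      exact Ideal.mul_mem_left _ _ (Ideal.mem_span_singleton_self _)
    · rw [Ideal.smul_top_eq_map]
      show _ ∈ I.map (algebraMap A (AdjoinRoot g))
      exact Ideal.neg_mem_iff _ |>.mpr (Ideal.mul_mem_left _ _ hwmem)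
  have h1 : (1 : AdjoinRoot g) ∈ Ideal.span {AdjoinRoot.mk g h} := htop Submodule.mem_top
  obtain ⟨t', ht'⟩ := Ideal.mem_span_singleton'.mp h1
  obtain ⟨t, rfl⟩ := AdjoinRoot.mk_surjective t'
  rw [← map_mul, ← map_one (AdjoinRoot.mk g), AdjoinRoot.mk_eq_mk] at ht'
  obtain ⟨c, hc⟩ := ht'
  exact ⟨-c, t, by linear_combination hc⟩

end Groth.Agent.Lib.Helper12
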