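import Mathlib

/-! In a Noetherian space with the ascending chain condition on irreducible closed subsets, every
dense subset contains a countable dense subset. -/

namespace Groth.Agent.Lib.Helper12.CountableDense

open TopologicalSpace Set

variable {X : Type*} [TopologicalSpace X]

/-- An irreducible set inside a finite union of closed sets lies in one of them. -/
theorem exists_subset_of_finite {Z : Set X} (hZ : IsIrreducible Z) (F : Set (Set X))
    (hF : F.Finite) (hcl : ∀ t ∈ F, IsClosed t) (hsub : Z ⊆ ⋃₀ F) : ∃ t ∈ F, Z ⊆ t := by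
  obtain ⟨t, ht, h⟩ := isIrreducible_iff_sUnion_isClosed.mp hZ hF.toFinset
    (fun z hz => hcl z (hF.mem_toFinset.1 hz)) (by rwa [hF.coe_toFinset])
  exact ⟨t, hF.mem_toFinset.1 ht, h⟩

theorem isClosed_sUnion_of_finite (F : Set (Set X)) (hF : F.Finite)
    (hcl : ∀ t ∈ F, IsClosed t) : IsClosed (⋃₀ F) := by
  rw [sUnion_eq_biUnion]
  exact hF.isClosed_biUnion hcl

variable [NoetherianSpace X] [hwf : WellFoundedGT (IrreducibleCloseds X)]

theorem main_aux (Z : Closeds X) : ∀ S : Set X, S ⊆ Z → (Z : Set X) ⊆ closure S →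
    ∃ T : Set X, T ⊆ S ∧ T.Countable ∧ (Z : Set X) ⊆ closure T := by
  induction Z using WellFoundedLT.induction with
  | ind Z IH =>
  intro S hSZ hZS
  by_cases hirr : IsIrreducible (Z : Set X)
  · -- irreducible case
    by_cases hA : ∃ s ∈ S, (Z : Set X) ⊆ closure {s}
    · obtain ⟨s, hs, hZs⟩ := hA
      exact ⟨{s}, singleton_subset_iff.2 hs, countable_singleton s, hZs⟩
    push Not at hA
    let 𝒢 : Set (IrreducibleCloseds X) :=
      {G | (G : Set X) ⊂ Z ∧ (G : Set X) ⊆ closure ((G : Set X) ∩ S)}
    let 𝒢max : Set (IrreducibleCloseds X) := {G | G ∈ 𝒢 ∧ ∀ G' ∈ 𝒢, G ≤ G' → G' = G}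
    have hpt : ∀ s ∈ S, ∃ G ∈ 𝒢max, s ∈ (G : Set X) := by
      intro s hs
      let Gs : IrreducibleCloseds X :=
        ⟨closure {s}, isIrreducible_singleton.closure, isClosed_closure⟩
      have hGs : Gs ∈ 𝒢 := by
        refine ⟨⟨closure_minimal (singleton_subset_iff.2 (hSZ hs)) Z.isClosed, hA s hs⟩, ?_⟩
        apply closure_mono
        rw [singleton_subset_iff]
        exact ⟨subset_closure rfl, hs⟩
      obtain ⟨G, ⟨hG1, hG2⟩, hGmax⟩ := hwf.wf.has_min {G | G ∈ 𝒢 ∧ Gs ≤ G} ⟨Gs, hGs, le_rfl⟩
      refine ⟨G, ⟨hG1, fun G' hG' hle => ?_⟩, hG2 (subset_closure rfl)⟩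
      by_contra hne
      exact hGmax G' ⟨hG', le_trans hG2 hle⟩ (lt_of_le_of_ne hle (Ne.symm hne))
    have hinf : 𝒢max.Infinite := by
      intro hfin
      have h1 : (Z : Set X) ⊆ ⋃₀ ((fun G : IrreducibleCloseds X => (G : Set X)) '' 𝒢max) := by
        have h2 : S ⊆ ⋃₀ ((fun G : IrreducibleCloseds X => (G : Set X)) '' 𝒢max) := by
          intro s hs
          obtain ⟨G, hG, hsG⟩ := hpt s hs
          exact ⟨G, ⟨G, hG, rfl⟩, hsG⟩
        refine hZS.trans (closure_minimal h2 ?_)
        exact isClosed_sUnion_of_finite _ (hfin.image _) (by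
          rintro _ ⟨G, -, rfl⟩
          exact G.isClosed)
      obtain ⟨t, ⟨G, hG, rfl⟩, hZt⟩ := exists_subset_of_finite hirr _ (hfin.image _)
        (by rintro _ ⟨G, -, rfl⟩; exact G.isClosed) h1
      exact hG.1.1.2 hZt
    let g : ℕ → IrreducibleCloseds X := fun k => (hinf.natEmbedding 𝒢max k).1
    have hg : ∀ k, g k ∈ 𝒢max := fun k => (hinf.natEmbedding 𝒢max k).2
    have hginj : Function.Injective g := fun a b hab =>
      (hinf.natEmbedding 𝒢max).injective (Subtype.ext hab)
    have hW : (Z : Set X) ⊆ closure (⋃ k, (g k : Set X)) := by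
      by_contra hcon
      obtain ⟨F, hFfin, hFcl, hFirr, hFeq⟩ :=
        NoetherianSpace.exists_finite_set_isClosed_irreducible
          (isClosed_closure : IsClosed (closure (⋃ k, (g k : Set X))))
      have hWZ : closure (⋃ k, (g k : Set X)) ⊆ Z :=
        closure_minimal (iUnion_subset fun k => (hg k).1.1.1) Z.isClosed
      -- each member of F lies in Z properly
      have hFZ : ∀ t ∈ F, t ⊂ (Z : Set X) := by
        intro t ht
        have h1 : t ⊆ closure (⋃ k, (g k : Set X)) := by
          rw [hFeq]
          exact subset_sUnion_of_mem ht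
        refine ⟨h1.trans hWZ, fun h2 => hcon (h2.trans h1)⟩
      -- every maximal member of F satisfies the density condition
      have hmaxcond : ∀ t ∈ F, (∀ t' ∈ F, t ⊆ t' → t' = t) → t ⊆ closure (t ∩ S) := by
        intro t ht htmax
        have h1 : t ⊆ ⋃₀ ((fun t' => closure (t' ∩ S)) '' F) := by
          have h2 : t ⊆ closure (⋃ k, (g k : Set X)) := by
            rw [hFeq]
            exact subset_sUnion_of_mem ht
          refine h2.trans (closure_minimal ?_ (isClosed_sUnion_of_finite _ (hFfin.image _) (by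
            rintro _ ⟨t', -, rfl⟩
            exact isClosed_closure)))
          apply iUnion_subset
          intro k
          obtain ⟨t', ht', hkt'⟩ := exists_subset_of_finite (g k).isIrreducible F hFfin hFcl
            (by rw [← hFeq]; exact (subset_iUnion (fun k => (g k : Set X)) k).trans subset_closure)
          refine (hg k).1.2.trans ?_
          refine subset_trans ?_ (subset_sUnion_of_mem ⟨t', ht', rfl⟩)
          exact closure_mono (inter_subset_inter_left S hkt')
        obtain ⟨_, ⟨t', ht', rfl⟩, htt'⟩ := exists_subset_of_finite (hFirr t ht) _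
          (hFfin.image _) (by rintro _ ⟨t', -, rfl⟩; exact isClosed_closure) h1
        have h3 : closure (t' ∩ S) ⊆ t' :=
          closure_minimal inter_subset_left (hFcl t' ht')
        have h4 : t' = t := htmax t' ht' (htt'.trans h3)
        rw [h4] at htt'
        exact htt'
      -- each g k equals a maximal member of F
      have hgF : ∀ k, (g k : Set X) ∈ F := by
        intro k
        obtain ⟨t', ht', hkt'⟩ := exists_subset_of_finite (g k).isIrreducible F hFfin hFcl
          (by rw [← hFeq]; exact (subset_iUnion (fun k => (g k : Set X)) k).trans subset_closure)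
        obtain ⟨t, htt', htmax⟩ := hFfin.exists_le_maximal ht'
        have htF : t ∈ F := htmax.prop
        let G' : IrreducibleCloseds X := ⟨t, hFirr t htF, hFcl t htF⟩
        have hG' : G' ∈ 𝒢 := ⟨hFZ t htF, hmaxcond t htF (fun t'' ht'' hle =>
          le_antisymm (htmax.le_of_ge ht'' hle) hle)⟩
        have h5 : G' = g k := (hg k).2 G' hG' (hkt'.trans htt')
        rw [← h5]
        exact htF
      exact (Set.infinite_range_of_injective (f := fun k => (g k : Set X))
        (fun a b hab => hginj (SetLike.coe_injective hab))) (hFfin.subset (by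
          rintro _ ⟨k, rfl⟩
          exact hgF k))
    have hTk : ∀ k, ∃ T : Set X, T ⊆ (g k : Set X) ∩ S ∧ T.Countable ∧
        (g k : Set X) ⊆ closure T := by
      intro k
      have hlt : (⟨(g k : Set X), (g k).isClosed⟩ : Closeds X) < Z := (hg k).1.1
      exact IH ⟨(g k : Set X), (g k).isClosed⟩ hlt ((g k : Set X) ∩ S) inter_subset_left (hg k).1.2
    choose T hT1 hT2 hT3 using hTk
    refine ⟨⋃ k, T k, iUnion_subset fun k => (hT1 k).trans inter_subset_right,
      countable_iUnion hT2, hW.trans (closure_minimal ?_ isClosed_closure)⟩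
    exact iUnion_subset fun k => (hT3 k).trans (closure_mono (subset_iUnion T k))
  · -- reducible or empty case
    by_cases hne : (Z : Set X).Nonempty
    · have hpre : ¬ IsPreirreducible (Z : Set X) := fun h => hirr ⟨hne, h⟩
      simp only [isPreirreducible_iff_isClosed_union_isClosed, not_forall, not_or] at hpre
      obtain ⟨z₁, z₂, hz₁, hz₂, h, hz₁', hz₂'⟩ := hpre
      have key : ∀ z : Set X, IsClosed z → ¬ (Z : Set X) ⊆ z →
          ∃ T : Set X, T ⊆ S ∩ z ∧ T.Countable ∧ closure (S ∩ z) ⊆ closure T := by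
        intro z hz hZz
        have hle : closure (S ∩ z) ⊆ (Z : Set X) ∩ z :=
          closure_minimal (inter_subset_inter_left z hSZ) (Z.isClosed.inter hz)
        have hlt : (⟨closure (S ∩ z), isClosed_closure⟩ : Closeds X) < Z := by
          refine lt_of_le_of_ne (fun x hx => (hle hx).1) ?_
          intro heq
          apply hZz
          intro x hx
          have : x ∈ closure (S ∩ z) := by
            have h1 : x ∈ ((⟨closure (S ∩ z), isClosed_closure⟩ : Closeds X) : Set X) := by
              rw [heq]; exact hx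
            exact h1
          exact (hle this).2
        exact IH ⟨closure (S ∩ z), isClosed_closure⟩ hlt (S ∩ z) subset_closure subset_rfl
      obtain ⟨T₁, hT₁, hT₁c, hT₁d⟩ := key z₁ hz₁ hz₁'
      obtain ⟨T₂, hT₂, hT₂c, hT₂d⟩ := key z₂ hz₂ hz₂'
      refine ⟨T₁ ∪ T₂, union_subset (hT₁.trans inter_subset_left) (hT₂.trans inter_subset_left),
        hT₁c.union hT₂c, ?_⟩
      have h1 : S ⊆ (S ∩ z₁) ∪ (S ∩ z₂) := by
        intro s hs
        rcases h (hSZ hs) with h2 | h2
        · exact Or.inl ⟨hs, h2⟩
        · exact Or.inr ⟨hs, h2⟩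
      refine hZS.trans ((closure_mono h1).trans ?_)
      rw [closure_union, closure_union]
      exact union_subset_union hT₁d hT₂d
    · refine ⟨∅, empty_subset _, countable_empty, ?_⟩
      rw [not_nonempty_iff_eq_empty] at hne
      rw [hne]
      exact empty_subset _

theorem main (S : Set X) (hS : Dense S) : ∃ T : Set X, T ⊆ S ∧ T.Countable ∧ Dense T := by
  obtain ⟨T, h1, h2, h3⟩ := main_aux (⊤ : Closeds X) S (subset_univ _)
    (by rw [hS.closure_eq]; exact subset_univ _)
  refine ⟨T, h1, h2, ?_⟩
  rw [dense_iff_closure_eq]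
  exact eq_univ_of_univ_subset h3

end Groth.Agent.Lib.Helper12.CountableDense
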