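import Mathlib
import Groth.Agent.Lib.Helper12.CountableDenseA
import Groth.Agent.Lib.Helper12.AlgClosedCover

/-! A dense subset of a Noetherian scheme contains a countable dense subset. -/

namespace Groth.Agent.Lib.Helper12.CountableDense

open TopologicalSpace Set CategoryTheory AlgebraicGeometry

universe u

instance wellFoundedLT_primeSpectrum (A : Type*) [CommRing A] [IsNoetherianRing A] :
    WellFoundedLT (PrimeSpectrum A) := by
  refine ⟨Subrelation.wf (r := InvImage (· < ·) (fun p : PrimeSpectrum A => p.asIdeal.height.toNat))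
    ?_ (InvImage.wf _ Nat.lt_wfRel.wf)⟩
  intro p q hpq
  have h1 : p.asIdeal < q.asIdeal := hpq
  have h2 : p.asIdeal.height < q.asIdeal.height :=
    Ideal.height_strict_mono_of_isPrime_of_isPrime h1
  have h3 : q.asIdeal.height ≠ ⊤ := Ideal.height_ne_top_of_isPrime
  have hp : ((p.asIdeal.height.toNat : ℕ) : ℕ∞) = p.asIdeal.height :=
    ENat.coe_toNat (ne_top_of_lt h2)
  have hq : ((q.asIdeal.height.toNat : ℕ) : ℕ∞) = q.asIdeal.height := ENat.coe_toNat h3
  show p.asIdeal.height.toNat < q.asIdeal.height.toNat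
  exact (Nat.cast_lt (α := ℕ∞)).1 (by rw [hp, hq]; exact h2)

instance wellFoundedGT_irreducibleCloseds (A : Type*) [CommRing A] [IsNoetherianRing A] :
    WellFoundedGT (IrreducibleCloseds (PrimeSpectrum A)) := by
  have h1 : WellFoundedLT (IrreducibleCloseds (PrimeSpectrum A))ᵒᵈ :=
    (PrimeSpectrum.pointsEquivIrreducibleCloseds A).symm.toOrderEmbedding.wellFoundedLT
  exact (wellFoundedLT_dual_iff _).1 h1

theorem spec (A : Type u) [CommRing A] [IsNoetherianRing A] (S : Set (PrimeSpectrum A))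
    (hS : Dense S) : ∃ T : Set (PrimeSpectrum A), T ⊆ S ∧ T.Countable ∧ Dense T :=
  main S hS

theorem scheme (X : Scheme.{u}) [IsNoetherian X] (T : Set X) (hd : Dense T) :
    ∃ E : Set X, E ⊆ T ∧ E.Countable ∧ Dense E := by
  obtain ⟨ι, hfin, R, g, hg, hcov⟩ :=
    Groth.Agent.Lib.Helper12.AlgClosedCover.exists_finite_affine_cover X
  have key : ∀ i, ∃ Ei : Set ↥(Spec (R i)), Ei ⊆ (g i) ⁻¹' T ∧ Ei.Countable ∧ Dense Ei := by
    intro i
    haveI := hg i
    haveI : IsLocallyNoetherian (Spec (R i)) := isLocallyNoetherian_of_isOpenImmersion (g i)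
    haveI : IsNoetherianRing (R i) := isLocallyNoetherian_Spec.1 inferInstance
    exact spec (R i) ((g i) ⁻¹' T) (hd.preimage (g i).isOpenEmbedding.isOpenMap)
  choose E hE1 hE2 hE3 using key
  refine ⟨⋃ i, (g i) '' (E i), ?_, ?_, ?_⟩
  · apply iUnion_subset
    rintro i _ ⟨y, hy, rfl⟩
    exact hE1 i hy
  · exact countable_iUnion fun i => (hE2 i).image _
  · rw [dense_iff_closure_eq]
    apply eq_univ_of_univ_subset
    intro x _
    obtain ⟨i, y, rfl⟩ := hcov x
    have h1 : (g i) y ∈ (g i) '' closure (E i) := ⟨y, by rw [(hE3 i).closure_eq]; trivial, rfl⟩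
    have h2 := image_closure_subset_closure_image (g i).continuous h1
    exact closure_mono (subset_iUnion (fun i => (g i) '' (E i)) i) h2

end Groth.Agent.Lib.Helper12.CountableDense
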