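import Mathlib

/-!
# Subalgebras of a free rank-two algebra over a DVR (crimps of double covers)

`S'` is an `R`-algebra with basis `{1, w}`, `w * w = p • 1`.  Subalgebras `S ⊆ S'` are
`R·1 + I·S'` with `I` the ideal of `w`-coordinates; over a DVR `I = (t^n)` and `S` has basis
`{1, t^n w}` with discriminant `4 t^(2n) p`.
-/

open Module

namespace Groth.Agent.Lib.Helper12.CrimpDouble

section discr2

variable {R A : Type*} [CommRing R] [CommRing A] [Algebra R A]

theorem trace_eq_sum_repr (b : Basis (Fin 2) R A) (x : A) :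
    Algebra.trace R A x = b.repr (x * b 0) 0 + b.repr (x * b 1) 1 := by
  rw [Algebra.trace_eq_matrix_trace b x, Matrix.trace, Fin.sum_univ_two]
  simp only [Matrix.diag_apply, Algebra.leftMulMatrix_eq_repr_mul]

/-- discriminant of a basis `{1, e}` with `e * e = P + Q e`. -/
theorem discr_two (b : Basis (Fin 2) R A) (h0 : b 0 = 1) (P Q : R)
    (h1 : b 1 * b 1 = P • (1 : A) + Q • b 1) :
    Algebra.discr R b = 4 * P + Q ^ 2 := by
  have T1 : Algebra.trace R A (1 : A) = 2 := by
    rw [trace_eq_sum_repr b]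
    simp only [one_mul, Basis.repr_self, Finsupp.single_eq_same]
    norm_num
  have Tb : Algebra.trace R A (b 1) = Q := by
    rw [trace_eq_sum_repr b, h1, h0, mul_one]
    have : (1 : A) = b 0 := h0.symm
    rw [this]
    simp only [map_add, map_smul, Basis.repr_self, Finsupp.coe_add, Finsupp.coe_smul, Pi.add_apply,
      Pi.smul_apply, smul_eq_mul]
    simp
  have Tbb : Algebra.trace R A (b 1 * b 1) = 2 * P + Q * Q := by
    rw [h1, map_add, map_smul, map_smul, T1, Tb]
    simp only [smul_eq_mul]; ring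
  rw [Algebra.discr_def, Matrix.det_fin_two]
  simp only [Algebra.traceMatrix_apply, Algebra.traceForm_apply, h0, one_mul, mul_one, T1, Tb, Tbb]
  ring

theorem span_discr_eq (b b' : Basis (Fin 2) R A) :
    Ideal.span {Algebra.discr R b'} = Ideal.span {Algebra.discr R b} := by
  have h := Algebra.discr_of_matrix_vecMul (A := R) (⇑b) (b.toMatrix b')
  rw [Basis.toMatrix_map_vecMul] at h
  rw [h]
  have hu : IsUnit (b.toMatrix b').det := by
    rw [← Basis.det_apply]; exact b.isUnit_det b'
  exact Ideal.span_singleton_mul_left_unit (hu.pow 2) _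

end discr2

section structure_

variable {R S' : Type*} [CommRing R] [CommRing S'] [Algebra R S']
  (bw : Basis (Fin 2) R S') (h0 : bw 0 = 1)

include h0

theorem decomp (x : S') : x = bw.repr x 0 • (1 : S') + bw.repr x 1 • bw 1 := by
  conv_lhs => rw [← bw.sum_repr x, Fin.sum_univ_two, h0]

theorem coord_one : bw.coord 1 (1 : S') = 0 := by
  rw [← h0]; simp [Basis.coord_apply]

theorem coord_w : bw.coord 1 (bw 1) = 1 := by
  simp [Basis.coord_apply]

/-- membership in `R·1 + J S'` is detected by the `w`-coordinate. -/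
theorem mem_sup_iff (J : Ideal R) (x : S') :
    x ∈ Submodule.span R {(1 : S')} ⊔ J • (⊤ : Submodule R S') ↔ bw.coord 1 x ∈ J := by
  constructor
  · intro hx
    have hle : Submodule.span R {(1 : S')} ⊔ J • (⊤ : Submodule R S') ≤
        Submodule.comap (bw.coord 1) J := by
      apply sup_le
      · rw [Submodule.span_le]
        intro y hy
        rw [Set.mem_singleton_iff] at hy
        subst hy
        show bw.coord 1 (1 : S') ∈ J
        rw [coord_one bw h0]; exact J.zero_mem
      · rw [Submodule.smul_le]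
        intro r hr n _
        show bw.coord 1 (r • n) ∈ J
        rw [map_smul]
        exact J.mul_mem_right _ hr
    exact hle hx
  · intro hx
    rw [decomp bw h0 x]
    apply Submodule.add_mem
    · exact Submodule.mem_sup_left (Submodule.smul_mem _ _ (Submodule.subset_span rfl))
    · exact Submodule.mem_sup_right (Submodule.smul_mem_smul hx Submodule.mem_top)

/-- every subalgebra is `R·1 + I S'` with `I` its ideal of `w`-coordinates. -/
theorem toSubmodule_eq (S : Subalgebra R S') :
    Subalgebra.toSubmodule S = Submodule.span R {(1 : S')} ⊔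
      ((Subalgebra.toSubmodule S).map (bw.coord 1) : Ideal R) • (⊤ : Submodule R S') := by
  ext x
  rw [mem_sup_iff bw h0]
  constructor
  · intro hx
    exact ⟨x, hx, rfl⟩
  · rintro ⟨y, hy, hxy⟩
    -- y ∈ S, same w-coordinate as x
    have hy' : y ∈ S := hy
    have hx := decomp bw h0 x
    have hyd := decomp bw h0 y
    have hc : bw.repr y 1 = bw.repr x 1 := by
      simpa [Basis.coord_apply] using hxy
    have : x = y + (bw.repr x 0 - bw.repr y 0) • (1 : S') := by
      calc x = bw.repr x 0 • (1 : S') + bw.repr x 1 • bw 1 := hx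
        _ = (bw.repr y 0 • (1 : S') + bw.repr y 1 • bw 1) +
              (bw.repr x 0 - bw.repr y 0) • (1 : S') := by rw [hc, sub_smul]; abel
        _ = y + (bw.repr x 0 - bw.repr y 0) • (1 : S') := by rw [← hyd]
    show x ∈ S
    rw [this]
    exact S.add_mem hy' (S.smul_mem S.one_mem _)

theorem mem_iff_of_eq (S : Subalgebra R S') (J : Ideal R)
    (hS : Subalgebra.toSubmodule S = Submodule.span R {(1 : S')} ⊔ J • (⊤ : Submodule R S'))
    (x : S') : x ∈ S ↔ bw.coord 1 x ∈ J := by
  rw [← mem_sup_iff bw h0 J x, ← hS]; rfl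

end structure_

section main

variable {R S' : Type*} [CommRing R] [IsDomain R] [CommRing S'] [Algebra R S']
  (bw : Basis (Fin 2) R S') (h0 : bw 0 = 1) (p : R) (hp : bw 1 * bw 1 = p • (1 : S'))
  (t : R) (ht : t ≠ 0)

include h0 in
theorem e_mem (S : Subalgebra R S') (n : ℕ)
    (hS : Subalgebra.toSubmodule S = Submodule.span R {(1 : S')} ⊔
      Ideal.span {t ^ n} • (⊤ : Submodule R S')) : t ^ n • bw 1 ∈ S := by
  rw [mem_iff_of_eq bw h0 S _ hS, map_smul, coord_w bw h0, smul_eq_mul, mul_one]
  exact Ideal.subset_span rfl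

include h0 hp ht in
/-- the basis `{1, t^n w}` of `S = R·1 + t^n S'`. -/
theorem exists_basisE (S : Subalgebra R S') (n : ℕ)
    (hS : Subalgebra.toSubmodule S = Submodule.span R {(1 : S')} ⊔
      Ideal.span {t ^ n} • (⊤ : Submodule R S')) :
    ∃ bE : Basis (Fin 2) R S, bE 0 = 1 ∧ bE 1 = ⟨t ^ n • bw 1, e_mem bw h0 t S n hS⟩ ∧
      bE 1 * bE 1 = (t ^ (2 * n) * p) • (1 : S) + (0 : R) • bE 1 := by
  set e : S := ⟨t ^ n • bw 1, e_mem bw h0 t S n hS⟩ with he
  have hli : LinearIndependent R ![(1 : S), e] := by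
    rw [LinearIndependent.pair_iff]
    intro a c hac
    have h1 : a • (bw 0) + (c * t ^ n) • bw 1 = 0 := by
      have := congrArg Subtype.val hac
      simp only [he, Subalgebra.coe_add, Subalgebra.coe_smul, Subalgebra.coe_one,
        Subalgebra.coe_zero, smul_smul] at this
      rw [h0]; exact this
    have h2 := congrArg bw.repr h1
    simp only [map_add, map_smul, Basis.repr_self, map_zero] at h2
    have h3 := DFunLike.congr_fun h2 0
    have h4 := DFunLike.congr_fun h2 1
    simp at h3 h4
    refine ⟨h3, ?_⟩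
    rcases h4 with h4 | h4
    · exact h4
    · exact absurd h4.1 ht
  have hsp : ⊤ ≤ Submodule.span R (Set.range ![(1 : S), e]) := by
    rintro s -
    have hs : bw.coord 1 (s : S') ∈ Ideal.span {t ^ n} :=
      (mem_iff_of_eq bw h0 S _ hS _).mp s.2
    obtain ⟨c, hc⟩ := Ideal.mem_span_singleton'.mp hs
    rw [Submodule.mem_span_range_iff_exists_fun]
    refine ⟨![bw.repr (s : S') 0, c], ?_⟩
    rw [Fin.sum_univ_two]
    apply Subtype.ext
    simp only [Matrix.cons_val_zero, Matrix.cons_val_one, he, Subalgebra.coe_add,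
      Subalgebra.coe_smul, Subalgebra.coe_one, smul_smul]
    rw [hc]
    exact (decomp bw h0 (s : S')).symm
  refine ⟨Basis.mk hli hsp, ?_, ?_, ?_⟩
  · rw [Basis.mk_apply]; rfl
  · rw [Basis.mk_apply]; rfl
  · rw [Basis.mk_apply]
    show e * e = (t ^ (2 * n) * p) • (1 : S) + (0 : R) • e
    apply Subtype.ext
    simp only [he, zero_smul, add_zero, Subalgebra.coe_mul,
      Subalgebra.coe_smul, Subalgebra.coe_one]
    rw [smul_mul_smul_comm, hp, smul_smul, two_mul, pow_add]

variable [IsDiscreteValuationRing R]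

include h0 hp in
theorem exists_basis_iff (ht' : Irreducible t) (h2 : IsUnit (2 : R)) (S : Subalgebra R S')
    (J : Ideal R) :
    (∃ bS : Basis (Fin 2) R S, Ideal.span {Algebra.discr R ⇑bS} = J) ↔
      ∃ n : ℕ, J = Ideal.span {t ^ (2 * n) * p} ∧
        Subalgebra.toSubmodule S = Submodule.span R {(1 : S')} ⊔
          Ideal.span {t ^ n} • (⊤ : Submodule R S') := by
  have h4 : IsUnit (4 : R) := by
    have : (4 : R) = 2 * 2 := by norm_num
    rw [this]; exact h2.mul h2
  have key : ∀ n : ℕ, Subalgebra.toSubmodule S = Submodule.span R {(1 : S')} ⊔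
      Ideal.span {t ^ n} • (⊤ : Submodule R S') →
      ∃ bE : Basis (Fin 2) R S, Ideal.span {Algebra.discr R ⇑bE} = Ideal.span {t ^ (2 * n) * p} := by
    intro n hS
    obtain ⟨bE, hE0, -, hE1⟩ := exists_basisE bw h0 p hp t ht'.ne_zero S n hS
    refine ⟨bE, ?_⟩
    rw [discr_two bE hE0 _ _ hE1]
    have : (4 : R) * (t ^ (2 * n) * p) + 0 ^ 2 = 4 * (t ^ (2 * n) * p) := by ring
    rw [this]
    exact Ideal.span_singleton_mul_left_unit h4 _
  constructor
  · rintro ⟨bS, hbS⟩
    have hI : ((Subalgebra.toSubmodule S).map (bw.coord 1) : Ideal R) ≠ ⊥ := by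
      intro hI
      have hS := toSubmodule_eq bw h0 S
      rw [hI] at hS
      have hmem : ∀ x : S, ∃ a : R, x = a • (1 : S) := by
        intro x
        have hx := (mem_iff_of_eq bw h0 S ⊥ hS (x : S')).mp x.2
        rw [Ideal.mem_bot] at hx
        refine ⟨bw.repr (x : S') 0, Subtype.ext ?_⟩
        have hd := decomp bw h0 (x : S')
        have hx' : bw.repr (x : S') 1 = 0 := by simpa [Basis.coord_apply] using hx
        rw [hx', zero_smul, add_zero] at hd
        simpa using hd
      obtain ⟨a, ha⟩ := hmem (bS 0)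
      obtain ⟨c, hc⟩ := hmem (bS 1)
      have hrel : c • bS 0 - a • bS 1 = 0 := by
        rw [ha, hc, smul_smul, smul_smul, mul_comm, sub_self]
      have h5 := congrArg bS.repr hrel
      simp only [map_sub, map_smul, Basis.repr_self, map_zero] at h5
      have h6 := DFunLike.congr_fun h5 1
      simp at h6
      have h7 := DFunLike.congr_fun h5 0
      simp at h7
      have : bS 0 = 0 := by rw [ha, h6, zero_smul]
      exact bS.ne_zero 0 this
    obtain ⟨n, hn⟩ := IsDiscreteValuationRing.ideal_eq_span_pow_irreducible hI ht'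
    have hS := toSubmodule_eq bw h0 S
    rw [hn] at hS
    refine ⟨n, ?_, hS⟩
    obtain ⟨bE, hbE⟩ := key n hS
    rw [← hbS, ← hbE]
    exact span_discr_eq bE bS
  · rintro ⟨n, hJ, hS⟩
    obtain ⟨bE, hbE⟩ := key n hS
    exact ⟨bE, hbE.trans hJ.symm⟩

open Polynomial in
include h0 hp ht in
theorem nonempty_algEquiv (S : Subalgebra R S') (n : ℕ)
    (hS : Subalgebra.toSubmodule S = Submodule.span R {(1 : S')} ⊔
      Ideal.span {t ^ n} • (⊤ : Submodule R S')) :
    Nonempty (S ≃ₐ[R] AdjoinRoot (X ^ 2 - C (t ^ (2 * n) * p) : R[X])) := by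
  obtain ⟨bE, hE0, -, hE1⟩ := exists_basisE bw h0 p hp t ht S n hS
  set d : R := t ^ (2 * n) * p with hd
  set f : R[X] := X ^ 2 - C d with hf
  have hmon : f.Monic := monic_X_pow_sub_C d (by norm_num)
  have hdeg : f.natDegree = 2 := natDegree_X_pow_sub_C
  have hne1 : f ≠ 1 := by
    intro h; rw [h, natDegree_one] at hdeg; omega
  have hofid : ∀ r : R, ((Algebra.ofId R S : R →ₐ[R] S) : R →+* S) r = r • (1 : S) := by
    intro r
    rw [AlgHom.coe_toRingHom, Algebra.ofId_apply, Algebra.algebraMap_eq_smul_one]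
  have hroot : f.eval₂ (Algebra.ofId R S) (bE 1) = 0 := by
    rw [hf, eval₂_sub, eval₂_pow, eval₂_X, eval₂_C, pow_two, hE1, zero_smul, add_zero,
      hofid, sub_self]
  let φ : AdjoinRoot f →ₐ[R] S := AdjoinRoot.liftAlgHom f (Algebra.ofId R S) (bE 1) hroot
  have hφ : ∀ a c : R, φ (AdjoinRoot.mk f (C a * X + C c)) = c • bE 0 + a • bE 1 := by
    intro a c
    rw [AdjoinRoot.liftAlgHom_mk, eval₂_add, eval₂_mul, eval₂_C, eval₂_C, eval₂_X,
      hofid, hofid, hE0, smul_mul_assoc, one_mul, add_comm]
  have hbij : Function.Bijective φ := by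
    constructor
    · rw [injective_iff_map_eq_zero]
      intro z hz
      obtain ⟨q, rfl⟩ := AdjoinRoot.mk_surjective z
      have h1 : AdjoinRoot.mk f q = AdjoinRoot.mk f (q %ₘ f) := by
        rw [AdjoinRoot.mk_eq_mk]
        refine ⟨q /ₘ f, ?_⟩
        have := modByMonic_add_div q f
        rw [sub_eq_iff_eq_add, add_comm]; exact this.symm
      have h2 : (q %ₘ f).natDegree ≤ 1 := by
        have := natDegree_modByMonic_lt q hmon hne1
        omega
      obtain ⟨a, c, hac⟩ := exists_eq_X_add_C_of_natDegree_le_one h2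
      rw [h1, hac] at hz ⊢
      rw [hφ] at hz
      have h5 := congrArg bE.repr hz
      simp only [map_add, map_smul, Basis.repr_self, map_zero] at h5
      have h6 := DFunLike.congr_fun h5 1
      simp at h6
      have h7 := DFunLike.congr_fun h5 0
      simp at h7
      rw [h6, h7]; simp
    · intro s
      refine ⟨AdjoinRoot.mk f (C (bE.repr s 1) * X + C (bE.repr s 0)), ?_⟩
      rw [hφ]
      conv_rhs => rw [← bE.sum_repr s, Fin.sum_univ_two]
  exact ⟨(AlgEquiv.ofBijective φ hbij).symm⟩

end main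

end Groth.Agent.Lib.Helper12.CrimpDouble
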