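import Mathlib

/-!
# Curvilinear clusters: a finite quotient of a 2-dimensional regular local algebra by an ideal
containing an element outside `m²` is `k[x]/(xⁿ)`
-/

set_option autoImplicit false

namespace Groth.Agent.Lib.Helper12.CurvilinearA

open IsLocalRing Polynomial

section gens

variable {A : Type*} [CommRing A] [IsRegularLocalRing A]

theorem exists_generators (hdim : ringKrullDim A = 2) {g : A} (hgm : g ∈ maximalIdeal A)
    (hg : g ∉ maximalIdeal A ^ 2) :
    ∃ t ∈ maximalIdeal A, maximalIdeal A = Ideal.span {g, t} := by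
  have hfr : Module.finrank (ResidueField A) (CotangentSpace A) = 2 := by
    have h := (IsRegularLocalRing.iff_finrank_cotangentSpace A).1 inferInstance
    rw [hdim] at h
    exact_mod_cast h
  set g' : CotangentSpace A := (maximalIdeal A).toCotangent ⟨g, hgm⟩ with hg'
  have hg0 : g' ≠ 0 := by
    rw [hg', Ne, Ideal.toCotangent_eq_zero]
    exact hg
  obtain ⟨v, hv⟩ : ∃ v : CotangentSpace A, v ∉ Submodule.span (ResidueField A) {g'} := by
    by_contra hcon
    push Not at hcon
    have htop : Submodule.span (ResidueField A) {g'} = ⊤ := eq_top_iff.2 fun x _ => hcon x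
    have h1 := finrank_span_singleton (K := ResidueField A) hg0
    rw [htop, finrank_top, hfr] at h1
    omega
  obtain ⟨t, rfl⟩ := Ideal.toCotangent_surjective _ v
  refine ⟨t, t.2, ?_⟩
  have hli : LinearIndependent (ResidueField A) ![g', (maximalIdeal A).toCotangent t] := by
    rw [LinearIndependent.pair_iff' hg0]
    intro a ha
    exact hv (Submodule.mem_span_singleton.2 ⟨a, ha⟩)
  have hspan := hli.span_eq_top_of_card_eq_finrank' (by simp [hfr])
  have hZ : Submodule.span A ({⟨g, hgm⟩, t} : Set (maximalIdeal A)) = ⊤ := by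
    rw [← CotangentSpace.span_image_eq_top_iff, ← hspan]
    congr 1
    ext x
    simp only [Set.mem_image, Set.mem_insert_iff, Set.mem_singleton_iff, Set.mem_range]
    constructor
    · rintro ⟨y, rfl | rfl, rfl⟩
      · exact ⟨0, rfl⟩
      · exact ⟨1, rfl⟩
    · rintro ⟨i, rfl⟩
      fin_cases i
      · exact ⟨⟨g, hgm⟩, Or.inl rfl, rfl⟩
      · exact ⟨t, Or.inr rfl, rfl⟩
  have h1 := congrArg (Submodule.map (maximalIdeal A).subtype) hZ
  rw [Submodule.map_span, Submodule.map_top, Submodule.range_subtype] at h1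
  refine h1.symm.trans ?_
  show Ideal.span _ = Ideal.span _
  congr 1
  ext x
  simp only [Set.mem_image, Set.mem_insert_iff, Set.mem_singleton_iff]
  constructor
  · rintro ⟨y, rfl | rfl, rfl⟩
    · exact Or.inl rfl
    · exact Or.inr rfl
  · rintro (rfl | rfl)
    · exact ⟨⟨x, hgm⟩, Or.inl rfl, rfl⟩
    · exact ⟨t, Or.inr rfl, rfl⟩

end gens

section main

variable {k A : Type*} [Field k] [CommRing A] [Algebra k A] [IsLocalRing A]

/-- every element is a scalar plus a multiple of `t` modulo `I` -/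
theorem exists_decomp (hres : Function.Surjective (algebraMap k (ResidueField A)))
    (I : Ideal A) {g t : A} (hgI : g ∈ I) (hm : maximalIdeal A = Ideal.span {g, t})
    (c : A ⧸ I) : ∃ (c0 : k) (d : A ⧸ I),
      c = algebraMap k (A ⧸ I) c0 + Ideal.Quotient.mk I t * d := by
  obtain ⟨a, rfl⟩ := Ideal.Quotient.mk_surjective c
  obtain ⟨c0, hc0⟩ := hres (residue A a)
  have h1 : a - algebraMap k A c0 ∈ maximalIdeal A := by
    rw [← Ideal.Quotient.eq_zero_iff_mem]
    have h2 : residue A (algebraMap k A c0) = algebraMap k (ResidueField A) c0 :=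
      (IsScalarTower.algebraMap_apply k A (ResidueField A) c0).symm
    have : residue A (a - algebraMap k A c0) = 0 := by rw [map_sub, h2, hc0, sub_self]
    exact this
  rw [hm, Ideal.mem_span_pair] at h1
  obtain ⟨α, β, hαβ⟩ := h1
  refine ⟨c0, Ideal.Quotient.mk I β, ?_⟩
  have h3 : a = algebraMap k A c0 + (α * g + β * t) := by rw [hαβ]; ring
  have h4 : Ideal.Quotient.mk I g = 0 := Ideal.Quotient.eq_zero_iff_mem.2 hgI
  conv_lhs => rw [h3]
  rw [map_add, map_add, map_mul, map_mul, h4, mul_zero, zero_add, mul_comm]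
  rfl

variable (hres : Function.Surjective (algebraMap k (ResidueField A)))
  (I : Ideal A) [Module.Finite k (A ⧸ I)] {g t : A} (hgI : g ∈ I) (htm : t ∈ maximalIdeal A)
  (hm : maximalIdeal A = Ideal.span {g, t})

include htm in
theorem pow_finrank_eq_zero (hI : I ≠ ⊤) :
    Ideal.Quotient.mk I t ^ Module.finrank k (A ⧸ I) = 0 := by
  haveI : Nontrivial (A ⧸ I) := Ideal.Quotient.nontrivial_iff.2 hI
  haveI : IsLocalRing (A ⧸ I) :=
    IsLocalRing.of_surjective' (Ideal.Quotient.mk I) Ideal.Quotient.mk_surjective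
  set τ : A ⧸ I := Ideal.Quotient.mk I t with hτ
  have hτm : τ ∈ maximalIdeal (A ⧸ I) := by
    rw [← map_maximalIdeal_of_surjective (Ideal.Quotient.mk I) Ideal.Quotient.mk_surjective]
    exact Ideal.mem_map_of_mem _ htm
  have hint : IsIntegral k τ := Algebra.IsIntegral.isIntegral τ
  set p := minpoly k τ with hp
  have hp0 : p ≠ 0 := minpoly.ne_zero hint
  obtain ⟨q, hpq, hq⟩ := p.exists_eq_pow_rootMultiplicity_mul_and_not_dvd hp0 0
  rw [C_0, sub_zero] at hpq hq
  set j := p.rootMultiplicity 0 with hj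
  have hq0 : q.coeff 0 ≠ 0 := fun h => hq (X_dvd_iff.2 h)
  have haev : aeval τ p = 0 := minpoly.aeval k τ
  rw [hpq, map_mul, map_pow, aeval_X] at haev
  have hunit : IsUnit (aeval τ q) := by
    by_contra hnu
    have h1 : aeval τ q ∈ maximalIdeal (A ⧸ I) := (mem_maximalIdeal _).2 hnu
    have h2 : q = X * q.divX + C (q.coeff 0) := (X_mul_divX_add q).symm
    have h3 : aeval τ q = τ * aeval τ q.divX + algebraMap k (A ⧸ I) (q.coeff 0) := by
      conv_lhs => rw [h2]
      rw [map_add, map_mul, aeval_X, aeval_C]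
    have h4 : algebraMap k (A ⧸ I) (q.coeff 0) ∈ maximalIdeal (A ⧸ I) := by
      have : algebraMap k (A ⧸ I) (q.coeff 0) = aeval τ q - τ * aeval τ q.divX := by
        rw [h3]; ring
      rw [this]
      exact Ideal.sub_mem _ h1 (Ideal.mul_mem_right _ _ hτm)
    exact (mem_maximalIdeal _).1 h4 ((IsUnit.mk0 _ hq0).map (algebraMap k (A ⧸ I)))
  have hτj : τ ^ j = 0 := (hunit.mul_left_eq_zero).1 haev
  have hjle : j ≤ Module.finrank k (A ⧸ I) := by
    have h1 : p.natDegree ≤ Module.finrank k (A ⧸ I) := minpoly.natDegree_le τ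
    have h2 : j ≤ p.natDegree := by
      have hq' : q ≠ 0 := fun h => hq (h ▸ dvd_zero _)
      conv_rhs => rw [hpq]
      rw [natDegree_mul (pow_ne_zero _ X_ne_zero) hq', natDegree_pow, natDegree_X, mul_one]
      omega
    omega
  obtain ⟨e, he⟩ := Nat.exists_eq_add_of_le hjle
  rw [he, pow_add, hτj, zero_mul]

include hres hgI hm in
theorem aeval_surjective (N : ℕ) (hN : Ideal.Quotient.mk I t ^ N = 0) :
    Function.Surjective (aeval (R := k) (Ideal.Quotient.mk I t)) := by
  set τ : A ⧸ I := Ideal.Quotient.mk I t with hτ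
  have key : ∀ j : ℕ, ∀ c : A ⧸ I, ∃ (p : k[X]) (d : A ⧸ I), c = aeval τ p + τ ^ j * d := by
    intro j
    induction j with
    | zero => exact fun c => ⟨0, c, by simp⟩
    | succ j ih =>
      intro c
      obtain ⟨p, d, hpd⟩ := ih c
      obtain ⟨c0, d', hd'⟩ := exists_decomp hres I hgI hm d
      refine ⟨p + C c0 * X ^ j, d', ?_⟩
      rw [hpd, hd', map_add, map_mul, aeval_C, map_pow, aeval_X, pow_succ]
      ring
  intro c
  obtain ⟨p, d, hpd⟩ := key N c
  exact ⟨p, by rw [hpd, hN, zero_mul, add_zero]⟩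

include hres hgI htm hm in
theorem nonempty_algEquiv (n : ℕ) (hn : Module.finrank k (A ⧸ I) = n) (h1 : 1 ≤ n) :
    Nonempty ((A ⧸ I) ≃ₐ[k] (k[X] ⧸ Ideal.span {(X : k[X]) ^ n})) := by
  have hI : I ≠ ⊤ := by
    rintro rfl
    have : Subsingleton (A ⧸ (⊤ : Ideal A)) := Ideal.Quotient.subsingleton_iff.2 rfl
    rw [Module.finrank_zero_of_subsingleton] at hn
    omega
  set τ : A ⧸ I := Ideal.Quotient.mk I t with hτ
  have hτn : τ ^ n = 0 := by
    rw [← hn]
    exact pow_finrank_eq_zero I htm hI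
  have hsurj := aeval_surjective hres I hgI hm n hτn
  let ψ : (k[X] ⧸ Ideal.span {(X : k[X]) ^ n}) →ₐ[k] (A ⧸ I) :=
    Ideal.Quotient.liftₐ (Ideal.span {(X : k[X]) ^ n}) (aeval τ) (by
      intro a ha
      rw [Ideal.mem_span_singleton] at ha
      obtain ⟨b, rfl⟩ := ha
      rw [map_mul, map_pow, aeval_X, hτn, zero_mul])
  have hψs : Function.Surjective ψ := by
    intro c
    obtain ⟨p, hp⟩ := hsurj c
    exact ⟨Ideal.Quotient.mk _ p, by simpa [ψ] using hp⟩
  have hfr : Module.finrank k (k[X] ⧸ Ideal.span {(X : k[X]) ^ n}) = n := by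
    rw [finrank_quotient_span_eq_natDegree, natDegree_pow, natDegree_X, mul_one]
  haveI : Module.Finite k (k[X] ⧸ Ideal.span {(X : k[X]) ^ n}) :=
    Module.finite_of_finrank_pos (by rw [hfr]; omega)
  have hψi : Function.Injective ψ :=
    (LinearMap.injective_iff_surjective_of_finrank_eq_finrank
      (f := ψ.toLinearMap) (by rw [hfr, hn])).2 hψs
  exact ⟨(AlgEquiv.ofBijective ψ ⟨hψi, hψs⟩).symm⟩

end main

end Groth.Agent.Lib.Helper12.CurvilinearA
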