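import Mathlib

/-!
# Cyclic vectors, part A: the product model `∏ K[X]/(pᵢ^eᵢ)`
-/

set_option autoImplicit false

namespace Groth.Agent.Lib.Helper12.CyclicVecA

open Polynomial

variable {K : Type*} [Field K] {ι : Type*} [Fintype ι] [DecidableEq ι]
  (p : ι → K[X]) (e : ι → ℕ)

/-- the product model -/
abbrev P := ∀ i : ι, K[X] ⧸ (K[X] ∙ p i ^ e i)

/-- the comparison map between two factors with associated primes -/
noncomputable def h (i j : ι) (hij : p j ^ e j ∣ p i ^ (e i + (e j - 1))) :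
    (K[X] ⧸ (K[X] ∙ p i ^ e i)) →ₗ[K[X]] (K[X] ⧸ (K[X] ∙ p j ^ e j)) :=
  Submodule.liftQ _ (LinearMap.toSpanSingleton K[X] _
    (Submodule.Quotient.mk (p i ^ (e j - 1)))) (by
      rw [Submodule.span_le]
      rintro _ rfl
      simp only [SetLike.mem_coe, LinearMap.mem_ker, LinearMap.toSpanSingleton_apply]
      rw [← Submodule.Quotient.mk_smul, smul_eq_mul, ← pow_add,
        Submodule.Quotient.mk_eq_zero]
      exact Ideal.mem_span_singleton.2 hij)

theorem h_one (i j : ι) (hij : p j ^ e j ∣ p i ^ (e i + (e j - 1))) :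
    h p e i j hij (Submodule.Quotient.mk 1) = Submodule.Quotient.mk (p i ^ (e j - 1)) := by
  unfold h
  rw [Submodule.liftQ_apply, LinearMap.toSpanSingleton_apply, one_smul]

/-- the extra endomorphism mapping the `i`-th factor to the `j`-th factor -/
noncomputable def E (i j : ι) (hij : p j ^ e j ∣ p i ^ (e i + (e j - 1))) :
    P p e →ₗ[K[X]] P p e :=
  (LinearMap.single K[X] (fun l => K[X] ⧸ (K[X] ∙ p l ^ e l)) j) ∘ₗ (h p e i j hij) ∘ₗ
    (LinearMap.proj i)

/-- multiplication operators together with multiples of `E` -/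
noncomputable def Ψ (i j : ι) (hij : p j ^ e j ∣ p i ^ (e i + (e j - 1))) :
    (P p e × K) →ₗ[K] (P p e →ₗ[K[X]] P p e) :=
  LinearMap.coprod ((LinearMap.mul K[X] (P p e)).restrictScalars K)
    (LinearMap.toSpanSingleton K _ (E p e i j hij))

theorem Ψ_apply (i j : ι) (hij : p j ^ e j ∣ p i ^ (e i + (e j - 1))) (a : P p e) (c : K)
    (w : P p e) : Ψ p e i j hij (a, c) w = a * w + c • E p e i j hij w := by
  simp [Ψ]

theorem Ψ_injective (i j : ι) (hne : i ≠ j) (hij : p j ^ e j ∣ p i ^ (e i + (e j - 1)))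
    (hnz : (Submodule.Quotient.mk (p i ^ (e j - 1)) : K[X] ⧸ (K[X] ∙ p j ^ e j)) ≠ 0) :
    Function.Injective (Ψ p e i j hij) := by
  rw [injective_iff_map_eq_zero]
  rintro ⟨a, c⟩ hac
  have h1 := congrArg (fun f : P p e →ₗ[K[X]] P p e =>
    f (Pi.single i (1 : K[X] ⧸ (K[X] ∙ p i ^ e i))) j) hac
  simp only [Ψ_apply, LinearMap.zero_apply, Pi.zero_apply, Pi.add_apply, Pi.mul_apply,
    Pi.smul_apply] at h1
  rw [Pi.single_eq_of_ne hne.symm, mul_zero, zero_add] at h1
  have h2 : E p e i j hij (Pi.single i (1 : K[X] ⧸ (K[X] ∙ p i ^ e i))) j =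
      Submodule.Quotient.mk (p i ^ (e j - 1)) := by
    simp only [E, LinearMap.comp_apply, LinearMap.proj_apply, Pi.single_eq_same,
      LinearMap.single_apply]
    exact h_one p e i j hij
  rw [h2] at h1
  have hc : c = 0 := (smul_eq_zero.1 h1).resolve_right hnz
  subst hc
  have h3 := congrArg (fun f : P p e →ₗ[K[X]] P p e => f 1) hac
  simp only [Ψ_apply, mul_one, LinearMap.zero_apply] at h3
  have h5 : a = 0 := by
    funext l
    have h6 := congrFun h3 l
    simp only [Pi.add_apply, Pi.smul_apply, Pi.zero_apply] at h6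
    rw [zero_smul, add_zero] at h6
    exact h6
  rw [h5]
  rfl

end Groth.Agent.Lib.Helper12.CyclicVecA
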