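import Mathlib
import Groth.Agent.Lib.Helper12.CyclicVecA

/-!
# Cyclic vectors, part B: the product model is cyclic if its endomorphism algebra is small
-/

set_option autoImplicit false

namespace Groth.Agent.Lib.Helper12.CyclicVecB

open Polynomial Function Groth.Agent.Lib.Helper12.CyclicVecA

variable {K : Type*} [Field K] {ι : Type*} [Fintype ι] [DecidableEq ι]
  (p : ι → K[X]) (e : ι → ℕ)

instance finite_end [Module.Finite K (P p e)] : Module.Finite K (P p e →ₗ[K[X]] P p e) :=
  Module.Finite.of_injective (LinearMap.restrictScalarsₗ K K[X] (P p e) (P p e) K)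
    (fun f g hfg => by
      apply LinearMap.ext
      intro x
      exact LinearMap.congr_fun hfg x)

theorem crt (hcop : ∀ i j, i ≠ j → IsCoprime (p i ^ e i) (p j ^ e j)) (w : P p e) :
    ∃ q : K[X], q • (1 : P p e) = w := by
  have hI : Pairwise (IsCoprime on fun i => Ideal.span ({p i ^ e i} : Set K[X])) := by
    intro i j hij
    exact (Ideal.isCoprime_span_singleton_iff _ _).2 (hcop i j hij)
  obtain ⟨q', hq'⟩ := Ideal.quotientInfToPiQuotient_surj hI w
  obtain ⟨q, rfl⟩ := Ideal.Quotient.mk_surjective q'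
  refine ⟨q, ?_⟩
  rw [← hq']
  funext i
  rw [Pi.smul_apply, Pi.one_apply]
  show q • (Ideal.Quotient.mk _ 1) = Ideal.Quotient.mk _ q
  rw [← Ideal.Quotient.mk_eq_mk, ← Submodule.Quotient.mk_smul, smul_eq_mul, mul_one]
  rfl

theorem exists_cyclic_P [Module.Finite K (P p e)] (hp : ∀ i, Irreducible (p i))
    (hfr : Module.finrank K (P p e →ₗ[K[X]] P p e) ≤ Module.finrank K (P p e))
    (w : P p e) : ∃ q : K[X], q • (1 : P p e) = w := by
  by_cases hcop : ∀ i j, i ≠ j → IsCoprime (p i ^ e i) (p j ^ e j)
  · exact crt p e hcop w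
  · exfalso
    push Not at hcop
    obtain ⟨i, j, hne, hnc⟩ := hcop
    have hei : 1 ≤ e i := by
      by_contra h
      have : e i = 0 := by omega
      rw [this, pow_zero] at hnc
      exact hnc isCoprime_one_left
    have hej : 1 ≤ e j := by
      by_contra h
      have : e j = 0 := by omega
      rw [this, pow_zero] at hnc
      exact hnc isCoprime_one_right
    have hdvd : p i ∣ p j := by
      by_contra h
      exact hnc (((hp i).coprime_iff_not_dvd.2 h).pow)
    have hdvd' : p j ∣ p i := ((hp i).dvd_comm (hp j)).1 hdvd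
    have hij : p j ^ e j ∣ p i ^ (e i + (e j - 1)) :=
      (pow_dvd_pow_of_dvd hdvd' (e j)).trans (pow_dvd_pow _ (by omega))
    have hnz : (Submodule.Quotient.mk (p i ^ (e j - 1)) : K[X] ⧸ (K[X] ∙ p j ^ e j)) ≠ 0 := by
      rw [Ne, Submodule.Quotient.mk_eq_zero]
      intro hmem
      have h1 : p j ^ e j ∣ p i ^ (e j - 1) := Ideal.mem_span_singleton.1 hmem
      have h2 : p i ^ e j ∣ p i ^ (e j - 1) := (pow_dvd_pow_of_dvd hdvd (e j)).trans h1
      have h3 := (pow_dvd_pow_iff (hp i).ne_zero (hp i).not_isUnit).1 h2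
      omega
    have hinj := Ψ_injective p e i j hne hij hnz
    have h4 := LinearMap.finrank_le_finrank_of_injective hinj
    rw [Module.finrank_prod, Module.finrank_self] at h4
    omega

end Groth.Agent.Lib.Helper12.CyclicVecB
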