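import Mathlib
import Groth.Agent.Lib.Helper12.CyclicVecB

/-!
# Cyclic vectors, part C: a torsion `K[X]`-module with small endomorphism algebra is cyclic
-/

set_option autoImplicit false

namespace Groth.Agent.Lib.Helper12.CyclicVecC

open Polynomial Groth.Agent.Lib.Helper12.CyclicVecA Groth.Agent.Lib.Helper12.CyclicVecB

variable {K : Type*} [Field K] {N : Type*} [AddCommGroup N] [Module K[X] N] [Module K N]
  [IsScalarTower K K[X] N]

/-- transport of endomorphisms along an equivalence, as a `K`-linear map -/
noncomputable def conjMap {N' : Type*} [AddCommGroup N'] [Module K[X] N'] [Module K N']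
    [IsScalarTower K K[X] N'] (E : N ≃ₗ[K[X]] N') :
    (N' →ₗ[K[X]] N') →ₗ[K] (N →ₗ[K[X]] N) where
  toFun f := E.symm.toLinearMap ∘ₗ f ∘ₗ E.toLinearMap
  map_add' f g := by
    apply LinearMap.ext
    intro x
    simp
  map_smul' c f := by
    apply LinearMap.ext
    intro x
    simp only [LinearMap.comp_apply, LinearMap.smul_apply, RingHom.id_apply,
      LinearEquiv.coe_coe]
    rw [← algebraMap_smul K[X] c, ← algebraMap_smul K[X] c, map_smul]

theorem conjMap_injective {N' : Type*} [AddCommGroup N'] [Module K[X] N'] [Module K N']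
    [IsScalarTower K K[X] N'] (E : N ≃ₗ[K[X]] N') : Function.Injective (conjMap E) := by
  intro f g hfg
  apply LinearMap.ext
  intro x
  have h := LinearMap.congr_fun hfg (E.symm x)
  simp only [conjMap, LinearMap.coe_mk, AddHom.coe_mk, LinearMap.comp_apply,
    LinearEquiv.coe_coe, LinearEquiv.apply_symm_apply] at h
  exact E.symm.injective h

theorem exists_cyclic [Module.Finite K N] [Module.Finite K[X] N]
    (htors : Module.IsTorsion K[X] N)
    (hfr : Module.finrank K (N →ₗ[K[X]] N) ≤ Module.finrank K N) :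
    ∃ v : N, ∀ w : N, ∃ q : K[X], q • v = w := by
  classical
  obtain ⟨ι, hι, p, hp, e, ⟨E0⟩⟩ := Module.equiv_directSum_of_isTorsion htors
  let Eq : N ≃ₗ[K[X]] P p e := E0.trans (DirectSum.linearEquivFunOnFintype K[X] ι _)
  haveI : Module.Finite K (P p e) := Module.Finite.equiv (Eq.restrictScalars K)
  have h1 : Module.finrank K (P p e) = Module.finrank K N :=
    (LinearEquiv.finrank_eq (Eq.restrictScalars K)).symm
  haveI : Module.Finite K (N →ₗ[K[X]] N) :=
    Module.Finite.of_injective (LinearMap.restrictScalarsₗ K K[X] N N K)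
      (fun f g hfg => by
        apply LinearMap.ext
        intro x
        exact LinearMap.congr_fun hfg x)
  have h2 : Module.finrank K (P p e →ₗ[K[X]] P p e) ≤ Module.finrank K (N →ₗ[K[X]] N) :=
    LinearMap.finrank_le_finrank_of_injective (conjMap_injective Eq)
  have h3 : Module.finrank K (P p e →ₗ[K[X]] P p e) ≤ Module.finrank K (P p e) := by
    rw [h1]
    exact h2.trans hfr
  refine ⟨Eq.symm 1, fun w => ?_⟩
  obtain ⟨q, hq⟩ := exists_cyclic_P p e hp h3 (Eq w)
  refine ⟨q, ?_⟩
  rw [← map_smul, hq, LinearEquiv.symm_apply_apply]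

end Groth.Agent.Lib.Helper12.CyclicVecC
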