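import Mathlib
import Groth.Agent.Lib.Helper12.CyclicVecC

/-!
# Cyclic vectors, part D: a matrix over a field whose commutant has dimension `n` has a cyclic
vector
-/

set_option autoImplicit false

namespace Groth.Agent.Lib.Helper12.CyclicVecD

open Polynomial Module

variable {K : Type*} [Field K] {n : ℕ} (M : Matrix (Fin n) (Fin n) K)

/-- the matrix of a `K[X]`-endomorphism of `K^n` with `X` acting through `M` -/
noncomputable def matOf (f : AEval' (Matrix.toLin' M) →ₗ[K[X]] AEval' (Matrix.toLin' M)) :
    Matrix (Fin n) (Fin n) K :=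
  LinearMap.toMatrix' ((AEval'.of (Matrix.toLin' M)).symm.toLinearMap ∘ₗ
    f.restrictScalars K ∘ₗ (AEval'.of (Matrix.toLin' M)).toLinearMap)

theorem matOf_mulVec (f : AEval' (Matrix.toLin' M) →ₗ[K[X]] AEval' (Matrix.toLin' M))
    (v : Fin n → K) :
    (matOf M f).mulVec v =
      (AEval'.of (Matrix.toLin' M)).symm (f (AEval'.of (Matrix.toLin' M) v)) := by
  unfold matOf
  rw [← Matrix.toLin'_apply, Matrix.toLin'_toMatrix']
  rfl

theorem matOf_comm (f : AEval' (Matrix.toLin' M) →ₗ[K[X]] AEval' (Matrix.toLin' M)) :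
    M * matOf M f = matOf M f * M := by
  apply Matrix.toLin'.injective
  apply LinearMap.ext
  intro v
  rw [Matrix.toLin'_mul, Matrix.toLin'_mul, LinearMap.comp_apply, LinearMap.comp_apply,
    Matrix.toLin'_apply (matOf M f), Matrix.toLin'_apply (matOf M f), matOf_mulVec, matOf_mulVec]
  have h1 : AEval'.of (Matrix.toLin' M) (Matrix.toLin' M v) =
      (X : K[X]) • AEval'.of (Matrix.toLin' M) v := (AEval'.X_smul_of _ v).symm
  rw [h1, map_smul, AEval'.of_symm_X_smul]

/-- the map to the commutant -/
noncomputable def toCent :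
    (AEval' (Matrix.toLin' M) →ₗ[K[X]] AEval' (Matrix.toLin' M)) →ₗ[K]
      Subalgebra.centralizer K ({M} : Set (Matrix (Fin n) (Fin n) K)) :=
  LinearMap.codRestrict (Subalgebra.toSubmodule _)
    { toFun := matOf M
      map_add' := fun f g => by
        unfold matOf
        rw [← map_add]
        rfl
      map_smul' := fun c f => by
        unfold matOf
        rw [RingHom.id_apply, ← map_smul]
        rfl }
    (fun f => by
      rw [Subalgebra.mem_toSubmodule, Subalgebra.mem_centralizer_iff]
      intro g hg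
      rw [Set.mem_singleton_iff] at hg
      rw [hg]
      exact matOf_comm M f)

theorem toCent_coe (f : AEval' (Matrix.toLin' M) →ₗ[K[X]] AEval' (Matrix.toLin' M)) :
    ((toCent M f : Subalgebra.centralizer K ({M} : Set (Matrix (Fin n) (Fin n) K))) :
      Matrix (Fin n) (Fin n) K) = matOf M f := rfl

theorem toCent_injective : Function.Injective (toCent M) := by
  intro f g hfg
  have h1 : matOf M f = matOf M g := by
    rw [← toCent_coe, ← toCent_coe, hfg]
  apply LinearMap.ext
  intro x
  obtain ⟨v, rfl⟩ := (AEval'.of (Matrix.toLin' M)).surjective x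
  have h2 := congrArg (fun A => A.mulVec v) h1
  simp only [matOf_mulVec] at h2
  exact (AEval'.of (Matrix.toLin' M)).symm.injective h2

theorem exists_cyclic_vector
    (hfr : Module.finrank K
      (Subalgebra.centralizer K ({M} : Set (Matrix (Fin n) (Fin n) K))) = n) :
    ∃ v : Fin n → K, ∀ w : Fin n → K, ∃ q : K[X], (aeval M q).mulVec v = w := by
  have h1 : Module.finrank K (AEval' (Matrix.toLin' M)) = n := by
    rw [← (AEval'.of (Matrix.toLin' M)).finrank_eq, Module.finrank_fin_fun]
  have h2 : Module.finrank K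
      (AEval' (Matrix.toLin' M) →ₗ[K[X]] AEval' (Matrix.toLin' M)) ≤ n := by
    exact (LinearMap.finrank_le_finrank_of_injective (toCent_injective M)).trans hfr.le
  have htors : Module.IsTorsion K[X] (AEval' (Matrix.toLin' M)) :=
    Module.AEval.isTorsion_of_finiteDimensional K (Fin n → K) (Matrix.toLin' M)
  obtain ⟨v', hv'⟩ := CyclicVecC.exists_cyclic htors (by rw [h1]; exact h2)
  refine ⟨(AEval'.of (Matrix.toLin' M)).symm v', fun w => ?_⟩
  obtain ⟨q, hq⟩ := hv' (AEval'.of (Matrix.toLin' M) w)
  refine ⟨q, ?_⟩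
  have h3 : (aeval M q).mulVec ((AEval'.of (Matrix.toLin' M)).symm v') =
      aeval (Matrix.toLin' M) q ((AEval'.of (Matrix.toLin' M)).symm v') := by
    rw [← Matrix.toLin'_apply]
    congr 1
    exact (Polynomial.aeval_algHom_apply (Matrix.toLinAlgEquiv' : _ ≃ₐ[K] _).toAlgHom M q).symm
  rw [h3]
  apply (AEval'.of (Matrix.toLin' M)).injective
  rw [← hq]
  have := AEval.of_aeval_smul (R := K) (M := Fin n → K) (Matrix.toLin' M) q
    ((AEval'.of (Matrix.toLin' M)).symm v')
  rw [LinearEquiv.apply_symm_apply] at this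
  exact this

end Groth.Agent.Lib.Helper12.CyclicVecD
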