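import Mathlib

/-!
# Cyclic vectors, part E: over a local ring, the commutant of a matrix which is cyclic modulo the
maximal ideal consists of polynomials in the matrix
-/

set_option autoImplicit false

namespace Groth.Agent.Lib.Helper12.CyclicVecE

open Polynomial IsLocalRing

variable {n : ℕ}

theorem map_aeval {R T : Type*} [CommRing R] [CommRing T] (φ : R →+* T)
    (g : Matrix (Fin n) (Fin n) R) (q : R[X]) :
    (aeval g q).map φ = aeval (g.map φ) (q.map φ) := by
  have h : (algebraMap T (Matrix (Fin n) (Fin n) T)).comp φ =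
      (φ.mapMatrix).comp (algebraMap R (Matrix (Fin n) (Fin n) R)) := by
    ext r i j
    simp only [RingHom.comp_apply, RingHom.mapMatrix_apply, Matrix.map_apply,
      Matrix.algebraMap_matrix_apply]
    split_ifs <;> simp
  exact map_aeval_eq_aeval_map (ψ := φ.mapMatrix) h q g

theorem commute_aeval {R : Type*} [CommRing R] {x g : Matrix (Fin n) (Fin n) R}
    (hx : x * g = g * x) (q : R[X]) : x * aeval g q = aeval g q * x := by
  have hc : Commute x g := hx
  induction q using Polynomial.induction_on' with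
  | add p q hp hq => rw [map_add, mul_add, add_mul, hp, hq]
  | monomial k a =>
    rw [aeval_monomial, ← Algebra.smul_def, mul_smul_comm, smul_mul_assoc]
    congr 1
    exact (hc.pow_right k).eq

variable {B : Type*} [CommRing B] [IsLocalRing B] (g : Matrix (Fin n) (Fin n) B)

/-- the orbit map of a vector under polynomials in `g` -/
noncomputable def Φ (v : Fin n → B) : B[X] →ₗ[B] (Fin n → B) :=
  (LinearMap.applyₗ v) ∘ₗ (Matrix.toLin' : Matrix (Fin n) (Fin n) B ≃ₗ[B] _).toLinearMap ∘ₗ
    (aeval g).toLinearMap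

theorem Φ_apply (v : Fin n → B) (q : B[X]) : Φ g v q = (aeval g q).mulVec v := by
  simp [Φ, Matrix.toLin'_apply]

theorem mem_smul_top_of_forall_mem (u : Fin n → B) (hu : ∀ i, u i ∈ maximalIdeal B) :
    u ∈ maximalIdeal B • (⊤ : Submodule B (Fin n → B)) := by
  have h1 : u = ∑ i, u i • (Pi.single i (1 : B) : Fin n → B) := by
    funext j
    simp [Finset.sum_apply, Pi.single_apply]
  rw [h1]
  exact Submodule.sum_mem _ fun i _ => Submodule.smul_mem_smul (hu i) Submodule.mem_top

theorem range_Φ_eq_top (v : Fin n → B)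
    (hv : ∀ w : Fin n → ResidueField B, ∃ q : (ResidueField B)[X],
      (aeval (g.map (residue B)) q).mulVec (residue B ∘ v) = w) :
    LinearMap.range (Φ g v) = ⊤ := by
  rw [eq_top_iff]
  apply Submodule.le_of_le_smul_of_le_jacobson_bot (I := maximalIdeal B)
    (Module.Finite.fg_top)
    (IsLocalRing.jacobson_eq_maximalIdeal _ bot_ne_top).ge
  intro u _
  obtain ⟨q', hq'⟩ := hv (residue B ∘ u)
  obtain ⟨q, rfl⟩ := Polynomial.map_surjective (residue B) Ideal.Quotient.mk_surjective q'
  have h1 : u = Φ g v q + (u - Φ g v q) := by abel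
  rw [h1]
  refine Submodule.add_mem_sup ⟨q, rfl⟩ (mem_smul_top_of_forall_mem _ fun i => ?_)
  rw [← Ideal.Quotient.eq_zero_iff_mem]
  show residue B ((u - Φ g v q) i) = 0
  rw [Pi.sub_apply, map_sub, Φ_apply, RingHom.map_mulVec, map_aeval, hq']
  simp

theorem eq_aeval_of_commute (v : Fin n → B) (htop : LinearMap.range (Φ g v) = ⊤)
    {x : Matrix (Fin n) (Fin n) B} (hx : x * g = g * x) :
    ∃ q : B[X], x = aeval g q := by
  have hxv : x.mulVec v ∈ LinearMap.range (Φ g v) := by rw [htop]; trivial
  obtain ⟨q, hq⟩ := hxv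
  rw [Φ_apply] at hq
  refine ⟨q, ?_⟩
  apply Matrix.toLin'.injective
  apply LinearMap.ext
  intro w
  have hw : w ∈ LinearMap.range (Φ g v) := by rw [htop]; trivial
  obtain ⟨r, rfl⟩ := hw
  rw [Φ_apply, Matrix.toLin'_apply, Matrix.toLin'_apply, Matrix.mulVec_mulVec,
    Matrix.mulVec_mulVec, commute_aeval hx r, ← Matrix.mulVec_mulVec, ← hq,
    Matrix.mulVec_mulVec, ← map_mul, ← map_mul, mul_comm]

theorem comm_of_cyclic (v : Fin n → B)
    (hv : ∀ w : Fin n → ResidueField B, ∃ q : (ResidueField B)[X],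
      (aeval (g.map (residue B)) q).mulVec (residue B ∘ v) = w)
    {x y : Matrix (Fin n) (Fin n) B} (hx : x * g = g * x) (hy : y * g = g * y) :
    x * y = y * x := by
  have htop := range_Φ_eq_top g v hv
  obtain ⟨qx, rfl⟩ := eq_aeval_of_commute g v htop hx
  obtain ⟨qy, rfl⟩ := eq_aeval_of_commute g v htop hy
  rw [← map_mul, ← map_mul, mul_comm]

end Groth.Agent.Lib.Helper12.CyclicVecE
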