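import Mathlib
import Groth.Agent.Lib.Helper12.CyclicVecD
import Groth.Agent.Lib.Helper12.CyclicVecE

/-!
# Cyclic vectors, part F: fiberwise regular matrices — commutants after localization
-/

set_option autoImplicit false

namespace Groth.Agent.Lib.Helper12.CyclicVecF

open Polynomial IsLocalRing

universe u

variable {A : Type u} [CommRing A] {n : ℕ}

/-- For a fiberwise regular matrix `g` over `A` and a local `A`-algebra `L`, every matrix over `L`
commuting with `g` is a polynomial in `g`. -/
theorem eq_aeval_of_commute_local (g : Matrix (Fin n) (Fin n) A)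
    (hreg : ∀ (K : Type u) [Field K] (φ : A →+* K),
      Module.finrank K (Subalgebra.centralizer K ({g.map φ} : Set (Matrix (Fin n) (Fin n) K))) = n)
    (L : Type u) [CommRing L] [IsLocalRing L] (ψ : A →+* L)
    {x : Matrix (Fin n) (Fin n) L} (hx : x * g.map ψ = g.map ψ * x) :
    ∃ q : L[X], x = aeval (g.map ψ) q := by
  let φ : A →+* ResidueField L := (residue L).comp ψ
  have hfr := hreg (ResidueField L) φ
  have hgφ : g.map φ = (g.map ψ).map (residue L) := by
    rw [Matrix.map_map]
    rfl
  obtain ⟨v, hv⟩ := CyclicVecD.exists_cyclic_vector (g.map φ) hfr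
  choose v' hv' using fun i => Ideal.Quotient.mk_surjective (v i)
  have hvv : residue L ∘ v' = v := funext hv'
  have hcyc : ∀ w : Fin n → ResidueField L, ∃ q : (ResidueField L)[X],
      (aeval ((g.map ψ).map (residue L)) q).mulVec (residue L ∘ v') = w := by
    rw [← hgφ, hvv]
    exact hv
  exact CyclicVecE.eq_aeval_of_commute (g.map ψ) v' (CyclicVecE.range_Φ_eq_top _ v' hcyc) hx

/-- If `X` commutes with the fiberwise regular `u`, then everything commuting with `u` commutes
with `X`, over every `A`-algebra. -/
theorem commute_of_commute (u X : Matrix (Fin n) (Fin n) A)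
    (hureg : ∀ (K : Type u) [Field K] (φ : A →+* K),
      Module.finrank K (Subalgebra.centralizer K ({u.map φ} : Set (Matrix (Fin n) (Fin n) K))) = n)
    (hXu : X * u = u * X)
    (B : Type u) [CommRing B] [Algebra A B] (x : Matrix (Fin n) (Fin n) B)
    (hx : x * u.map (algebraMap A B) = u.map (algebraMap A B) * x) :
    x * X.map (algebraMap A B) = X.map (algebraMap A B) * x := by
  rw [← sub_eq_zero]
  ext i j
  apply eq_zero_of_localization
  intro 𝔪 h𝔪
  let ψ : B →+* Localization.AtPrime 𝔪 := algebraMap B (Localization.AtPrime 𝔪)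
  let θ : A →+* Localization.AtPrime 𝔪 := ψ.comp (algebraMap A B)
  have hu' : (u.map (algebraMap A B)).map ψ = u.map θ := by rw [Matrix.map_map]; rfl
  have hX' : (X.map (algebraMap A B)).map ψ = X.map θ := by rw [Matrix.map_map]; rfl
  have hx' : x.map ψ * u.map θ = u.map θ * x.map ψ := by
    rw [← hu', ← Matrix.map_mul, ← Matrix.map_mul, hx]
  have hXu' : X.map θ * u.map θ = u.map θ * X.map θ := by
    rw [← Matrix.map_mul, ← Matrix.map_mul, hXu]
  obtain ⟨q, hq⟩ := eq_aeval_of_commute_local u hureg (Localization.AtPrime 𝔪) θ hx'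
  obtain ⟨r, hr⟩ := eq_aeval_of_commute_local u hureg (Localization.AtPrime 𝔪) θ hXu'
  have hcomm : x.map ψ * X.map θ = X.map θ * x.map ψ := by
    rw [hq, hr, ← map_mul, ← map_mul, mul_comm]
  have h1 : ψ ((x * X.map (algebraMap A B) - X.map (algebraMap A B) * x) i j) =
      (x.map ψ * X.map θ - X.map θ * x.map ψ) i j := by
    rw [← hX', Matrix.sub_apply, Matrix.sub_apply, map_sub, ← Matrix.map_mul, ← Matrix.map_mul]
    rfl
  show ψ ((x * X.map (algebraMap A B) - X.map (algebraMap A B) * x) i j) = 0
  rw [h1, hcomm, sub_self]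
  rfl

end Groth.Agent.Lib.Helper12.CyclicVecF
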