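import Mathlib
import Groth.Agent.Lib.Helper12.CyclicVecD

/-!
# Cyclic vectors, part G: the Krylov matrix of a cyclic vector is invertible
-/

set_option autoImplicit false

namespace Groth.Agent.Lib.Helper12.CyclicVecG

open Polynomial

variable {n : ℕ}

/-- the Krylov matrix `[v, g v, …, g^(n-1) v]` -/
def krylov {R : Type*} [CommRing R] (g : Matrix (Fin n) (Fin n) R) (v : Fin n → R) :
    Matrix (Fin n) (Fin n) R :=
  Matrix.of fun i j => (g ^ (j : ℕ)).mulVec v i

theorem krylov_mulVec {R : Type*} [CommRing R] (g : Matrix (Fin n) (Fin n) R) (v : Fin n → R)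
    (c : Fin n → R) :
    (krylov g v).mulVec c = (∑ k : Fin n, c k • g ^ (k : ℕ)).mulVec v := by
  funext i
  simp only [krylov, Matrix.mulVec, dotProduct, Matrix.of_apply, Matrix.sum_apply,
    Matrix.smul_apply, smul_eq_mul, Finset.sum_mul]
  rw [Finset.sum_comm]
  apply Finset.sum_congr rfl
  intro k _
  apply Finset.sum_congr rfl
  intro l _
  ring

theorem krylov_map {R T : Type*} [CommRing R] [CommRing T] (φ : R →+* T)
    (g : Matrix (Fin n) (Fin n) R) (v : Fin n → R) :
    (krylov g v).map φ = krylov (g.map φ) (φ ∘ v) := by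
  ext i j
  simp only [krylov, Matrix.map_apply, Matrix.of_apply]
  rw [RingHom.map_mulVec, Matrix.map_pow]

theorem exists_krylov_det_ne_zero {K : Type*} [Field K] (M : Matrix (Fin n) (Fin n) K)
    (hfr : Module.finrank K
      (Subalgebra.centralizer K ({M} : Set (Matrix (Fin n) (Fin n) K))) = n) :
    ∃ v : Fin n → K, (krylov M v).det ≠ 0 := by
  obtain ⟨v, hv⟩ := CyclicVecD.exists_cyclic_vector M hfr
  refine ⟨v, ?_⟩
  have hsurj : Function.Surjective (krylov M v).mulVec := by
    intro w
    obtain ⟨q, hq⟩ := hv w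
    rcases Nat.eq_zero_or_pos n with hn | hn
    · subst hn
      exact ⟨0, Subsingleton.elim _ _⟩
    have hχ : M.charpoly.Monic := Matrix.charpoly_monic M
    have hdeg : (q %ₘ M.charpoly).natDegree < n := by
      have h1 := Polynomial.natDegree_modByMonic_lt q hχ (by
        intro h
        have h2 := Matrix.charpoly_natDegree_eq_dim M
        rw [h, natDegree_one, Fintype.card_fin] at h2
        omega)
      rwa [Matrix.charpoly_natDegree_eq_dim, Fintype.card_fin] at h1
    have h3 : aeval M q = aeval M (q %ₘ M.charpoly) := by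
      conv_lhs => rw [← Polynomial.modByMonic_add_div q M.charpoly]
      rw [map_add, map_mul, Matrix.aeval_self_charpoly, zero_mul, add_zero]
    refine ⟨fun k => (q %ₘ M.charpoly).coeff k, ?_⟩
    rw [krylov_mulVec, ← hq, h3, aeval_eq_sum_range' hdeg, Finset.sum_range]
  have hunit := Matrix.mulVec_surjective_iff_isUnit.1 hsurj
  exact ((Matrix.isUnit_iff_isUnit_det _).1 hunit).ne_zero

end Groth.Agent.Lib.Helper12.CyclicVecG
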