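import Mathlib
import Groth.Agent.Lib.Helper12.CyclicVecG

/-!
# Cyclic vectors, part H: for a fiberwise regular matrix `g` over any ring, the commutant is freely
spanned by `1, g, …, g^(n-1)`
-/

set_option autoImplicit false

namespace Groth.Agent.Lib.Helper12.CyclicVecH

open Polynomial Groth.Agent.Lib.Helper12.CyclicVecG

universe u

variable {B : Type u} [CommRing B] {n : ℕ} (g : Matrix (Fin n) (Fin n) B)

/-- fiberwise regularity -/
def FibReg : Prop :=
  ∀ (K : Type u) [Field K] (φ : B →+* K),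
    Module.finrank K (Subalgebra.centralizer K ({g.map φ} : Set (Matrix (Fin n) (Fin n) K))) = n

variable {g}

theorem exists_det_notMem (hreg : FibReg g) (𝔪 : Ideal B) [h𝔪 : 𝔪.IsMaximal] :
    ∃ v₀ : Fin n → B, (krylov g v₀).det ∉ 𝔪 := by
  letI : Field (B ⧸ 𝔪) := Ideal.Quotient.field 𝔪
  obtain ⟨v, hv⟩ := exists_krylov_det_ne_zero (g.map (Ideal.Quotient.mk 𝔪))
    (hreg (B ⧸ 𝔪) (Ideal.Quotient.mk 𝔪))
  choose v₀ hv₀ using fun i => Ideal.Quotient.mk_surjective (v i)
  refine ⟨v₀, fun hmem => hv ?_⟩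
  have h1 : Ideal.Quotient.mk 𝔪 ∘ v₀ = v := funext hv₀
  rw [← h1, ← krylov_map, ← RingHom.mapMatrix_apply, ← RingHom.map_det]
  exact Ideal.Quotient.eq_zero_iff_mem.2 hmem

theorem comb_injective (hreg : FibReg g) (c : Fin n → B)
    (hc : ∑ k : Fin n, c k • g ^ (k : ℕ) = 0) : c = 0 := by
  let 𝔞 : Ideal B :=
    { carrier := {b | ∀ k, b * c k = 0}
      add_mem' := fun {a b} ha hb k => by rw [add_mul, ha k, hb k, add_zero]
      zero_mem' := fun k => zero_mul _
      smul_mem' := fun a b hb k => by rw [smul_eq_mul, mul_assoc, hb k, mul_zero] }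
  have htop : 𝔞 = ⊤ := by
    by_contra hne
    obtain ⟨𝔪, h𝔪, hle⟩ := Ideal.exists_le_maximal 𝔞 hne
    obtain ⟨v₀, hv₀⟩ := exists_det_notMem hreg 𝔪
    apply hv₀
    apply hle
    intro k
    have h1 : (krylov g v₀).mulVec c = 0 := by
      rw [krylov_mulVec, hc, Matrix.zero_mulVec]
    have h2 : ((krylov g v₀).adjugate * krylov g v₀).mulVec c = 0 := by
      rw [← Matrix.mulVec_mulVec, h1, Matrix.mulVec_zero]
    rw [Matrix.adjugate_mul, Matrix.smul_mulVec, Matrix.one_mulVec] at h2
    exact congrFun h2 k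
  have h1 : (1 : B) ∈ 𝔞 := by rw [htop]; trivial
  funext k
  simpa using h1 k

theorem comb_surjective (hreg : FibReg g) (x : Matrix (Fin n) (Fin n) B) (hx : x * g = g * x) :
    ∃ c : Fin n → B, x = ∑ k : Fin n, c k • g ^ (k : ℕ) := by
  let 𝔞 : Ideal B :=
    { carrier := {b | ∃ c : Fin n → B, b • x = ∑ k : Fin n, c k • g ^ (k : ℕ)}
      add_mem' := by
        rintro a b ⟨c, hc⟩ ⟨c', hc'⟩
        refine ⟨c + c', ?_⟩
        rw [add_smul, hc, hc', ← Finset.sum_add_distrib]
        simp only [Pi.add_apply, add_smul]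
      zero_mem' := ⟨0, by simp⟩
      smul_mem' := by
        rintro a b ⟨c, hc⟩
        refine ⟨fun k => a * c k, ?_⟩
        rw [smul_eq_mul, mul_smul, hc, Finset.smul_sum]
        simp only [mul_smul] }
  have htop : 𝔞 = ⊤ := by
    by_contra hne
    obtain ⟨𝔪, h𝔪, hle⟩ := Ideal.exists_le_maximal 𝔞 hne
    obtain ⟨v₀, hv₀⟩ := exists_det_notMem hreg 𝔪
    have hmem : (krylov g v₀).det * (krylov g v₀).det ∈ 𝔪 := by
      apply hle
      set P := krylov g v₀ with hP
      set f := P.det with hf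
      set c := P.adjugate.mulVec (x.mulVec v₀) with hcdef
      set y := ∑ k : Fin n, c k • g ^ (k : ℕ) with hy
      have hyv : y.mulVec v₀ = f • x.mulVec v₀ := by
        rw [hy, ← krylov_mulVec, hcdef, Matrix.mulVec_mulVec, Matrix.mul_adjugate,
          Matrix.smul_mulVec, Matrix.one_mulVec]
      have hyg : y * g = g * y := by
        rw [hy, Finset.sum_mul, Finset.mul_sum]
        apply Finset.sum_congr rfl
        intro k _
        rw [Matrix.smul_mul, Matrix.mul_smul, ← pow_succ, ← pow_succ']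
      have hDg : (f • x - y) * g = g * (f • x - y) := by
        rw [sub_mul, mul_sub, Matrix.smul_mul, Matrix.mul_smul, hx, hyg]
      have hDv : (f • x - y).mulVec v₀ = 0 := by
        rw [Matrix.sub_mulVec, Matrix.smul_mulVec, hyv, sub_self]
      have hDpow : ∀ j : ℕ, (f • x - y) * g ^ j = g ^ j * (f • x - y) := by
        intro j
        exact ((show Commute (f • x - y) g from hDg).pow_right j).eq
      have hDP : (f • x - y) * P = 0 := by
        ext i j
        have h1 : ((f • x - y) * P) i j = ((f • x - y).mulVec ((g ^ (j : ℕ)).mulVec v₀)) i := by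
          simp only [Matrix.mul_apply, Matrix.mulVec, dotProduct, hP, krylov, Matrix.of_apply]
        rw [h1, Matrix.mulVec_mulVec, hDpow, ← Matrix.mulVec_mulVec, hDv, Matrix.mulVec_zero]
        rfl
      have hfD : f • (f • x - y) = 0 := by
        have h1 : (f • x - y) * (P * P.adjugate) = 0 := by
          rw [← mul_assoc, hDP, zero_mul]
        rw [Matrix.mul_adjugate, Matrix.mul_smul, mul_one] at h1
        exact h1
      refine ⟨fun k => f * c k, ?_⟩
      rw [smul_sub, sub_eq_zero] at hfD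
      rw [mul_smul, hfD, hy, Finset.smul_sum]
      simp only [mul_smul]
    rcases h𝔪.isPrime.mem_or_mem hmem with h | h <;> exact hv₀ h
  have h1 : (1 : B) ∈ 𝔞 := by rw [htop]; trivial
  obtain ⟨c, hc⟩ := h1
  exact ⟨c, by rw [← hc, one_smul]⟩

end Groth.Agent.Lib.Helper12.CyclicVecH
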