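import Mathlib
import Groth.Agent.Lib.Helper12.CyclicVecH

/-!
# Cyclic vectors, part I: the commutant scheme of a fiberwise regular matrix is an affine space
-/

set_option autoImplicit false

namespace Groth.Agent.Lib.Helper12.CyclicVecI

open Groth.Agent.Lib.Helper12.CyclicVecH

universe u

variable {A : Type u} [CommRing A] {n : ℕ} (g : Matrix (Fin n) (Fin n) A)

/-- the ideal of the commutant scheme -/
noncomputable def I : Ideal (MvPolynomial (Fin n × Fin n) A) :=
  Ideal.span (Set.range fun ij : Fin n × Fin n =>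
    (Matrix.mvPolynomialX (Fin n) (Fin n) A * g.map MvPolynomial.C -
      g.map MvPolynomial.C * Matrix.mvPolynomialX (Fin n) (Fin n) A :
        Matrix (Fin n) (Fin n) (MvPolynomial (Fin n × Fin n) A)) ij.1 ij.2)

/-- base change of fiberwise regularity -/
theorem fibReg_map (hreg : FibReg g) {B : Type u} [CommRing B] (θ : A →+* B) :
    FibReg (g.map θ) := by
  intro K _ φ
  have h := hreg K (φ.comp θ)
  have h1 : (g.map θ).map φ = g.map (φ.comp θ) := by rw [Matrix.map_map]; rfl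
  rw [h1]
  exact h

/-- the generic polynomial in `g` -/
noncomputable def Y : Matrix (Fin n) (Fin n) (MvPolynomial (Fin n) A) :=
  ∑ k : Fin n, (MvPolynomial.X k : MvPolynomial (Fin n) A) • (g.map MvPolynomial.C) ^ (k : ℕ)

theorem Y_comm : Y g * g.map MvPolynomial.C = g.map MvPolynomial.C * Y g := by
  unfold Y
  rw [Finset.sum_mul, Finset.mul_sum]
  apply Finset.sum_congr rfl
  intro k _
  rw [Matrix.smul_mul, Matrix.mul_smul, ← pow_succ, ← pow_succ']

/-- the map on polynomial rings `x_ij ↦ (Σ c_k g^k)_ij` -/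
noncomputable def φ₀ : MvPolynomial (Fin n × Fin n) A →ₐ[A] MvPolynomial (Fin n) A :=
  MvPolynomial.aeval fun p : Fin n × Fin n => Y g p.1 p.2

theorem φ₀_mapMatrix_X : (φ₀ g).mapMatrix (Matrix.mvPolynomialX (Fin n) (Fin n) A) = Y g :=
  Matrix.mvPolynomialX_mapMatrix_aeval A (Y g)

theorem φ₀_mapMatrix_g : (φ₀ g).mapMatrix (g.map MvPolynomial.C) = g.map MvPolynomial.C := by
  ext i j
  simp [φ₀]

theorem φ₀_I : ∀ a ∈ I g, φ₀ g a = 0 := by
  intro a ha
  have hle : I g ≤ RingHom.ker (φ₀ g).toRingHom := by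
    unfold I
    rw [Ideal.span_le]
    rintro _ ⟨ij, rfl⟩
    simp only [SetLike.mem_coe, RingHom.mem_ker]
    have h1 : (φ₀ g).mapMatrix (Matrix.mvPolynomialX (Fin n) (Fin n) A * g.map MvPolynomial.C -
        g.map MvPolynomial.C * Matrix.mvPolynomialX (Fin n) (Fin n) A) = 0 := by
      rw [map_sub, map_mul, map_mul, φ₀_mapMatrix_X, φ₀_mapMatrix_g, Y_comm, sub_self]
    exact congrFun (congrFun h1 ij.1) ij.2
  exact hle ha

/-- the map from the coordinate ring of the commutant scheme to the polynomial ring -/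
noncomputable def φ : (MvPolynomial (Fin n × Fin n) A ⧸ I g) →ₐ[A] MvPolynomial (Fin n) A :=
  Ideal.Quotient.liftₐ (I g) (φ₀ g) (φ₀_I g)

/-- the universal commuting matrix -/
noncomputable def XQ : Matrix (Fin n) (Fin n) (MvPolynomial (Fin n × Fin n) A ⧸ I g) :=
  (Matrix.mvPolynomialX (Fin n) (Fin n) A).map (Ideal.Quotient.mk (I g))

/-- `g` over the coordinate ring -/
noncomputable def gQ : Matrix (Fin n) (Fin n) (MvPolynomial (Fin n × Fin n) A ⧸ I g) :=
  g.map (algebraMap A (MvPolynomial (Fin n × Fin n) A ⧸ I g))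

theorem gQ_eq : gQ g = (g.map MvPolynomial.C).map (Ideal.Quotient.mk (I g)) := by
  unfold gQ
  rw [Matrix.map_map]
  rfl

theorem XQ_comm : XQ g * gQ g = gQ g * XQ g := by
  rw [gQ_eq, XQ, ← Matrix.map_mul, ← Matrix.map_mul, ← sub_eq_zero, ← Matrix.map_sub]
  · ext i j
    rw [Matrix.map_apply, Matrix.zero_apply, Ideal.Quotient.eq_zero_iff_mem]
    exact Ideal.subset_span ⟨(i, j), rfl⟩
  · exact fun a b => map_sub _ a b

variable {g}

theorem exists_γ (hreg : FibReg g) :
    ∃ γ : Fin n → (MvPolynomial (Fin n × Fin n) A ⧸ I g),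
      XQ g = ∑ k : Fin n, γ k • gQ g ^ (k : ℕ) :=
  comb_surjective (fibReg_map g hreg _) (XQ g) (XQ_comm g)

/-- the coordinates of the universal commuting matrix -/
noncomputable def γ (hreg : FibReg g) : Fin n → (MvPolynomial (Fin n × Fin n) A ⧸ I g) :=
  (exists_γ hreg).choose

theorem γ_spec (hreg : FibReg g) : XQ g = ∑ k : Fin n, γ hreg k • gQ g ^ (k : ℕ) :=
  (exists_γ hreg).choose_spec

/-- the inverse map -/
noncomputable def ψ (hreg : FibReg g) :
    MvPolynomial (Fin n) A →ₐ[A] (MvPolynomial (Fin n × Fin n) A ⧸ I g) :=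
  MvPolynomial.aeval (γ hreg)

theorem φ_mapMatrix_gQ : (φ g).mapMatrix (gQ g) = g.map MvPolynomial.C := by
  ext i j
  simp only [gQ, AlgHom.mapMatrix_apply, Matrix.map_apply]
  rw [AlgHom.commutes]
  rfl

theorem φ_mapMatrix_XQ : (φ g).mapMatrix (XQ g) = Y g := by
  rw [← φ₀_mapMatrix_X]
  ext i j
  simp only [XQ, AlgHom.mapMatrix_apply, Matrix.map_apply]
  rfl

theorem φ_γ (hreg : FibReg g) (k : Fin n) : φ g (γ hreg k) = MvPolynomial.X k := by
  have h1 := congrArg (φ g).mapMatrix (γ_spec hreg)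
  rw [φ_mapMatrix_XQ, map_sum] at h1
  have h2 : ∀ k : Fin n, (φ g).mapMatrix (γ hreg k • gQ g ^ (k : ℕ)) =
      φ g (γ hreg k) • (g.map MvPolynomial.C) ^ (k : ℕ) := by
    intro k
    rw [← φ_mapMatrix_gQ, ← map_pow]
    ext i j
    simp [AlgHom.mapMatrix_apply, Matrix.map_apply, Matrix.smul_apply]
  simp only [h2] at h1
  have h3 : ∑ k : Fin n, (φ g (γ hreg k) - MvPolynomial.X k) •
      (g.map (MvPolynomial.C : A →+* MvPolynomial (Fin n) A)) ^ (k : ℕ) = 0 := by
    simp only [sub_smul, Finset.sum_sub_distrib]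
    rw [← h1, sub_eq_zero]
    rfl
  have h4 := comb_injective (fibReg_map g hreg (MvPolynomial.C : A →+* MvPolynomial (Fin n) A))
    _ h3
  have h5 := congrFun h4 k
  simpa [sub_eq_zero] using h5

theorem φ_comp_ψ (hreg : FibReg g) : (φ g).comp (ψ hreg) = AlgHom.id A _ := by
  apply MvPolynomial.algHom_ext
  intro k
  simp [ψ, φ_γ hreg k]

theorem ψ_mapMatrix_Y (hreg : FibReg g) : (ψ hreg).mapMatrix (Y g) = XQ g := by
  rw [γ_spec hreg, Y, map_sum]
  apply Finset.sum_congr rfl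
  intro k _
  have h1 : (ψ hreg).mapMatrix (g.map MvPolynomial.C) = gQ g := by
    ext i j
    simp only [AlgHom.mapMatrix_apply, Matrix.map_apply, gQ]
    exact (ψ hreg).commutes _
  rw [← h1, ← map_pow]
  ext i j
  simp [AlgHom.mapMatrix_apply, Matrix.map_apply, Matrix.smul_apply, ψ]

theorem ψ_comp_φ (hreg : FibReg g) : (ψ hreg).comp (φ g) = AlgHom.id A _ := by
  apply Ideal.Quotient.algHom_ext
  apply MvPolynomial.algHom_ext
  rintro ⟨i, j⟩
  simp only [AlgHom.comp_apply, Ideal.Quotient.mkₐ_eq_mk, AlgHom.id_apply]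
  have h1 : φ g (Ideal.Quotient.mk (I g) (MvPolynomial.X (i, j))) = Y g i j := by
    simp [φ, φ₀]
  rw [h1]
  have h2 := congrFun (congrFun (ψ_mapMatrix_Y hreg) i) j
  simp only [AlgHom.mapMatrix_apply, Matrix.map_apply] at h2
  rw [h2]
  rfl

/-- the coordinate ring of the commutant scheme is a polynomial ring -/
noncomputable def equiv (hreg : FibReg g) :
    (MvPolynomial (Fin n × Fin n) A ⧸ I g) ≃ₐ[A] MvPolynomial (Fin n) A :=
  AlgEquiv.ofAlgHom (φ g) (ψ hreg) (φ_comp_ψ hreg) (ψ_comp_φ hreg)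

theorem flat_quotient (hreg : FibReg g) :
    Module.Flat A (MvPolynomial (Fin n × Fin n) A ⧸ I g) :=
  Module.Flat.of_linearEquiv (equiv hreg).toLinearEquiv

end Groth.Agent.Lib.Helper12.CyclicVecI
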