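import Mathlib
import Groth.Prelude.Def_Exal

/-!
# First order deformations of an affine scheme and algebra extensions: algebra part A

For an extension `E` of `B` by `B` (as `k`-algebras) the middle ring is a flat `k[ε]`-algebra with
`E/εE = B`.
-/

set_option autoImplicit false
universe u
open CategoryTheory CategoryTheory.Limits TensorProduct

namespace Groth.Agent.Lib.Helper12.DefExal

/-- A commutative square of rings with surjective `ρ`, `π` and `ker π ≤ (ker ρ) R'` is a pushout. -/
theorem isPushout_of_surjective {R S R' S' : Type u} [CommRing R] [CommRing S] [CommRing R']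
    [CommRing S'] (φ : R →+* R') (ρ : R →+* S) (π : R' →+* S') (ψ : S →+* S')
    (hcomm : ∀ r, π (φ r) = ψ (ρ r)) (hρ : Function.Surjective ρ) (hπ : Function.Surjective π)
    (hker : RingHom.ker π ≤ (RingHom.ker ρ).map φ) :
    IsPushout (CommRingCat.ofHom φ) (CommRingCat.ofHom ρ) (CommRingCat.ofHom π)
      (CommRingCat.ofHom ψ) := by
  have hw : CommRingCat.ofHom φ ≫ CommRingCat.ofHom π =
      CommRingCat.ofHom ρ ≫ CommRingCat.ofHom ψ := by
    refine CommRingCat.hom_ext (RingHom.ext fun r => ?_)
    exact hcomm r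
  have hk : ∀ s : PushoutCocone (CommRingCat.ofHom φ) (CommRingCat.ofHom ρ),
      RingHom.ker π ≤ RingHom.ker s.inl.hom := by
    intro s
    refine hker.trans ?_
    rw [Ideal.map_le_iff_le_comap]
    intro d hd
    rw [Ideal.mem_comap, RingHom.mem_ker]
    have h1 := congrArg (fun f => f.hom d) s.condition
    have h2 : s.inl.hom (φ d) = s.inr.hom (ρ d) := h1
    rw [h2, (RingHom.mem_ker).1 hd, map_zero]
  refine ⟨⟨hw⟩, ⟨PushoutCocone.IsColimit.mk _
    (fun s => CommRingCat.ofHom (RingHom.liftOfSurjective π hπ ⟨s.inl.hom, hk s⟩)) ?_ ?_ ?_⟩⟩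
  · intro s
    refine CommRingCat.hom_ext (RingHom.ext fun y => ?_)
    exact RingHom.liftOfSurjective_comp_apply π hπ ⟨s.inl.hom, hk s⟩ y
  · intro s
    refine CommRingCat.hom_ext (RingHom.ext fun c => ?_)
    obtain ⟨d, rfl⟩ := hρ c
    change (RingHom.liftOfSurjective π hπ ⟨s.inl.hom, hk s⟩) (ψ (ρ d)) = s.inr.hom (ρ d)
    rw [← hcomm, RingHom.liftOfSurjective_comp_apply]
    have h1 := congrArg (fun f => f.hom d) s.condition
    exact h1
  · intro s m h1 _
    refine CommRingCat.hom_ext (RingHom.ext fun b => ?_)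
    obtain ⟨y, rfl⟩ := hπ b
    change m.hom (π y) = (RingHom.liftOfSurjective π hπ ⟨s.inl.hom, hk s⟩) (π y)
    rw [RingHom.liftOfSurjective_comp_apply]
    have h2 := congrArg (fun f => f.hom y) h1
    exact h2

section Dual

variable (k : Type u) [Field k]

/-- The kernel of `k[ε] → k` is generated by `ε`. -/
theorem ker_fst_eq_span :
    RingHom.ker (TrivSqZeroExt.fstHom k k k : DualNumber k →ₐ[k] k) =
      Ideal.span {(DualNumber.eps : DualNumber k)} := by
  apply le_antisymm
  · intro d hd
    have h0 : d.fst = 0 := hd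
    rw [Ideal.mem_span_singleton']
    refine ⟨TrivSqZeroExt.inl d.snd, ?_⟩
    refine TrivSqZeroExt.ext ?_ ?_
    · simp [h0]
    · simp
  · rw [Ideal.span_le]
    rintro _ rfl
    change (DualNumber.eps : DualNumber k).fst = 0
    exact DualNumber.fst_eps

theorem mem_ker_fst_iff (d : DualNumber k) :
    d ∈ RingHom.ker (TrivSqZeroExt.fstHom k k k : DualNumber k →ₐ[k] k) ↔ d.fst = 0 := Iff.rfl

theorem eq_smul (d : DualNumber k) :
    d = d.fst • (1 : DualNumber k) + d.snd • (DualNumber.eps : DualNumber k) := by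
  refine TrivSqZeroExt.ext ?_ ?_
  · simp
  · simp

theorem fst_eq_zero_of_mul_eps (a : DualNumber k) (h : a * DualNumber.eps = 0) : a.fst = 0 := by
  have := congrArg TrivSqZeroExt.snd h
  simpa using this

end Dual

section Ext

variable {k B : Type u} [Field k] [CommRing B] [Algebra k B] (E : Exal.Ext k B B)

/-- The image of `1` in the middle ring. -/
noncomputable def epsE : E.E := E.incl 1

theorem proj_incl (z : B) : E.proj (E.incl z) = 0 := (E.isExtension.exact _).2 ⟨z, rfl⟩

theorem mul_epsE (y : E.E) : y * epsE E = E.incl (E.proj y) := by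
  rw [epsE, E.isExtension.mul_incl, smul_eq_mul, mul_one]

theorem epsE_mul_self : epsE E * epsE E = 0 := by
  rw [mul_epsE, epsE, proj_incl, map_zero]

theorem proj_epsE : E.proj (epsE E) = 0 := proj_incl E 1

/-- The structure map `k[ε] → E`. -/
noncomputable def phiE : DualNumber k →ₐ[k] E.E :=
  DualNumber.lift ⟨(Algebra.ofId k E.E, epsE E), epsE_mul_self E, fun _ => Commute.all _ _⟩

theorem phiE_eps : phiE E DualNumber.eps = epsE E := DualNumber.lift_apply_eps _

theorem phiE_apply (d : DualNumber k) :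
    phiE E d = algebraMap k E.E d.fst + algebraMap k E.E d.snd * epsE E :=
  DualNumber.lift_apply_apply _ _

theorem proj_phiE (d : DualNumber k) : E.proj (phiE E d) = algebraMap k B d.fst := by
  rw [phiE_apply, map_add, map_mul, proj_epsE, mul_zero, add_zero, AlgHom.commutes]

theorem ker_proj_le :
    RingHom.ker (E.proj : E.E →+* B) ≤
      (RingHom.ker (TrivSqZeroExt.fstHom k k k : DualNumber k →ₐ[k] k)).map
        (phiE E : DualNumber k →+* E.E) := by
  intro y hy
  have hy0 : E.proj y = 0 := hy
  obtain ⟨z, rfl⟩ := (E.isExtension.exact y).1 hy0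
  obtain ⟨y', rfl⟩ := E.isExtension.proj_surjective z
  rw [← mul_epsE, ← phiE_eps]
  refine Ideal.mul_mem_left _ _ (Ideal.mem_map_of_mem _ ?_)
  change (DualNumber.eps : DualNumber k).fst = 0
  exact DualNumber.fst_eps

theorem flat_phiE : (phiE E : DualNumber k →+* E.E).Flat := by
  letI : Algebra (DualNumber k) E.E := (phiE E : DualNumber k →+* E.E).toAlgebra
  haveI : IsScalarTower k (DualNumber k) E.E :=
    IsScalarTower.of_algebraMap_eq (fun c => ((phiE E).commutes c).symm)
  change Module.Flat (DualNumber k) E.E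
  obtain ⟨s, hs⟩ := (E.proj.toLinearMap).exists_rightInverse_of_surjective
    (LinearMap.range_eq_top.2 E.isExtension.proj_surjective)
  have hs' : ∀ b, E.proj (s b) = b := fun b => by
    have := congrArg (fun f => f b) hs
    exact this
  let Ψ : DualNumber k ⊗[k] B →ₗ[DualNumber k] E.E := LinearMap.liftBaseChange (DualNumber k) s
  have hsmul : ∀ (d : DualNumber k) (y : E.E), d • y = phiE E d * y := fun d y => rfl
  have hΨ1 : ∀ b, Ψ ((1 : DualNumber k) ⊗ₜ b) = s b := by
    intro b
    rw [LinearMap.liftBaseChange_tmul, one_smul]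
  have hΨε : ∀ b, Ψ ((DualNumber.eps : DualNumber k) ⊗ₜ b) = E.incl b := by
    intro b
    rw [LinearMap.liftBaseChange_tmul, hsmul, phiE_eps, mul_comm, mul_epsE, hs']
  have hdec : ∀ t : DualNumber k ⊗[k] B, ∃ x y : B,
      t = (1 : DualNumber k) ⊗ₜ x + (DualNumber.eps : DualNumber k) ⊗ₜ y := by
    intro t
    induction t using TensorProduct.induction_on with
    | zero => exact ⟨0, 0, by simp⟩
    | tmul d b =>
      refine ⟨d.fst • b, d.snd • b, ?_⟩
      conv_lhs => rw [eq_smul k d]
      rw [TensorProduct.add_tmul, TensorProduct.smul_tmul, TensorProduct.smul_tmul]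
    | add t t' ht ht' =>
      obtain ⟨x, y, rfl⟩ := ht
      obtain ⟨x', y', rfl⟩ := ht'
      refine ⟨x + x', y + y', ?_⟩
      rw [TensorProduct.tmul_add, TensorProduct.tmul_add]
      abel
  have hbij : Function.Bijective Ψ := by
    constructor
    · rw [injective_iff_map_eq_zero]
      intro t ht
      obtain ⟨x, y, rfl⟩ := hdec t
      rw [map_add, hΨ1, hΨε] at ht
      have h1 := congrArg E.proj ht
      rw [map_add, hs', proj_incl, add_zero, map_zero] at h1
      rw [h1, map_zero, zero_add] at ht
      have h2 : y = 0 := E.isExtension.incl_injective (by rw [ht, map_zero])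
      rw [h1, h2, TensorProduct.tmul_zero, TensorProduct.tmul_zero, add_zero]
    · intro e
      have h1 : E.proj (e - s (E.proj e)) = 0 := by rw [map_sub, hs', sub_self]
      obtain ⟨y, hy⟩ := (E.isExtension.exact _).1 h1
      refine ⟨(1 : DualNumber k) ⊗ₜ (E.proj e) + (DualNumber.eps : DualNumber k) ⊗ₜ y, ?_⟩
      rw [map_add, hΨ1, hΨε, hy]
      ring
  exact Module.Flat.of_linearEquiv (LinearEquiv.ofBijective Ψ hbij).symm

end Ext

end Groth.Agent.Lib.Helper12.DefExal
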