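import Mathlib
import Groth.Prelude.Def_ArtFun4
import Groth.Agent.Lib.Helper12.DefExalA

/-!
# First order deformations of an affine scheme and algebra extensions: part B

The deformation `Spec E → Spec k[ε]` attached to an extension `E` of `B` by `B`; equivalent
extensions give isomorphic deformations and conversely.
-/

set_option autoImplicit false
universe u
open CategoryTheory CategoryTheory.Limits AlgebraicGeometry ArtFun ArtFun.Art

namespace Groth.Agent.Lib.Helper12.DefExal

theorem SpecMap_comp_eq {R S T : Type u} [CommRing R] [CommRing S] [CommRing T]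
    (a : S →+* T) (b : R →+* S) (c : R →+* T) (h : ∀ x, a (b x) = c x) :
    Spec.map (CommRingCat.ofHom a) ≫ Spec.map (CommRingCat.ofHom b) =
      Spec.map (CommRingCat.ofHom c) := by
  rw [← Spec.map_comp, ← CommRingCat.ofHom_comp]
  congr 2
  exact RingHom.ext h

variable {k B : Type u} [Field k] [CommRing B] [Algebra k B]

theorem fst_surjective :
    Function.Surjective (TrivSqZeroExt.fstHom k k k : DualNumber k →ₐ[k] k) :=
  fun a => ⟨TrivSqZeroExt.inl a, rfl⟩

/-- The first order deformation of `Spec B` attached to an extension of `B` by `B`. -/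
noncomputable def defOf (E : Exal.Ext k B B) :
    DefSch (Λ := k) (Spec (CommRingCat.of B)) (Spec.map (CommRingCat.ofHom (algebraMap k B)))
      (Art.dual k k) where
  total := Spec (CommRingCat.of E.E)
  f := Spec.map (CommRingCat.ofHom (phiE E : DualNumber k →+* E.E))
  flat := Flat.SpecMap_iff.2 (flat_phiE E)
  i := Spec.map (CommRingCat.ofHom (E.proj : E.E →+* B))
  isPullback :=
    ((isPushout_of_surjective (phiE E : DualNumber k →+* E.E)
      ((TrivSqZeroExt.fstHom k k k : DualNumber k →ₐ[k] k) : DualNumber k →+* k)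
      (E.proj : E.E →+* B) (algebraMap k B) (proj_phiE E) fst_surjective
      E.isExtension.proj_surjective (ker_proj_le E)).op.map Scheme.Spec).flip

theorem epsE_map {E E' : Exal.Ext k B B} (e : Exal.Ext.Equiv E E') :
    e.toAlgEquiv (epsE E) = epsE E' := e.apply_incl 1

theorem phiE_map {E E' : Exal.Ext k B B} (e : Exal.Ext.Equiv E E') (d : DualNumber k) :
    e.toAlgEquiv (phiE E d) = phiE E' d := by
  rw [phiE_apply, phiE_apply, map_add, map_mul, AlgEquiv.commutes, AlgEquiv.commutes, epsE_map]

/-- Equivalent extensions give isomorphic deformations. -/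
noncomputable def isoOf {E E' : Exal.Ext k B B} (e : Exal.Ext.Equiv E E') :
    DefSch.Iso (defOf E) (defOf E') where
  iso :=
    { hom := Spec.map (CommRingCat.ofHom (e.toAlgEquiv.symm : E'.E →+* E.E))
      inv := Spec.map (CommRingCat.ofHom (e.toAlgEquiv : E.E →+* E'.E))
      hom_inv_id := by
        have := SpecMap_comp_eq (e.toAlgEquiv.symm : E'.E →+* E.E) (e.toAlgEquiv : E.E →+* E'.E)
          (RingHom.id _) (fun x => e.toAlgEquiv.symm_apply_apply x)
        refine this.trans ?_
        rw [CommRingCat.ofHom_id]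
        exact Spec.map_id _
      inv_hom_id := by
        have := SpecMap_comp_eq (e.toAlgEquiv : E.E →+* E'.E) (e.toAlgEquiv.symm : E'.E →+* E.E)
          (RingHom.id _) (fun x => e.toAlgEquiv.apply_symm_apply x)
        refine this.trans ?_
        rw [CommRingCat.ofHom_id]
        exact Spec.map_id _ }
  hom_f := by
    refine SpecMap_comp_eq (e.toAlgEquiv.symm : E'.E →+* E.E) (phiE E' : DualNumber k →+* E'.E)
      (phiE E : DualNumber k →+* E.E) (fun d => ?_)
    change e.toAlgEquiv.symm (phiE E' d) = phiE E d
    rw [AlgEquiv.symm_apply_eq, phiE_map]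
  i_hom := by
    refine SpecMap_comp_eq (E.proj : E.E →+* B) (e.toAlgEquiv.symm : E'.E →+* E.E)
      (E'.proj : E'.E →+* B) (fun y => ?_)
    change E.proj (e.toAlgEquiv.symm y) = E'.proj y
    rw [← e.proj_apply, AlgEquiv.apply_symm_apply]

/-- Isomorphic deformations come from equivalent extensions. -/
theorem nonempty_equiv_of_iso {E E' : Exal.Ext k B B} (I : DefSch.Iso (defOf E) (defOf E')) :
    Nonempty (Exal.Ext.Equiv E E') := by
  let τ : CommRingCat.of E'.E ⟶ CommRingCat.of E.E :=
    Spec.preimage (R := CommRingCat.of E'.E) (S := CommRingCat.of E.E) I.iso.hom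
  let τ' : CommRingCat.of E.E ⟶ CommRingCat.of E'.E :=
    Spec.preimage (R := CommRingCat.of E.E) (S := CommRingCat.of E'.E) I.iso.inv
  have hτ : Spec.map τ = I.iso.hom := Spec.map_preimage _
  have hτ' : Spec.map τ' = I.iso.inv := Spec.map_preimage _
  have h1 : τ ≫ τ' = 𝟙 _ := by
    apply Spec.map_injective
    rw [Spec.map_comp, hτ, hτ', Spec.map_id]
    exact I.iso.inv_hom_id
  have h2 : τ' ≫ τ = 𝟙 _ := by
    apply Spec.map_injective
    rw [Spec.map_comp, hτ, hτ', Spec.map_id]
    exact I.iso.hom_inv_id
  have h3 : CommRingCat.ofHom (phiE E' : DualNumber k →+* E'.E) ≫ τ =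
      CommRingCat.ofHom (phiE E : DualNumber k →+* E.E) := by
    apply Spec.map_injective
    rw [Spec.map_comp, hτ]
    exact I.hom_f
  have h4 : τ ≫ CommRingCat.ofHom (E.proj : E.E →+* B) =
      CommRingCat.ofHom (E'.proj : E'.E →+* B) := by
    apply Spec.map_injective
    rw [Spec.map_comp, hτ]
    exact I.i_hom
  have e1 : ∀ y', τ'.hom (τ.hom y') = y' := fun y' => by
    have := congrArg (fun f => f.hom y') h1
    exact this
  have e2 : ∀ y, τ.hom (τ'.hom y) = y := fun y => by
    have := congrArg (fun f => f.hom y) h2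
    exact this
  have e3 : ∀ d, τ.hom (phiE E' d) = phiE E d := fun d => by
    have := congrArg (fun f => f.hom d) h3
    exact this
  have e4 : ∀ y', E.proj (τ.hom y') = E'.proj y' := fun y' => by
    have := congrArg (fun f => f.hom y') h4
    exact this
  have e3' : ∀ d, τ'.hom (phiE E d) = phiE E' d := fun d => by
    rw [← e3, e1]
  have e4' : ∀ y, E'.proj (τ'.hom y) = E.proj y := fun y => by
    rw [← e4, e2]
  have hc : ∀ (E : Exal.Ext k B B) (c : k), phiE E (algebraMap k (DualNumber k) c) =
      algebraMap k E.E c := fun E c => (phiE E).commutes c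
  let f : E.E →ₐ[k] E'.E := ⟨τ'.hom, fun c => by
    change τ'.hom (algebraMap k E.E c) = algebraMap k E'.E c
    rw [← hc, e3', hc]⟩
  let g : E'.E →ₐ[k] E.E := ⟨τ.hom, fun c => by
    change τ.hom (algebraMap k E'.E c) = algebraMap k E.E c
    rw [← hc, e3, hc]⟩
  refine ⟨{ toAlgEquiv := AlgEquiv.ofAlgHom f g (AlgHom.ext e1) (AlgHom.ext e2)
            proj_apply := fun y => e4' y
            apply_incl := fun z => ?_ }⟩
  obtain ⟨y, rfl⟩ := E.isExtension.proj_surjective z
  change τ'.hom (E.incl (E.proj y)) = E'.incl (E.proj y)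
  rw [← mul_epsE, map_mul, ← phiE_eps, e3', phiE_eps, mul_epsE, e4']

variable (k B) in
/-- The map from extension classes to first order deformation classes. -/
noncomputable def Phi :
    Exal.Exalcom k B B →
      (defFunctor (Λ := k) (Spec (CommRingCat.of B))
        (Spec.map (CommRingCat.ofHom (algebraMap k B)))).obj (Art.dual k k) :=
  Quotient.lift (s := Exal.Ext.setoid k B B) (fun E => (defOf E).cl)
    (fun _ _ h => Quotient.sound (h.elim fun e => ⟨isoOf e⟩))

theorem Phi_cl (E : Exal.Ext k B B) : Phi k B E.cl = (defOf E).cl := rfl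

theorem Phi_injective : Function.Injective (Phi k B) := by
  intro a b
  induction a using Quotient.inductionOn with | _ E => ?_
  induction b using Quotient.inductionOn with | _ E' => ?_
  intro h
  have h' : (defOf E).cl = (defOf E').cl := h
  obtain ⟨I⟩ := Quotient.exact h'
  exact Quotient.sound (nonempty_equiv_of_iso I)

end Groth.Agent.Lib.Helper12.DefExal
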