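import Mathlib

/-!
# Kernel of a flat base change
-/

set_option autoImplicit false
set_option linter.unusedSectionVars false
set_option linter.style.haveILetI false
universe u

open TensorProduct

namespace Groth.Agent.Lib.Helper12.HCoup

/-- If `S' = S ⊗[R] R'` with `S` flat over `R`, then the kernel of `S → S'` is generated by the
kernel of `R → R'`. -/
theorem ker_le_map_of_isPushout (R S R' S' : Type u) [CommRing R] [CommRing S] [CommRing R']
    [CommRing S'] [Algebra R S] [Algebra R R'] [Algebra S S'] [Algebra R' S'] [Algebra R S']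
    [IsScalarTower R R' S'] [IsScalarTower R S S'] [Algebra.IsPushout R S R' S']
    [Module.Flat R S] :
    RingHom.ker (algebraMap S S') ≤ (RingHom.ker (algebraMap R R')).map (algebraMap R S) := by
  intro s hs
  rw [RingHom.mem_ker] at hs
  set J : Ideal R := RingHom.ker (algebraMap R R') with hJ
  -- `s ⊗ 1 = 0` in `S ⊗ R'`
  have h1 : (s ⊗ₜ[R] (1 : R') : S ⊗[R] R') = 0 := by
    rw [← Algebra.IsPushout.equiv_symm_algebraMap_left R S R' S', hs, map_zero]
  -- the injection `R/J → R'`
  let ι : (R ⧸ J) →ₗ[R] R' := Submodule.liftQ J (Algebra.linearMap R R') (by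
    intro x hx
    exact hx)
  have hι : Function.Injective ι := by
    rw [← LinearMap.ker_eq_bot]
    apply Submodule.ker_liftQ_eq_bot
    intro x hx
    exact hx
  have h2 : Function.Injective (ι.lTensor S) :=
    Module.Flat.lTensor_preserves_injective_linearMap ι hι
  have h3 : (s ⊗ₜ[R] (Ideal.Quotient.mk J 1 : R ⧸ J) : S ⊗[R] (R ⧸ J)) = 0 := by
    apply h2
    rw [map_zero, LinearMap.lTensor_tmul]
    have : ι (Ideal.Quotient.mk J 1) = 1 := by
      show ι (Submodule.Quotient.mk 1) = 1
      rw [Submodule.liftQ_apply]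
      simp
    rw [this, h1]
  have h4 := congrArg (TensorProduct.tensorQuotEquivQuotSMul S J) h3
  rw [TensorProduct.tensorQuotEquivQuotSMul_tmul_mk, map_zero, one_smul,
    Submodule.Quotient.mk_eq_zero, Ideal.smul_top_eq_map] at h4
  exact h4

end Groth.Agent.Lib.Helper12.HCoup
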