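import Mathlib
import Groth.Agent.Lib.Helper12.HCoupC

/-!
# Kernel of a flat base change, `CommRingCat` version
-/

set_option autoImplicit false
set_option linter.unusedSectionVars false
set_option linter.style.haveILetI false
universe u

open CategoryTheory CategoryTheory.Limits

namespace Groth.Agent.Lib.Helper12.HCoup

theorem ker_le_map_of_isPushout_commRingCat {R S R' S' : CommRingCat.{u}} (a : R ⟶ R')
    (b : R ⟶ S) (b' : R' ⟶ S') (a' : S ⟶ S') (h : IsPushout a b b' a') (hb : b.hom.Flat) :
    RingHom.ker a'.hom ≤ (RingHom.ker a.hom).map b.hom := by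
  letI i1 : Algebra R R' := a.hom.toAlgebra
  letI i2 : Algebra R S := b.hom.toAlgebra
  letI i3 : Algebra R' S' := b'.hom.toAlgebra
  letI i4 : Algebra S S' := a'.hom.toAlgebra
  letI i5 : Algebra R S' := (a'.hom.comp b.hom).toAlgebra
  haveI t1 : IsScalarTower R S S' := IsScalarTower.of_algebraMap_eq' rfl
  haveI t2 : IsScalarTower R R' S' := by
    refine IsScalarTower.of_algebraMap_eq' ?_
    have := congrArg CommRingCat.Hom.hom h.w
    exact this.symm
  have hP : Algebra.IsPushout R R' S S' := by
    refine CommRingCat.isPushout_iff_isPushout.mp ?_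
    exact h
  haveI hP' : Algebra.IsPushout R S R' S' := hP.symm
  haveI : Module.Flat R S := hb
  exact ker_le_map_of_isPushout R S R' S'

end Groth.Agent.Lib.Helper12.HCoup
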