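import Mathlib

/-!
# Bijectivity over a nilpotent ideal: Nakayama + flatness
-/

set_option autoImplicit false
universe u
open TensorProduct

namespace Groth.Agent.Lib.Helper12.TrivDef

variable {A : Type*} [CommRing A]

theorem subsingleton_of_nilpotent {P : Type*} [AddCommGroup P] [Module A P] (I : Ideal A)
    (hI : IsNilpotent I) (h : (⊤ : Submodule A P) ≤ I • ⊤) : Subsingleton P := by
  have hn : ∀ n : ℕ, (⊤ : Submodule A P) ≤ I ^ n • ⊤ := by
    intro n
    induction n with
    | zero => simp
    | succ n ih =>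
      calc (⊤ : Submodule A P) ≤ I • ⊤ := h
        _ ≤ I • (I ^ n • ⊤) := smul_mono_right I ih
        _ = I ^ (n + 1) • ⊤ := by rw [← Submodule.mul_smul, ← pow_succ']
  obtain ⟨n, hn0⟩ := hI
  have h0 := hn n
  rw [hn0, Ideal.zero_eq_bot, Submodule.bot_smul] at h0
  refine subsingleton_of_forall_eq 0 fun x => ?_
  have : x ∈ (⊥ : Submodule A P) := h0 trivial
  simpa using this

theorem eq_top_of_sup_smul {P : Type*} [AddCommGroup P] [Module A P] (I : Ideal A)
    (hI : IsNilpotent I) (R : Submodule A P) (h : (⊤ : Submodule A P) ≤ R ⊔ I • ⊤) : R = ⊤ := by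
  have h1 : (⊤ : Submodule A (P ⧸ R)) ≤ I • ⊤ := by
    have h2 := Submodule.map_mono (f := R.mkQ) h
    rw [Submodule.map_top, Submodule.range_mkQ, Submodule.map_sup, Submodule.map_smul'',
      Submodule.map_top, Submodule.range_mkQ] at h2
    have h3 : R.map R.mkQ = ⊥ := Submodule.mkQ_map_self R
    rwa [h3, bot_sup_eq] at h2
  have := subsingleton_of_nilpotent I hI h1
  exact Submodule.Quotient.subsingleton_iff.mp this

theorem mem_smul_top_iff_tmul_eq_zero {P : Type*} [AddCommGroup P] [Module A P] (I : Ideal A)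
    (p : P) : p ∈ I • (⊤ : Submodule A P) ↔ (1 : A ⧸ I) ⊗ₜ[A] p = 0 := by
  rw [← (TensorProduct.quotTensorEquivQuotSMul P I).map_eq_zero_iff,
    TensorProduct.quotTensorEquivQuotSMul_mk_one_tmul, Submodule.Quotient.mk_eq_zero]

theorem bijective_of_nilpotent_of_flat {M N : Type*} [AddCommGroup M] [Module A M]
    [AddCommGroup N] [Module A N] (I : Ideal A) (hI : IsNilpotent I) [Module.Flat A N]
    (f : M →ₗ[A] N)
    (h1 : ∀ n : N, ∃ m : M, n - f m ∈ I • (⊤ : Submodule A N))
    (h2 : ∀ m : M, f m ∈ I • (⊤ : Submodule A N) → m ∈ I • (⊤ : Submodule A M)) :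
    Function.Bijective f := by
  have hsurj : Function.Surjective f := by
    rw [← LinearMap.range_eq_top]
    apply eq_top_of_sup_smul I hI
    intro n _
    obtain ⟨m, hm⟩ := h1 n
    have : n = f m + (n - f m) := by abel
    rw [this]
    exact Submodule.add_mem_sup ⟨m, rfl⟩ hm
  refine ⟨?_, hsurj⟩
  rw [← LinearMap.ker_eq_bot]
  let K := LinearMap.ker f
  have hinj := LinearMap.lTensor_injective_of_exact_of_flat f hsurj K.subtype
    K.subtype_injective (LinearMap.exact_subtype_ker_map f) (A ⧸ I)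
  have hK : (⊤ : Submodule A K) ≤ I • ⊤ := by
    intro x _
    rw [mem_smul_top_iff_tmul_eq_zero]
    apply hinj
    rw [map_zero, LinearMap.lTensor_tmul, Submodule.subtype_apply,
      ← mem_smul_top_iff_tmul_eq_zero]
    apply h2
    rw [LinearMap.mem_ker.mp x.2]
    exact Submodule.zero_mem _
  have := subsingleton_of_nilpotent I hI hK
  exact Submodule.subsingleton_iff_eq_bot.mp this

end Groth.Agent.Lib.Helper12.TrivDef
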