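import Mathlib
import Groth.Agent.Lib.Helper12.TrivDefA

/-!
# Flat deformations of a formally smooth algebra over an Artinian base are trivial (ring level)
-/

set_option autoImplicit false
universe u
open TensorProduct

namespace Groth.Agent.Lib.Helper12.TrivDef

section
variable (k A B B0 : Type u) [Field k] [CommRing A] [Algebra k A] [CommRing B] [Algebra k B]
  [Algebra A B] [IsScalarTower k A B] [CommRing B0] [Algebra k B0]

theorem exists_section_bijective (e : A →ₐ[k] k) (π : B →ₐ[k] B0) (hπ : Function.Surjective π)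
    [Module.Flat A B] [Algebra.FormallySmooth k B0]
    (hnil : IsNilpotent (RingHom.ker e))
    (hcomm : ∀ a, π (algebraMap A B a) = algebraMap k B0 (e a))
    (hker : RingHom.ker π ≤ (RingHom.ker e).map (algebraMap A B)) :
    ∃ σ : B0 →ₐ[k] B, π.comp σ = AlgHom.id k B0 ∧
      Function.Bijective (Algebra.TensorProduct.lift (Algebra.ofId A B) σ
        (fun _ _ => Commute.all _ _)) := by
  have hkerπ : IsNilpotent (RingHom.ker (π : B →+* B0)) := by
    obtain ⟨n, hn⟩ := hnil
    refine ⟨n, ?_⟩
    have h1 : RingHom.ker (π : B →+* B0) ^ n ≤ ((RingHom.ker e).map (algebraMap A B)) ^ n :=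
      Ideal.pow_right_mono hker n
    rw [← Ideal.map_pow, hn, Ideal.zero_eq_bot, Ideal.map_bot] at h1
    exact le_bot_iff.mp h1
  let σ : B0 →ₐ[k] B := Algebra.FormallySmooth.liftOfSurjective (AlgHom.id k B0) π hπ hkerπ
  have hσ : π.comp σ = AlgHom.id k B0 :=
    Algebra.FormallySmooth.comp_liftOfSurjective _ _ hπ hkerπ
  have hσ' : ∀ b0, π (σ b0) = b0 := fun b0 => by
    have := congrArg (fun f => f b0) hσ
    simpa using this
  refine ⟨σ, hσ, ?_⟩
  set Φ : A ⊗[k] B0 →ₐ[A] B := Algebra.TensorProduct.lift (Algebra.ofId A B) σ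
        (fun _ _ => Commute.all _ _) with hΦ
  set I : Ideal A := RingHom.ker e with hI
  -- π kills `I B`
  have hIπ : I.map (algebraMap A B) ≤ RingHom.ker π := by
    rw [Ideal.map_le_iff_le_comap]
    intro a ha
    rw [Ideal.mem_comap, RingHom.mem_ker, hcomm a]
    have : e a = 0 := ha
    rw [this, map_zero]
  let Ψ : A ⊗[k] B0 →ₐ[k] B0 := (Algebra.TensorProduct.lid k B0).toAlgHom.comp
    (Algebra.TensorProduct.map e (AlgHom.id k B0))
  have hΨ : ∀ t, π (Φ t) = Ψ t := by
    intro t
    induction t using TensorProduct.induction_on with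
    | zero => simp
    | tmul a b0 =>
      simp only [hΦ, Algebra.TensorProduct.lift_tmul, map_mul, Ψ, AlgHom.comp_apply,
        Algebra.TensorProduct.map_tmul, AlgHom.id_apply]
      rw [Algebra.ofId_apply, hcomm, hσ']
      simp [Algebra.smul_def]
    | add x y hx hy => simp only [map_add, hx, hy]
  have hbij : Function.Bijective Φ.toLinearMap := by
    apply bijective_of_nilpotent_of_flat I hnil
    · intro b
      refine ⟨1 ⊗ₜ π b, ?_⟩
      rw [Ideal.smul_top_eq_map]
      change b - Φ (1 ⊗ₜ π b) ∈ I.map (algebraMap A B)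
      apply hker
      rw [RingHom.mem_ker, map_sub, hΨ]
      simp [Ψ]
    · intro t ht
      rw [Ideal.smul_top_eq_map] at ht ⊢
      have ht' : Φ t ∈ I.map (algebraMap A B) := ht
      have h0 : π (Φ t) = 0 := hIπ ht'
      rw [hΨ] at h0
      have h1 : Algebra.TensorProduct.map e (AlgHom.id k B0) t = 0 := by
        apply (Algebra.TensorProduct.lid k B0).injective
        rw [map_zero]
        exact h0
      have h2 : t ∈ RingHom.ker (Algebra.TensorProduct.map e (AlgHom.id k B0)) := h1
      rw [Algebra.TensorProduct.rTensor_ker e (fun c => ⟨algebraMap k A c, by simp⟩)] at h2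
      exact h2
  exact hbij

theorem exists_section_isPushout (e : A →ₐ[k] k) (π : B →ₐ[k] B0) (hπ : Function.Surjective π)
    [Module.Flat A B] [Algebra.FormallySmooth k B0]
    (hnil : IsNilpotent (RingHom.ker e))
    (hcomm : ∀ a, π (algebraMap A B a) = algebraMap k B0 (e a))
    (hker : RingHom.ker π ≤ (RingHom.ker e).map (algebraMap A B)) :
    ∃ σ : B0 →ₐ[k] B, π.comp σ = AlgHom.id k B0 ∧
      CategoryTheory.IsPushout (CommRingCat.ofHom (algebraMap k A))
        (CommRingCat.ofHom (algebraMap k B0))
        (CommRingCat.ofHom (algebraMap A B)) (CommRingCat.ofHom σ.toRingHom) := by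
  obtain ⟨σ, hσ, hbij⟩ := exists_section_bijective k A B B0 e π hπ hnil hcomm hker
  refine ⟨σ, hσ, ?_⟩
  letI : Algebra B0 B := σ.toRingHom.toAlgebra
  haveI : IsScalarTower k B0 B := IsScalarTower.of_algebraMap_eq' (by
    ext c
    exact (σ.commutes c).symm)
  haveI : Algebra.IsPushout k A B0 B := by
    constructor
    let E : A ⊗[k] B0 ≃ₗ[A] B := LinearEquiv.ofBijective
      (Algebra.TensorProduct.lift (Algebra.ofId A B) σ (fun _ _ => Commute.all _ _)).toLinearMap
      hbij
    refine IsBaseChange.of_equiv E (fun x => ?_)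
    simp only [E, LinearEquiv.ofBijective_apply, AlgHom.toLinearMap_apply,
      Algebra.TensorProduct.lift_tmul, map_one, one_mul]
    rfl
  exact CommRingCat.isPushout_of_isPushout k A B0 B

end

end Groth.Agent.Lib.Helper12.TrivDef
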