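import Mathlib
import Groth.Agent.Lib.Helper12.TrivDefB
import Groth.Agent.Lib.Helper12.HCoupD
import Groth.Agent.S0440

/-!
# Flat deformations of a formally smooth affine scheme over a nilpotent thickening of the
base field are trivial (scheme level)
-/

set_option autoImplicit false
universe u
open CategoryTheory AlgebraicGeometry Limits

namespace Groth.Agent.Lib.Helper12.TrivDef

theorem surjective_SpecMap_of_nilpotent {R S : CommRingCat.{u}} (f : R ⟶ S)
    (hf : Function.Surjective f.hom) (hnil : IsNilpotent (RingHom.ker f.hom)) :
    Surjective (Spec.map f) := by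
  constructor
  have h1 : Set.range (PrimeSpectrum.comap f.hom) = Set.univ := by
    rw [range_comap_of_surjective _ _ hf, PrimeSpectrum.zeroLocus_eq_univ_iff]
    intro x hx
    obtain ⟨n, hn⟩ := hnil
    show x ∈ nilradical R
    rw [mem_nilradical]
    refine ⟨n, ?_⟩
    have : x ^ n ∈ RingHom.ker f.hom ^ n := Ideal.pow_mem_pow hx n
    rw [hn] at this
    exact this
  intro y
  have : y ∈ Set.range (PrimeSpectrum.comap f.hom) := by rw [h1]; trivial
  obtain ⟨x, hx⟩ := this
  exact ⟨x, hx⟩

section
variable (k : Type u) [Field k] (A : Type u) [CommRing A] [Algebra k A] (e : A →ₐ[k] k)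

include e in
theorem e_surjective : Function.Surjective e := fun c => ⟨algebraMap k A c, by simp⟩

variable {k A}
variable {X X' : Scheme.{u}} {hX : X ⟶ Spec (CommRingCat.of k)}
  {g : X' ⟶ Spec (CommRingCat.of A)} {i : X ⟶ X'}

theorem isClosedImmersion_of_isPullback
    (hsq : IsPullback i hX g (Spec.map (CommRingCat.ofHom e.toRingHom))) :
    IsClosedImmersion i := by
  have h1 : IsClosedImmersion (Spec.map (CommRingCat.ofHom e.toRingHom)) :=
    IsClosedImmersion.spec_of_surjective _ (e_surjective k A e)
  exact MorphismProperty.of_isPullback hsq.flip h1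

theorem surjective_of_isPullback (hnil : IsNilpotent (RingHom.ker e))
    (hsq : IsPullback i hX g (Spec.map (CommRingCat.ofHom e.toRingHom))) :
    Surjective i := by
  have h1 : Surjective (Spec.map (CommRingCat.ofHom e.toRingHom)) :=
    surjective_SpecMap_of_nilpotent _ (e_surjective k A e) hnil
  exact MorphismProperty.of_isPullback hsq.flip h1

theorem isAffine_of_isPullback [IsAffine X] (hnil : IsNilpotent (RingHom.ker e))
    (hsq : IsPullback i hX g (Spec.map (CommRingCat.ofHom e.toRingHom))) :
    IsAffine X' := by
  have := isClosedImmersion_of_isPullback e hsq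
  have := surjective_of_isPullback e hnil hsq
  exact Groth.Agent.S0440.result i i.surjective

end

end Groth.Agent.Lib.Helper12.TrivDef
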