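import Mathlib
import Groth.Agent.Lib.Helper12.TrivDefA

/-!
# Any section of a flat deformation over a nilpotent base trivialises it (ring level)
-/

set_option autoImplicit false
universe u
open TensorProduct

namespace Groth.Agent.Lib.Helper12.TrivDef

section
variable (k A B B0 : Type u) [Field k] [CommRing A] [Algebra k A] [CommRing B] [Algebra k B]
  [Algebra A B] [IsScalarTower k A B] [CommRing B0] [Algebra k B0]

theorem bijective_of_section (e : A →ₐ[k] k) (π : B →ₐ[k] B0)
    [Module.Flat A B]
    (hnil : IsNilpotent (RingHom.ker e))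
    (hcomm : ∀ a, π (algebraMap A B a) = algebraMap k B0 (e a))
    (hker : RingHom.ker π ≤ (RingHom.ker e).map (algebraMap A B))
    (σ : B0 →ₐ[k] B) (hσ' : ∀ b0, π (σ b0) = b0) :
    Function.Bijective (Algebra.TensorProduct.lift (Algebra.ofId A B) σ
        (fun _ _ => Commute.all _ _)) := by
  set Φ : A ⊗[k] B0 →ₐ[A] B := Algebra.TensorProduct.lift (Algebra.ofId A B) σ
        (fun _ _ => Commute.all _ _) with hΦ
  set I : Ideal A := RingHom.ker e with hI
  have hIπ : I.map (algebraMap A B) ≤ RingHom.ker π := by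
    rw [Ideal.map_le_iff_le_comap]
    intro a ha
    rw [Ideal.mem_comap, RingHom.mem_ker, hcomm a]
    have : e a = 0 := ha
    rw [this, map_zero]
  let Ψ : A ⊗[k] B0 →ₐ[k] B0 := (Algebra.TensorProduct.lid k B0).toAlgHom.comp
    (Algebra.TensorProduct.map e (AlgHom.id k B0))
  have hΨ : ∀ t, π (Φ t) = Ψ t := by
    intro t
    induction t using TensorProduct.induction_on with
    | zero => simp
    | tmul a b0 =>
      simp only [hΦ, Algebra.TensorProduct.lift_tmul, map_mul, Ψ, AlgHom.comp_apply,
        Algebra.TensorProduct.map_tmul, AlgHom.id_apply]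
      rw [Algebra.ofId_apply, hcomm, hσ']
      simp [Algebra.smul_def]
    | add x y hx hy => simp only [map_add, hx, hy]
  have hbij : Function.Bijective Φ.toLinearMap := by
    apply bijective_of_nilpotent_of_flat I hnil
    · intro b
      refine ⟨1 ⊗ₜ π b, ?_⟩
      rw [Ideal.smul_top_eq_map]
      change b - Φ (1 ⊗ₜ π b) ∈ I.map (algebraMap A B)
      apply hker
      rw [RingHom.mem_ker, map_sub, hΨ]
      simp [Ψ]
    · intro t ht
      rw [Ideal.smul_top_eq_map] at ht ⊢
      have ht' : Φ t ∈ I.map (algebraMap A B) := ht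
      have h0 : π (Φ t) = 0 := hIπ ht'
      rw [hΨ] at h0
      have h1 : Algebra.TensorProduct.map e (AlgHom.id k B0) t = 0 := by
        apply (Algebra.TensorProduct.lid k B0).injective
        rw [map_zero]
        exact h0
      have h2 : t ∈ RingHom.ker (Algebra.TensorProduct.map e (AlgHom.id k B0)) := h1
      rw [Algebra.TensorProduct.rTensor_ker e (fun c => ⟨algebraMap k A c, by simp⟩)] at h2
      exact h2
  exact hbij

theorem isPushout_of_section_alg (e : A →ₐ[k] k) (π : B →ₐ[k] B0)
    [Module.Flat A B]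
    (hnil : IsNilpotent (RingHom.ker e))
    (hcomm : ∀ a, π (algebraMap A B a) = algebraMap k B0 (e a))
    (hker : RingHom.ker π ≤ (RingHom.ker e).map (algebraMap A B))
    (σ : B0 →ₐ[k] B) (hσ' : ∀ b0, π (σ b0) = b0) :
      CategoryTheory.IsPushout (CommRingCat.ofHom (algebraMap k A))
        (CommRingCat.ofHom (algebraMap k B0))
        (CommRingCat.ofHom (algebraMap A B)) (CommRingCat.ofHom σ.toRingHom) := by
  have hbij := bijective_of_section k A B B0 e π hnil hcomm hker σ hσ'
  letI : Algebra B0 B := σ.toRingHom.toAlgebra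
  haveI : IsScalarTower k B0 B := IsScalarTower.of_algebraMap_eq' (by
    ext c
    exact (σ.commutes c).symm)
  haveI : Algebra.IsPushout k A B0 B := by
    constructor
    let E : A ⊗[k] B0 ≃ₗ[A] B := LinearEquiv.ofBijective
      (Algebra.TensorProduct.lift (Algebra.ofId A B) σ (fun _ _ => Commute.all _ _)).toLinearMap
      hbij
    refine IsBaseChange.of_equiv E (fun x => ?_)
    simp only [E, LinearEquiv.ofBijective_apply, AlgHom.toLinearMap_apply,
      Algebra.TensorProduct.lift_tmul, map_one, one_mul]
    rfl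
  exact CommRingCat.isPushout_of_isPushout k A B0 B

end

/-- `RingHom` form. -/
theorem isPushout_of_section {k A B B0 : Type u} [Field k] [CommRing A] [CommRing B]
    [CommRing B0] (α : k →+* A) (e : A →+* k) (he : ∀ c, e (α c) = c)
    (gA : A →+* B) (hflat : gA.Flat) (hk : k →+* B0)
    (π : B →+* B0) (hπg : ∀ a, π (gA a) = hk (e a))
    (hnil : IsNilpotent (RingHom.ker e))
    (hker : RingHom.ker π ≤ (RingHom.ker e).map gA)
    (σ : B0 →+* B) (hσ : ∀ b0, π (σ b0) = b0) (hσk : ∀ c, σ (hk c) = gA (α c)) :
    CategoryTheory.IsPushout (CommRingCat.ofHom α) (CommRingCat.ofHom hk)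
      (CommRingCat.ofHom gA) (CommRingCat.ofHom σ) := by
  letI : Algebra k A := α.toAlgebra
  letI : Algebra A B := gA.toAlgebra
  letI : Algebra k B := (gA.comp α).toAlgebra
  haveI : IsScalarTower k A B := IsScalarTower.of_algebraMap_eq' rfl
  letI : Algebra k B0 := hk.toAlgebra
  haveI : Module.Flat A B := hflat
  let eA : A →ₐ[k] k := { e with commutes' := fun c => he c }
  have hπc : ∀ c : k, π (gA (α c)) = hk c := fun c => by rw [hπg, he]
  let πA : B →ₐ[k] B0 := { π with commutes' := fun c => hπc c }
  let σA : B0 →ₐ[k] B := { σ with commutes' := fun c => hσk c }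
  exact isPushout_of_section_alg k A B B0 eA πA hnil hπg hker σA hσ

end Groth.Agent.Lib.Helper12.TrivDef
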