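import Mathlib
import Groth.Agent.Lib.Helper12.TrivDefC
import Groth.Agent.Lib.Helper12.TrivDefE

/-!
# Sections of a deformation give trivialisations (scheme level)
-/

set_option autoImplicit false
universe u
open CategoryTheory AlgebraicGeometry Limits

namespace Groth.Agent.Lib.Helper12.TrivDef

section
variable {k : Type u} [Field k] {X : Scheme.{u}} {hX : X ⟶ Spec (CommRingCat.of k)} [IsAffine X]
  {A : Type u} [CommRing A] [Algebra k A] (e : A →ₐ[k] k)
  {X' : Scheme.{u}} {g : X' ⟶ Spec (CommRingCat.of A)} {i : X ⟶ X'}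

theorem isPushout_ring [IsAffine X']
    (hsq : IsPullback i hX g (Spec.map (CommRingCat.ofHom e.toRingHom))) :
    IsPushout ((Scheme.ΓSpecIso (CommRingCat.of A)).inv ≫ g.appTop)
      (CommRingCat.ofHom e.toRingHom) i.appTop
      ((Scheme.ΓSpecIso (CommRingCat.of k)).inv ≫ hX.appTop) := by
  have hpo := isPushout_appTop_of_isPullback hsq
  refine hpo.of_iso (Scheme.ΓSpecIso (CommRingCat.of A)) (Iso.refl _)
    (Scheme.ΓSpecIso (CommRingCat.of k)) (Iso.refl _) ?_ ?_ ?_ ?_
  · simp
  · exact Scheme.ΓSpecIso_naturality _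
  · simp
  · simp

theorem flat_ring [IsAffine X'] [Flat g] :
    ((Scheme.ΓSpecIso (CommRingCat.of A)).inv ≫ g.appTop).hom.Flat := by
  have h1 : g.appTop.hom.Flat := (HasRingHomProperty.iff_of_isAffine (P := @Flat)).mp inferInstance
  have h2 : (Scheme.ΓSpecIso (CommRingCat.of A)).inv.hom.Flat :=
    RingHom.Flat.of_bijective
      (ConcreteCategory.bijective_of_isIso (Scheme.ΓSpecIso (CommRingCat.of A)).inv)
  exact RingHom.Flat.comp h2 h1

theorem surjective_ring [IsAffine X']
    (hsq : IsPullback i hX g (Spec.map (CommRingCat.ofHom e.toRingHom))) :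
    Function.Surjective i.appTop.hom := by
  haveI : IsClosedImmersion i := isClosedImmersion_of_isPullback e hsq
  exact (IsClosedImmersion.isAffine_surjective_of_isAffine i).2

theorem ker_ring [IsAffine X'] [Flat g]
    (hsq : IsPullback i hX g (Spec.map (CommRingCat.ofHom e.toRingHom))) :
    RingHom.ker i.appTop.hom ≤
      (RingHom.ker e.toRingHom).map ((Scheme.ΓSpecIso (CommRingCat.of A)).inv ≫ g.appTop).hom :=
  Groth.Agent.Lib.Helper12.HCoup.ker_le_map_of_isPushout_commRingCat
    (CommRingCat.ofHom e.toRingHom) _ _ i.appTop (isPushout_ring e hsq).flip flat_ring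

theorem exists_iso_of_section [IsAffine X'] [Flat g]
    (hnil : IsNilpotent (RingHom.ker e))
    (hsq : IsPullback i hX g (Spec.map (CommRingCat.ofHom e.toRingHom)))
    (σ' : Γ(X, ⊤) ⟶ Γ(X', ⊤)) (hσ : σ' ≫ i.appTop = 𝟙 _)
    (hσk : ((Scheme.ΓSpecIso (CommRingCat.of k)).inv ≫ hX.appTop) ≫ σ' =
      CommRingCat.ofHom (algebraMap k A) ≫ ((Scheme.ΓSpecIso (CommRingCat.of A)).inv ≫ g.appTop)) :
    ∃ φ : X' ≅ pullback hX (Spec.map (CommRingCat.ofHom (algebraMap k A))),
      φ.hom ≫ pullback.snd hX (Spec.map (CommRingCat.ofHom (algebraMap k A))) = g ∧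
      φ.hom ≫ pullback.fst hX (Spec.map (CommRingCat.ofHom (algebraMap k A))) =
        X'.isoSpec.hom ≫ Spec.map σ' ≫ X.isoSpec.inv := by
  set gA := (Scheme.ΓSpecIso (CommRingCat.of A)).inv ≫ g.appTop with hgA
  set hk := (Scheme.ΓSpecIso (CommRingCat.of k)).inv ≫ hX.appTop with hhk
  have hpo' := isPushout_ring e hsq
  have hw : ∀ a : A, i.appTop.hom (gA.hom a) = hk.hom (e a) := by
    intro a
    have := congrArg (fun f => f.hom a) hpo'.w
    exact this
  have hpush : IsPushout (CommRingCat.ofHom (algebraMap k A)) hk gA σ' := by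
    have := isPushout_of_section (algebraMap k A) e.toRingHom (fun c => by simp) gA.hom
      flat_ring hk.hom i.appTop.hom hw hnil (ker_ring e hsq) σ'.hom
      (fun b0 => by
        have := congrArg (fun f => f.hom b0) hσ
        exact this)
      (fun c => by
        have := congrArg (fun f => f.hom c) hσk
        exact this)
    exact this
  have hpb := (isPullback_SpecMap_of_isPushout _ _ _ _ hpush).flip
  have hg : X'.isoSpec.hom ≫ Spec.map gA = g := by
    rw [Scheme.isoSpec_hom, hgA, Spec.map_comp, ← Scheme.toSpecΓ_naturality_assoc,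
      toSpecΓ_SpecMap_ΓSpecIso_inv, Category.comp_id]
  have hhX : X.isoSpec.hom ≫ Spec.map hk = hX := by
    rw [Scheme.isoSpec_hom, hhk, Spec.map_comp, ← Scheme.toSpecΓ_naturality_assoc,
      toSpecΓ_SpecMap_ΓSpecIso_inv, Category.comp_id]
  let ψ : X' ⟶ X := X'.isoSpec.hom ≫ Spec.map σ' ≫ X.isoSpec.inv
  have hpb' : IsPullback ψ g hX (Spec.map (CommRingCat.ofHom (algebraMap k A))) := by
    refine hpb.of_iso X'.isoSpec.symm X.isoSpec.symm (Iso.refl _) (Iso.refl _) ?_ ?_ ?_ ?_
    · simp [ψ]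
    · simp only [Iso.refl_hom, Category.comp_id, Iso.symm_hom]
      rw [← hg, Iso.inv_hom_id_assoc]
    · simp only [Iso.refl_hom, Category.comp_id, Iso.symm_hom]
      rw [← hhX, Iso.inv_hom_id_assoc]
    · simp
  exact ⟨hpb'.isoPullback, hpb'.isoPullback_hom_snd, hpb'.isoPullback_hom_fst⟩

end

end Groth.Agent.Lib.Helper12.TrivDef
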