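import Mathlib
import Groth.Prelude.Def_Exal
import Groth.Agent.Lib.Helper12.TrivDefA

/-!
# Lifting a section along a small extension when `T¹ = 0`
-/

set_option autoImplicit false
universe u
open TensorProduct

namespace Groth.Agent.Lib.Helper12.TrivDef

/-- Flatness: `t m ∈ J M` implies `m ∈ (J : t) M`. -/
theorem flat_colon {A : Type*} [CommRing A] {M : Type*} [AddCommGroup M] [Module A M]
    [Module.Flat A M] (J : Ideal A) (t : A) (m : M)
    (h : t • m ∈ J • (⊤ : Submodule A M)) :
    ∃ I : Ideal A, (∀ a ∈ I, a * t ∈ J) ∧ m ∈ I • (⊤ : Submodule A M) := by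
  let g : A →ₗ[A] (A ⧸ J) := J.mkQ ∘ₗ LinearMap.toSpanSingleton A A t
  let I : Ideal A := LinearMap.ker g
  refine ⟨I, ?_, ?_⟩
  · intro a ha
    have h1 : g a = 0 := ha
    have h2 : Submodule.Quotient.mk (p := J) (a * t) = 0 := by
      simpa [g, LinearMap.toSpanSingleton_apply] using h1
    exact (Submodule.Quotient.mk_eq_zero J).mp h2
  · have hex : Function.Exact I.subtype g := LinearMap.exact_subtype_ker_map g
    have hex' := Module.Flat.rTensor_exact M hex
    have h0 : (g.rTensor M) ((1 : A) ⊗ₜ[A] m) = 0 := by
      rw [LinearMap.rTensor_tmul]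
      have h3 : g 1 = t • (1 : A ⧸ J) := by
        show J.mkQ ((1 : A) • t) = t • (1 : A ⧸ J)
        rw [one_smul]
        show Ideal.Quotient.mk J t = t • (1 : A ⧸ J)
        rw [Algebra.smul_def, mul_one]
        rfl
      rw [h3, TensorProduct.smul_tmul]
      exact (mem_smul_top_iff_tmul_eq_zero J (t • m)).mp h
    obtain ⟨z, hz⟩ := (hex' _).mp h0
    have key : ∀ z : I ⊗[A] M, TensorProduct.lid A M (I.subtype.rTensor M z) ∈
        I • (⊤ : Submodule A M) := by
      intro z
      induction z using TensorProduct.induction_on with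
      | zero => simp
      | tmul a m' =>
        rw [LinearMap.rTensor_tmul, TensorProduct.lid_tmul]
        exact Submodule.smul_mem_smul a.2 trivial
      | add x y hx hy =>
        rw [map_add, map_add]
        exact Submodule.add_mem _ hx hy
    have := key z
    rw [hz, TensorProduct.lid_tmul, one_smul] at this
    exact this

/-- The step: lifting a section along a square zero extension with kernel `t C ≅ B0`. -/
theorem lift_section_step {k B0 C C'' : Type u} [Field k] [CommRing B0] [Algebra k B0]
    [CommRing C] [Algebra k C] [CommRing C''] [Algebra k C'']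
    (hT : ∀ E : Exal.Ext k B0 B0, E.IsTrivial)
    (πC : C →ₐ[k] B0) (hπC : Function.Surjective πC) (ρ : C →ₐ[k] C'')
    (hρ : Function.Surjective ρ) (π'' : C'' →ₐ[k] B0) (hππ : ∀ c, π'' (ρ c) = πC c)
    (t : C) (hkerρ : RingHom.ker ρ = Ideal.span {t})
    (h1 : ∀ c, πC c = 0 → t * c = 0) (h2 : ∀ c, t * c = 0 → πC c = 0)
    (σ'' : B0 →ₐ[k] C'') (hσ'' : ∀ b, π'' (σ'' b) = b) :
    ∃ σ : B0 →ₐ[k] C, ∀ b, ρ (σ b) = σ'' b := by
  classical
  have htρ : ρ t = 0 := by
    have : t ∈ RingHom.ker ρ := by rw [hkerρ]; exact Ideal.mem_span_singleton_self t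
    exact this
  let s : B0 → C := Function.surjInv hπC
  have hs : ∀ z, πC (s z) = z := Function.surjInv_eq hπC
  have hμ : ∀ c, t * s (πC c) = t * c := by
    intro c
    have : t * (s (πC c) - c) = 0 := h1 _ (by rw [map_sub, hs, sub_self])
    rw [mul_sub, sub_eq_zero] at this
    exact this
  let Esub : Subalgebra k (B0 × C) :=
    AlgHom.equalizer (σ''.comp (AlgHom.fst k B0 C)) (ρ.comp (AlgHom.snd k B0 C))
  have hmem : ∀ x : B0 × C, x ∈ Esub ↔ σ'' x.1 = ρ x.2 := fun x => Iff.rfl
  let incl : B0 →+ Esub :=
    { toFun := fun z => ⟨(0, t * s z), by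
        rw [hmem]
        simp [htρ]⟩
      map_zero' := by
        apply Subtype.ext
        show ((0 : B0), t * s 0) = 0
        have := hμ 0
        rw [map_zero, mul_zero] at this
        rw [this]
        rfl
      map_add' := fun z₁ z₂ => by
        apply Subtype.ext
        show ((0 : B0), t * s (z₁ + z₂)) = ((0 : B0), t * s z₁) + ((0 : B0), t * s z₂)
        have h3 := hμ (s z₁ + s z₂)
        rw [map_add, hs, hs] at h3
        rw [h3, mul_add]
        simp }
  let proj : Esub →ₐ[k] B0 := (AlgHom.fst k B0 C).comp Esub.val
  have hincl : ∀ z, ((incl z : Esub) : B0 × C) = (0, t * s z) := fun z => rfl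
  have hproj : ∀ x : Esub, proj x = (x : B0 × C).1 := fun x => rfl
  have hπc : ∀ x : Esub, πC (x : B0 × C).2 = (x : B0 × C).1 := by
    intro x
    have hx : σ'' (x : B0 × C).1 = ρ (x : B0 × C).2 := (hmem _).mp x.2
    rw [← hππ, ← hx, hσ'']
  let E : Exal.Ext k B0 B0 :=
    { E := Esub
      proj := proj
      incl := incl
      isExtension :=
        { proj_surjective := by
            intro b0
            obtain ⟨c, hc⟩ := hρ (σ'' b0)
            exact ⟨⟨(b0, c), (hmem _).mpr hc.symm⟩, rfl⟩
          incl_injective := by
            rw [injective_iff_map_eq_zero]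
            intro z hz
            have h3 : t * s z = 0 := by
              have := congrArg (fun x : Esub => (x : B0 × C).2) hz
              exact this
            have := h2 _ h3
            rwa [hs] at this
          exact := by
            intro x
            constructor
            · intro hx
              have hx1 : (x : B0 × C).1 = 0 := hx
              have hx2 : ρ (x : B0 × C).2 = 0 := by
                have := (hmem _).mp x.2
                rw [← this, hx1, map_zero]
              have hx3 : (x : B0 × C).2 ∈ Ideal.span {t} := by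
                rw [← hkerρ]; exact hx2
              obtain ⟨c', hc'⟩ := Ideal.mem_span_singleton'.mp hx3
              refine ⟨πC c', ?_⟩
              apply Subtype.ext
              rw [hincl, hμ]
              refine Prod.ext hx1.symm ?_
              show t * c' = _
              rw [← hc', mul_comm]
            · rintro ⟨z, rfl⟩
              rfl
          mul_incl := by
            intro x z
            apply Subtype.ext
            show (x : B0 × C) * ((incl z : Esub) : B0 × C) = ((incl (proj x • z) : Esub) : B0 × C)
            rw [hincl, hincl, hproj]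
            refine Prod.ext (by simp) ?_
            show (x : B0 × C).2 * (t * s z) = t * s ((x : B0 × C).1 • z)
            have h3 := hμ ((x : B0 × C).2 * s z)
            rw [map_mul, hs, hπc] at h3
            rw [smul_eq_mul, h3]
            ring } }
  obtain ⟨s', hs'⟩ := hT E
  refine ⟨(AlgHom.snd k B0 C).comp (Esub.val.comp s'), ?_⟩
  intro b
  have h3 : σ'' ((s' b : Esub) : B0 × C).1 = ρ ((s' b : Esub) : B0 × C).2 := (hmem _).mp (s' b).2
  have h4 : ((s' b : Esub) : B0 × C).1 = b := hs' b
  rw [h4] at h3
  exact h3.symm

end Groth.Agent.Lib.Helper12.TrivDef
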