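import Mathlib
import Groth.Prelude.Def_ArtFun4
import Groth.Agent.Lib.Helper12.DefExalB
import Groth.Agent.Lib.Helper12.TrivDefG
import Groth.Agent.Lib.Helper12.TrivDefH

/-!
# First order deformations of an affine scheme and algebra extensions: part C

A flat `k[ε]`-algebra `B'` with `B'/εB' = B` is an extension of `B` by `B`; every first order
deformation of `Spec B` comes from an extension.
-/

set_option autoImplicit false
universe u
open CategoryTheory CategoryTheory.Limits AlgebraicGeometry ArtFun ArtFun.Art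

namespace Groth.Agent.Lib.Helper12.DefExal

section ExtOf

variable {k B : Type u} [Field k] [CommRing B] [Algebra k B]
  (B' : Type u) [CommRing B'] (g : DualNumber k →+* B') (hflat : g.Flat)
  (π : B' →+* B) (hπ : Function.Surjective π)
  (hcomm : ∀ d : DualNumber k, π (g d) = algebraMap k B d.fst)
  (hker : RingHom.ker π ≤
    (RingHom.ker (TrivSqZeroExt.fstHom k k k : DualNumber k →ₐ[k] k)).map g)

include hker in
theorem exists_mul_of_proj_eq_zero (y : B') (hy : π y = 0) :
    ∃ a, y = a * g DualNumber.eps := by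
  have h : y ∈ (RingHom.ker (TrivSqZeroExt.fstHom k k k : DualNumber k →ₐ[k] k)).map g :=
    hker hy
  rw [ker_fst_eq_span, Ideal.map_span, Set.image_singleton, Ideal.mem_span_singleton'] at h
  obtain ⟨a, ha⟩ := h
  exact ⟨a, ha.symm⟩

omit [Algebra k B] in
theorem g_eps_sq : g DualNumber.eps * g DualNumber.eps = 0 := by
  rw [← map_mul, DualNumber.eps_mul_eps, map_zero]

include hker in
theorem eps_mul_eq_zero (y : B') (hy : π y = 0) : g DualNumber.eps * y = 0 := by
  obtain ⟨a, rfl⟩ := exists_mul_of_proj_eq_zero B' g π hker y hy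
  rw [mul_comm a, ← mul_assoc, g_eps_sq, zero_mul]

include hker in
/-- The inclusion `B → B'`, `π y ↦ ε y`. -/
noncomputable def inclOf : B →+ B' :=
  AddMonoidHom.mk' (fun z => g DualNumber.eps * Function.surjInv hπ z) (by
    intro z z'
    have hs : ∀ z, π (Function.surjInv hπ z) = z := Function.surjInv_eq hπ
    rw [← mul_add, ← sub_eq_zero, ← mul_sub]
    apply eps_mul_eq_zero B' g π hker
    rw [map_sub, map_add, hs, hs, hs, sub_self])

theorem inclOf_proj (y : B') : inclOf B' g π hπ hker (π y) = g DualNumber.eps * y := by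
  change g DualNumber.eps * Function.surjInv hπ (π y) = g DualNumber.eps * y
  have hs : ∀ z, π (Function.surjInv hπ z) = z := Function.surjInv_eq hπ
  rw [← sub_eq_zero, ← mul_sub]
  apply eps_mul_eq_zero B' g π hker
  rw [map_sub, hs, sub_self]

include hflat hcomm in
theorem proj_eq_zero_of_eps_mul (y : B') (h : g DualNumber.eps * y = 0) : π y = 0 := by
  letI : Algebra (DualNumber k) B' := g.toAlgebra
  haveI : Module.Flat (DualNumber k) B' := hflat
  obtain ⟨I, hI, hy⟩ := Groth.Agent.Lib.Helper12.TrivDef.flat_colon (A := DualNumber k) (M := B')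
    ⊥ DualNumber.eps y (by
      have h0 : (DualNumber.eps : DualNumber k) • y = 0 := h
      rw [h0]
      exact Submodule.zero_mem _)
  refine Submodule.smul_induction_on hy (fun a ha m _ => ?_) (fun m m' hm hm' => by
    rw [map_add, hm, hm', add_zero])
  have h1 : a.fst = 0 := fst_eq_zero_of_mul_eps k a (by
    have := hI a ha
    exact (Submodule.mem_bot _).1 this)
  change π (g a * m) = 0
  rw [map_mul, hcomm, h1, map_zero, zero_mul]

include hflat hcomm hker in
/-- The extension of `B` by `B` given by a flat `k[ε]`-algebra `B'` with `B'/εB' = B`. -/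
noncomputable def extOf : Exal.Ext k B B :=
  letI alg : Algebra k B' := (g.comp (algebraMap k (DualNumber k))).toAlgebra
  { E := B'
    proj :=
      { toRingHom := π
        commutes' := fun c => by
          change π (g (algebraMap k (DualNumber k) c)) = algebraMap k B c
          rw [hcomm, TrivSqZeroExt.algebraMap_eq_inl, TrivSqZeroExt.fst_inl] }
    incl := inclOf B' g π hπ hker
    isExtension :=
    { proj_surjective := hπ
      incl_injective := by
        rw [injective_iff_map_eq_zero]
        intro z hz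
        obtain ⟨y, rfl⟩ := hπ z
        rw [inclOf_proj] at hz
        exact proj_eq_zero_of_eps_mul B' g hflat π hcomm y hz
      exact := fun y => by
        constructor
        · intro hy
          have hy' : π y = 0 := hy
          obtain ⟨a, rfl⟩ := exists_mul_of_proj_eq_zero B' g π hker y hy'
          exact ⟨π a, by rw [inclOf_proj, mul_comm]⟩
        · rintro ⟨z, rfl⟩
          obtain ⟨y, rfl⟩ := hπ z
          change π (inclOf B' g π hπ hker (π y)) = 0
          rw [inclOf_proj, map_mul, hcomm, DualNumber.fst_eps, map_zero, zero_mul]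
      mul_incl := fun x z => by
        obtain ⟨y, rfl⟩ := hπ z
        change x * inclOf B' g π hπ hker (π y) = inclOf B' g π hπ hker (π x • π y)
        rw [smul_eq_mul, ← map_mul, inclOf_proj, inclOf_proj]
        ring } }

theorem phiE_extOf (d : DualNumber k) :
    phiE (extOf B' g hflat π hπ hcomm hker) d = g d := by
  have h1 : epsE (extOf B' g hflat π hπ hcomm hker) = g DualNumber.eps := by
    change inclOf B' g π hπ hker 1 = _
    rw [← map_one π, inclOf_proj, mul_one]
  have h3 : phiE (extOf B' g hflat π hπ hcomm hker) d =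
      (g (algebraMap k (DualNumber k) d.fst) +
        g (algebraMap k (DualNumber k) d.snd) * g DualNumber.eps : B') := by
    rw [phiE_apply, h1]
    rfl
  rw [h3, ← map_mul, ← map_add]
  congr 1
  conv_rhs => rw [eq_smul k d]
  rw [Algebra.smul_def, Algebra.smul_def, mul_one]

end ExtOf

section Surj

variable {k B : Type u} [Field k] [CommRing B] [Algebra k B]

theorem isNilpotent_ker_fst :
    IsNilpotent (RingHom.ker (TrivSqZeroExt.fstHom k k k : DualNumber k →ₐ[k] k)) := by
  have h2 : RingHom.ker (TrivSqZeroExt.fstHom k k k : DualNumber k →ₐ[k] k) ^ 2 = ⊥ := by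
    rw [ker_fst_eq_span, Ideal.span_singleton_pow, pow_two, DualNumber.eps_mul_eps]
    exact Ideal.span_singleton_eq_bot.2 rfl
  exact ⟨2, h2⟩

/-- Every first order deformation of `Spec B` is isomorphic to the one of an extension. -/
theorem exists_ext_iso
    (ξ : DefSch (Λ := k) (Spec (CommRingCat.of B)) (Spec.map (CommRingCat.ofHom (algebraMap k B)))
      (Art.dual k k)) :
    ∃ E : Exal.Ext k B B, Nonempty (DefSch.Iso (defOf E) ξ) := by
  classical
  let f' : ξ.total ⟶ Spec (CommRingCat.of (DualNumber k)) := ξ.f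
  haveI : Flat f' := ξ.flat
  let e : DualNumber k →ₐ[k] k := TrivSqZeroExt.fstHom k k k
  have hnil : IsNilpotent (RingHom.ker e) := isNilpotent_ker_fst
  have hsq : IsPullback ξ.i (Spec.map (CommRingCat.ofHom (algebraMap k B))) f'
      (Spec.map (CommRingCat.ofHom e.toRingHom)) := ξ.isPullback
  haveI haff : IsAffine ξ.total :=
    Groth.Agent.Lib.Helper12.TrivDef.isAffine_of_isPullback e hnil hsq
  let x : Spec (CommRingCat.of B) ⟶ Spec (CommRingCat.of k) :=
    Spec.map (CommRingCat.ofHom (algebraMap k B))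
  let gA : CommRingCat.of (DualNumber k) ⟶ Γ(ξ.total, ⊤) :=
    (Scheme.ΓSpecIso (CommRingCat.of (DualNumber k))).inv ≫ f'.appTop
  let hk : CommRingCat.of k ⟶ Γ(Spec (CommRingCat.of B), ⊤) :=
    (Scheme.ΓSpecIso (CommRingCat.of k)).inv ≫ x.appTop
  have hpo' := Groth.Agent.Lib.Helper12.TrivDef.isPushout_ring e hsq
  have hw : ∀ a : DualNumber k, ξ.i.appTop.hom (gA.hom a) = hk.hom (e a) := by
    intro a
    have := congrArg (fun f => f.hom a) hpo'.w
    exact this
  have hkB : hk ≫ (Scheme.ΓSpecIso (CommRingCat.of B)).hom =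
      CommRingCat.ofHom (algebraMap k B) := by
    change ((Scheme.ΓSpecIso (CommRingCat.of k)).inv ≫
      (Spec.map (CommRingCat.ofHom (algebraMap k B))).appTop) ≫
        (Scheme.ΓSpecIso (CommRingCat.of B)).hom = _
    rw [Category.assoc, Scheme.ΓSpecIso_naturality, Iso.inv_hom_id_assoc]
  have hkB' : ∀ c : k, (Scheme.ΓSpecIso (CommRingCat.of B)).hom.hom (hk.hom c) =
      algebraMap k B c := by
    intro c
    have := congrArg (fun f => f.hom c) hkB
    exact this
  have hflat : gA.hom.Flat := Groth.Agent.Lib.Helper12.TrivDef.flat_ring (g := f')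
  let πc : Γ(ξ.total, ⊤) ⟶ CommRingCat.of B :=
    ξ.i.appTop ≫ (Scheme.ΓSpecIso (CommRingCat.of B)).hom
  have hπc : ∀ a : DualNumber k, πc.hom (gA.hom a) = algebraMap k B a.fst := by
    intro a
    change (Scheme.ΓSpecIso (CommRingCat.of B)).hom.hom (ξ.i.appTop.hom (gA.hom a)) = _
    rw [hw, hkB']
    rfl
  have hπ : Function.Surjective πc.hom := by
    have h1 := Groth.Agent.Lib.Helper12.TrivDef.surjective_ring e hsq
    have h2 := (ConcreteCategory.bijective_of_isIso
      (Scheme.ΓSpecIso (CommRingCat.of B)).hom).2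
    exact h2.comp h1
  have hker : RingHom.ker πc.hom ≤ (RingHom.ker e).map gA.hom := by
    have h1 := Groth.Agent.Lib.Helper12.TrivDef.ker_ring e hsq
    refine le_trans ?_ h1
    intro b hb
    have h2 : (Scheme.ΓSpecIso (CommRingCat.of B)).hom.hom (ξ.i.appTop.hom b) = 0 := hb
    have h3 := (ConcreteCategory.bijective_of_isIso
      (Scheme.ΓSpecIso (CommRingCat.of B)).hom).1
    rw [RingHom.mem_ker]
    apply h3
    rw [h2]
    exact (map_zero _).symm
  let E : Exal.Ext k B B := extOf Γ(ξ.total, ⊤) gA.hom hflat πc.hom hπ hπc hker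
  have hφ : CommRingCat.ofHom (phiE E : DualNumber k →+* E.E) = gA := by
    refine CommRingCat.hom_ext (RingHom.ext fun d => ?_)
    exact phiE_extOf Γ(ξ.total, ⊤) gA.hom hflat πc.hom hπ hπc hker d
  have hproj : CommRingCat.ofHom (E.proj : E.E →+* B) = πc := rfl
  refine ⟨E, ⟨{ iso := ξ.total.isoSpec.symm, hom_f := ?_, i_hom := ?_ }⟩⟩
  · change ξ.total.isoSpec.inv ≫ f' = Spec.map (CommRingCat.ofHom (phiE E : DualNumber k →+* E.E))
    rw [hφ]
    change ξ.total.isoSpec.inv ≫ f' =
      Spec.map ((Scheme.ΓSpecIso (CommRingCat.of (DualNumber k))).inv ≫ f'.appTop)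
    rw [Spec.map_comp, ← Scheme.isoSpec_Spec_inv, Scheme.isoSpec_inv_naturality]
  · change Spec.map (CommRingCat.ofHom (E.proj : E.E →+* B)) ≫ ξ.total.isoSpec.inv = ξ.i
    rw [hproj]
    change Spec.map (ξ.i.appTop ≫ (Scheme.ΓSpecIso (CommRingCat.of B)).hom) ≫
      ξ.total.isoSpec.inv = ξ.i
    rw [Spec.map_comp, ← Scheme.isoSpec_Spec_hom, Category.assoc,
      Scheme.isoSpec_hom_naturality_assoc, Iso.hom_inv_id, Category.comp_id]

theorem Phi_surjective : Function.Surjective (Phi k B) := by
  intro c
  induction c using Quotient.inductionOn with | _ ξ => ?_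
  obtain ⟨E, ⟨I⟩⟩ := exists_ext_iso ξ
  exact ⟨E.cl, Quotient.sound ⟨I⟩⟩

end Surj

end Groth.Agent.Lib.Helper12.DefExal
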