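import Mathlib.RingTheory.Depth.Rees
import Mathlib.RingTheory.Regular.Flat

set_option autoImplicit false
universe u

/-!
# Exchange lemma for regular sequences (via the Rees theorem)
-/

namespace Groth.Agent.Lib.Helper12

open RingTheory.Sequence CategoryTheory Abelian ModuleCat

variable {R : Type u} [CommRing R] [IsNoetherianRing R]

/-- If `Ext^i(N, M) = 0` for `i ≤ rs.length` and `rs` is weakly regular on `M`, then some element of
`Ann N` is regular on `M / (rs) M`. -/
theorem exists_isSMulRegular_quot_of_ext (N : ModuleCat.{u} R) [Module.Finite R N]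
    (rs : List R) : ∀ (M : ModuleCat.{u} R) [Module.Finite R M], IsWeaklyRegular M rs →
    (∀ i < rs.length + 1, Subsingleton (Ext N M i)) →
    ∃ y ∈ Module.annihilator R N,
      IsSMulRegular (M ⧸ (Ideal.ofList rs • ⊤ : Submodule R M)) y := by
  induction rs with
  | nil =>
    intro M _ _ h_ext
    have : Subsingleton (N ⟶ M) := Ext.addEquiv₀.subsingleton_congr.mp (h_ext 0 (by simp))
    have : Subsingleton (N →ₗ[R] M) := ModuleCat.homAddEquiv.symm.subsingleton
    obtain ⟨x, mem_ann, hx⟩ := IsSMulRegular.subsingleton_linearMap_iff.mp this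
    refine ⟨x, mem_ann, ?_⟩
    have e : (Ideal.ofList ([] : List R) • ⊤ : Submodule R M) = ⊥ := by
      rw [Ideal.ofList_nil, Submodule.bot_smul]
    exact ((Submodule.quotEquivOfEqBot _ e).isSMulRegular_congr x).mpr hx
  | cons a rs ih =>
    intro M _ hreg h_ext
    rw [isWeaklyRegular_cons_iff] at hreg
    obtain ⟨ha, hrs⟩ := hreg
    have h_ext' : ∀ i < rs.length + 1,
        Subsingleton (Ext N (ModuleCat.of R (QuotSMulTop a M)) i) := by
      intro i hi
      have zero1 := AddCommGrpCat.isZero_of_iff_subsingleton.mpr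
        (h_ext i (by simp only [List.length_cons]; omega))
      have zero2 := AddCommGrpCat.isZero_of_iff_subsingleton.mpr
        (h_ext (i + 1) (by simp only [List.length_cons]; omega))
      exact AddCommGrpCat.subsingleton_of_isZero <| ShortComplex.Exact.isZero_of_both_zeros
        ((Ext.covariant_sequence_exact₃' N ha.smulShortComplex_shortExact) i (i + 1) rfl)
        (zero1.eq_zero_of_src _) (zero2.eq_zero_of_tgt _)
    obtain ⟨y, hy, hreg'⟩ := ih (ModuleCat.of R (QuotSMulTop a M)) hrs h_ext'
    refine ⟨y, hy, ?_⟩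
    exact ((Submodule.quotOfListConsSMulTopEquivQuotSMulTopInner M a rs).isSMulRegular_congr y).mpr
      hreg'

/-- If no element of `I` is regular on `M / (rs) M`, then every `M`-regular sequence in `I` has
length at most that of `rs`. -/
theorem length_le_of_forall_not_isSMulRegular (I : Ideal R) (M : Type u) [AddCommGroup M]
    [Module R M] [Module.Finite R M] (hIM : I • (⊤ : Submodule R M) < ⊤)
    (rs : List R) (hrs : IsWeaklyRegular M rs)
    (hmax : ∀ y ∈ I, ¬ IsSMulRegular (M ⧸ (Ideal.ofList rs • ⊤ : Submodule R M)) y)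
    (ss : List R) (hss : IsRegular M ss) (hssI : ∀ r ∈ ss, r ∈ I) : ss.length ≤ rs.length := by
  by_contra hlt
  rw [not_le] at hlt
  let N : ModuleCat.{u} R := ModuleCat.of R (R ⧸ I)
  have hsupp : Module.support R N ⊆ PrimeSpectrum.zeroLocus I := by
    rw [Module.support_eq_zeroLocus, Ideal.annihilator_quotient]
  have h_ext := subsingleton_ext_of_exists_isRegular I N hsupp (ModuleCat.of R M) hIM ss hssI hss
  obtain ⟨y, hy, hreg⟩ := exists_isSMulRegular_quot_of_ext N rs (ModuleCat.of R M) hrs
    (fun i hi => h_ext i (by omega))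
  rw [Ideal.annihilator_quotient] at hy
  exact hmax y hy hreg

end Groth.Agent.Lib.Helper12
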