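import Mathlib
import Groth.Prelude.Def_CAlg
import Groth.Agent.Lib.Helper12.DepthExchange

/-!
# Depth with respect to an ideal under (faithfully) flat base change
-/

set_option autoImplicit false
universe u

namespace Groth.Agent.Lib.Helper12.DepthBC

open RingTheory.Sequence TensorProduct

variable {A : Type u} [CommRing A] {B : Type u} [CommRing B] [Algebra A B]
  (M : Type u) [AddCommGroup M] [Module A M]

theorem algebraMap_smul_tmul (a : A) (c : B) (m : M) :
    algebraMap A B a • (c ⊗ₜ[A] m) = c ⊗ₜ[A] (a • m) := by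
  rw [TensorProduct.smul_tmul', smul_eq_mul, TensorProduct.tmul_smul,
    TensorProduct.smul_tmul', Algebra.smul_def]

/-- The image of `1 ⊗ (N-elements)` lies in the extended submodule. -/
theorem one_tmul_mem (J : Ideal A) (m : M) (hm : m ∈ (J • ⊤ : Submodule A M)) :
    (1 : B) ⊗ₜ[A] m ∈ (J.map (algebraMap A B) • ⊤ : Submodule B (B ⊗[A] M)) := by
  refine Submodule.smul_induction_on hm ?_ ?_
  · intro a ha n _
    rw [← algebraMap_smul_tmul]
    exact Submodule.smul_mem_smul (Ideal.mem_map_of_mem _ ha) Submodule.mem_top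
  · intro x y hx hy
    rw [TensorProduct.tmul_add]
    exact add_mem hx hy

/-- The map `B ⊗ M → B ⊗ (M / J M)` as a `B`-linear map. -/
noncomputable def bcMkQ (J : Ideal A) : B ⊗[A] M →ₗ[B] B ⊗[A] (M ⧸ (J • ⊤ : Submodule A M)) :=
  LinearMap.baseChange B (J • ⊤ : Submodule A M).mkQ

theorem bcMkQ_tmul (J : Ideal A) (c : B) (m : M) :
    bcMkQ (B := B) M J (c ⊗ₜ[A] m) = c ⊗ₜ[A] (J • ⊤ : Submodule A M).mkQ m := rfl

/-- The map `B ⊗ M → B ⊗ (M / J M)` kills the extended submodule. -/
theorem bcMkQ_eq_zero (J : Ideal A) (z : B ⊗[A] M)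
    (hz : z ∈ (J.map (algebraMap A B) • ⊤ : Submodule B (B ⊗[A] M))) :
    bcMkQ M J z = 0 := by
  refine Submodule.smul_induction_on hz ?_ ?_
  · intro b hb n hn
    clear hn
    rw [map_smul]
    refine Submodule.span_induction ?_ ?_ ?_ ?_ hb
    · rintro _ ⟨a, ha, rfl⟩
      induction n using TensorProduct.induction_on with
      | zero => simp
      | tmul c m =>
        rw [← map_smul, algebraMap_smul_tmul, bcMkQ_tmul]
        have h2 : (J • ⊤ : Submodule A M).mkQ (a • m) = 0 := by
          rw [Submodule.mkQ_apply, Submodule.Quotient.mk_eq_zero]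
          exact Submodule.smul_mem_smul ha Submodule.mem_top
        rw [h2, TensorProduct.tmul_zero]
      | add x y hx hy =>
        rw [map_add, smul_add, hx, hy, add_zero]
    · simp
    · intro x y _ _ hx hy
      rw [add_smul, hx, hy, add_zero]
    · intro c x _ hx
      rw [smul_eq_mul, mul_smul, hx, smul_zero]
  · intro x y hx hy
    rw [map_add, hx, hy, add_zero]

variable {M}

/-- If `1 ⊗ m` lies in the extended submodule then `m` lies in the submodule (faithful flatness). -/
theorem mem_of_one_tmul_mem [Module.FaithfullyFlat A B] (J : Ideal A) (m : M)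
    (hm : (1 : B) ⊗ₜ[A] m ∈ (J.map (algebraMap A B) • ⊤ : Submodule B (B ⊗[A] M))) :
    m ∈ (J • ⊤ : Submodule A M) := by
  have h1 := bcMkQ_eq_zero M J _ hm
  rw [bcMkQ_tmul] at h1
  have h2 : TensorProduct.mk A B (M ⧸ (J • ⊤ : Submodule A M)) 1
      ((J • ⊤ : Submodule A M).mkQ m) = 0 := h1
  have h3 := Module.FaithfullyFlat.tensorProduct_mk_injective (A := A) (B := B)
    (M ⧸ (J • ⊤ : Submodule A M))
  have h4 : (J • ⊤ : Submodule A M).mkQ m = 0 := h3 (by rw [h2, map_zero])
  rwa [Submodule.mkQ_apply, Submodule.Quotient.mk_eq_zero] at h4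

end Groth.Agent.Lib.Helper12.DepthBC
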