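import Mathlib
import Groth.Prelude.Def_CAlg
import Groth.Agent.Lib.Helper12.DepthBaseChange

/-!
# Depth with respect to an ideal under (faithfully) flat base change, II
-/

set_option autoImplicit false
universe u

namespace Groth.Agent.Lib.Helper12.DepthBC

open RingTheory.Sequence TensorProduct

variable {A : Type u} [CommRing A] {B : Type u} [CommRing B] [Algebra A B]
  (I : Ideal A) (M : Type u) [AddCommGroup M] [Module A M]

theorem smul_top_baseChange_of_eq_top (h : (I • ⊤ : Submodule A M) = ⊤) :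
    (I.map (algebraMap A B) • ⊤ : Submodule B (B ⊗[A] M)) = ⊤ := by
  rw [eq_top_iff]
  intro z hz
  clear hz
  induction z using TensorProduct.induction_on with
  | zero => exact zero_mem _
  | tmul c m =>
    have h1 : c ⊗ₜ[A] m = c • ((1 : B) ⊗ₜ[A] m) := by
      rw [TensorProduct.smul_tmul', smul_eq_mul, mul_one]
    rw [h1]
    have h2 : m ∈ (I • ⊤ : Submodule A M) := by rw [h]; exact Submodule.mem_top
    exact Submodule.smul_mem _ _ (one_tmul_mem M I m h2)
  | add x y hx hy => exact add_mem hx hy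

/-- Flat base change does not decrease the depth. -/
theorem idealDepth_le_baseChange [Module.Flat A B] :
    LocCoh.idealDepth I M ≤ LocCoh.idealDepth (I.map (algebraMap A B)) (B ⊗[A] M) := by
  unfold LocCoh.idealDepth
  by_cases h : (I • ⊤ : Submodule A M) = ⊤
  · rw [if_pos h, if_pos (smul_top_baseChange_of_eq_top I M h)]
  · rw [if_neg h]
    split_ifs with h'
    · exact le_top
    · refine iSup_le fun rs => iSup_le fun hrs => ?_
      have h1 : IsWeaklyRegular (B ⊗[A] M) (rs.map (algebraMap A B)) :=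
        hrs.1.of_flat_of_isBaseChange (TensorProduct.isBaseChange A M B)
      have h2 : ∀ r ∈ rs.map (algebraMap A B), r ∈ I.map (algebraMap A B) := by
        intro r hr
        obtain ⟨a, ha, rfl⟩ := List.mem_map.1 hr
        exact Ideal.mem_map_of_mem _ (hrs.2 a ha)
      refine le_trans ?_ (le_iSup₂ (f := fun (ss : List B)
        (_ : IsWeaklyRegular (B ⊗[A] M) ss ∧ ∀ r ∈ ss, r ∈ I.map (algebraMap A B)) =>
          (ss.length : ℕ∞)) (rs.map (algebraMap A B)) ⟨h1, h2⟩)
      rw [List.length_map]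

variable {M}

/-- If no element of `I` is regular on `M / (rs) M`, then some element outside `(rs) M` is
multiplied into `(rs) M` by `I`. -/
theorem exists_socle [IsNoetherianRing A] [Module.Finite A M] (rs : List A)
    (hmax : ∀ y ∈ I, ¬ IsSMulRegular (M ⧸ (Ideal.ofList rs • ⊤ : Submodule A M)) y) :
    ∃ m : M, m ∉ (Ideal.ofList rs • ⊤ : Submodule A M) ∧
      ∀ a ∈ I, a • m ∈ (Ideal.ofList rs • ⊤ : Submodule A M) := by
  have h1 : ¬ Subsingleton ((A ⧸ I) →ₗ[A] (M ⧸ (Ideal.ofList rs • ⊤ : Submodule A M))) := by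
    rw [IsSMulRegular.subsingleton_linearMap_iff, Ideal.annihilator_quotient]
    rintro ⟨r, hr, hreg⟩
    exact hmax r hr hreg
  rw [not_subsingleton_iff_nontrivial] at h1
  obtain ⟨φ, hφ⟩ := exists_ne (0 : (A ⧸ I) →ₗ[A] (M ⧸ (Ideal.ofList rs • ⊤ : Submodule A M)))
  have h2 : φ (Ideal.Quotient.mk _ 1) ≠ 0 := by
    intro h0
    apply hφ
    apply LinearMap.ext
    intro x
    obtain ⟨a, rfl⟩ := Ideal.Quotient.mk_surjective x
    have : (Ideal.Quotient.mk I) a = a • (Ideal.Quotient.mk I) 1 := by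
      rw [Algebra.smul_def, map_one, mul_one]
      rfl
    rw [this, map_smul, h0, smul_zero]
    rfl
  obtain ⟨z, hz⟩ := Submodule.Quotient.mk_surjective _ (φ (Ideal.Quotient.mk _ 1))
  refine ⟨z, ?_, ?_⟩
  · intro hmem
    apply h2
    rw [← hz, Submodule.Quotient.mk_eq_zero]
    exact hmem
  · intro a ha
    have : a • φ (Ideal.Quotient.mk _ 1) = 0 := by
      rw [← map_smul]
      have : a • (Ideal.Quotient.mk I) 1 = 0 := by
        rw [Algebra.smul_def, map_one, mul_one]
        exact Ideal.Quotient.eq_zero_iff_mem.mpr ha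
      rw [this, map_zero]
    rw [← hz, ← Submodule.Quotient.mk_smul, Submodule.Quotient.mk_eq_zero] at this
    exact this

/-- Transfer of maximality of a regular sequence along a faithfully flat base change. -/
theorem not_isSMulRegular_baseChange [Module.FaithfullyFlat A B] (rs : List A) (m : M)
    (hm : m ∉ (Ideal.ofList rs • ⊤ : Submodule A M))
    (hIm : ∀ a ∈ I, a • m ∈ (Ideal.ofList rs • ⊤ : Submodule A M)) :
    ∀ y ∈ I.map (algebraMap A B), ¬ IsSMulRegular
      ((B ⊗[A] M) ⧸ (Ideal.ofList (rs.map (algebraMap A B)) • ⊤ : Submodule B (B ⊗[A] M))) y := by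
  intro y hy hreg
  have hz : (1 : B) ⊗ₜ[A] m ∉
      (Ideal.ofList (rs.map (algebraMap A B)) • ⊤ : Submodule B (B ⊗[A] M)) := by
    intro h
    rw [← Ideal.map_ofList] at h
    exact hm (mem_of_one_tmul_mem _ m h)
  have hyz : y • ((1 : B) ⊗ₜ[A] m) ∈
      (Ideal.ofList (rs.map (algebraMap A B)) • ⊤ : Submodule B (B ⊗[A] M)) := by
    rw [← Ideal.map_ofList]
    refine Submodule.span_induction ?_ ?_ ?_ ?_ hy
    · rintro _ ⟨a, ha, rfl⟩
      rw [algebraMap_smul_tmul]
      exact one_tmul_mem M _ _ (hIm a ha)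
    · rw [zero_smul]
      exact zero_mem _
    · intro x y _ _ hx hy
      rw [add_smul]
      exact add_mem hx hy
    · intro c x _ hx
      rw [smul_eq_mul, mul_smul]
      exact Submodule.smul_mem _ _ hx
  apply hz
  rw [← Submodule.Quotient.mk_eq_zero]
  apply hreg
  show y • Submodule.Quotient.mk ((1 : B) ⊗ₜ[A] m) = y • 0
  rw [smul_zero, ← Submodule.Quotient.mk_smul, Submodule.Quotient.mk_eq_zero]
  exact hyz

end Groth.Agent.Lib.Helper12.DepthBC
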