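import Mathlib
import Groth.Prelude.Def_CAlg
import Groth.Agent.Lib.Helper12.DepthBaseChange2

/-!
# Depth with respect to an ideal under faithfully flat base change: equality
-/

set_option autoImplicit false
universe u

namespace Groth.Agent.Lib.Helper12.DepthBC

open RingTheory.Sequence TensorProduct

variable {A : Type u} [CommRing A] {B : Type u} [CommRing B] [Algebra A B]
  (I : Ideal A) (M : Type u) [AddCommGroup M] [Module A M]

/-- Faithfully flat base change does not increase the depth. -/
theorem baseChange_idealDepth_le [Module.FaithfullyFlat A B] [IsNoetherianRing A]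
    [IsNoetherianRing B] [Module.Finite A M] :
    LocCoh.idealDepth (I.map (algebraMap A B)) (B ⊗[A] M) ≤ LocCoh.idealDepth I M := by
  classical
  unfold LocCoh.idealDepth
  by_cases h : (I • ⊤ : Submodule A M) = ⊤
  · rw [if_pos h]
    exact le_top
  · have h' : (I.map (algebraMap A B) • ⊤ : Submodule B (B ⊗[A] M)) ≠ ⊤ :=
      ((TensorProduct.isBaseChange A M B).map_smul_top_ne_top_iff_of_faithfullyFlat A M I).mpr h
    rw [if_neg h, if_neg h']
    refine iSup_le fun ss => iSup_le fun hss => ?_
    -- the regular sequences of `M` in `I`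
    let P : ℕ → Prop := fun n => ∃ rs : List A,
      (IsWeaklyRegular M rs ∧ ∀ r ∈ rs, r ∈ I) ∧ rs.length = n
    have hP0 : P 0 := ⟨[], ⟨IsWeaklyRegular.nil A M, by simp⟩, rfl⟩
    have hspec : P (Nat.findGreatest P ss.length) :=
      Nat.findGreatest_spec (Nat.zero_le _) hP0
    obtain ⟨rs, hrs, hlen⟩ := hspec
    have hle_sup : (rs.length : ℕ∞) ≤ ⨆ (rs : List A)
        (_ : IsWeaklyRegular M rs ∧ ∀ r ∈ rs, r ∈ I), (rs.length : ℕ∞) :=
      le_iSup₂ (f := fun (rs : List A) (_ : IsWeaklyRegular M rs ∧ ∀ r ∈ rs, r ∈ I) =>
        (rs.length : ℕ∞)) rs hrs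
    by_cases hcmp : ss.length ≤ rs.length
    · exact le_trans (by exact_mod_cast hcmp) hle_sup
    · exfalso
      rw [not_le] at hcmp
      -- maximality of `rs`
      have hmax : ∀ y ∈ I, ¬ IsSMulRegular (M ⧸ (Ideal.ofList rs • ⊤ : Submodule A M)) y := by
        intro y hy hreg
        have hP1 : P (rs.length + 1) := by
          refine ⟨rs ++ [y], ⟨?_, ?_⟩, by simp⟩
          · rw [isWeaklyRegular_append_iff]
            refine ⟨hrs.1, ?_⟩
            rw [isWeaklyRegular_singleton_iff]
            exact hreg
          · intro r hr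
            rcases List.mem_append.1 hr with h1 | h1
            · exact hrs.2 r h1
            · rw [List.mem_singleton] at h1
              rw [h1]
              exact hy
        have hgr := Nat.findGreatest_is_greatest (P := P) (n := ss.length)
          (k := rs.length + 1) (by rw [hlen]; exact Nat.lt_succ_self _) hcmp
        exact hgr hP1
      obtain ⟨m, hm, hIm⟩ := exists_socle I rs hmax
      have hmaxB := not_isSMulRegular_baseChange (B := B) I rs m hm hIm
      have hrsB : IsWeaklyRegular (B ⊗[A] M) (rs.map (algebraMap A B)) :=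
        hrs.1.of_flat_of_isBaseChange (TensorProduct.isBaseChange A M B)
      have hssreg : IsRegular (B ⊗[A] M) ss := by
        refine ⟨hss.1, ?_⟩
        intro htop
        apply h'
        rw [eq_top_iff]
        have hle : Ideal.ofList ss ≤ I.map (algebraMap A B) := by
          rw [Ideal.ofList, Ideal.span_le]
          intro r hr
          exact hss.2 r hr
        calc (⊤ : Submodule B (B ⊗[A] M)) = Ideal.ofList ss • ⊤ := htop
          _ ≤ I.map (algebraMap A B) • ⊤ := Submodule.smul_mono hle le_rfl
      have hfin := length_le_of_forall_not_isSMulRegular (I.map (algebraMap A B)) (B ⊗[A] M)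
        (lt_of_le_of_ne le_top h') (rs.map (algebraMap A B)) hrsB hmaxB ss hssreg hss.2
      rw [List.length_map] at hfin
      omega

theorem baseChange_idealDepth_eq [Module.FaithfullyFlat A B] [IsNoetherianRing A]
    [IsNoetherianRing B] [Module.Finite A M] :
    LocCoh.idealDepth (I.map (algebraMap A B)) (B ⊗[A] M) = LocCoh.idealDepth I M :=
  le_antisymm (baseChange_idealDepth_le I M) (idealDepth_le_baseChange I M)

end Groth.Agent.Lib.Helper12.DepthBC
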