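import Mathlib
import Groth.Prelude.Def_CAlg
import Groth.Agent.Lib.Helper12.DepthBaseChange2

/-!
# Depth with respect to an ideal along a finite ring map
-/

set_option autoImplicit false
universe u

namespace Groth.Agent.Lib.Helper12.DepthBC

open RingTheory.Sequence

/-- To bound a natural number by the supremum of the lengths of regular sequences in `I`, it suffices
to bound it by the length of every maximal one. -/
theorem le_iSup_length_of_forall_maximal {A : Type u} [CommRing A] (I : Ideal A) (M : Type u)
    [AddCommGroup M] [Module A M] (n : ℕ)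
    (H : ∀ rs : List A, IsWeaklyRegular M rs → (∀ r ∈ rs, r ∈ I) →
      (∀ y ∈ I, ¬ IsSMulRegular (M ⧸ (Ideal.ofList rs • ⊤ : Submodule A M)) y) → n ≤ rs.length) :
    (n : ℕ∞) ≤ ⨆ (rs : List A) (_ : IsWeaklyRegular M rs ∧ ∀ r ∈ rs, r ∈ I),
      (rs.length : ℕ∞) := by
  classical
  let P : ℕ → Prop := fun k => ∃ rs : List A,
    (IsWeaklyRegular M rs ∧ ∀ r ∈ rs, r ∈ I) ∧ rs.length = k
  have hP0 : P 0 := ⟨[], ⟨IsWeaklyRegular.nil A M, by simp⟩, rfl⟩
  have hspec : P (Nat.findGreatest P n) := Nat.findGreatest_spec (Nat.zero_le _) hP0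
  obtain ⟨rs, hrs, hlen⟩ := hspec
  have hle_sup : (rs.length : ℕ∞) ≤ ⨆ (rs : List A)
      (_ : IsWeaklyRegular M rs ∧ ∀ r ∈ rs, r ∈ I), (rs.length : ℕ∞) :=
    le_iSup₂ (f := fun (rs : List A) (_ : IsWeaklyRegular M rs ∧ ∀ r ∈ rs, r ∈ I) =>
      (rs.length : ℕ∞)) rs hrs
  by_cases hcmp : n ≤ rs.length
  · exact le_trans (by exact_mod_cast hcmp) hle_sup
  · exfalso
    rw [not_le] at hcmp
    have hmax : ∀ y ∈ I, ¬ IsSMulRegular (M ⧸ (Ideal.ofList rs • ⊤ : Submodule A M)) y := by
      intro y hy hreg
      have hP1 : P (rs.length + 1) := by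
        refine ⟨rs ++ [y], ⟨?_, ?_⟩, by simp⟩
        · rw [isWeaklyRegular_append_iff]
          refine ⟨hrs.1, ?_⟩
          rw [isWeaklyRegular_singleton_iff]
          exact hreg
        · intro r hr
          rcases List.mem_append.1 hr with h1 | h1
          · exact hrs.2 r h1
          · rw [List.mem_singleton] at h1
            rw [h1]
            exact hy
      have hgr := Nat.findGreatest_is_greatest (P := P) (n := n)
        (k := rs.length + 1) (by rw [hlen]; exact Nat.lt_succ_self _) hcmp
      exact hgr hP1
    have := H rs hrs.1 hrs.2 hmax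
    omega

variable {A B : Type u} [CommRing A] [CommRing B] [Algebra A B]
  (M : Type u) [AddCommGroup M] [Module B M] [Module A M] [IsScalarTower A B M]

theorem mem_map_smul_top_iff (J : Ideal A) (x : M) :
    x ∈ (J.map (algebraMap A B) • ⊤ : Submodule B M) ↔ x ∈ (J • ⊤ : Submodule A M) := by
  have h := Ideal.smul_restrictScalars (R := A) (S := B) (M := M) J (⊤ : Submodule B M)
  rw [Submodule.restrictScalars_top] at h
  rw [← h, Submodule.restrictScalars_mem]

/-- Depth along a finite map: the depth of `M` over `A` with respect to `a` equals its depth over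
`B` with respect to `aB`. -/
theorem idealDepth_eq_of_finite [IsNoetherianRing A] [Module.Finite A B] (a : Ideal A)
    [Module.Finite B M] :
    LocCoh.idealDepth a M = LocCoh.idealDepth (a.map (algebraMap A B)) M := by
  classical
  haveI : IsNoetherianRing B := IsNoetherianRing.of_finite A B
  haveI : Module.Finite A M := Module.Finite.trans B M
  unfold LocCoh.idealDepth
  have htop : ((a • ⊤ : Submodule A M) = ⊤) ↔
      ((a.map (algebraMap A B) • ⊤ : Submodule B M) = ⊤) := by
    rw [Submodule.eq_top_iff', Submodule.eq_top_iff']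
    exact forall_congr' fun x => (mem_map_smul_top_iff M a x).symm
  by_cases h : (a • ⊤ : Submodule A M) = ⊤
  · rw [if_pos h, if_pos (htop.1 h)]
  · have h' : (a.map (algebraMap A B) • ⊤ : Submodule B M) ≠ ⊤ := fun h1 => h (htop.2 h1)
    rw [if_neg h, if_neg h']
    apply le_antisymm
    · refine iSup_le fun rs => iSup_le fun hrs => ?_
      have h1 : IsWeaklyRegular M (rs.map (algebraMap A B)) :=
        (isWeaklyRegular_map_algebraMap_iff (S := B) (M := M) rs).2 hrs.1
      have h2 : ∀ r ∈ rs.map (algebraMap A B), r ∈ a.map (algebraMap A B) := by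
        intro r hr
        obtain ⟨x, hx, rfl⟩ := List.mem_map.1 hr
        exact Ideal.mem_map_of_mem _ (hrs.2 x hx)
      refine le_trans ?_ (le_iSup₂ (f := fun (ss : List B)
        (_ : IsWeaklyRegular M ss ∧ ∀ r ∈ ss, r ∈ a.map (algebraMap A B)) =>
          (ss.length : ℕ∞)) (rs.map (algebraMap A B)) ⟨h1, h2⟩)
      rw [List.length_map]
    · refine iSup_le fun ss => iSup_le fun hss => ?_
      apply le_iSup_length_of_forall_maximal a M ss.length
      intro rs hrs hrsa hmax
      obtain ⟨m, hm, hIm⟩ := exists_socle a rs hmax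
      have hrsB : IsWeaklyRegular M (rs.map (algebraMap A B)) :=
        (isWeaklyRegular_map_algebraMap_iff (S := B) (M := M) rs).2 hrs
      have hmaxB : ∀ y ∈ a.map (algebraMap A B), ¬ IsSMulRegular
          (M ⧸ (Ideal.ofList (rs.map (algebraMap A B)) • ⊤ : Submodule B M)) y := by
        intro y hy hreg
        have hz : m ∉ (Ideal.ofList (rs.map (algebraMap A B)) • ⊤ : Submodule B M) := by
          rw [← Ideal.map_ofList, mem_map_smul_top_iff]
          exact hm
        have hyz : y • m ∈ (Ideal.ofList (rs.map (algebraMap A B)) • ⊤ : Submodule B M) := by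
          rw [← Ideal.map_ofList]
          refine Submodule.span_induction ?_ ?_ ?_ ?_ hy
          · rintro _ ⟨x, hx, rfl⟩
            rw [algebraMap_smul, mem_map_smul_top_iff]
            exact hIm x hx
          · rw [zero_smul]
            exact zero_mem _
          · intro x y _ _ hx hy
            rw [add_smul]
            exact add_mem hx hy
          · intro c x _ hx
            rw [smul_eq_mul, mul_smul]
            exact Submodule.smul_mem _ _ hx
        apply hz
        rw [← Submodule.Quotient.mk_eq_zero]
        apply hreg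
        show y • Submodule.Quotient.mk m = y • 0
        rw [smul_zero, ← Submodule.Quotient.mk_smul, Submodule.Quotient.mk_eq_zero]
        exact hyz
      have hssreg : IsRegular M ss := by
        refine ⟨hss.1, ?_⟩
        intro htop'
        apply h'
        rw [eq_top_iff]
        have hle : Ideal.ofList ss ≤ a.map (algebraMap A B) := by
          rw [Ideal.ofList, Ideal.span_le]
          intro r hr
          exact hss.2 r hr
        calc (⊤ : Submodule B M) = Ideal.ofList ss • ⊤ := htop'
          _ ≤ a.map (algebraMap A B) • ⊤ := Submodule.smul_mono hle le_rfl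
      have hfin := length_le_of_forall_not_isSMulRegular (a.map (algebraMap A B)) M
        (lt_of_le_of_ne le_top h') (rs.map (algebraMap A B)) hrsB hmaxB ss hssreg hss.2
      rwa [List.length_map] at hfin

end Groth.Agent.Lib.Helper12.DepthBC
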