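import Mathlib

/-!
Helper library (helper12): a derivation `D : A → A` extends to the `I`-adic completion.
-/

set_option autoImplicit false

namespace Groth.Agent.Lib.Helper12.DerivCompl

universe u v

variable {k : Type u} [CommRing k] {A : Type v} [CommRing A] [Algebra k A] (I : Ideal A)
  (D : Derivation k A A)

theorem map_pow_succ_mem (n : ℕ) : ∀ x ∈ I ^ (n + 1), D x ∈ I ^ n := by
  induction n with
  | zero => intro x _; simp
  | succ n ih =>
    intro x hx
    rw [pow_succ] at hx
    refine Submodule.mul_induction_on hx ?_ ?_
    · intro b hb a ha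
      rw [D.leibniz]
      refine add_mem ?_ ?_
      · exact Ideal.mul_mem_right _ _ hb
      · have h1 : a • D b = D b * a := by rw [smul_eq_mul, mul_comm]
        rw [h1, pow_succ]
        exact Ideal.mul_mem_mul (ih b hb) ha
    · intro x y hx hy
      rw [map_add]
      exact add_mem hx hy

theorem level_aux (n : ℕ) :
    (I ^ (n + 1) • ⊤ : Submodule A A).restrictScalars k ≤
      ((I ^ n • ⊤ : Submodule A A).restrictScalars k).comap (D : A →ₗ[k] A) := by
  intro x hx
  rw [Submodule.restrictScalars_mem, smul_eq_mul, Ideal.mul_top] at hx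
  rw [Submodule.mem_comap, Submodule.restrictScalars_mem, smul_eq_mul, Ideal.mul_top]
  exact map_pow_succ_mem I D n x hx

/-- The maps `A/I^(n+1) → A/I^n` induced by `D`. -/
noncomputable def level (n : ℕ) :
    (A ⧸ (I ^ (n + 1) • ⊤ : Submodule A A)) →ₗ[k] (A ⧸ (I ^ n • ⊤ : Submodule A A)) :=
  (Submodule.Quotient.restrictScalarsEquiv k (I ^ n • ⊤ : Submodule A A)).toLinearMap ∘ₗ
    (Submodule.mapQ _ _ (D : A →ₗ[k] A) (level_aux I D n)) ∘ₗ
    (Submodule.Quotient.restrictScalarsEquiv k (I ^ (n + 1) • ⊤ : Submodule A A)).symm.toLinearMap

theorem level_mk (n : ℕ) (a : A) :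
    level I D n (Submodule.Quotient.mk a) = Submodule.Quotient.mk (D a) := rfl

theorem exists_rep (x : AdicCompletion I A) (n : ℕ) :
    ∃ a : A, x.val (n + 1) = Submodule.Quotient.mk a ∧ x.val n = Submodule.Quotient.mk a := by
  obtain ⟨a, ha⟩ := Submodule.Quotient.mk_surjective _ (x.val (n + 1))
  refine ⟨a, ha.symm, ?_⟩
  rw [← x.property (Nat.le_succ n), ← ha]
  rfl

/-- The extension of `D` to the completion, as a function. -/
noncomputable def extFun (x : AdicCompletion I A) : AdicCompletion I A :=
  ⟨fun n => level I D n (x.val (n + 1)), by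
    intro m n hmn
    obtain ⟨a, ha⟩ := Submodule.Quotient.mk_surjective _ (x.val (n + 1))
    have hm : x.val (m + 1) = Submodule.Quotient.mk a := by
      rw [← x.property (Nat.succ_le_succ hmn), ← ha]
      rfl
    show AdicCompletion.transitionMap I A hmn (level I D n (x.val (n + 1))) =
      level I D m (x.val (m + 1))
    rw [← ha, hm, level_mk, level_mk]
    rfl⟩

theorem extFun_val (x : AdicCompletion I A) (n : ℕ) :
    (extFun I D x).val n = level I D n (x.val (n + 1)) := rfl

/-- The extension of `D` to the completion. -/
noncomputable def ext : Derivation k (AdicCompletion I A) (AdicCompletion I A) :=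
  Derivation.mk'
    { toFun := extFun I D
      map_add' := fun x y => by
        apply AdicCompletion.ext
        intro n
        rw [AdicCompletion.val_add_apply, extFun_val, extFun_val, extFun_val,
          AdicCompletion.val_add_apply, map_add]
      map_smul' := fun c x => by
        apply AdicCompletion.ext
        intro n
        rw [RingHom.id_apply, AdicCompletion.val_smul_apply, extFun_val, extFun_val,
          AdicCompletion.val_smul_apply, map_smul] }
    (fun x y => by
      apply AdicCompletion.ext
      intro n
      obtain ⟨a, ha1, ha0⟩ := exists_rep I x n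
      obtain ⟨b, hb1, hb0⟩ := exists_rep I y n
      change level I D n ((x * y).val (n + 1)) =
        x.val n * level I D n (y.val (n + 1)) + y.val n * level I D n (x.val (n + 1))
      rw [AdicCompletion.val_mul, ha1, hb1, ha0, hb0, level_mk, level_mk]
      change level I D n (Submodule.Quotient.mk (a * b)) = _
      rw [level_mk, D.leibniz]
      rfl)

theorem ext_algebraMap (a : A) :
    ext I D (algebraMap A (AdicCompletion I A) a) = algebraMap A (AdicCompletion I A) (D a) := by
  apply AdicCompletion.ext
  intro n
  rfl

end Groth.Agent.Lib.Helper12.DerivCompl
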