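import Mathlib
import Groth.Prelude.Def_CAlgX
import Groth.Agent.Lib.Helper5.AdicLiftU
import Groth.Agent.Lib.Helper5.AdicSmoothDer
import Groth.Agent.Lib.Helper22.DispNormal

/-!
# Extending derivations along adically formally smooth maps to complete local rings
-/

set_option autoImplicit false
set_option linter.style.haveILetI false

universe u

namespace Groth.Agent.Lib.Helper12.DerivExt

open IsLocalRing

section Nilp

variable {R S : Type u} [CommRing R] [CommRing S] [Algebra R S] (𝔫 : Ideal S)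

/-- Square-zero lifting implies nilpotent lifting. -/
theorem lift_nilpotent (h : CAlgX.IsAdicFormallySmooth R S 𝔫) (n : ℕ) :
    ∀ (C : Type u) [CommRing C] [Algebra R C] (J : Ideal C), J ^ n = ⊥ →
      ∀ u : S →ₐ[R] C ⧸ J, (∃ k : ℕ, ∀ x ∈ 𝔫 ^ k, u x = 0) →
      ∃ v : S →ₐ[R] C, (Ideal.Quotient.mkₐ R J).comp v = u := by
  induction n using Nat.strong_induction_on with
  | _ n ih =>
    intro C _ _ J hJ u hu
    by_cases hn : n ≤ 2
    · have h2 : J ^ 2 = ⊥ := by
        rw [eq_bot_iff, ← hJ]; exact Ideal.pow_le_pow_right hn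
      exact h C J h2 u hu
    · push_neg at hn
      have hKJ : J ^ (n - 1) ≤ J := Ideal.pow_le_self (by omega)
      have hK2 : (J ^ (n - 1)) ^ 2 = ⊥ := by
        rw [← pow_mul, eq_bot_iff, ← hJ]; exact Ideal.pow_le_pow_right (by omega)
      let e : ((C ⧸ J ^ (n - 1)) ⧸ J.map (Ideal.Quotient.mkₐ R (J ^ (n - 1)))) ≃ₐ[R] C ⧸ J :=
        DoubleQuot.quotQuotEquivQuotOfLEₐ R hKJ
      have hJ' : (J.map (Ideal.Quotient.mkₐ R (J ^ (n - 1)))) ^ (n - 1) = ⊥ := by
        rw [← Ideal.map_pow, Ideal.map_eq_bot_iff_le_ker]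
        intro x hx
        rw [RingHom.mem_ker]
        exact Ideal.Quotient.eq_zero_iff_mem.mpr hx
      obtain ⟨k, hk⟩ := hu
      obtain ⟨v', hv'⟩ := ih (n - 1) (by omega) (C ⧸ J ^ (n - 1))
        (J.map (Ideal.Quotient.mkₐ R (J ^ (n - 1)))) hJ'
        ((e.symm : (C ⧸ J) →ₐ[R] _).comp u) ⟨k, fun x hx => by
          rw [AlgHom.comp_apply, hk x hx, map_zero]⟩
      have hv'x : ∀ x, Ideal.Quotient.mk _ (v' x) = e.symm (u x) := fun x =>
        congrArg (fun g : S →ₐ[R] _ => g x) hv'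
      have hv'k : ∀ x ∈ 𝔫 ^ (k * (n - 1)), v' x = 0 := by
        intro x hx
        have h1 : (𝔫 ^ k).map v' ≤ J.map (Ideal.Quotient.mkₐ R (J ^ (n - 1))) := by
          rw [Ideal.map_le_iff_le_comap]
          intro y hy
          rw [Ideal.mem_comap, ← Ideal.Quotient.eq_zero_iff_mem, hv'x, hk y hy, map_zero]
        have h2 : v' x ∈ ((𝔫 ^ k).map v') ^ (n - 1) := by
          rw [← Ideal.map_pow, ← pow_mul]
          exact Ideal.mem_map_of_mem _ hx
        have h3 := Ideal.pow_right_mono h1 (n - 1) h2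
        rw [hJ'] at h3
        exact h3
      obtain ⟨v, hv⟩ := h C (J ^ (n - 1)) hK2 v' ⟨_, hv'k⟩
      have hvx : ∀ x, Ideal.Quotient.mk (J ^ (n - 1)) (v x) = v' x := fun x =>
        congrArg (fun g : S →ₐ[R] _ => g x) hv
      refine ⟨v, ?_⟩
      ext x
      have h4 : e (Ideal.Quotient.mk _ (Ideal.Quotient.mk (J ^ (n - 1)) (v x))) =
          Ideal.Quotient.mk J (v x) :=
        DoubleQuot.quotQuotEquivQuotOfLE_quotQuotMk (v x) hKJ
      rw [AlgHom.comp_apply, Ideal.Quotient.mkₐ_eq_mk, ← h4, hvx, hv'x, AlgEquiv.apply_symm_apply]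

theorem isFSA_of_isAdicFormallySmooth (h : CAlgX.IsAdicFormallySmooth R S 𝔫) :
    Groth.Agent.Lib.Helper5.FormallyProjU.IsFSA R (⊥ : Ideal R) S 𝔫 := by
  intro C _ _ J hJ _ u hu
  obtain ⟨n, hn⟩ := hJ
  exact lift_nilpotent 𝔫 h n C J hn u hu

end Nilp

end Groth.Agent.Lib.Helper12.DerivExt
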