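import Mathlib
import Groth.Agent.Lib.Helper12.DerivExtA

/-!
# Extending derivations along adically formally smooth maps to complete local rings: main
-/

set_option autoImplicit false
set_option linter.style.haveILetI false

universe u

namespace Groth.Agent.Lib.Helper12.DerivExt

open IsLocalRing Groth.Agent.Lib.Helper5

theorem isAdicComplete_tsze (B : Type u) [CommRing B] [IsLocalRing B] [IsNoetherianRing B]
    [IsAdicComplete (maximalIdeal B) B] :
    IsAdicComplete ((maximalIdeal B).map (algebraMap B (TrivSqZeroExt B B)))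
      (TrivSqZeroExt B B) := by
  rw [IsAdicComplete.map_algebraMap_iff]
  let e : TrivSqZeroExt B B ≃ₗ[B] B × B := LinearEquiv.refl B (B × B)
  haveI : Module.Finite B (TrivSqZeroExt B B) := Module.Finite.equiv e.symm
  haveI : Module.Projective B (TrivSqZeroExt B B) := Module.Projective.of_equiv e.symm
  exact Groth.Agent.Lib.Helper22.DispNormal.isAdicComplete_of_finite_projective (maximalIdeal B)

theorem exists_derivation_extension (A B : Type u) [CommRing A]
    [CommRing B] [IsLocalRing B] [IsNoetherianRing B]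
    [Algebra A B]
    [IsAdicComplete (IsLocalRing.maximalIdeal B) B]
    (hfs : CAlgX.IsAdicFormallySmooth A B (IsLocalRing.maximalIdeal B)) (D : Derivation ℤ A A) :
    ∃ D' : Derivation ℤ B B, ∀ a : A, D' (algebraMap A B a) = algebraMap A B (D a) := by
  let D₁ : Derivation ℤ A B := (Algebra.linearMap A B).compDer D
  have hD₁ : ∀ a, D₁ a = algebraMap A B (D a) := fun a => rfl
  letI algT : Algebra A (TrivSqZeroExt B B) := (AdicSmoothDer.twist D₁).toAlgebra
  let f : TrivSqZeroExt B B →ₐ[A] B :=
    { (TrivSqZeroExt.fstHom B B B).toRingHom with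
      commutes' := fun t => AdicSmoothDer.twist_fst D₁ t }
  have hfx : ∀ x, f x = x.fst := fun x => rfl
  have hf : Function.Surjective f := fun l => ⟨TrivSqZeroExt.inl l, rfl⟩
  have hJ : (RingHom.ker f) ^ 2 = ⊥ := by
    rw [pow_two, eq_bot_iff, Ideal.mul_le]
    intro x hx y hy
    have hx0 : x.fst = 0 := hx
    have hy0 : y.fst = 0 := hy
    rw [Ideal.mem_bot]
    apply TrivSqZeroExt.ext
    · rw [TrivSqZeroExt.fst_mul, hx0, zero_mul, TrivSqZeroExt.fst_zero]
    · rw [TrivSqZeroExt.snd_mul, hx0, hy0, zero_smul, TrivSqZeroExt.snd_zero]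
      simp
  let e := Ideal.quotientKerAlgEquivOfSurjective hf
  have he : ∀ x, e (Ideal.Quotient.mk _ x) = x.fst := fun x =>
    Ideal.quotientKerAlgEquivOfSurjective_mk hf x
  let u : B →ₐ[A] TrivSqZeroExt B B ⧸ RingHom.ker f := e.symm.toAlgHom
  have hu : ∀ b, u b = Ideal.Quotient.mk _ (TrivSqZeroExt.inl b) := by
    intro b
    apply e.injective
    rw [he]
    exact e.apply_symm_apply b
  haveI hcompl := isAdicComplete_tsze B
  have hfst_mem : ∀ (n : ℕ) (x : TrivSqZeroExt B B),
      x ∈ ((maximalIdeal B).map (algebraMap B (TrivSqZeroExt B B))) ^ n → x.fst ∈ maximalIdeal B ^ n := by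
    intro n x hx
    have h1 : Ideal.map (TrivSqZeroExt.fstHom B B B).toRingHom
        (((maximalIdeal B).map (algebraMap B (TrivSqZeroExt B B))) ^ n) ≤ maximalIdeal B ^ n := by
      rw [Ideal.map_pow, Ideal.map_map]
      apply Ideal.pow_right_mono
      rw [Ideal.map_le_iff_le_comap]
      intro b hb
      exact hb
    exact h1 (Ideal.mem_map_of_mem _ hx)
  haveI hH : IsHausdorff (((maximalIdeal B).map (algebraMap B (TrivSqZeroExt B B))).map
      (Ideal.Quotient.mk (RingHom.ker f))) (TrivSqZeroExt B B ⧸ RingHom.ker f) := by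
    refine ⟨fun x hx => ?_⟩
    apply e.injective
    rw [map_zero]
    apply IsHausdorff.haus (I := maximalIdeal B) (M := B) inferInstance
    intro n
    have h1 := hx n
    rw [SModEq.zero, smul_eq_mul, Ideal.mul_top] at h1 ⊢
    rw [← Ideal.map_pow] at h1
    obtain ⟨y, hy, rfl⟩ := (Ideal.mem_map_iff_of_surjective _ Ideal.Quotient.mk_surjective).mp h1
    rw [he]
    exact hfst_mem n y hy
  have hFSA := isFSA_of_isAdicFormallySmooth (maximalIdeal B) hfs
  obtain ⟨v, -, hv⟩ := AdicLiftU.exists_lift_adicComplete (⊥ : Ideal A) (maximalIdeal B)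
    ((maximalIdeal B).map (algebraMap B (TrivSqZeroExt B B))) hFSA
    ⟨1, by rw [pow_one, Ideal.map_bot]; exact bot_le⟩ (RingHom.ker f)
    ⟨2, by rw [hJ]; exact bot_le⟩ u ⟨1, by
      rw [pow_one, Ideal.map_le_iff_le_comap]
      intro b hb
      rw [Ideal.mem_comap]
      change u b ∈ _
      rw [hu]
      exact Ideal.mem_map_of_mem _ (Ideal.mem_map_of_mem _ hb)⟩
  have hvfst : ∀ b, (v b).fst = b := by
    intro b
    have h1 : Ideal.Quotient.mk _ (v b) = u b := congrArg (fun g : B →ₐ[A] _ => g b) hv
    have h2 := congrArg e h1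
    rw [he] at h2
    rw [h2]
    exact e.apply_symm_apply b
  refine ⟨Derivation.mk'
    (AddMonoidHom.toIntLinearMap
      { toFun := fun b => (v b).snd
        map_zero' := by rw [map_zero, TrivSqZeroExt.snd_zero]
        map_add' := fun b b' => by rw [map_add, TrivSqZeroExt.snd_add] })
    (fun b b' => ?_), fun a => ?_⟩
  · change (v (b * b')).snd = b • (v b').snd + b' • (v b).snd
    rw [map_mul, TrivSqZeroExt.snd_mul, hvfst, hvfst, op_smul_eq_smul]
  · change (v (algebraMap A B a)).snd = algebraMap A B (D a)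
    rw [v.commutes]
    exact AdicSmoothDer.twist_snd D₁ a

end Groth.Agent.Lib.Helper12.DerivExt
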