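import Mathlib
import Groth.Agent.Lib.helper19.RegularLocal
import Groth.Agent.Lib.Helper5.RegAdjoinRoot2

/-!
# Derivation criteria for regularity of quotients
-/

set_option autoImplicit false
set_option linter.style.haveILetI false

universe u

namespace Groth.Agent.Lib.Helper12.DerivReg

open IsLocalRing

variable {k : Type*} [CommRing k] {R : Type u} [CommRing R] [Algebra k R]

/-- A derivation maps `q ^ 2` into `q`. -/
theorem deriv_mem_of_mem_sq (D : Derivation k R R) (q : Ideal R) {x : R} (hx : x ∈ q ^ 2) :
    D x ∈ q := by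
  rw [pow_two] at hx
  refine Submodule.mul_induction_on hx ?_ ?_
  · intro m hm n hn
    rw [Derivation.leibniz]
    exact q.add_mem (q.mul_mem_right _ hm) (q.mul_mem_right _ hn)
  · intro x y hx hy
    rw [map_add]
    exact q.add_mem hx hy

/-- If `D f ∉ q` for a derivation `D` and `f ∈ q`, then the image of `f` in `R_q` is not in the
square of the maximal ideal. -/
theorem algebraMap_notMem_sq (D : Derivation k R R) (q : Ideal R) [q.IsPrime] {f : R}
    (hf : f ∈ q) (hD : D f ∉ q) :
    algebraMap R (Localization.AtPrime q) f ∉ maximalIdeal (Localization.AtPrime q) ^ 2 := by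
  intro hmem
  rw [← Localization.AtPrime.map_eq_maximalIdeal, ← Ideal.map_pow,
    IsLocalization.mem_map_algebraMap_iff q.primeCompl] at hmem
  obtain ⟨⟨a, s⟩, has⟩ := hmem
  rw [← map_mul, IsLocalization.eq_iff_exists q.primeCompl] at has
  obtain ⟨t, ht⟩ := has
  -- c f ∈ q ^ 2 with c = t s ∉ q
  have hc : ((t : R) * (s : R)) * f ∈ q ^ 2 := by
    have : (t : R) * (f * (s : R)) = (t : R) * (a : R) := ht
    have h2 : ((t : R) * (s : R)) * f = (t : R) * (a : R) := by rw [← this]; ring
    rw [h2]
    exact Ideal.mul_mem_left _ _ a.2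
  have h3 := deriv_mem_of_mem_sq D q hc
  rw [Derivation.leibniz, smul_eq_mul, smul_eq_mul] at h3
  have h4 : ((t : R) * (s : R)) * D f ∈ q := by
    have := q.sub_mem h3 (q.mul_mem_right (D ((t : R) * (s : R))) hf)
    simpa using this
  rcases (Ideal.IsPrime.mem_or_mem inferInstance h4) with h | h
  · rcases (Ideal.IsPrime.mem_or_mem inferInstance h) with h' | h'
    · exact t.2 h'
    · exact s.2 h'
  · exact hD h

/-- Quotient of a regular ring by `f` with `D f` a unit modulo `f` is regular. -/
theorem isRegularRing_quotient_of_derivation_unit [IsRegularRing R]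
    (f : R) (D : Derivation k R R)
    (hD : IsUnit (Ideal.Quotient.mk (Ideal.span {f}) (D f))) :
    IsRegularRing (R ⧸ Ideal.span ({f} : Set R)) := by
  rw [isRegularRing_iff]
  intro P hP
  let I : Ideal R := Ideal.span ({f} : Set R)
  let q : Ideal R := P.comap (Ideal.Quotient.mk I)
  have hq : q.IsPrime := Ideal.comap_isPrime _ _
  have hIq : I ≤ q := by
    intro x hx
    change Ideal.Quotient.mk I x ∈ P
    rw [Ideal.Quotient.eq_zero_iff_mem.2 hx]
    exact Ideal.zero_mem _
  have hfq : f ∈ q := hIq (Ideal.subset_span (Set.mem_singleton _))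
  have hmap : q.map (Ideal.Quotient.mk I) = P :=
    Ideal.map_comap_of_surjective _ Ideal.Quotient.mk_surjective P
  have hDq : D f ∉ q := by
    intro h
    have h1 : Ideal.Quotient.mk I (D f) ∈ P := h
    exact hP.ne_top (Ideal.eq_top_of_isUnit_mem _ h1 hD)
  have hRq : IsRegularLocalRing (Localization.AtPrime q) :=
    IsRegularRing.isRegularLocalRing_localization q
  have hrm : algebraMap R (Localization.AtPrime q) f ∈
      maximalIdeal (Localization.AtPrime q) := by
    rw [← Localization.AtPrime.map_eq_maximalIdeal]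
    exact Ideal.mem_map_of_mem _ hfq
  have hr2 := algebraMap_notMem_sq D q hfq hDq
  have h1 := (Groth.Agent.Lib.helper19.isRegularLocalRing_quotient_span_singleton hrm hr2).1
  have hImap : I.map (algebraMap R (Localization.AtPrime q)) =
      Ideal.span ({algebraMap R (Localization.AtPrime q) f} : Set _) := by
    rw [Ideal.map_span, Set.image_singleton]
  rw [← hImap] at h1
  have h2 : IsRegularLocalRing
      (@Localization.AtPrime _ _ (q.map (Ideal.Quotient.mk I))
        (Groth.Agent.Lib.Helper5.RegAdjoinRoot.map_mk_isPrime I q hIq)) :=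
    IsRegularLocalRing.of_ringEquiv
      (Groth.Agent.Lib.Helper5.RegAdjoinRoot.quotLocEquiv I q hIq).symm
  have key : ∀ (P' : Ideal (R ⧸ I)) (hP' : P'.IsPrime), P' = P →
      IsRegularLocalRing (@Localization.AtPrime _ _ P' hP') →
      IsRegularLocalRing (Localization.AtPrime P) := by
    intro P' hP' hPP' h
    subst hPP'
    exact h
  exact key _ _ hmap h2

end Groth.Agent.Lib.Helper12.DerivReg
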