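import Mathlib
import Groth.Agent.Lib.helper19.RegularLocalQuot

/-!
# Generators of the maximal ideal and quotients by part of a system of parameters
-/

set_option autoImplicit false
set_option linter.style.haveILetI false

universe u

namespace Groth.Agent.Lib.Helper12.RegQuot

open IsLocalRing

theorem exists_nat_of_le (x : WithBot ℕ∞) (m : ℕ) (h0 : 0 ≤ x) (h : x ≤ (m : WithBot ℕ∞)) :
    ∃ z : ℕ, x = z ∧ z ≤ m := by
  have hne : x ≠ ⊥ := by
    rintro rfl
    simp at h0
  obtain ⟨e, rfl⟩ := WithBot.ne_bot_iff_exists.1 hne
  have h' : e ≤ (m : ℕ∞) := by exact_mod_cast h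
  have het : e ≠ ⊤ := by
    rintro rfl
    simp at h'
  obtain ⟨z, rfl⟩ := ENat.ne_top_iff_exists.1 het
  refine ⟨z, rfl, ?_⟩
  exact_mod_cast h'

/-- The Krull dimension of a Noetherian local ring is a natural number bounded by the
embedding dimension. -/
theorem exists_dim_eq (R : Type u) [CommRing R] [IsLocalRing R] [IsNoetherianRing R] :
    ∃ n : ℕ, ringKrullDim R = n ∧ n ≤ (maximalIdeal R).spanFinrank :=
  exists_nat_of_le _ _ ringKrullDim_nonneg_of_nontrivial (ringKrullDim_le_spanFinrank_maximalIdeal R)

/-- A generating family indexed by `Fin spanFinrank`. -/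
theorem exists_fin_span_eq {R M : Type*} [Semiring R] [AddCommMonoid M] [Module R M]
    {p : Submodule R M} (hp : p.FG) :
    ∃ f : Fin p.spanFinrank → M, Submodule.span R (Set.range f) = p := by
  classical
  obtain ⟨s, hs, hs'⟩ := hp.exists_span_finset_card_eq_spanFinrank
  refine ⟨fun i => ((s.equivFinOfCardEq hs).symm i : M), ?_⟩
  refine Eq.trans ?_ hs'
  congr 1
  ext y
  constructor
  · rintro ⟨i, rfl⟩; exact ((s.equivFinOfCardEq hs).symm i).2
  · intro hy; exact ⟨s.equivFinOfCardEq hs ⟨y, hy⟩, by simp⟩

theorem spanFinrank_span_range_le {R M : Type*} [Semiring R] [AddCommMonoid M] [Module R M]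
    {ι : Type*} [Fintype ι] (f : ι → M) :
    (Submodule.span R (Set.range f)).spanFinrank ≤ Fintype.card ι := by
  classical
  have h1 := Submodule.spanFinrank_span_le_ncard_of_finite (R := R) (Set.finite_range f)
  refine h1.trans ?_
  have : Set.range f = ((Finset.univ.image f : Finset M) : Set M) := by simp
  rw [this, Set.ncard_coe_finset]
  exact Finset.card_image_le.trans (by simp)

variable {A : Type u} [CommRing A]

theorem span_range_eq_top_of_ideal_span {ι : Type*} (I : Ideal A) (g : ι → I)
    (h : Ideal.span (Set.range fun i => (g i : A)) = I) : Submodule.span A (Set.range g) = ⊤ := by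
  apply Submodule.map_injective_of_injective (f := I.subtype) (Submodule.injective_subtype _)
  rw [Submodule.map_span, Submodule.map_top, Submodule.range_subtype, ← Set.range_comp]
  exact h

theorem ideal_span_of_span_range_eq_top {ι : Type*} (I : Ideal A) (g : ι → I)
    (h : Submodule.span A (Set.range g) = ⊤) : Ideal.span (Set.range fun i => (g i : A)) = I := by
  have := congrArg (Submodule.map I.subtype) h
  rw [Submodule.map_span, Submodule.map_top, Submodule.range_subtype, ← Set.range_comp] at this
  exact this

variable [IsLocalRing A] [IsNoetherianRing A]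

/-- A family in the maximal ideal generates it iff its classes span the cotangent space. -/
theorem span_toCotangent_eq_top_iff {ι : Type*} (g : ι → maximalIdeal A) :
    Submodule.span (ResidueField A) (Set.range fun i => (maximalIdeal A).toCotangent (g i)) = ⊤ ↔
      Ideal.span (Set.range fun i => (g i : A)) = maximalIdeal A := by
  have h1 : (Set.range fun i => (maximalIdeal A).toCotangent (g i)) =
      (maximalIdeal A).toCotangent '' Set.range g := by
    rw [← Set.range_comp]; rfl
  rw [h1, CotangentSpace.span_image_eq_top_iff]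
  exact ⟨ideal_span_of_span_range_eq_top _ g, span_range_eq_top_of_ideal_span _ g⟩

/-- Generators of the maximal ideal of a quotient lift to generators modulo the ideal. -/
theorem exists_lift_gens (J : Ideal A) [IsLocalRing (A ⧸ J)] :
    ∃ y : Fin (maximalIdeal (A ⧸ J)).spanFinrank → maximalIdeal A,
      Ideal.span (Set.range fun i => (y i : A)) ⊔ J = maximalIdeal A := by
  obtain ⟨f, hf⟩ := exists_fin_span_eq
    (p := maximalIdeal (A ⧸ J)) (IsNoetherian.noetherian _)
  have hfm : ∀ i, f i ∈ maximalIdeal (A ⧸ J) := fun i => by
    rw [← hf]; exact Submodule.subset_span ⟨i, rfl⟩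
  have hcomap := Groth.Agent.Lib.helper19.comap_mk_maximalIdeal J
  choose a ha using fun i => Ideal.Quotient.mk_surjective (f i)
  have ham : ∀ i, a i ∈ maximalIdeal A := fun i => by
    rw [← hcomap, Ideal.mem_comap, ha]; exact hfm i
  refine ⟨fun i => ⟨a i, ham i⟩, ?_⟩
  have h1 : (Ideal.span (Set.range fun i => a i)).map (Ideal.Quotient.mk J) =
      maximalIdeal (A ⧸ J) := by
    rw [Ideal.map_span, ← Set.range_comp]
    have : (⇑(Ideal.Quotient.mk J) ∘ fun i => a i) = f := funext ha
    rw [this]
    exact hf
  have h2 := Ideal.comap_map_of_surjective' (Ideal.Quotient.mk J) Ideal.Quotient.mk_surjective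
    (Ideal.span (Set.range fun i => a i))
  rw [h1, hcomap, Ideal.mk_ker] at h2
  exact h2.symm

/-- Embedding dimension of the quotient by an ideal generated by `r` elements: lower bound. -/
theorem spanFinrank_le_quotient_add {r : ℕ} (x : Fin r → maximalIdeal A)
    [IsLocalRing (A ⧸ Ideal.span (Set.range fun i => (x i : A)))] :
    ∃ y : Fin (maximalIdeal (A ⧸ Ideal.span (Set.range fun i => (x i : A)))).spanFinrank →
      maximalIdeal A,
      Submodule.span (ResidueField A) (Set.range fun i =>
        (maximalIdeal A).toCotangent (Sum.elim y x i)) = ⊤ := by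
  obtain ⟨y, hy⟩ := exists_lift_gens (Ideal.span (Set.range fun i => (x i : A)))
  refine ⟨y, ?_⟩
  rw [span_toCotangent_eq_top_iff]
  refine Eq.trans ?_ hy
  rw [← Ideal.span_union]
  congr 1
  ext z
  simp only [Set.mem_range, Sum.exists, Sum.elim_inl, Sum.elim_inr, Set.mem_union]

/-- If the classes of `x` are linearly independent, the quotient has embedding dimension
at most `e - r`. -/
theorem spanFinrank_quotient_add_le_aux {r : ℕ} (x : Fin r → maximalIdeal A)
    (J : Ideal A) (hJ : J = Ideal.span (Set.range fun i => (x i : A)))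
    [IsLocalRing (A ⧸ J)]
    (hli : LinearIndependent (ResidueField A) (fun i => (maximalIdeal A).toCotangent (x i))) :
    (maximalIdeal (A ⧸ J)).spanFinrank + r ≤
      (maximalIdeal A).spanFinrank := by
  set W := Submodule.span (ResidueField A)
    (Set.range fun i => (maximalIdeal A).toCotangent (x i)) with hW
  have hWr : Module.finrank (ResidueField A) W = r := by
    rw [hW, finrank_span_eq_card hli]; simp
  have he : Module.finrank (ResidueField A) (CotangentSpace A) =
      (maximalIdeal A).spanFinrank :=
    (spanFinrank_maximalIdeal_eq_finrank_cotangentSpace (R := A)).symm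
  have hq : Module.finrank (ResidueField A) (CotangentSpace A ⧸ W) + r =
      (maximalIdeal A).spanFinrank := by
    rw [← he, ← hWr]; exact Submodule.finrank_quotient_add_finrank W
  obtain ⟨n, hn⟩ : ∃ n, n = Module.finrank (ResidueField A) (CotangentSpace A ⧸ W) := ⟨_, rfl⟩
  let b := Module.finBasisOfFinrankEq (ResidueField A) (CotangentSpace A ⧸ W) hn.symm
  choose v hv using fun j => W.mkQ_surjective (b j)
  choose z hz using fun j => (maximalIdeal A).toCotangent_surjective (v j)
  -- the classes of z and x span the cotangent space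
  have hspan : Submodule.span (ResidueField A) (Set.range fun i =>
      (maximalIdeal A).toCotangent (Sum.elim z x i)) = ⊤ := by
    have h1 : (Set.range fun i => (maximalIdeal A).toCotangent (Sum.elim z x i)) =
        Set.range v ∪ Set.range fun i => (maximalIdeal A).toCotangent (x i) := by
      ext w
      simp only [Set.mem_range, Sum.exists, Sum.elim_inl, Sum.elim_inr, Set.mem_union, hz]
    rw [h1, Submodule.span_union, ← hW, sup_comm, ← Submodule.map_mkQ_eq_top, Submodule.map_span,
      ← Set.range_comp]
    have : (⇑W.mkQ ∘ v) = b := funext hv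
    rw [this]
    exact b.span_eq
  rw [span_toCotangent_eq_top_iff] at hspan
  -- so the images of z generate the maximal ideal of the quotient
  have hmap : maximalIdeal (A ⧸ J) =
      Ideal.span (Set.range fun j => Ideal.Quotient.mk J (z j : A)) := by
    have h2 := congrArg (Ideal.map (Ideal.Quotient.mk J)) hspan
    rw [Groth.Agent.Lib.helper19.maximalIdeal_quotient, ← h2, Ideal.map_span]
    apply le_antisymm
    · rw [Ideal.span_le]
      rintro _ ⟨_, ⟨i, rfl⟩, rfl⟩
      rcases i with j | i
      · exact Ideal.subset_span ⟨j, rfl⟩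
      · have : Ideal.Quotient.mk J (x i : A) = 0 := by
          rw [Ideal.Quotient.eq_zero_iff_mem, hJ]
          exact Ideal.subset_span ⟨i, rfl⟩
        simp only [Sum.elim_inr, this]
        exact Ideal.zero_mem _
    · rw [Ideal.span_le]
      rintro _ ⟨j, rfl⟩
      exact Ideal.subset_span ⟨_, ⟨Sum.inl j, rfl⟩, rfl⟩
  have hle : (maximalIdeal (A ⧸ J)).spanFinrank ≤ n := by
    rw [hmap]
    exact (spanFinrank_span_range_le _).trans (by simp)
  omega

theorem spanFinrank_quotient_add_le {r : ℕ} (x : Fin r → maximalIdeal A)
    [IsLocalRing (A ⧸ Ideal.span (Set.range fun i => (x i : A)))]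
    (hli : LinearIndependent (ResidueField A) (fun i => (maximalIdeal A).toCotangent (x i))) :
    (maximalIdeal (A ⧸ Ideal.span (Set.range fun i => (x i : A)))).spanFinrank + r ≤
      (maximalIdeal A).spanFinrank :=
  spanFinrank_quotient_add_le_aux x _ rfl hli

end Groth.Agent.Lib.Helper12.RegQuot
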