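import Mathlib
import Groth.Agent.Lib.Helper12.DerivRegA
import Groth.Agent.Lib.Helper12.RegQuotA
import Groth.Agent.Lib.helper19.RegularLocalSeq

/-!
# Jacobian criterion with derivations in a local ring
-/

set_option autoImplicit false
set_option linter.style.haveILetI false

universe u

namespace Groth.Agent.Lib.Helper12.DerivReg

open IsLocalRing

variable {k : Type*} [CommRing k] {R : Type u} [CommRing R] [Algebra k R] [IsLocalRing R]

/-- If the Jacobian matrix `(D_i f_j)` is invertible, the classes of the `f_j` in the cotangent
space are linearly independent. -/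
theorem linearIndependent_toCotangent_of_det_unit {m : ℕ}
    (f : Fin m → maximalIdeal R) (D : Fin m → Derivation k R R)
    (hdet : IsUnit (Matrix.det (Matrix.of (fun i j : Fin m => D i (f j : R))))) :
    LinearIndependent (ResidueField R) (fun j => (maximalIdeal R).toCotangent (f j)) := by
  rw [Fintype.linearIndependent_iff]
  intro g hg
  choose a ha using fun j => residue_surjective (g j)
  have h1 : (maximalIdeal R).toCotangent (∑ j, a j • f j) = 0 := by
    rw [map_sum, ← hg]
    refine Finset.sum_congr rfl fun j _ => ?_
    rw [map_smul, ← ha j]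
    exact (algebraMap_smul (ResidueField R) (a j) ((maximalIdeal R).toCotangent (f j))).symm
  rw [Ideal.toCotangent_eq_zero] at h1
  have hcoe : ((∑ j, a j • f j : maximalIdeal R) : R) = ∑ j, a j * (f j : R) := by
    rw [Submodule.coe_sum]
    refine Finset.sum_congr rfl fun j _ => ?_
    rw [Submodule.coe_smul, smul_eq_mul]
  rw [hcoe] at h1
  have h2 : ∀ i, ∑ j, a j * D i (f j : R) ∈ maximalIdeal R := by
    intro i
    have h3 := deriv_mem_of_mem_sq (D i) (maximalIdeal R) h1
    rw [map_sum] at h3
    have h4 : ∑ j, D i (a j * (f j : R)) =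
        ∑ j, a j * D i (f j : R) + ∑ j, (f j : R) * D i (a j) := by
      rw [← Finset.sum_add_distrib]
      refine Finset.sum_congr rfl fun j _ => ?_
      rw [Derivation.leibniz, smul_eq_mul, smul_eq_mul]
    rw [h4] at h3
    have h5 : ∑ j, (f j : R) * D i (a j) ∈ maximalIdeal R :=
      Ideal.sum_mem _ fun j _ => Ideal.mul_mem_right _ _ (f j).2
    exact (Ideal.add_mem_iff_left _ h5).mp h3
  -- pass to the residue field
  let M : Matrix (Fin m) (Fin m) (ResidueField R) :=
    (residue R).mapMatrix (Matrix.of (fun i j : Fin m => D i (f j : R)))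
  have hM : M.det ≠ 0 := by
    have : M.det = residue R (Matrix.det (Matrix.of (fun i j : Fin m => D i (f j : R)))) :=
      (RingHom.map_det _ _).symm
    rw [this]
    exact (hdet.map (residue R)).ne_zero
  have hMv : M.mulVec g = 0 := by
    funext i
    have h6 := (residue_eq_zero_iff _).mpr (h2 i)
    rw [map_sum] at h6
    rw [Pi.zero_apply, ← h6]
    simp only [Matrix.mulVec, dotProduct]
    refine Finset.sum_congr rfl fun j _ => ?_
    rw [map_mul, ha j, mul_comm]
    rfl
  have := Matrix.eq_zero_of_mulVec_eq_zero hM hMv
  intro i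
  exact congrFun this i

theorem ofList_ofFn {n : ℕ} (g : Fin n → R) :
    Ideal.ofList (List.ofFn g) = Ideal.span (Set.range g) := by
  unfold Ideal.ofList
  congr 1
  ext x
  simp [List.mem_ofFn]

end Groth.Agent.Lib.Helper12.DerivReg
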