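import Mathlib
import Groth.Agent.Lib.Helper25.ChevalleyLemma

/-!
# Chevalley's lemma for downward directed families of ideals

In a complete Noetherian local ring, a downward directed family of ideals with zero intersection
contains a member inside any given power of the maximal ideal.
-/

set_option autoImplicit false
set_option linter.style.haveILetI false
universe u

namespace Groth.Agent.Lib.Helper12.DvrFam

open IsLocalRing Groth.Agent.Lib.Helper25.ChevalleyLemma

variable {A : Type u} [CommRing A] [IsLocalRing A] [IsNoetherianRing A]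

/-- stabilisation of a directed family modulo a power of the maximal ideal -/
theorem exists_stable_directed {ι : Type*} [Nonempty ι] (J : ι → Ideal A)
    (hdir : ∀ i j, ∃ k, J k ≤ J i ⊓ J j) (N : ℕ) :
    ∃ i₀, ∀ j, J i₀ ≤ J j ⊔ maximalIdeal A ^ N := by
  cases N with
  | zero =>
    refine ⟨Classical.arbitrary ι, fun j => ?_⟩
    rw [pow_zero, Ideal.one_eq_top, sup_top_eq]
    exact le_top
  | succ n =>
    haveI := isArtinianRing_quot_pow (A := A) n
    let mk := Ideal.Quotient.mk (maximalIdeal A ^ (n + 1))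
    have hwf : WellFoundedLT (Ideal (A ⧸ maximalIdeal A ^ (n + 1))) := inferInstance
    obtain ⟨I₀, ⟨i₀, rfl⟩, hmin⟩ := hwf.wf.has_min (Set.range fun i => (J i).map mk)
      (Set.range_nonempty _)
    refine ⟨i₀, fun j => ?_⟩
    obtain ⟨k, hk⟩ := hdir i₀ j
    have hk1 : (J k).map mk ≤ (J i₀).map mk := Ideal.map_mono (hk.trans inf_le_left)
    have hk2 : (J k).map mk = (J i₀).map mk := by
      by_contra hne
      exact hmin _ ⟨k, rfl⟩ (lt_of_le_of_ne hk1 hne)
    have h1 := Ideal.comap_map_of_surjective mk Ideal.Quotient.mk_surjective (J k)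
    have h2 := Ideal.comap_map_of_surjective mk Ideal.Quotient.mk_surjective (J i₀)
    have hker : Ideal.comap mk ⊥ = maximalIdeal A ^ (n + 1) := by
      rw [← RingHom.ker_eq_comap_bot, Ideal.mk_ker]
    rw [hker] at h1 h2
    calc J i₀ ≤ J i₀ ⊔ maximalIdeal A ^ (n + 1) := le_sup_left
      _ = J k ⊔ maximalIdeal A ^ (n + 1) := by rw [← h1, ← h2, hk2]
      _ ≤ J j ⊔ maximalIdeal A ^ (n + 1) := sup_le_sup_right (hk.trans inf_le_right) _

/-- **Chevalley's lemma** for downward directed families. -/
theorem chevalley_directed [IsAdicComplete (maximalIdeal A) A] {ι : Type*} [Nonempty ι]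
    (J : ι → Ideal A) (hdir : ∀ i j, ∃ k, J k ≤ J i ⊓ J j) (hbot : ⨅ i, J i = ⊥) (N : ℕ) :
    ∃ i, J i ≤ maximalIdeal A ^ N := by
  classical
  choose i₀ hi₀ using exists_stable_directed J hdir
  choose nxt hnxt using hdir
  -- a decreasing sequence
  let s : ℕ → ι := fun n => Nat.rec (i₀ 0) (fun n p => nxt p (i₀ (n + 1))) n
  have hs0 : s 0 = i₀ 0 := rfl
  have hss : ∀ n, s (n + 1) = nxt (s n) (i₀ (n + 1)) := fun _ => rfl
  have hanti : Antitone fun n => J (s n) := by
    refine antitone_nat_of_succ_le fun n => ?_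
    show J (s (n + 1)) ≤ J (s n)
    rw [hss]
    exact (hnxt _ _).trans inf_le_left
  have hle : ∀ n, J (s n) ≤ J (i₀ n) := by
    intro n
    cases n with
    | zero => exact le_rfl
    | succ n =>
      rw [hss]
      exact (hnxt _ _).trans inf_le_right
  have hinf : ⨅ n, J (s n) = ⊥ := by
    rw [eq_bot_iff, ← hbot]
    refine le_iInf fun j => ?_
    intro x hx
    rw [Ideal.mem_iInf] at hx
    apply mem_of_forall_mem_sup_pow
    intro M
    exact hi₀ M j (hle M (hx M))
  obtain ⟨q, hq⟩ := chevalley (fun n => J (s n)) hanti hinf N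
  exact ⟨s q, hq⟩

end Groth.Agent.Lib.Helper12.DvrFam
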