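import Mathlib
import Groth.Agent.Lib.Helper7.JacobsonPunctured

/-!
# Primes of coheight one in a Noetherian local ring

In a reduced Noetherian local ring which is not a field, the intersection of the primes `𝔭` with
`dim A/𝔭 = 1` is zero.
-/

set_option autoImplicit false
set_option linter.style.haveILetI false
universe u

namespace Groth.Agent.Lib.Helper12.DvrFam

open IsLocalRing

variable {A : Type u} [CommRing A] [IsLocalRing A] [IsNoetherianRing A]

/-- a prime of coheight one above a given prime, avoiding a given non-unit -/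
theorem exists_prime_dim_one (p₀ : Ideal A) [p₀.IsPrime] (x : A) (hx : x ∉ p₀)
    (hxm : x ∈ maximalIdeal A) :
    ∃ p : Ideal A, p.IsPrime ∧ p₀ ≤ p ∧ x ∉ p ∧ ringKrullDim (A ⧸ p) = 1 := by
  have hwf : WellFoundedGT (Ideal A) := inferInstance
  obtain ⟨p, ⟨hpprime, hp₀p, hxp⟩, hmax⟩ := hwf.wf.has_min
    {p : Ideal A | p.IsPrime ∧ p₀ ≤ p ∧ x ∉ p} ⟨p₀, inferInstance, le_rfl, hx⟩
  haveI := hpprime
  refine ⟨p, hpprime, hp₀p, hxp, ?_⟩
  have hf : ∀ r : Ideal A, r.IsPrime → p < r → x ∈ r := by
    intro r hr hpr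
    by_contra hxr
    exact hmax r ⟨hr, hp₀p.trans hpr.le, hxr⟩ hpr
  haveI : IsDomain (A ⧸ p) := Ideal.Quotient.isDomain p
  have hall := Groth.Agent.Lib.Helper7.JacPunct.forall_mem_quotient p x hf
  have hx0 : Ideal.Quotient.mk p x ≠ 0 := fun h => hxp (Ideal.Quotient.eq_zero_iff_mem.mp h)
  have hnf : ¬ IsField (A ⧸ p) := by
    intro hF
    have hpmax : p.IsMaximal := Ideal.Quotient.maximal_of_isField p hF
    have := IsLocalRing.eq_maximalIdeal hpmax
    rw [this] at hxp
    exact hxp hxm
  exact (Groth.Agent.Lib.Helper7.JacPunct.semilocal_dim_one (Ideal.Quotient.mk p x) hx0 hall hnf).2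

/-- In a reduced Noetherian local ring which is not a field, every nonzero element is avoided by
some prime of coheight one. -/
theorem exists_prime_dim_one_notMem [IsReduced A] (hA : ¬ IsField A) (x : A) (hx : x ≠ 0) :
    ∃ p : Ideal A, p.IsPrime ∧ x ∉ p ∧ ringKrullDim (A ⧸ p) = 1 := by
  -- a minimal prime avoiding `x`
  have h1 : ∃ p₀ ∈ minimalPrimes A, x ∉ p₀ := by
    by_contra hcon
    simp only [not_exists, not_and, not_not] at hcon
    have h2 : x ∈ nilradical A := by
      rw [nilradical, ← Ideal.sInf_minimalPrimes]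
      exact Ideal.mem_sInf.mpr fun {p} hp => hcon p hp
    rw [nilradical_eq_zero] at h2
    exact hx h2
  obtain ⟨p₀, hp₀min, hxp₀⟩ := h1
  haveI : p₀.IsPrime := hp₀min.1.1
  -- `p₀` is not the maximal ideal
  have hp₀m : p₀ ≠ maximalIdeal A := by
    intro heq
    apply hA
    -- the maximal ideal is the unique prime, so it is the nilradical, which is zero
    have h3 : maximalIdeal A ≤ nilradical A := by
      rw [nilradical, ← Ideal.sInf_minimalPrimes]
      refine le_sInf fun q hq => ?_
      haveI : q.IsPrime := hq.1.1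
      have hq' : q ≤ p₀ := by rw [heq]; exact IsLocalRing.le_maximalIdeal (Ideal.IsPrime.ne_top inferInstance)
      have := hp₀min.2 ⟨inferInstance, bot_le⟩ hq'
      rw [heq] at this
      exact this
    rw [nilradical_eq_zero, Ideal.zero_eq_bot, le_bot_iff] at h3
    exact IsLocalRing.isField_iff_maximalIdeal_eq.mpr h3
  obtain ⟨y, hym, hyp₀⟩ : ∃ y ∈ maximalIdeal A, y ∉ p₀ := by
    by_contra hcon
    simp only [not_exists, not_and, not_not] at hcon
    have hle : maximalIdeal A ≤ p₀ := fun y hy => hcon y hy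
    exact hp₀m (le_antisymm (IsLocalRing.le_maximalIdeal (Ideal.IsPrime.ne_top inferInstance)) hle)
  have hxy : x * y ∉ p₀ := fun h => (Ideal.IsPrime.mem_or_mem inferInstance h).elim hxp₀ hyp₀
  obtain ⟨p, hp, -, hxyp, hdim⟩ := exists_prime_dim_one p₀ (x * y) hxy
    (Ideal.mul_mem_left _ x hym)
  exact ⟨p, hp, fun h => hxyp (Ideal.mul_mem_right y p h), hdim⟩

end Groth.Agent.Lib.Helper12.DvrFam
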