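import Mathlib
import Groth.Agent.Lib.Helper12.ComplIntClosure
import Groth.Agent.Lib.Helper12.HenselIntegralLocal2
import Groth.Agent.Lib.Helper5.FlatCohenD

/-!
# The discrete valuation ring attached to a prime of coheight one of a complete local ring

Let `A` be a complete Noetherian local ring and `p` a prime with `dim A/p = 1`. The integral
closure `V` of `A/p` in its fraction field is a discrete valuation ring, finite over `A`, and the
map `A → V` is local with kernel `p`.
-/

set_option autoImplicit false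
set_option linter.style.haveILetI false
universe u

namespace Groth.Agent.Lib.Helper12.DvrFam

open IsLocalRing

theorem exists_dvr_of_dim_one (A : Type u) [CommRing A] [IsLocalRing A] [IsNoetherianRing A]
    [IsAdicComplete (maximalIdeal A) A] (p : Ideal A) [p.IsPrime]
    (hdim : ringKrullDim (A ⧸ p) = 1) :
    ∃ (V : Type u) (_ : CommRing V) (_ : IsDomain V) (_ : IsDiscreteValuationRing V)
      (φ : A →+* V), IsLocalHom φ ∧ φ.Finite ∧ RingHom.ker φ = p := by
  haveI : Nontrivial (A ⧸ p) := Ideal.Quotient.nontrivial_iff.mpr (Ideal.IsPrime.ne_top inferInstance)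
  haveI hDloc : IsLocalRing (A ⧸ p) :=
    IsLocalRing.of_surjective' (Ideal.Quotient.mk p) Ideal.Quotient.mk_surjective
  haveI : IsDomain (A ⧸ p) := Ideal.Quotient.isDomain p
  haveI : IsAdicComplete (maximalIdeal (A ⧸ p)) (A ⧸ p) :=
    Groth.Agent.Lib.Helper5.FlatCohen.isAdicComplete_quotient p
  obtain ⟨hVloc, -⟩ := Groth.Agent.Lib.Helper12.ComplIntClosure.main
    (A := A ⧸ p) (K' := FractionRing (A ⧸ p))
  haveI := hVloc
  haveI hfin : Module.Finite (A ⧸ p) (integralClosure (A ⧸ p) (FractionRing (A ⧸ p))) :=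
    Groth.Agent.Lib.Helper12.CompleteNagata.isN2_complete_local_domain (A ⧸ p)
      (FractionRing (A ⧸ p)) inferInstance
  haveI : IsNoetherianRing (integralClosure (A ⧸ p) (FractionRing (A ⧸ p))) :=
    IsNoetherianRing.of_finite (A ⧸ p) _
  haveI : IsIntegrallyClosed (integralClosure (A ⧸ p) (FractionRing (A ⧸ p))) :=
    integralClosure.isIntegrallyClosedOfFiniteExtension (FractionRing (A ⧸ p))
  have hinj : Function.Injective
      (algebraMap (A ⧸ p) (integralClosure (A ⧸ p) (FractionRing (A ⧸ p)))) := by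
    have h3 : Function.Injective (algebraMap (A ⧸ p) (FractionRing (A ⧸ p))) :=
      IsFractionRing.injective _ _
    rw [IsScalarTower.algebraMap_eq (A ⧸ p) (integralClosure (A ⧸ p) (FractionRing (A ⧸ p)))
      (FractionRing (A ⧸ p)), RingHom.coe_comp] at h3
    exact Function.Injective.of_comp h3
  -- `A / p` is not a field and has dimension `≤ 1`
  have hDnf : ¬ IsField (A ⧸ p) := by
    intro hF
    letI := hF.toField
    have := ringKrullDim_eq_zero_of_field (A ⧸ p)
    rw [hdim] at this
    exact one_ne_zero this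
  haveI hD1 : Ring.KrullDimLE 1 (A ⧸ p) := Ring.krullDimLE_iff.mpr (by rw [hdim]; rfl)
  have hVnf : ¬ IsField (integralClosure (A ⧸ p) (FractionRing (A ⧸ p))) := by
    intro hF
    exact hDnf (isField_of_isIntegral_of_isField hinj hF)
  -- the unique nonzero prime
  have huniq : ∃! P : Ideal (integralClosure (A ⧸ p) (FractionRing (A ⧸ p))),
      P ≠ ⊥ ∧ P.IsPrime := by
    refine ⟨maximalIdeal _, ⟨IsLocalRing.isField_iff_maximalIdeal_eq.not.mp hVnf,
      (maximalIdeal.isMaximal _).isPrime⟩, ?_⟩
    rintro P ⟨hP0, hPprime⟩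
    haveI := hPprime
    obtain ⟨x, hxP, hx0⟩ := Submodule.exists_mem_ne_zero_of_ne_bot hP0
    have hc0 : P.comap (algebraMap (A ⧸ p) _) ≠ ⊥ :=
      Ideal.comap_ne_bot_of_integral_mem hx0 hxP (Algebra.IsIntegral.isIntegral x)
    have hcmax : (P.comap (algebraMap (A ⧸ p) _)).IsMaximal :=
      Ideal.isMaximal_of_isPrime_of_ne_bot _ hc0
    have hPmax : P.IsMaximal := Ideal.isMaximal_of_isIntegral_of_isMaximal_comap P hcmax
    exact IsLocalRing.eq_maximalIdeal hPmax
  have hDVR : IsDiscreteValuationRing (integralClosure (A ⧸ p) (FractionRing (A ⧸ p))) :=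
    ((IsDiscreteValuationRing.TFAE _ hVnf).out 0 3).mpr
      (⟨inferInstance, huniq⟩ : IsIntegrallyClosed _ ∧ ∃! P : Ideal _, P ≠ ⊥ ∧ P.IsPrime)
  refine ⟨integralClosure (A ⧸ p) (FractionRing (A ⧸ p)), inferInstance, inferInstance, hDVR,
    (algebraMap (A ⧸ p) _).comp (Ideal.Quotient.mk p), ?_, ?_, ?_⟩
  · haveI : IsLocalHom (Ideal.Quotient.mk p) :=
      IsLocalHom.of_surjective _ Ideal.Quotient.mk_surjective
    haveI : IsLocalHom (algebraMap (A ⧸ p) (integralClosure (A ⧸ p) (FractionRing (A ⧸ p)))) :=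
      Groth.Agent.Lib.Helper12.HensInt.isLocalHom_of_isIntegral _ _
    exact RingHom.isLocalHom_comp _ _
  · refine RingHom.Finite.comp ?_ (RingHom.Finite.of_surjective _ Ideal.Quotient.mk_surjective)
    exact RingHom.finite_algebraMap.mpr hfin
  · ext a
    rw [RingHom.mem_ker, RingHom.comp_apply]
    constructor
    · intro h
      have := hinj (by rw [h, map_zero] : algebraMap (A ⧸ p) _ (Ideal.Quotient.mk p a) =
        algebraMap (A ⧸ p) _ 0)
      exact Ideal.Quotient.eq_zero_iff_mem.mp this
    · intro h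
      rw [Ideal.Quotient.eq_zero_iff_mem.mpr h, map_zero]

end Groth.Agent.Lib.Helper12.DvrFam
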