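import Mathlib.RingTheory.Henselian
import Mathlib.RingTheory.Etale.StandardEtale
import Mathlib.RingTheory.LocalRing.ResidueField.Basic
import Mathlib.Algebra.Polynomial.Identities

namespace Groth.Agent.Lib.Helper12

open Polynomial IsLocalRing

universe u

/-- Two roots of a polynomial over a local ring which are congruent modulo the maximal ideal,
one of them having unit derivative, are equal. -/
theorem root_unique_of_isUnit_derivative {S : Type*} [CommRing S] [IsLocalRing S] (f : S[X])
    (x y : S) (hx : f.eval x = 0) (hy : f.eval y = 0) (hxy : x - y ∈ maximalIdeal S)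
    (hu : IsUnit (f.derivative.eval y)) : x = y := by
  obtain ⟨c, hc⟩ := f.binomExpansion y (x - y)
  rw [add_sub_cancel, hx, hy, zero_add] at hc
  have h1 : (x - y) * (f.derivative.eval y + c * (x - y)) = 0 := by
    linear_combination -hc
  have h2 : IsUnit (f.derivative.eval y + c * (x - y)) := by
    by_contra hnu
    have hm : f.derivative.eval y + c * (x - y) ∈ maximalIdeal S := (mem_maximalIdeal _).2 hnu
    have hm2 : c * (x - y) ∈ maximalIdeal S := Ideal.mul_mem_left _ _ hxy
    have : f.derivative.eval y ∈ maximalIdeal S := by
      have := Ideal.sub_mem _ hm hm2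
      simpa using this
    exact (mem_maximalIdeal _).1 this hu
  have := (h2.mul_left_eq_zero).1 h1
  exact sub_eq_zero.1 this

/-- Henselian lifting for standard etale algebras: an `R`-algebra map from a standard etale
`R`-algebra `T` to the residue field of a henselian local `R`-algebra `S` lifts uniquely to `S`. -/
theorem existsUnique_lift_of_standardEtalePresentation {R : Type*} [CommRing R] {S : Type u}
    [CommRing S] [HenselianLocalRing S] [Algebra R S] {T : Type*} [CommRing T] [Algebra R T]
    (P : StandardEtalePresentation R T) (σ : T →ₐ[R] ResidueField S) :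
    ∃! φ : T →ₐ[R] S, ∀ t, residue S (φ t) = σ t := by
  have key : ∀ (p : R[X]) (s : S), residue S (aeval s p) = aeval (residue S s) p := by
    intro p s
    rw [← ResidueField.algebraMap_eq, ← Polynomial.aeval_algebraMap_apply]
  -- the target residue element
  set ξ := σ P.x with hξ
  have hmapξ : P.HasMap ξ := P.hasMap.map σ
  have hder : IsUnit (aeval ξ (derivative P.f)) := hmapξ.isUnit_derivative_f
  -- polynomial over S
  set fS : S[X] := P.f.map (algebraMap R S) with hfS
  have hfSmonic : fS.Monic := P.monic_f.map _
  have hev : ∀ (p : R[X]) (s : S), (p.map (algebraMap R S)).eval s = aeval s p := by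
    intro p s
    rw [Polynomial.eval_map, Polynomial.aeval_def]
  have hevk : ∀ (p : R[X]) (a : ResidueField S),
      aeval a (p.map (algebraMap R S)) = aeval a p := by
    intro p a
    rw [Polynomial.aeval_def, Polynomial.eval₂_map, Polynomial.aeval_def,
      ← IsScalarTower.algebraMap_eq]
  have h01 := (HenselianLocalRing.TFAE S).out 0 1
  have H := h01.1 ‹HenselianLocalRing S› fS hfSmonic ξ
    (by rw [hevk]; exact hmapξ.1)
    (by rw [Polynomial.derivative_map, hevk]; exact hder.ne_zero)
  obtain ⟨x, hxroot, hxres⟩ := H
  have hxroot' : aeval x P.f = 0 := by rw [← hev]; exact hxroot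
  have hmapx : P.HasMap x := by
    refine ⟨hxroot', ?_⟩
    have : IsUnit (residue S (aeval x P.g)) := by rw [key, hxres]; exact hmapξ.2
    exact isUnit_of_map_unit (residue S) _ this
  set φ₀ : T →ₐ[R] S := (P.lift x hmapx).comp (P.equivRing : T →ₐ[R] P.Ring) with hφ₀
  have hφ₀x : φ₀ P.x = x := by
    show P.lift x hmapx (P.equivRing P.x) = x
    rw [P.equivRing_x, StandardEtalePair.lift_X]
  refine ⟨φ₀, ?_, ?_⟩
  · -- residue ∘ φ = σ
    have : (IsScalarTower.toAlgHom R S (ResidueField S)).comp φ₀ = σ := by
      apply P.hom_ext
      rw [AlgHom.comp_apply, hφ₀x]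
      exact hxres
    intro t
    exact AlgHom.congr_fun this t
  · intro φ' hφ'
    apply P.hom_ext
    rw [hφ₀x]
    -- both φ' P.x and x are roots of fS congruent mod m
    have hmap' : P.HasMap (φ' P.x) := P.hasMap.map φ'
    have hroot' : fS.eval (φ' P.x) = 0 := by rw [hev]; exact hmap'.1
    have hcong : φ' P.x - x ∈ maximalIdeal S := by
      rw [← Ideal.Quotient.eq_zero_iff_mem]
      show residue S (φ' P.x - x) = 0
      rw [map_sub, hφ', hxres, sub_self]
    have hux : IsUnit (fS.derivative.eval x) := by
      rw [Polynomial.derivative_map, hev]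
      exact hmapx.isUnit_derivative_f
    exact root_unique_of_isUnit_derivative fS _ _ hroot' hxroot hcong hux

end Groth.Agent.Lib.Helper12
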