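import Groth.Agent.Lib.Helper12.EssEtale2
import Groth.Agent.S0501

set_option autoImplicit false
universe u

namespace Groth.Agent.Lib.Helper12

open IsLocalRing TensorProduct

/-- A strictly essentially étale local `A`-algebra maps to every henselian local `A`-algebra
(with local structure map). -/
theorem exists_algHom_of_isStrictlyEssentiallyEtale (A A' : Type u) [CommRing A] [IsLocalRing A]
    [CommRing A'] [IsLocalRing A'] [Algebra A A'] [IsLocalHom (algebraMap A A')]
    (hA' : EGA4loc.IsStrictlyEssentiallyEtale A A')
    (B : Type u) [CommRing B] [HenselianLocalRing B] [Algebra A B] [IsLocalHom (algebraMap A B)] :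
    Nonempty (A' →ₐ[A] B) := by
  obtain ⟨⟨C, _, _, q, _, hC, hq, ⟨e⟩⟩, hbij⟩ := hA'
  let e' : Localization.AtPrime q →+* A' := (e.symm : Localization.AtPrime q →+* A')
  have he' : IsLocalHom e' := by
    refine ⟨fun a ha => ?_⟩
    have : IsUnit (e (e' a)) := ha.map e
    simpa [e'] using this
  let ρ : q.ResidueField →+* ResidueField A' := ResidueField.map e'
  let β : ResidueField A' ≃+* ResidueField A := (RingEquiv.ofBijective _ hbij).symm
  let τ : q.ResidueField →+* ResidueField B :=
    (ResidueField.map (algebraMap A B)).comp ((β : ResidueField A' →+* ResidueField A).comp ρ)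
  have hτ : τ.comp (algebraMap A q.ResidueField) = (residue B).comp (algebraMap A B) := by
    ext a
    simp only [RingHom.comp_apply, τ, ρ]
    have h1 : algebraMap A q.ResidueField a =
        residue (Localization.AtPrime q) (algebraMap A (Localization.AtPrime q) a) := rfl
    rw [h1, ResidueField.map_residue]
    have h2 : e' (algebraMap A (Localization.AtPrime q) a) = algebraMap A A' a := by
      simp [e']
    rw [h2]
    have h3 : (β : ResidueField A' →+* ResidueField A) (residue A' (algebraMap A A' a)) =
        residue A a := by
      show β _ = _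
      rw [RingEquiv.symm_apply_eq]
      simp [ResidueField.map_residue]
    rw [h3, ResidueField.map_residue]
  obtain ⟨f, ⟨hf1, -⟩, -⟩ := Groth.Agent.S0501.result A B C q τ hτ
  have hunit : ∀ y : q.primeCompl, IsUnit (f y) := by
    rintro ⟨y, hy⟩
    by_contra hu
    apply hy
    rw [← hf1]
    exact hu
  let g : Localization.AtPrime q →ₐ[A] B := IsLocalization.liftAlgHom (M := q.primeCompl) hunit
  exact ⟨g.comp (e : A' →ₐ[A] Localization.AtPrime q)⟩

/-- Uniqueness of algebra maps from a strictly essentially étale local algebra to a local algebra. -/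
theorem algHom_subsingleton_of_isStrictlyEssentiallyEtale (A A' : Type u) [CommRing A]
    [IsLocalRing A] [CommRing A'] [IsLocalRing A'] [Algebra A A'] [IsLocalHom (algebraMap A A')]
    (hA' : EGA4loc.IsStrictlyEssentiallyEtale A A')
    (B : Type*) [CommRing B] [IsLocalRing B] [Algebra A B] [IsLocalHom (algebraMap A B)] :
    Subsingleton (A' →ₐ[A] B) := by
  constructor
  intro ψ ψ'
  have := quasiFinite_of_isEssentiallyEtale hA'.1
  have := essFiniteType_of_isEssentiallyEtale hA'.1
  have := formallyEtale_of_isEssentiallyEtale hA'.1
  have := isLocalHom_algHom_of_quasiFinite ψ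
  have := isLocalHom_algHom_of_quasiFinite ψ'
  apply algHom_eq_of_formallyUnramified_of_isLocalRing
  intro a
  rw [← IsLocalRing.residue_eq_zero_iff, map_sub, sub_eq_zero]
  exact residue_algHom_eq_of_surjective hA'.2.2 ψ ψ' a

end Groth.Agent.Lib.Helper12
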