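import Groth.Agent.Lib.Helper12.EtaleReduced
import Groth.Agent.Lib.Helper12.EssEtale2
import Mathlib.RingTheory.TensorProduct.Quotient

set_option autoImplicit false
universe u

/-!
# The nilradical of an (essentially) étale algebra is the extension of the nilradical of the base
-/

namespace Groth.Agent.Lib.Helper12

open TensorProduct

theorem isReduced_quotient_map_of_etale (R C : Type u) [CommRing R] [CommRing C] [Algebra R C]
    [Algebra.Etale R C] (I : Ideal R) [IsReduced (R ⧸ I)] :
    IsReduced (C ⧸ I.map (algebraMap R C)) := by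
  haveI : IsReduced ((R ⧸ I) ⊗[R] C) := isReduced_of_etale (R ⧸ I) ((R ⧸ I) ⊗[R] C)
  let f : (C ⧸ I.map (algebraMap R C)) →+* (R ⧸ I) ⊗[R] C :=
    ((Algebra.TensorProduct.comm R C (R ⧸ I)).toRingEquiv.toRingHom).comp
      ((Algebra.TensorProduct.quotIdealMapEquivTensorQuot C I).toRingEquiv.toRingHom)
  have hf : Function.Injective f := by
    intro x y hxy
    have h1 := (Algebra.TensorProduct.comm R C (R ⧸ I)).injective hxy
    exact (Algebra.TensorProduct.quotIdealMapEquivTensorQuot C I).injective h1
  exact isReduced_of_injective f hf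

theorem nilradical_le_map_of_etale (R C : Type u) [CommRing R] [CommRing C] [Algebra R C]
    [Algebra.Etale R C] : nilradical C ≤ (nilradical R).map (algebraMap R C) := by
  haveI : IsReduced (R ⧸ nilradical R) := by
    rw [← Ideal.isRadical_iff_quotient_reduced]
    exact Ideal.radical_isRadical _
  haveI := isReduced_quotient_map_of_etale R C (nilradical R)
  intro x hx
  have h1 : IsNilpotent (Ideal.Quotient.mk ((nilradical R).map (algebraMap R C)) x) :=
    (mem_nilradical.mp hx).map _
  have h2 := h1.eq_zero
  exact Ideal.Quotient.eq_zero_iff_mem.mp h2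

theorem nilradical_le_map_of_isEssentiallyEtale {R B : Type u} [CommRing R] [IsLocalRing R]
    [CommRing B] [Algebra R B] (h : EGA4loc.IsEssentiallyEtale R B) :
    nilradical B ≤ (nilradical R).map (algebraMap R B) := by
  obtain ⟨C, _, _, q, _, hC, -, ⟨e⟩⟩ := h
  have key : nilradical (Localization.AtPrime q) ≤
      (nilradical R).map (algebraMap R (Localization.AtPrime q)) := by
    intro x hx
    obtain ⟨c, s, rfl⟩ := IsLocalization.exists_mk'_eq q.primeCompl x
    obtain ⟨n, hn⟩ := mem_nilradical.mp hx
    rw [← IsLocalization.mk'_pow, IsLocalization.mk'_eq_zero_iff] at hn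
    obtain ⟨t, ht⟩ := hn
    have htc : (t : C) * c ∈ nilradical C := by
      rw [mem_nilradical]
      refine ⟨n + 1, ?_⟩
      have : ((t : C) * c) ^ (n + 1) = (t : C) ^ n * c * ((t : C) * c ^ n) := by ring
      rw [this, ht, mul_zero]
    have h1 := nilradical_le_map_of_etale R C htc
    have h2 : algebraMap C (Localization.AtPrime q) ((t : C) * c) ∈
        (nilradical R).map (algebraMap R (Localization.AtPrime q)) := by
      rw [IsScalarTower.algebraMap_eq R C (Localization.AtPrime q), ← Ideal.map_map]
      exact Ideal.mem_map_of_mem _ h1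
    have h3 : IsLocalization.mk' (Localization.AtPrime q) c s =
        algebraMap C (Localization.AtPrime q) ((t : C) * c) *
          IsLocalization.mk' (Localization.AtPrime q) 1 (t * s) := by
      rw [← IsLocalization.mk'_eq_mul_mk'_one, IsLocalization.mk'_eq_iff_eq]
      simp only [Submonoid.coe_mul]
      ring_nf
    rw [h3]
    exact Ideal.mul_mem_right _ _ h2
  intro x hx
  have h1 : e x ∈ nilradical (Localization.AtPrime q) := by
    rw [mem_nilradical] at hx ⊢
    exact hx.map e
  have h2 := key h1
  have h3 : e.symm (e x) ∈ ((nilradical R).map (algebraMap R (Localization.AtPrime q))).map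
      (e.symm : Localization.AtPrime q →ₐ[R] B).toRingHom := Ideal.mem_map_of_mem _ h2
  rw [Ideal.map_map, e.symm_apply_apply] at h3
  have h4 : ((e.symm : Localization.AtPrime q →ₐ[R] B).toRingHom).comp
      (algebraMap R (Localization.AtPrime q)) = algebraMap R B := by
    ext r; exact e.symm.commutes r
  rwa [h4] at h3

end Groth.Agent.Lib.Helper12
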