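import Groth.Agent.Lib.Helper12.StrictStruct4
import Groth.Agent.Lib.Helper12.EssEtaleLift

set_option autoImplicit false
universe u

/-!
# Essentially étale local algebras and strict henselizations
-/

namespace Groth.Agent.Lib.Helper12.StrictStruct

open IsLocalRing PtNbhd

variable (A : Type u) [CommRing A] [IsLocalRing A]

/-- The structure map of an essentially étale local algebra is local. -/
theorem isLocalHom_of_isEssentiallyEtale (B : Type u) [CommRing B] [Algebra A B]
    (hB : EGA4loc.IsEssentiallyEtale A B) : IsLocalHom (algebraMap A B) := by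
  obtain ⟨C, _, _, q, _, hC, hq, ⟨e⟩⟩ := hB
  refine ⟨fun a ha => ?_⟩
  have h1 : IsUnit (e (algebraMap A B a)) := ha.map e
  rw [e.commutes, IsScalarTower.algebraMap_apply A C (Localization.AtPrime q)] at h1
  by_contra hna
  have h2 : a ∈ maximalIdeal A := hna
  rw [← hq, Ideal.mem_comap] at h2
  have h3 := (IsLocalization.AtPrime.to_map_mem_maximal_iff (Localization.AtPrime q) q _).mpr h2
  exact h3 h1

theorem isLocalRing_of_isEssentiallyEtale (B : Type u) [CommRing B] [Algebra A B]
    (hB : EGA4loc.IsEssentiallyEtale A B) : IsLocalRing B := by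
  obtain ⟨C, _, _, q, _, hC, hq, ⟨e⟩⟩ := hB
  exact e.symm.toRingEquiv.isLocalRing

variable (S : Type u) [CommRing S] [IsLocalRing S] [Algebra A S]
  [IsLocalHom (algebraMap A S)] [Hensel.IsStrictHenselization A S]

/-- An essentially étale local `A`-algebra admits a local `A`-algebra map to a strict
henselization of `A`. -/
theorem exists_local_algHom (B : Type u) [CommRing B] [IsLocalRing B] [Algebra A B]
    [IsLocalHom (algebraMap A B)] (hB : EGA4loc.IsEssentiallyEtale A B) :
    ∃ ψ : B →ₐ[A] S, ∀ x, IsUnit (ψ x) → IsUnit x := by
  haveI : HenselianLocalRing S := Hensel.IsStrictHenselization.henselian A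
  haveI : IsSepClosure (ResidueField A) (ResidueField S) :=
    Hensel.IsStrictHenselization.isSepClosure
  haveI : IsSepClosed (ResidueField S) := IsSepClosure.sep_closed (ResidueField A)
  haveI := essFiniteType_of_isEssentiallyEtale hB
  haveI := formallyEtale_of_isEssentiallyEtale hB
  haveI := quasiFinite_of_isEssentiallyEtale hB
  let α : ResidueField B →ₐ[ResidueField A] ResidueField S := IsSepClosed.lift
  obtain ⟨ψ, -, -⟩ := existsUnique_algHom_of_isEssentiallyEtale A B hB S α.toRingHom (by
    intro a
    have h1 : residue B (algebraMap A B a) =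
        algebraMap (ResidueField A) (ResidueField B) (residue A a) := rfl
    have h2 : residue S (algebraMap A S a) =
        algebraMap (ResidueField A) (ResidueField S) (residue A a) := rfl
    rw [h1, h2]
    exact α.commutes _)
  have := isLocalHom_algHom_of_quasiFinite ψ
  exact ⟨ψ, fun x hx => this.map_nonunit x hx⟩

/-- A local `A`-algebra map from an essentially étale local `A`-algebra into a strict
henselization is injective. -/
theorem injective_of_isEssentiallyEtale (B : Type u) [CommRing B] [Algebra A B]
    (hB : EGA4loc.IsEssentiallyEtale A B) (ψ : B →ₐ[A] S) (hψ : ∀ x, IsUnit (ψ x) → IsUnit x) :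
    Function.Injective ψ := by
  obtain ⟨C, _, _, q, _, hC, hq, ⟨e⟩⟩ := hB
  have := injective_of_local A S C q (ψ.comp (e.symm : Localization.AtPrime q →ₐ[A] B))
    (fun x hx => by
      have h1 : IsUnit (e.symm x) := hψ _ hx
      have h2 := h1.map e
      rwa [e.apply_symm_apply] at h2)
  intro x y hxy
  apply e.injective
  apply this
  show ψ (e.symm (e x)) = ψ (e.symm (e y))
  rw [e.symm_apply_apply, e.symm_apply_apply, hxy]

/-- A strict henselization of `A` is also a strict henselization of any essentially étale local
`A`-algebra mapping locally to it. -/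
theorem isStrictHenselization_of_isEssentiallyEtale (B : Type u) [CommRing B] [IsLocalRing B]
    [Algebra A B] [IsLocalHom (algebraMap A B)] (hB : EGA4loc.IsEssentiallyEtale A B)
    [Algebra B S] [IsScalarTower A B S] [IsLocalHom (algebraMap B S)] :
    Hensel.IsStrictHenselization B S := by
  haveI : HenselianLocalRing S := Hensel.IsStrictHenselization.henselian A
  haveI : IsSepClosure (ResidueField A) (ResidueField S) :=
    Hensel.IsStrictHenselization.isSepClosure
  haveI : IsSepClosed (ResidueField S) := IsSepClosure.sep_closed (ResidueField A)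
  haveI : Algebra.IsSeparable (ResidueField A) (ResidueField S) := IsSepClosure.separable
  haveI := essFiniteType_of_isEssentiallyEtale hB
  haveI := formallyEtale_of_isEssentiallyEtale hB
  refine ⟨inferInstance, ⟨inferInstance, ?_⟩, ?_⟩
  · exact Algebra.isSeparable_tower_top_of_isSeparable (ResidueField A) (ResidueField B)
      (ResidueField S)
  intro T _ _ f _ τ hτ
  letI : Algebra A T := (f.comp (algebraMap A B)).toAlgebra
  haveI : IsLocalHom (algebraMap A T) := by
    show IsLocalHom (f.comp (algebraMap A B))
    exact RingHom.isLocalHom_comp _ _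
  have hres : ∀ x : B, τ (residue _ (algebraMap B S x)) = residue T (f x) := by
    intro x
    have := congrArg (fun h : ResidueField B →+* ResidueField T => h (residue _ x)) hτ
    simp only [RingHom.comp_apply, ResidueField.map_residue] at this
    exact this
  have hτA : τ.comp (ResidueField.map (algebraMap A S)) = ResidueField.map (algebraMap A T) := by
    ext r
    obtain ⟨a, rfl⟩ := residue_surjective r
    simp only [RingHom.comp_apply, ResidueField.map_residue]
    rw [IsScalarTower.algebraMap_apply A B S, hres]
    rfl
  obtain ⟨g, ⟨hg1, hg2⟩, hguniq⟩ := Hensel.IsStrictHenselization.universal (R := A) (S := S) T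
    (algebraMap A T) τ hτA
  have hgA : ∀ a : A, g (algebraMap A S a) = algebraMap A T a := fun a =>
    congrArg (fun k : A →+* T => k a) hg1
  let f' : B →ₐ[A] T := { f with commutes' := fun _ => rfl }
  let gψ : B →ₐ[A] T :=
    { g.comp (algebraMap B S) with
      commutes' := fun a => by
        show g (algebraMap B S (algebraMap A B a)) = _
        rw [← IsScalarTower.algebraMap_apply A B S, hgA] }
  have hfg : gψ = f' := by
    apply algHom_eq_of_formallyUnramified_of_isLocalRing
    intro x
    rw [← residue_eq_zero_iff, map_sub, sub_eq_zero]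
    show residue T (g (algebraMap B S x)) = residue T (f x)
    rw [hg2, hres]
  refine ⟨g, ⟨?_, hg2⟩, ?_⟩
  · ext x
    exact congrArg (fun k : B →ₐ[A] T => k x) hfg
  · rintro g' ⟨hg'1, hg'2⟩
    apply hguniq
    refine ⟨?_, hg'2⟩
    ext a
    show g' (algebraMap A S a) = f (algebraMap A B a)
    rw [IsScalarTower.algebraMap_apply A B S]
    exact congrArg (fun k : B →+* T => k (algebraMap A B a)) hg'1

end Groth.Agent.Lib.Helper12.StrictStruct
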