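import Mathlib
import Groth.Agent.Lib.Helper12.NoetherianAux
import Groth.Agent.Lib.Helper12.SpanFinrankFlat

/-!
# Local rings of an étale algebra: Noetherian and regular iff
-/

set_option autoImplicit false
set_option linter.style.haveILetI false

universe u

namespace Groth.Agent.Lib.Helper12.EtLocalReg

open IsLocalRing

/-- Dimension is preserved along flat local homomorphisms of Noetherian local rings with
`m_A B = m_B`. -/
theorem ringKrullDim_eq_of_flat_of_map_eq (A B : Type u) [CommRing A] [CommRing B] [Algebra A B]
    [IsLocalRing A] [IsLocalRing B] [IsLocalHom (algebraMap A B)] [IsNoetherianRing A]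
    [IsNoetherianRing B] [Module.Flat A B]
    (hmap : (maximalIdeal A).map (algebraMap A B) = maximalIdeal B) :
    ringKrullDim B = ringKrullDim A := by
  have hover : (maximalIdeal B).LiesOver (maximalIdeal A) :=
    ⟨(IsLocalRing.maximalIdeal_comap (algebraMap A B)).symm⟩
  have h3 := Ideal.height_eq_height_add_of_liesOver_of_hasGoingDown (maximalIdeal A)
    (maximalIdeal B)
  rw [hmap, Ideal.map_quotient_self, Ideal.height_bot, add_zero] at h3
  rw [← IsLocalRing.maximalIdeal_height_eq_ringKrullDim (R := B), h3,
    IsLocalRing.maximalIdeal_height_eq_ringKrullDim]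

/-- Regularity is equivalent along faithfully flat local maps with `m_A B = m_B`. -/
theorem isRegularLocalRing_iff_of_flat_of_map_eq (A B : Type u) [CommRing A] [CommRing B]
    [Algebra A B]
    [IsLocalRing A] [IsLocalRing B] [IsLocalHom (algebraMap A B)] [IsNoetherianRing A]
    [IsNoetherianRing B] [Module.Flat A B]
    (hmap : (maximalIdeal A).map (algebraMap A B) = maximalIdeal B) :
    IsRegularLocalRing A ↔ IsRegularLocalRing B := by
  haveI : Module.FaithfullyFlat A B := Module.FaithfullyFlat.of_flat_of_isLocalHom
  rw [isRegularLocalRing_iff, isRegularLocalRing_iff, ringKrullDim_eq_of_flat_of_map_eq A B hmap,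
    spanFinrank_maximalIdeal_eq_of_faithfullyFlat A B hmap]

section Etale

variable (A B : Type u) [CommRing A] [CommRing B] [Algebra A B] [Algebra.Etale A B]
  (q : Ideal B) [q.IsPrime]

theorem isNoetherianRing_iff :
    IsNoetherianRing (Localization.AtPrime (Ideal.comap (algebraMap A B) q)) ↔
      IsNoetherianRing (Localization.AtPrime q) := by
  letI := Localization.AtPrime.algebraOfLiesOver (Ideal.comap (algebraMap A B) q) q
  haveI h2 : IsLocalHom (algebraMap (Localization.AtPrime (Ideal.comap (algebraMap A B) q))
      (Localization.AtPrime q)) := by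
    rw [Localization.AtPrime.IsLiesOverAlgebra.algebraMap_eq]
    infer_instance
  haveI h3 : Algebra.EssFiniteType (Localization.AtPrime (Ideal.comap (algebraMap A B) q))
      (Localization.AtPrime q) := .of_comp A _ _
  haveI : Module.FaithfullyFlat (Localization.AtPrime (Ideal.comap (algebraMap A B) q))
      (Localization.AtPrime q) := Module.FaithfullyFlat.of_flat_of_isLocalHom
  constructor
  · intro h
    exact Algebra.EssFiniteType.isNoetherianRing
      (Localization.AtPrime (Ideal.comap (algebraMap A B) q)) (Localization.AtPrime q)
  · intro h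
    exact isNoetherianRing_of_faithfullyFlat
      (Localization.AtPrime (Ideal.comap (algebraMap A B) q)) (Localization.AtPrime q)

theorem isRegularLocalRing_iff' :
    IsRegularLocalRing (Localization.AtPrime (Ideal.comap (algebraMap A B) q)) ↔
      IsRegularLocalRing (Localization.AtPrime q) := by
  letI := Localization.AtPrime.algebraOfLiesOver (Ideal.comap (algebraMap A B) q) q
  haveI h2 : IsLocalHom (algebraMap (Localization.AtPrime (Ideal.comap (algebraMap A B) q))
      (Localization.AtPrime q)) := by
    rw [Localization.AtPrime.IsLiesOverAlgebra.algebraMap_eq]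
    infer_instance
  have h4 : Algebra.IsUnramifiedAt A q := inferInstance
  have h5 := ((Algebra.isUnramifiedAt_iff_map_eq A (Ideal.comap (algebraMap A B) q) q).mp h4).2
  have hmap : (maximalIdeal (Localization.AtPrime (Ideal.comap (algebraMap A B) q))).map
      (algebraMap _ (Localization.AtPrime q)) = maximalIdeal (Localization.AtPrime q) := by
    rw [← Localization.AtPrime.map_eq_maximalIdeal, Ideal.map_map, ← IsScalarTower.algebraMap_eq]
    exact h5
  constructor
  · intro h
    haveI : IsNoetherianRing (Localization.AtPrime q) :=
      (isNoetherianRing_iff A B q).mp inferInstance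
    exact (isRegularLocalRing_iff_of_flat_of_map_eq _ _ hmap).mp h
  · intro h
    haveI : IsNoetherianRing (Localization.AtPrime (Ideal.comap (algebraMap A B) q)) :=
      (isNoetherianRing_iff A B q).mpr inferInstance
    exact (isRegularLocalRing_iff_of_flat_of_map_eq _ _ hmap).mpr h

end Etale

end Groth.Agent.Lib.Helper12.EtLocalReg
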