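import Groth.Agent.Lib.Helper12.SpreadOutD
import Groth.Prelude.Def_ProEtW
import Mathlib.RingTheory.Etale.Pi
import Mathlib.RingTheory.Smooth.Flat
import Mathlib.RingTheory.Spectrum.Prime.Chevalley
import Mathlib.RingTheory.Flat.FaithfullyFlat.Algebra
import Mathlib.RingTheory.Ideal.GoingDown
import Mathlib.RingTheory.Jacobson.Ideal

set_option autoImplicit false
universe u

/-!
# Etale retractions pass to localizations along the generalizations of a closed set
-/

namespace Groth.Agent.Lib.Helper12.EtRetrLoc

section Prod
variable (R : Type u) (E F : Type u) [CommRing R] [CommRing E] [CommRing F] [Algebra R E]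
  [Algebra R F]

def Fam : Bool → Type u := fun b => cond b E F

instance instCommRingFam (b : Bool) : CommRing (Fam E F b) := by
  cases b
  · exact (inferInstance : CommRing F)
  · exact (inferInstance : CommRing E)

instance instAlgebraFam (b : Bool) : Algebra R (Fam E F b) := by
  cases b
  · exact (inferInstance : Algebra R F)
  · exact (inferInstance : Algebra R E)

instance instEtaleFam [Algebra.Etale R E] [Algebra.Etale R F] (b : Bool) :
    Algebra.Etale R (Fam E F b) := by
  cases b
  · exact (inferInstance : Algebra.Etale R F)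
  · exact (inferInstance : Algebra.Etale R E)

def piEquiv : (Π b, Fam E F b) ≃ₐ[R] E × F where
  toFun x := (x true, x false)
  invFun p := fun b => match b with
    | true => p.1
    | false => p.2
  left_inv x := by
    funext b
    cases b <;> rfl
  right_inv p := rfl
  map_mul' x y := rfl
  map_add' x y := rfl
  commutes' r := rfl

theorem etale_prod [Algebra.Etale R E] [Algebra.Etale R F] : Algebra.Etale R (E × F) :=
  Algebra.Etale.of_equiv (piEquiv R E F)

end Prod

variable {A : Type u} [CommRing A]

/-- if the image of `Spec E` (for `E` étale over `A`) contains `V(I)`, then together with some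
`D(f)`, `f ∈ I`, it covers `Spec A` -/
theorem exists_cover (I : Ideal A) (E : Type u) [CommRing E] [Algebra A E]
    [Algebra.Etale A E]
    (hI : PrimeSpectrum.zeroLocus (I : Set A) ⊆
      Set.range (PrimeSpectrum.comap (algebraMap A E))) :
    ∃ f ∈ I, Function.Surjective
      (PrimeSpectrum.comap (algebraMap A (E × Localization.Away f))) := by
  have hopen : IsOpen (Set.range (PrimeSpectrum.comap (algebraMap A E))) :=
    (PrimeSpectrum.isOpenMap_comap_of_hasGoingDown_of_finitePresentation).isOpen_range
  set U := Set.range (PrimeSpectrum.comap (algebraMap A E)) with hU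
  let K : Ideal A := PrimeSpectrum.vanishingIdeal Uᶜ
  have hK : PrimeSpectrum.zeroLocus (K : Set A) = Uᶜ := by
    rw [PrimeSpectrum.zeroLocus_vanishingIdeal_eq_closure, hopen.isClosed_compl.closure_eq]
  have htop : K ⊔ I = ⊤ := by
    rw [← PrimeSpectrum.zeroLocus_empty_iff_eq_top, PrimeSpectrum.zeroLocus_sup, hK]
    rw [Set.eq_empty_iff_forall_notMem]
    rintro x ⟨hx1, hx2⟩
    exact hx1 (hI hx2)
  have h1 : (1 : A) ∈ K ⊔ I := by rw [htop]; trivial
  obtain ⟨k, hk, g, hg, hkg⟩ := Submodule.mem_sup.mp h1
  refine ⟨g, hg, ?_⟩
  intro p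
  by_cases hp : p ∈ U
  · obtain ⟨q', hq'⟩ := hp
    refine ⟨PrimeSpectrum.comap (RingHom.fst E (Localization.Away g)) q', ?_⟩
    rw [← hq']
    rfl
  · have hpK : p ∈ PrimeSpectrum.zeroLocus (K : Set A) := by rw [hK]; exact hp
    have hgp : g ∉ p.asIdeal := by
      intro hgp
      have hkp : k ∈ p.asIdeal := hpK hk
      have : (1 : A) ∈ p.asIdeal := by rw [← hkg]; exact add_mem hkp hgp
      exact p.2.ne_top ((Ideal.eq_top_iff_one _).mpr this)
    have : p ∈ Set.range (PrimeSpectrum.comap (algebraMap A (Localization.Away g))) := by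
      rw [PrimeSpectrum.localization_away_comap_range (Localization.Away g) g]
      exact hgp
    obtain ⟨q', hq'⟩ := this
    refine ⟨PrimeSpectrum.comap (RingHom.snd E (Localization.Away g)) q', ?_⟩
    rw [← hq']
    rfl

/-- Key lemma: if all faithfully flat étale `A`-algebras have retractions, `E` is étale over `A`
with image containing `V(I)`, and `T` is an `A`-algebra in which the image of `I` lies in the
Jacobson radical, then there is an `A`-algebra map `E → T`. -/
theorem exists_algHom (h : ProEtW.HasEtaleRetractions A) (I : Ideal A)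
    (E : Type u) [CommRing E] [Algebra A E] [Algebra.Etale A E]
    (hI : PrimeSpectrum.zeroLocus (I : Set A) ⊆
      Set.range (PrimeSpectrum.comap (algebraMap A E)))
    (T : Type u) [CommRing T] [Algebra A T]
    (hT : ∀ f ∈ I, algebraMap A T f ∈ Ideal.jacobson (⊥ : Ideal T)) :
    Nonempty (E →ₐ[A] T) := by
  obtain ⟨g, hg, hsurj⟩ := exists_cover I E hI
  haveI : Algebra.Etale A (E × Localization.Away g) := etale_prod A E _
  haveI : Module.Flat A (E × Localization.Away g) := inferInstance
  have hff : Module.FaithfullyFlat A (E × Localization.Away g) :=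
    Module.FaithfullyFlat.of_comap_surjective hsurj
  obtain ⟨σ⟩ := h (E × Localization.Away g) hff inferInstance
  let τ : (E × Localization.Away g) →ₐ[A] T := (Algebra.ofId A T).comp σ
  set u := τ (0, 1) with hu
  have hidem : u * u = u := by
    rw [hu, ← map_mul]
    congr 1
    ext <;> simp
  have hug : u = algebraMap A T g * τ (0, IsLocalization.Away.invSelf g) := by
    rw [← Algebra.smul_def, ← map_smul, hu]
    congr 1
    ext
    · simp
    · simp only [Prod.smul_mk, Algebra.smul_def]
      exact (IsLocalization.Away.mul_invSelf g).symm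
  have huJ : u ∈ Ideal.jacobson (⊥ : Ideal T) := by
    rw [hug]
    exact Ideal.mul_mem_right _ _ (hT g hg)
  have hu0 : u = 0 := by
    have h1 : IsUnit (1 - u) := by
      have := (Ideal.mem_jacobson_bot.1 huJ) (-1)
      rwa [mul_neg, mul_one, neg_add_eq_sub] at this
    have : (1 - u) * u = (1 - u) * 0 := by
      rw [mul_zero, sub_mul, one_mul, hidem, sub_self]
    exact h1.mul_left_cancel this
  have h10 : τ (1, 0) = 1 := by
    have : ((1 : E), (0 : Localization.Away g)) = 1 - (0, 1) := by
      ext <;> simp
    rw [this, map_sub, map_one, ← hu, hu0, sub_zero]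
  refine ⟨AlgHom.ofLinearMap (τ.toLinearMap ∘ₗ LinearMap.inl A E (Localization.Away g)) ?_ ?_⟩
  · simpa using h10
  · intro x y
    simp only [LinearMap.coe_comp, Function.comp_apply, LinearMap.coe_inl, AlgHom.toLinearMap_apply]
    rw [← map_mul]
    congr 1
    ext <;> simp

end Groth.Agent.Lib.Helper12.EtRetrLoc
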