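import Mathlib

/-!
# The conormal module of a section and Kähler differentials
-/

set_option autoImplicit false
universe u

namespace Groth.Agent.Lib.Helper12.EtSec

open KaehlerDifferential

variable {A B : Type u} [CommRing A] [CommRing B] [Algebra A B] (σ : B →ₐ[A] A)

theorem sub_algebraMap_mem_ker (x : B) : x - algebraMap A B (σ x) ∈ RingHom.ker σ := by
  rw [RingHom.mem_ker, map_sub, AlgHom.commutes, Algebra.algebraMap_self, RingHom.id_apply,
    sub_self]

/-- The `A`-linear projection `B → ker σ`, `x ↦ x - σ x`. -/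
noncomputable def secProj : B →ₗ[A] RingHom.ker σ :=
  LinearMap.codRestrict ((RingHom.ker σ).restrictScalars A)
    (LinearMap.id - (Algebra.linearMap A B) ∘ₗ σ.toLinearMap) (fun x => sub_algebraMap_mem_ker σ x)

theorem secProj_coe (x : B) : (secProj σ x : B) = x - algebraMap A B (σ x) := rfl

/-- The derivation `x ↦ [x - σ x] : B → b/b²`. -/
noncomputable def secDeriv : Derivation A B (RingHom.ker σ).Cotangent :=
  Derivation.mk' ((RingHom.ker σ).toCotangent.restrictScalars A ∘ₗ secProj σ) (by
    intro a b
    simp only [LinearMap.comp_apply, LinearMap.restrictScalars_apply]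
    rw [← LinearMap.map_smul (RingHom.ker σ).toCotangent a,
      ← LinearMap.map_smul (RingHom.ker σ).toCotangent b, ← map_add, Ideal.toCotangent_eq]
    have h : ((secProj σ (a * b) : RingHom.ker σ) : B) -
        ((a • secProj σ b + b • secProj σ a : RingHom.ker σ) : B) =
        -((a - algebraMap A B (σ a)) * (b - algebraMap A B (σ b))) := by
      simp only [Submodule.coe_add, Submodule.coe_smul, secProj_coe, map_mul,
        smul_eq_mul]
      ring
    rw [h, pow_two]
    exact neg_mem (Ideal.mul_mem_mul (sub_algebraMap_mem_ker σ a)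
      (sub_algebraMap_mem_ker σ b)))

theorem secDeriv_apply (x : B) :
    secDeriv σ x = (RingHom.ker σ).toCotangent (secProj σ x) := rfl

theorem secDeriv_of_mem {x : B} (hx : x ∈ RingHom.ker σ) :
    secDeriv σ x = (RingHom.ker σ).toCotangent ⟨x, hx⟩ := by
  rw [secDeriv_apply]
  congr 1
  apply Subtype.ext
  rw [secProj_coe, (RingHom.mem_ker.mp hx), map_zero, sub_zero]

/-- The retraction `Ω[B/A] → b/b²`. -/
noncomputable def secRetr : Ω[B⁄A] →ₗ[B] (RingHom.ker σ).Cotangent :=
  (secDeriv σ).liftKaehlerDifferential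

theorem secRetr_D (x : B) : secRetr σ (D A B x) = secDeriv σ x :=
  Derivation.liftKaehlerDifferential_comp_D _ x

theorem secRetr_of_mem_smul_top {ω : Ω[B⁄A]}
    (hω : ω ∈ (RingHom.ker σ) • (⊤ : Submodule B Ω[B⁄A])) : secRetr σ ω = 0 := by
  refine Submodule.smul_induction_on hω (fun r hr n _ => ?_) (fun x y hx hy => ?_)
  · rw [map_smul]
    exact Ideal.Cotangent.smul_eq_zero_of_mem hr _
  · rw [map_add, hx, hy, add_zero]

theorem D_mem_smul_top_of_mem_sq {z : B} (hz : z ∈ RingHom.ker σ ^ 2) :
    D A B z ∈ (RingHom.ker σ) • (⊤ : Submodule B Ω[B⁄A]) := by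
  rw [pow_two] at hz
  refine Submodule.mul_induction_on hz (fun x hx y hy => ?_) (fun x y hx hy => ?_)
  · rw [Derivation.leibniz]
    exact Submodule.add_mem _ (Submodule.smul_mem_smul hx Submodule.mem_top)
      (Submodule.smul_mem_smul hy Submodule.mem_top)
  · rw [map_add]
    exact Submodule.add_mem _ hx hy

end Groth.Agent.Lib.Helper12.EtSec
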