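import Mathlib.RingTheory.ZariskisMainTheorem
import Mathlib.RingTheory.Unramified.LocalStructure

set_option autoImplicit false
universe u v w

/-!
# Zariski's main theorem along a section

For a quasi-finite algebra `A'` of finite type over `A` and an `A`-algebra map `σ : A' → K`
with `A → K` surjective, there is a finite subalgebra `B ⊆ A'` and `Δ ∈ B` with `σ Δ = 1`
such that `B[1/Δ] = A'[1/Δ]`.
-/

namespace Groth.Agent.Lib.Helper12

open Polynomial

section

variable {A : Type u} {A' : Type v} {K : Type w} [CommRing A] [CommRing A'] [Algebra A A']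
  [CommRing K] [Algebra A K]

/-- The elements `r` integral over `A` such that `A'[1/r]` is integral over `A` up to powers
of `r`. -/
def zmtSet (A : Type u) (A' : Type v) [CommRing A] [CommRing A'] [Algebra A A'] : Set A' :=
  {r | IsIntegral A r ∧ ∀ x : A', ∃ m : ℕ, IsIntegral A (r ^ m * x)}

theorem zero_mem_zmtSet : (0 : A') ∈ zmtSet A A' :=
  ⟨isIntegral_zero, fun x => ⟨1, by rw [pow_one, zero_mul]; exact isIntegral_zero⟩⟩

theorem smul_mem_zmtSet (a : A) {r : A'} (hr : r ∈ zmtSet A A') : a • r ∈ zmtSet A A' := by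
  refine ⟨hr.1.smul a, fun x => ?_⟩
  obtain ⟨m, hm⟩ := hr.2 x
  refine ⟨m, ?_⟩
  rw [smul_pow, smul_mul_assoc]
  exact hm.smul _

theorem add_mem_zmtSet {r r' : A'} (hr : r ∈ zmtSet A A') (hr' : r' ∈ zmtSet A A') :
    r + r' ∈ zmtSet A A' := by
  refine ⟨hr.1.add hr'.1, fun x => ?_⟩
  obtain ⟨m, hm⟩ := hr.2 x
  obtain ⟨m', hm'⟩ := hr'.2 x
  refine ⟨m + m', ?_⟩
  rw [add_pow, Finset.sum_mul]
  apply IsIntegral.sum
  intro k hk
  rw [Finset.mem_range] at hk
  have hc : IsIntegral A (((m + m').choose k : ℕ) : A') := isIntegral_natCast _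
  rcases le_or_gt m k with hmk | hmk
  · have e : r ^ k * r' ^ (m + m' - k) * ((m + m').choose k : A') * x =
        (r ^ (k - m) * r' ^ (m + m' - k) * ((m + m').choose k : A')) * (r ^ m * x) := by
      have : r ^ k = r ^ (k - m) * r ^ m := by rw [← pow_add, Nat.sub_add_cancel hmk]
      rw [this]
      ring
    rw [e]
    exact (((hr.1.pow _).mul (hr'.1.pow _)).mul hc).mul hm
  · have hle : m' ≤ m + m' - k := by omega
    have e : r ^ k * r' ^ (m + m' - k) * ((m + m').choose k : A') * x =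
        (r ^ k * r' ^ (m + m' - k - m') * ((m + m').choose k : A')) * (r' ^ m' * x) := by
      have : r' ^ (m + m' - k) = r' ^ (m + m' - k - m') * r' ^ m' := by
        rw [← pow_add, Nat.sub_add_cancel hle]
      rw [this]
      ring
    rw [e]
    exact (((hr.1.pow _).mul (hr'.1.pow _)).mul hc).mul hm'

theorem exists_mem_zmtSet_map_eq_one [Algebra.FiniteType A A'] [Algebra.QuasiFinite A A']
    (σ : A' →ₐ[A] K) (hK : Function.Surjective (algebraMap A K)) :
    ∃ Δ ∈ zmtSet A A', σ Δ = 1 := by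
  let J : Ideal K :=
    { carrier := σ '' zmtSet A A'
      add_mem' := by
        rintro _ _ ⟨r, hr, rfl⟩ ⟨r', hr', rfl⟩
        exact ⟨r + r', add_mem_zmtSet hr hr', map_add _ _ _⟩
      zero_mem' := ⟨0, zero_mem_zmtSet, map_zero _⟩
      smul_mem' := by
        rintro c _ ⟨r, hr, rfl⟩
        obtain ⟨a, rfl⟩ := hK c
        refine ⟨a • r, smul_mem_zmtSet a hr, ?_⟩
        rw [map_smul, Algebra.smul_def]
        rfl }
  have hJ : J = ⊤ := by
    by_contra hne
    obtain ⟨𝔫, h𝔫, hle⟩ := Ideal.exists_le_maximal J hne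
    set 𝔮 : Ideal A' := 𝔫.comap (σ : A' →+* K) with h𝔮
    haveI : 𝔮.IsPrime := Ideal.comap_isPrime _ _
    have hZ : Algebra.ZariskisMainProperty A 𝔮 := Algebra.ZariskisMainProperty.of_finiteType 𝔮
    obtain ⟨r, hr𝔮, hrint, hr⟩ := Algebra.zariskisMainProperty_iff.mp hZ
    apply hr𝔮
    rw [h𝔮, Ideal.mem_comap]
    exact hle ⟨r, ⟨hrint, hr⟩, rfl⟩
  have h1 : (1 : K) ∈ J := by rw [hJ]; exact Submodule.mem_top
  obtain ⟨Δ, hΔ, hσ⟩ := h1
  exact ⟨Δ, hΔ, hσ⟩

theorem exists_finite_subalgebra_of_section [Algebra.FiniteType A A'] [Algebra.QuasiFinite A A']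
    (σ : A' →ₐ[A] K) (hK : Function.Surjective (algebraMap A K)) :
    ∃ (B : Subalgebra A A') (Δ : A'), B.toSubmodule.FG ∧ Δ ∈ B ∧ σ Δ = 1 ∧
      ∀ x : A', ∃ N : ℕ, Δ ^ N * x ∈ B := by
  classical
  obtain ⟨Δ, ⟨hΔint, hΔ⟩, hσ⟩ := exists_mem_zmtSet_map_eq_one σ hK
  obtain ⟨s, hs⟩ := Algebra.FiniteType.out (R := A) (A := A')
  choose m hm using hΔ
  set t : Set A' := insert Δ ((fun x => Δ ^ m x * x) '' (s : Set A')) with ht
  have htfin : t.Finite := ((Finset.finite_toSet s).image _).insert Δ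
  have htint : ∀ y ∈ t, IsIntegral A y := by
    intro y hy
    rcases hy with rfl | ⟨x, -, rfl⟩
    · exact hΔint
    · exact hm x
  refine ⟨Algebra.adjoin A t, Δ, fg_adjoin_of_finite htfin htint,
    Algebra.subset_adjoin (Set.mem_insert _ _), hσ, ?_⟩
  have hΔB : Δ ∈ Algebra.adjoin A t := Algebra.subset_adjoin (Set.mem_insert _ _)
  intro x
  have hx : x ∈ Algebra.adjoin A (s : Set A') := by rw [hs]; exact Algebra.mem_top
  induction hx using Algebra.adjoin_induction with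
  | mem x hx =>
    exact ⟨m x, Algebra.subset_adjoin (Set.mem_insert_of_mem _ ⟨x, hx, rfl⟩)⟩
  | algebraMap a =>
    exact ⟨0, by rw [pow_zero, one_mul]; exact Subalgebra.algebraMap_mem _ a⟩
  | add x y _ _ hx hy =>
    obtain ⟨N₁, h₁⟩ := hx
    obtain ⟨N₂, h₂⟩ := hy
    refine ⟨N₁ + N₂, ?_⟩
    have : Δ ^ (N₁ + N₂) * (x + y) = Δ ^ N₂ * (Δ ^ N₁ * x) + Δ ^ N₁ * (Δ ^ N₂ * y) := by
      rw [pow_add]; ring
    rw [this]
    exact Subalgebra.add_mem _ (Subalgebra.mul_mem _ (Subalgebra.pow_mem _ hΔB _) h₁)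
      (Subalgebra.mul_mem _ (Subalgebra.pow_mem _ hΔB _) h₂)
  | mul x y _ _ hx hy =>
    obtain ⟨N₁, h₁⟩ := hx
    obtain ⟨N₂, h₂⟩ := hy
    refine ⟨N₁ + N₂, ?_⟩
    have : Δ ^ (N₁ + N₂) * (x * y) = (Δ ^ N₁ * x) * (Δ ^ N₂ * y) := by
      rw [pow_add]; ring
    rw [this]
    exact Subalgebra.mul_mem _ h₁ h₂

end

end Groth.Agent.Lib.Helper12
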