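import Groth.Agent.Lib.Helper12.GabberFactor
import Groth.Agent.Lib.Helper12.SectionZMT

set_option autoImplicit false
universe u v

/-!
# Sections of étale algebras over a henselian pair
-/

namespace Groth.Agent.Lib.Helper12

open Polynomial

variable {A : Type u} [CommRing A] {I : Ideal A}

section General

variable {B : Type*} [CommRing B] [Algebra A B] [Module.Finite A B] {L : Type*} [CommRing L]
  [Algebra B L] [Algebra A L] [IsScalarTower A B L]

/-- A point `φ : B → A / I` of a finite algebra `B`, lying in an open `D(Δ)` which is flat and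
unramified over `A`, lifts to a section `B → A`. -/
theorem exists_algHom_of_localization (hjac : I ≤ Ideal.jacobson ⊥) (hG : GabberRoots I)
    (Δ : B) [IsLocalization.Away Δ L] [Module.Flat A L] (φ : B →ₐ[A] A ⧸ I)
    (φ' : L →ₐ[A] A ⧸ I) (hφ : ∀ x, φ' (algebraMap B L x) = φ x)
    (h : RingHom.ker φ' ≤ (RingHom.ker φ') ^ 2 ⊔ I.map (algebraMap A L)) :
    ∃ χ : B →ₐ[A] A, ∀ x, Ideal.Quotient.mk I (χ x) = φ x := by
  have hΔ : IsUnit (φ Δ) := by
    rw [← hφ]
    exact (IsLocalization.Away.algebraMap_isUnit Δ).map φ'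
  have hker := ker_le_sq_sup_of_localization Δ hjac φ φ' hφ h
  obtain ⟨c, hc1, hc2⟩ := exists_almost_idempotent_of_ker_le φ hker
  have hφsmul : ∀ (t : A) (x : B), φ (t • x) = Ideal.Quotient.mk I t * φ x := by
    intro t x
    rw [map_smul, Algebra.smul_def]
    rfl
  have hcc : c * c - c ∈ I.map (algebraMap A B) := by
    have : c * c - c = c * (c - 1) := by ring
    rw [this]
    apply hc2
    rw [map_sub, hc1, map_one, sub_self]
  have hrank : ∀ x : B, ∃ a : A, c * x - a • c ∈ I.map (algebraMap A B) := by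
    intro x
    obtain ⟨a, ha⟩ := Ideal.Quotient.mk_surjective (φ x)
    refine ⟨a, ?_⟩
    have : c * x - a • c = c * (x - a • 1) := by
      rw [mul_sub, mul_smul_comm, mul_one]
    rw [this]
    apply hc2
    rw [map_sub, hφsmul, map_one, mul_one, ha, sub_self]
  obtain ⟨e, he, hec⟩ := exists_idempotent_lift_of_gabber hjac hG c hcc hrank
  have hIφ : ∀ w ∈ I.map (algebraMap A B), φ w = 0 := by
    intro w hw
    have hle : I.map (algebraMap A B) ≤ RingHom.ker φ := by
      rw [Ideal.map_le_iff_le_comap]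
      intro a ha
      rw [Ideal.mem_comap, RingHom.mem_ker, AlgHom.commutes]
      exact Ideal.Quotient.eq_zero_iff_mem.mpr ha
    exact hle hw
  have hφe : φ e = 1 := by
    have := hIφ _ hec
    rw [map_sub, hc1, sub_eq_zero] at this
    exact this
  have hker' : ∀ z, φ z = 0 → e * z ∈ I.map (algebraMap A B) := by
    intro z hz
    have : e * z = c * z + (e - c) * z := by ring
    rw [this]
    exact Ideal.add_mem _ (hc2 z hz) (Ideal.mul_mem_right _ _ hec)
  haveI : Module.Flat A (Localization.Away Δ) := by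
    let ε : Localization.Away Δ ≃ₐ[B] L :=
      IsLocalization.algEquiv (Submonoid.powers Δ) (Localization.Away Δ) L
    exact Module.Flat.of_linearEquiv (ε.toLinearEquiv.restrictScalars A)
  exact exists_algHom_of_idempotent φ e hjac he hφe hker' Δ hΔ

end General

/-- **Étale algebras over a henselian pair have sections through every `A / I`-point.** -/
theorem exists_lift_of_etale (hjac : I ≤ Ideal.jacobson ⊥) (hG : GabberRoots I)
    {A' : Type v} [CommRing A'] [Algebra A A'] [Algebra.Etale A A'] (σ : A' →ₐ[A] A ⧸ I) :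
    ∃ τ : A' →ₐ[A] A, (Ideal.Quotient.mkₐ A I).comp τ = σ := by
  haveI : Algebra.FiniteType A A' := inferInstance
  haveI : Algebra.QuasiFinite A A' := inferInstance
  obtain ⟨B₀, Δ, hfg, hΔB, hσΔ, hsat⟩ :=
    exists_finite_subalgebra_of_section σ (Ideal.Quotient.mk_surjective (I := I))
  haveI : Module.Finite A B₀ := ⟨(Submodule.fg_top _).mpr hfg⟩
  set ΔB : B₀ := ⟨Δ, hΔB⟩ with hΔBdef
  set L := Localization.Away Δ with hL
  haveI : IsLocalization.Away ΔB L := by
    show IsLocalization (Submonoid.powers ΔB) L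
    rw [isLocalization_iff]
    refine ⟨?_, ?_, ?_⟩
    · rintro ⟨_, n, rfl⟩
      show IsUnit (algebraMap A' L ((ΔB ^ n : B₀) : A'))
      rw [Subalgebra.coe_pow, map_pow]
      exact (IsLocalization.Away.algebraMap_isUnit Δ).pow n
    · intro z
      obtain ⟨n, x, hx⟩ := IsLocalization.Away.surj Δ z
      obtain ⟨N, hN⟩ := hsat x
      refine ⟨(⟨Δ ^ N * x, hN⟩, ⟨ΔB ^ (n + N), n + N, rfl⟩), ?_⟩
      show z * algebraMap A' L ((ΔB ^ (n + N) : B₀) : A') = algebraMap A' L (Δ ^ N * x)
      rw [Subalgebra.coe_pow, map_pow, map_mul, ← hx, pow_add, map_pow]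
      ring
    · intro x y hxy
      have hxy' : algebraMap A' L (x : A') = algebraMap A' L (y : A') := hxy
      obtain ⟨⟨_, n, rfl⟩, hn⟩ := (IsLocalization.eq_iff_exists (Submonoid.powers Δ) L).mp hxy'
      refine ⟨⟨ΔB ^ n, n, rfl⟩, ?_⟩
      apply Subtype.ext
      simpa using hn
  haveI : Module.Flat A A' := Algebra.Smooth.flat A A'
  haveI : Module.Flat A L := Module.Flat.trans A A' L
  let φ : B₀ →ₐ[A] A ⧸ I := σ.comp B₀.val
  have hunits : ∀ y : Submonoid.powers Δ, IsUnit (σ y) := by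
    rintro ⟨_, n, rfl⟩
    rw [map_pow, hσΔ, one_pow]
    exact isUnit_one
  let φ' : L →ₐ[A] A ⧸ I := IsLocalization.liftAlgHom (M := Submonoid.powers Δ) (f := σ) hunits
  have hφ'A' : ∀ x : A', φ' (algebraMap A' L x) = σ x := fun x =>
    IsLocalization.lift_eq _ x
  have hφ : ∀ x : B₀, φ' (algebraMap B₀ L x) = φ x := fun x => hφ'A' x
  have hU := ker_le_sq_sup_map_of_formallyUnramified I φ'
  obtain ⟨χ, hχ⟩ := exists_algHom_of_localization hjac hG ΔB φ φ' hφ hU
  have hχunits : ∀ y : Submonoid.powers ΔB, IsUnit (χ y) := by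
    rintro ⟨_, n, rfl⟩
    rw [map_pow]
    apply IsUnit.pow
    apply isUnit_of_sub_one_mem hjac
    rw [← Ideal.Quotient.eq, hχ, map_one]
    exact hσΔ
  let τ' : L →ₐ[A] A := IsLocalization.liftAlgHom (M := Submonoid.powers ΔB) (f := χ) hχunits
  have hτ'B : ∀ x : B₀, τ' (algebraMap B₀ L x) = χ x := fun x => IsLocalization.lift_eq _ x
  refine ⟨τ'.comp (IsScalarTower.toAlgHom A A' L), ?_⟩
  have key : ((Ideal.Quotient.mkₐ A I).comp τ' : L →+* A ⧸ I) = (φ' : L →+* A ⧸ I) := by
    apply IsLocalization.ringHom_ext (Submonoid.powers ΔB)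
    ext x
    show Ideal.Quotient.mk I (τ' (algebraMap B₀ L x)) = φ' (algebraMap B₀ L x)
    rw [hτ'B, hχ, hφ]
  ext x
  have := RingHom.congr_fun key (algebraMap A' L x)
  show Ideal.Quotient.mk I (τ' (algebraMap A' L x)) = σ x
  rw [← hφ'A']
  exact this

end Groth.Agent.Lib.Helper12
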