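import Groth.Agent.Lib.Helper12.EtaleLift
import Mathlib.RingTheory.Etale.StandardEtale

set_option autoImplicit false
universe u v

/-!
# Lifting of sections of étale algebras implies henselian
-/

namespace Groth.Agent.Lib.Helper12

open Polynomial

variable {A : Type u} [CommRing A] {I : Ideal A}

theorem henselianRing_of_etale_lift
    (H : ∀ (A' : Type u) [CommRing A'] [Algebra A A'] [Algebra.Etale A A']
      (σ : A' →ₐ[A] A ⧸ I), ∃ τ : A' →ₐ[A] A, (Ideal.Quotient.mkₐ A I).comp τ = σ) :
    HenselianRing A I := by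
  refine ⟨?_, ?_⟩
  · intro x hx
    rw [Ideal.mem_jacobson_bot]
    intro y
    set w := x * y + 1 with hw
    haveI : Algebra.Etale A (Localization.Away w) := Algebra.Etale.of_isLocalizationAway w
    have hunits : ∀ z : Submonoid.powers w, IsUnit (Algebra.ofId A (A ⧸ I) z) := by
      rintro ⟨_, n, rfl⟩
      have h1 : Algebra.ofId A (A ⧸ I) w = 1 := by
        show Ideal.Quotient.mk I w = 1
        rw [hw, map_add, map_one, Ideal.Quotient.eq_zero_iff_mem.mpr (I.mul_mem_right y hx),
          zero_add]
      rw [map_pow, h1, one_pow]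
      exact isUnit_one
    let σ : Localization.Away w →ₐ[A] A ⧸ I :=
      IsLocalization.liftAlgHom (M := Submonoid.powers w) (f := Algebra.ofId A (A ⧸ I)) hunits
    obtain ⟨τ, -⟩ := H (Localization.Away w) σ
    have := (IsLocalization.Away.algebraMap_isUnit (S := Localization.Away w) w).map τ
    rwa [AlgHom.commutes] at this
  · intro f hf a₀ h0 h1
    let P : StandardEtalePair A := ⟨f, hf, derivative f, ⟨1, 0, 1, by ring⟩⟩
    have key : ∀ p : A[X], aeval (Ideal.Quotient.mk I a₀) p = Ideal.Quotient.mk I (p.eval a₀) := by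
      intro p
      rw [← Ideal.Quotient.algebraMap_eq, Polynomial.aeval_algebraMap_apply,
        Polynomial.coe_aeval_eq_eval]
    have hmap : P.HasMap (Ideal.Quotient.mk I a₀) := by
      refine ⟨?_, ?_⟩
      · show aeval (Ideal.Quotient.mk I a₀) f = 0
        rw [key]
        exact Ideal.Quotient.eq_zero_iff_mem.mpr h0
      · show IsUnit (aeval (Ideal.Quotient.mk I a₀) (derivative f))
        rw [key]
        exact h1
    obtain ⟨τ, hτ⟩ := H P.Ring (P.lift _ hmap)
    have hρ : P.HasMap (τ P.X) := StandardEtalePair.hasMap_X.map τ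
    refine ⟨τ P.X, ?_, ?_⟩
    · have : aeval (τ P.X) f = 0 := hρ.1
      rwa [Polynomial.coe_aeval_eq_eval] at this
    · have := AlgHom.congr_fun hτ P.X
      rw [StandardEtalePair.lift_X] at this
      exact Ideal.Quotient.eq.mp this

end Groth.Agent.Lib.Helper12
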