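import Groth.Agent.Lib.Helper12.EssEtale3
import Mathlib.RingTheory.Localization.AtPrime.Basic
import Mathlib.RingTheory.LocalRing.ResidueField.Ideal

set_option autoImplicit false
universe u

/-!
# Étale neighbourhoods of a local ring with trivial residue field extension

A pair `(C, π)` of an `A`-algebra `C` and an `A`-algebra map `π : C → κ(A)` determines the local
ring `Loc A C π = C_{ker π}`.  When `C` is étale this is a strictly essentially étale local
`A`-algebra, and every such algebra arises in this way.
-/

namespace Groth.Agent.Lib.Helper12.EtaleNbhd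

open IsLocalRing TensorProduct

section
variable (A : Type u) [CommRing A] [IsLocalRing A]
variable (C : Type u) [CommRing C] [Algebra A C] (π : C →ₐ[A] ResidueField A)

theorem pi_surjective : Function.Surjective π := fun z => by
  obtain ⟨a, rfl⟩ := residue_surjective z
  exact ⟨algebraMap A C a, by rw [π.commutes]; rfl⟩

instance ker_isMaximal : (RingHom.ker π).IsMaximal :=
  RingHom.ker_isMaximal_of_surjective π (pi_surjective A C π)

theorem comap_ker : (RingHom.ker π).comap (algebraMap A C) = maximalIdeal A := by
  ext a
  rw [Ideal.mem_comap, RingHom.mem_ker, π.commutes, ← residue_eq_zero_iff]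
  rfl

/-- The local ring of the étale neighbourhood `(C, π)`. -/
abbrev Loc : Type u := Localization.AtPrime (RingHom.ker π)

instance isLocalHom_algebraMap_loc : IsLocalHom (algebraMap A (Loc A C π)) := by
  refine ((local_hom_TFAE _).out 4 0).mp ?_
  rw [IsScalarTower.algebraMap_eq A C (Loc A C π), ← Ideal.comap_comap]
  have := IsLocalization.AtPrime.under_maximalIdeal (Loc A C π) (RingHom.ker π)
  rw [Ideal.under] at this
  rw [this, comap_ker]

theorem bijective_residueField_map :
    Function.Bijective (ResidueField.map (algebraMap A (Loc A C π))) := by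
  refine ⟨(ResidueField.map (algebraMap A (Loc A C π))).injective, ?_⟩
  intro z
  obtain ⟨c', hc'⟩ := (Ideal.bijective_algebraMap_quotient_residueField (RingHom.ker π)).2 z
  obtain ⟨c, rfl⟩ := Ideal.Quotient.mk_surjective c'
  obtain ⟨a, ha⟩ := residue_surjective (π c)
  refine ⟨residue A a, ?_⟩
  rw [ResidueField.map_residue, ← hc']
  have hmem : c - algebraMap A C a ∈ RingHom.ker π := by
    rw [RingHom.mem_ker, map_sub, π.commutes, ← ha, sub_eq_zero]
    rfl
  have h1 : algebraMap (C ⧸ RingHom.ker π) (RingHom.ker π).ResidueField (Ideal.Quotient.mk _ c) =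
      algebraMap C (RingHom.ker π).ResidueField c := rfl
  rw [h1]
  have h2 : algebraMap C (RingHom.ker π).ResidueField (c - algebraMap A C a) = 0 := by
    rw [Ideal.algebraMap_residueField_eq_zero]; exact hmem
  rw [map_sub, sub_eq_zero] at h2
  rw [h2]
  rfl

theorem isStrictlyEssentiallyEtale [Algebra.Etale A C] :
    EGA4loc.IsStrictlyEssentiallyEtale A (Loc A C π) :=
  ⟨⟨C, inferInstance, inferInstance, RingHom.ker π, inferInstance, inferInstance,
    comap_ker A C π, ⟨AlgEquiv.refl⟩⟩, bijective_residueField_map A C π⟩

end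

section
variable {A : Type u} [CommRing A] [IsLocalRing A]
variable {C : Type u} [CommRing C] [Algebra A C] {π : C →ₐ[A] ResidueField A}
variable {C' : Type u} [CommRing C'] [Algebra A C'] {π' : C' →ₐ[A] ResidueField A}

/-- A map of étale neighbourhoods induces a map of their local rings. -/
noncomputable def locMap (φ : C →ₐ[A] C') (h : π'.comp φ = π) : Loc A C π →ₐ[A] Loc A C' π' :=
  Localization.localAlgHom (RingHom.ker π) (RingHom.ker π') φ (by
    ext c
    rw [Ideal.mem_comap, RingHom.mem_ker, RingHom.mem_ker, ← h]
    rfl)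

end

section
variable (A : Type u) [CommRing A] [IsLocalRing A]

/-- Every strictly essentially étale local algebra comes from an étale neighbourhood `(C, π)`. -/
theorem exists_equiv_loc (A₁ : Type u) [CommRing A₁] [IsLocalRing A₁] [Algebra A A₁]
    [IsLocalHom (algebraMap A A₁)] (h : EGA4loc.IsStrictlyEssentiallyEtale A A₁) :
    ∃ (C : Type u) (_ : CommRing C) (_ : Algebra A C) (_ : Algebra.Etale A C)
      (π : C →ₐ[A] ResidueField A), Nonempty (A₁ ≃ₐ[A] Loc A C π) := by
  haveI : IsLocalHom (algebraMap A (ResidueField A)) := by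
    rw [ResidueField.algebraMap_eq]; infer_instance
  obtain ⟨χ⟩ := exists_algHom_of_isStrictlyEssentiallyEtale A A₁ h (ResidueField A)
  have hqf := quasiFinite_of_isEssentiallyEtale h.1
  have hχ : IsLocalHom χ.toRingHom := isLocalHom_algHom_of_quasiFinite χ
  obtain ⟨⟨C, _, _, q, _, hC, hq, ⟨e⟩⟩, hbij⟩ := h
  let π : C →ₐ[A] ResidueField A :=
    (χ.comp (e.symm : Localization.AtPrime q →ₐ[A] A₁)).comp
      (IsScalarTower.toAlgHom A C (Localization.AtPrime q))
  have hker : q = RingHom.ker π := by
    ext c
    rw [RingHom.mem_ker]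
    show _ ↔ χ (e.symm (algebraMap C (Localization.AtPrime q) c)) = 0
    have h1 : χ (e.symm (algebraMap C (Localization.AtPrime q) c)) = 0 ↔
        ¬ IsUnit (e.symm (algebraMap C (Localization.AtPrime q) c)) := by
      constructor
      · intro h0 hu
        have := hu.map χ
        rw [h0] at this
        exact not_isUnit_zero this
      · intro hnu
        by_contra hne
        apply hnu
        have : IsUnit (χ.toRingHom (e.symm (algebraMap C (Localization.AtPrime q) c))) :=
          isUnit_iff_ne_zero.mpr hne
        exact hχ.map_nonunit _ this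
    rw [h1]
    have h2 : IsUnit (e.symm (algebraMap C (Localization.AtPrime q) c)) ↔
        IsUnit (algebraMap C (Localization.AtPrime q) c) := by
      constructor
      · intro hu
        have := hu.map e
        simpa using this
      · intro hu
        exact hu.map e.symm
    rw [h2, IsLocalization.AtPrime.isUnit_to_map_iff (Localization.AtPrime q) q]
    simp [Ideal.primeCompl]
  refine ⟨C, inferInstance, inferInstance, hC, π, ⟨e.trans ?_⟩⟩
  exact Localization.localAlgEquiv q (RingHom.ker π) AlgEquiv.refl (by
    rw [hker]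
    ext c
    simp)

end

end Groth.Agent.Lib.Helper12.EtaleNbhd

namespace Groth.Agent.Lib.Helper12.EtaleNbhd

open IsLocalRing TensorProduct

section Prod
variable (A : Type u) [CommRing A] [IsLocalRing A]
variable (C₁ : Type u) [CommRing C₁] [Algebra A C₁] (π₁ : C₁ →ₐ[A] ResidueField A)
variable (C₂ : Type u) [CommRing C₂] [Algebra A C₂] (π₂ : C₂ →ₐ[A] ResidueField A)

/-- The point of the product neighbourhood. -/
noncomputable def prodPi : C₁ ⊗[A] C₂ →ₐ[A] ResidueField A :=
  Algebra.TensorProduct.lift π₁ π₂ (fun _ _ => Commute.all _ _)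

theorem prodPi_comp_includeLeft :
    (prodPi A C₁ π₁ C₂ π₂).comp Algebra.TensorProduct.includeLeft = π₁ := by
  ext c
  simp [prodPi]

theorem prodPi_comp_includeRight :
    (prodPi A C₁ π₁ C₂ π₂).comp Algebra.TensorProduct.includeRight = π₂ := by
  ext c
  simp [prodPi]

theorem etale_tensorProduct [Algebra.Etale A C₁] [Algebra.Etale A C₂] :
    Algebra.Etale A (C₁ ⊗[A] C₂) :=
  Algebra.Etale.comp A C₁ (C₁ ⊗[A] C₂)

end Prod

end Groth.Agent.Lib.Helper12.EtaleNbhd
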