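import Groth.Agent.Lib.Helper12.EtaleNbhd
import Mathlib.RingTheory.Etale.StandardEtale

set_option autoImplicit false
universe u

namespace Groth.Agent.Lib.Helper12.EtaleNbhd

open IsLocalRing TensorProduct Polynomial

variable {A : Type u} [CommRing A] [IsLocalRing A]

/-- Standard étale step: a monic polynomial over an étale neighbourhood `(C, π)` with a simple
root at the point `π` acquires a root in a further étale neighbourhood. -/
theorem exists_nbhd_root (C : Type u) [CommRing C] [Algebra A C] [Algebra.Etale A C]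
    (π : C →ₐ[A] ResidueField A) (p : C[X]) (hp : p.Monic) (b₀ : C)
    (h0 : π (p.eval b₀) = 0) (h1 : π (p.derivative.eval b₀) ≠ 0) :
    ∃ (C' : Type u) (_ : CommRing C') (_ : Algebra A C') (_ : Algebra.Etale A C')
      (π' : C' →ₐ[A] ResidueField A) (φ : C →ₐ[A] C') (_ : π'.comp φ = π) (y : C'),
      (p.map φ.toRingHom).eval y = 0 ∧ π' y = π b₀ := by
  let P : StandardEtalePair C := ⟨p, hp, derivative p, ⟨1, 0, 1, by simp⟩⟩
  letI : Algebra A P.Ring := ((algebraMap C P.Ring).comp (algebraMap A C)).toAlgebra
  haveI : IsScalarTower A C P.Ring := IsScalarTower.of_algebraMap_eq (fun _ => rfl)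
  haveI : Algebra.Etale A P.Ring := Algebra.Etale.comp A C P.Ring
  letI : Algebra C (ResidueField A) := π.toRingHom.toAlgebra
  haveI : IsScalarTower A C (ResidueField A) :=
    IsScalarTower.of_algebraMap_eq (fun a => (π.commutes a).symm)
  have hmap : P.HasMap (π b₀) := by
    have e : ∀ q : C[X], aeval (π b₀) q = π (q.eval b₀) := by
      intro q
      have : π b₀ = algebraMap C (ResidueField A) b₀ := rfl
      rw [this, aeval_algebraMap_apply]
      rfl
    refine ⟨?_, ?_⟩
    · rw [e]; exact h0
    · rw [e]; exact isUnit_iff_ne_zero.mpr h1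
  let π'C : P.Ring →ₐ[C] ResidueField A := P.lift (π b₀) hmap
  let π' : P.Ring →ₐ[A] ResidueField A := π'C.restrictScalars A
  refine ⟨P.Ring, inferInstance, inferInstance, inferInstance, π',
    IsScalarTower.toAlgHom A C P.Ring, ?_, P.X, ?_, ?_⟩
  · ext c
    show π'C (algebraMap C P.Ring c) = π c
    rw [π'C.commutes]
    rfl
  · have := (StandardEtalePair.hasMap_X (P := P)).1
    rw [← this]
    show eval P.X (p.map (algebraMap C P.Ring)) = _
    rw [eval_map_algebraMap]
  · show π'C P.X = π b₀
    exact P.lift_X _ hmap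

end Groth.Agent.Lib.Helper12.EtaleNbhd
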