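import Groth.Agent.Lib.Helper12.EtaleNbhdRoot
import Mathlib.RingTheory.Polynomial.ScaleRoots
import Mathlib.RingTheory.Localization.Integer
import Mathlib.Algebra.Polynomial.Lifts

set_option autoImplicit false
universe u

namespace Groth.Agent.Lib.Helper12.EtaleNbhd

open IsLocalRing TensorProduct Polynomial

variable {A : Type u} [CommRing A] [IsLocalRing A]

section
variable {C : Type u} [CommRing C] [Algebra A C] {π : C →ₐ[A] ResidueField A}

theorem algebraMap_mem_maximalIdeal_iff (c : C) :
    algebraMap C (Loc A C π) c ∈ maximalIdeal (Loc A C π) ↔ π c = 0 := by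
  rw [IsLocalization.AtPrime.to_map_mem_maximal_iff (Loc A C π) (RingHom.ker π), RingHom.mem_ker]

theorem isUnit_algebraMap_iff (c : C) :
    IsUnit (algebraMap C (Loc A C π) c) ↔ π c ≠ 0 := by
  rw [← not_iff_not, not_not, ← algebraMap_mem_maximalIdeal_iff, mem_maximalIdeal, mem_nonunits_iff]

variable {C' : Type u} [CommRing C'] [Algebra A C'] {π' : C' →ₐ[A] ResidueField A}

theorem locMap_algebraMap (φ : C →ₐ[A] C') (h : π'.comp φ = π) (c : C) :
    locMap φ h (algebraMap C (Loc A C π) c) = algebraMap C' (Loc A C' π') (φ c) := by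
  unfold locMap
  rw [Localization.localAlgHom_apply, Localization.localRingHom_to_map]
  rfl

end

/-- Hensel's lemma at the root `0` holds after passing to a further étale neighbourhood. -/
theorem exists_nbhd_root_loc (C : Type u) [CommRing C] [Algebra A C] [Algebra.Etale A C]
    (π : C →ₐ[A] ResidueField A) (p : (Loc A C π)[X]) (hp : p.Monic)
    (h0 : p.coeff 0 ∈ maximalIdeal (Loc A C π)) (h1 : IsUnit (p.coeff 1)) :
    ∃ (C' : Type u) (_ : CommRing C') (_ : Algebra A C') (_ : Algebra.Etale A C')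
      (π' : C' →ₐ[A] ResidueField A) (φ : C →ₐ[A] C') (hφ : π'.comp φ = π) (a : Loc A C' π'),
      a ∈ maximalIdeal (Loc A C' π') ∧ (p.map (locMap φ hφ).toRingHom).eval a = 0 := by
  obtain ⟨s, hs⟩ := IsLocalization.exist_integer_multiples (RingHom.ker π).primeCompl
    (S := Loc A C π) (Finset.range (p.natDegree + 1)) p.coeff
  have hσ : IsUnit (algebraMap C (Loc A C π) s) := IsLocalization.map_units (Loc A C π) s
  have hq : (scaleRoots p (algebraMap C (Loc A C π) s)).Monic := (monic_scaleRoots_iff _).mpr hp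
  have hqlift : scaleRoots p (algebraMap C (Loc A C π) s) ∈ lifts (algebraMap C (Loc A C π)) := by
    rw [lifts_iff_coeff_lifts]
    intro k
    rw [coeff_scaleRoots]
    rcases lt_trichotomy k p.natDegree with hk | hk | hk
    · obtain ⟨c, hc⟩ := hs k (by simp only [Finset.mem_range]; omega)
      refine ⟨c * s ^ (p.natDegree - k - 1), ?_⟩
      rw [map_mul, map_pow, hc, Algebra.smul_def]
      have : p.natDegree - k = (p.natDegree - k - 1) + 1 := by omega
      conv_rhs => rw [this, pow_succ]
      ring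
    · subst hk
      refine ⟨1, ?_⟩
      simp [hp.coeff_natDegree]
    · refine ⟨0, ?_⟩
      rw [coeff_eq_zero_of_natDegree_lt hk]
      simp
  obtain ⟨q, hqmap, -, hqm⟩ := lifts_and_natDegree_eq_and_monic hqlift hq
  have hcoeff : ∀ k, algebraMap C (Loc A C π) (q.coeff k) =
      p.coeff k * algebraMap C (Loc A C π) s ^ (p.natDegree - k) := by
    intro k
    rw [← coeff_map, hqmap, coeff_scaleRoots]
  have hc0 : π (q.coeff 0) = 0 := by
    rw [← algebraMap_mem_maximalIdeal_iff, hcoeff]
    exact Ideal.mul_mem_right _ _ h0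
  have hc1 : π (q.coeff 1) ≠ 0 := by
    rw [← isUnit_algebraMap_iff, hcoeff]
    exact h1.mul (hσ.pow _)
  obtain ⟨C', _, _, _, π', φ, hφ, y, hy, hπy⟩ := exists_nbhd_root C π q hqm 0
    (by rw [← coeff_zero_eq_eval_zero]; exact hc0)
    (by rw [← coeff_zero_eq_eval_zero, coeff_derivative]; simpa using hc1)
  refine ⟨C', inferInstance, inferInstance, inferInstance, π', φ, hφ, ?_⟩
  have hσ' : IsUnit (algebraMap C' (Loc A C' π') (φ s)) := by
    rw [← locMap_algebraMap φ hφ]
    exact hσ.map _
  have hy' : algebraMap C' (Loc A C' π') y ∈ maximalIdeal (Loc A C' π') := by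
    rw [algebraMap_mem_maximalIdeal_iff, hπy, map_zero]
  refine ⟨↑(hσ'.unit⁻¹) * algebraMap C' (Loc A C' π') y, Ideal.mul_mem_left _ _ hy', ?_⟩
  have hne : (locMap φ hφ).toRingHom p.leadingCoeff ≠ 0 := by
    rw [hp.leadingCoeff, map_one]; exact one_ne_zero
  have e1 := map_scaleRoots p (algebraMap C (Loc A C π) s) (locMap φ hφ).toRingHom hne
  have e2 : (scaleRoots p (algebraMap C (Loc A C π) s)).map (locMap φ hφ).toRingHom =
      (q.map φ.toRingHom).map (algebraMap C' (Loc A C' π')) := by
    rw [← hqmap, Polynomial.map_map, Polynomial.map_map]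
    congr 1
    ext c
    exact locMap_algebraMap φ hφ c
  have e3 : ((q.map φ.toRingHom).map (algebraMap C' (Loc A C' π'))).eval
      (algebraMap C' (Loc A C' π') y) = 0 := by
    rw [eval_map_apply, hy, map_zero]
  rw [← e2, e1] at e3
  have e4 : (locMap φ hφ).toRingHom (algebraMap C (Loc A C π) s) =
      algebraMap C' (Loc A C' π') (φ s) := locMap_algebraMap φ hφ s
  rw [e4] at e3
  have e5 : algebraMap C' (Loc A C' π') y =
      algebraMap C' (Loc A C' π') (φ s) * (↑(hσ'.unit⁻¹) * algebraMap C' (Loc A C' π') y) := by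
    rw [← mul_assoc, IsUnit.mul_val_inv, one_mul]
  rw [e5, scaleRoots_eval_mul] at e3
  exact (hσ'.pow _).mul_right_eq_zero.mp e3

end Groth.Agent.Lib.Helper12.EtaleNbhd
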