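import Mathlib.RingTheory.Etale.Basic
import Mathlib.RingTheory.Unramified.Field
import Mathlib.RingTheory.Smooth.Flat
import Mathlib.RingTheory.LocalRing.ResidueField.Ideal
import Mathlib.RingTheory.Nilpotent.Lemmas

set_option autoImplicit false

/-!
# Étale algebras over reduced rings are reduced
-/

namespace Groth.Agent.Lib.Helper12

open IsLocalRing TensorProduct

section Pi
variable {ι : Type*} (k : ι → Type*) [∀ i, Field (k i)]

/-- Every localization of a product of fields at a prime ideal is a field. -/
theorem isField_localization_pi (P : Ideal (Π i, k i)) [P.IsPrime] :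
    IsField (Localization.AtPrime P) := by
  classical
  rw [IsLocalRing.isField_iff_maximalIdeal_eq, eq_bot_iff]
  intro ξ hξ
  rw [Submodule.mem_bot]
  obtain ⟨x, s, rfl⟩ := IsLocalization.exists_mk'_eq P.primeCompl ξ
  have hx : x ∈ P := by
    by_contra hx
    have hu : IsUnit (IsLocalization.mk' (Localization.AtPrime P) x s) := by
      have h1 : IsUnit (algebraMap _ (Localization.AtPrime P) x) :=
        IsLocalization.map_units _ (⟨x, hx⟩ : P.primeCompl)
      rw [← IsLocalization.mk'_spec (Localization.AtPrime P) x s] at h1
      exact isUnit_of_mul_isUnit_left h1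
    exact hξ hu
  let y : Π i, k i := fun i => (x i)⁻¹
  have hxy : x * (1 - x * y) = 0 := by
    ext i
    by_cases h : x i = 0
    · simp [h]
    · simp [y, h]
  have hu : 1 - x * y ∉ P := by
    intro h
    have : (1 : Π i, k i) ∈ P := by
      have := P.add_mem h (P.mul_mem_right y hx)
      simpa using this
    exact (Ideal.ne_top_iff_one P).mp (Ideal.IsPrime.ne_top inferInstance) this
  rw [IsLocalization.mk'_eq_zero_iff]
  exact ⟨⟨1 - x * y, hu⟩, by rw [mul_comm]; exact hxy⟩

/-- A formally unramified, essentially finite type algebra over a product of fields is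
reduced. -/
theorem isReduced_of_formallyUnramified_pi (T : Type*) [CommRing T] [Algebra (Π i, k i) T]
    [Algebra.FormallyUnramified (Π i, k i) T] [Algebra.EssFiniteType (Π i, k i) T] :
    IsReduced T := by
  constructor
  intro x hx
  by_contra hne
  -- the annihilator of `x` in the base
  let I : Ideal (Π i, k i) :=
    { carrier := {t | t • x = 0}
      add_mem' := fun {a b} ha hb => by
        show (a + b) • x = 0
        rw [add_smul, ha, hb, add_zero]
      zero_mem' := by show (0 : Π i, k i) • x = 0; simp
      smul_mem' := fun c a ha => by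
        show (c • a) • x = 0
        rw [smul_assoc, ha, smul_zero] }
  have hI : I ≠ ⊤ := by
    intro h
    have : (1 : Π i, k i) ∈ I := h ▸ Submodule.mem_top
    have h1 : (1 : Π i, k i) • x = 0 := this
    rw [one_smul] at h1
    exact hne h1
  obtain ⟨P, hPmax, hIP⟩ := Ideal.exists_le_maximal I hI
  haveI : P.IsPrime := hPmax.isPrime
  let KP := Localization.AtPrime P
  let TP := Localization (Algebra.algebraMapSubmonoid T P.primeCompl)
  letI : Field KP := (isField_localization_pi k P).toField
  haveI : IsLocalization (Submonoid.map (algebraMap (Π i, k i) T) P.primeCompl) TP :=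
    inferInstanceAs (IsLocalization (Algebra.algebraMapSubmonoid T P.primeCompl) TP)
  haveI : Algebra.FormallyUnramified KP TP :=
    Algebra.FormallyUnramified.localization_map (R := (Π i, k i)) (S := T) P.primeCompl
  haveI : Algebra.EssFiniteType KP TP := Algebra.EssFiniteType.of_comp (Π i, k i) KP TP
  haveI : IsReduced TP := Algebra.FormallyUnramified.isReduced_of_field KP TP
  have h0 : algebraMap T TP x = 0 := (hx.map (algebraMap T TP)).eq_zero
  rw [IsLocalization.map_eq_zero_iff (Algebra.algebraMapSubmonoid T P.primeCompl)] at h0
  obtain ⟨⟨_, t, ht, rfl⟩, htx⟩ := h0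
  apply ht
  apply hIP
  show t • x = 0
  rw [Algebra.smul_def]
  exact htx

end Pi

/-- Étale algebras over reduced rings are reduced. -/
theorem isReduced_of_etale (R S : Type*) [CommRing R] [CommRing S] [Algebra R S] [IsReduced R]
    [Algebra.Etale R S] : IsReduced S := by
  let K := Π p : PrimeSpectrum R, p.asIdeal.ResidueField
  have hinj : Function.Injective (algebraMap R K) := by
    rw [injective_iff_map_eq_zero]
    intro r hr
    have hmem : r ∈ nilradical R := by
      rw [nilradical_eq_sInf, Ideal.mem_sInf]
      intro p hp
      haveI : p.IsPrime := hp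
      have := congrFun hr ⟨p, hp⟩
      exact (Ideal.algebraMap_residueField_eq_zero (I := p)).mp this
    rw [nilradical_eq_zero R] at hmem
    exact hmem
  have hinj2 : Function.Injective (Algebra.TensorProduct.includeRight : S →ₐ[R] K ⊗[R] S) :=
    Algebra.TensorProduct.includeRight_injective hinj
  have : IsReduced (K ⊗[R] S) :=
    isReduced_of_formallyUnramified_pi (fun p : PrimeSpectrum R => p.asIdeal.ResidueField)
      (K ⊗[R] S)
  exact isReduced_of_injective (Algebra.TensorProduct.includeRight : S →ₐ[R] K ⊗[R] S) hinj2

end Groth.Agent.Lib.Helper12
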