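import Groth.Agent.Lib.Helper12.FComplB

/-!
# The stalk ring `A_{S}` of a formal spectrum: transition maps, flatness, units
-/

set_option autoImplicit false
universe u

namespace Groth.Agent.Lib.Helper12.FComplC

open FSch Groth.Agent.Lib.Helper12.FComplA Groth.Agent.Lib.Helper12.FComplB

section Congr

variable {S T : Type u} [CommRing S] [CommRing T] (I : Ideal S) (K : Ideal T)

theorem complMap_congr {g g₂ : S →+* T} (hgg : g = g₂) (h : I.map g ≤ K) (h₂ : I.map g₂ ≤ K)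
    (x : AdicCompletion I S) : complMap I K g h x = complMap I K g₂ h₂ x := by
  subst hgg
  rfl

/-- `complMap` sends the extension of `I` into the extension of `K`. -/
theorem map_complMap_le (g : S →+* T) (h : I.map g ≤ K) :
    (I.map (algebraMap S (AdicCompletion I S))).map (complMap I K g h) ≤
      K.map (algebraMap T (AdicCompletion K T)) := by
  rw [Ideal.map_map]
  have : (complMap I K g h).comp (algebraMap S (AdicCompletion I S)) =
      (algebraMap T (AdicCompletion K T)).comp g :=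
    RingHom.ext fun s => complMap_algebraMap I K g h s
  rw [this, ← Ideal.map_map]
  exact Ideal.map_mono h

end Congr

variable (A : Type u) [CommRing A] (J 𝔭 : Ideal A) [𝔭.IsPrime]

/-- The transition map `A_f → A_h` for `f ∣ h`. -/
noncomputable def awayTrans (f h : A) (hfh : f ∣ h) : Localization.Away f →+* Localization.Away h :=
  IsLocalization.Away.lift f (g := algebraMap A (Localization.Away h))
    (isUnit_of_dvd_unit (map_dvd _ hfh) (IsLocalization.Away.algebraMap_isUnit h))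

theorem awayTrans_algebraMap (f h : A) (hfh : f ∣ h) (a : A) :
    awayTrans A f h hfh (algebraMap A _ a) = algebraMap A _ a :=
  IsLocalization.Away.lift_eq _ _ _

theorem awayToAtPrime_algebraMap (f : A) (hf : f ∉ 𝔭) (a : A) :
    awayToAtPrime A 𝔭 f hf (algebraMap A _ a) = algebraMap A _ a :=
  IsLocalization.Away.lift_eq _ _ _

theorem awayToAtPrime_comp_awayTrans (f h : A) (hfh : f ∣ h) (hf : f ∉ 𝔭) (hh : h ∉ 𝔭) :
    (awayToAtPrime A 𝔭 h hh).comp (awayTrans A f h hfh) = awayToAtPrime A 𝔭 f hf := by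
  apply IsLocalization.ringHom_ext (Submonoid.powers f)
  ext a
  simp only [RingHom.coe_comp, Function.comp_apply, awayTrans_algebraMap, awayToAtPrime_algebraMap]

theorem map_awayTrans_le (f h : A) (hfh : f ∣ h) :
    (J.map (algebraMap A (Localization.Away f))).map (awayTrans A f h hfh) ≤
      J.map (algebraMap A (Localization.Away h)) := by
  rw [Ideal.map_map]
  apply le_of_eq
  congr 1
  ext a
  simp [awayTrans_algebraMap]

/-- The transition map `A_{f} → A_{h}` for `f ∣ h`. -/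
noncomputable def cAwayTrans (f h : A) (hfh : f ∣ h) : cAway A J f →+* cAway A J h :=
  complMap _ _ (awayTrans A f h hfh) (map_awayTrans_le A J f h hfh)

theorem cAwayToAtPrime_cAwayTrans (f h : A) (hfh : f ∣ h) (hf : f ∉ 𝔭) (hh : h ∉ 𝔭)
    (x : cAway A J f) :
    cAwayToAtPrime A J 𝔭 h hh (cAwayTrans A J f h hfh x) = cAwayToAtPrime A J 𝔭 f hf x := by
  unfold cAwayToAtPrime cAwayTrans
  rw [complMap_comp _ _ _ _ _ _ _ (by
    rw [awayToAtPrime_comp_awayTrans A 𝔭 f h hfh hf hh]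
    exact map_awayToAtPrime_le A J 𝔭 f hf)]
  exact complMap_congr _ _ (awayToAtPrime_comp_awayTrans A 𝔭 f h hfh hf hh) _ _ x

theorem range_le_range (f h : A) (hfh : f ∣ h) (hf : f ∉ 𝔭) (hh : h ∉ 𝔭) :
    (cAwayToAtPrime A J 𝔭 f hf).range ≤ (cAwayToAtPrime A J 𝔭 h hh).range := by
  rintro _ ⟨x, rfl⟩
  exact ⟨cAwayTrans A J f h hfh x, cAwayToAtPrime_cAwayTrans A J 𝔭 f h hfh hf hh x⟩

theorem directed_range :
    Directed (· ≤ ·) (fun f : {f : A // f ∉ 𝔭} => (cAwayToAtPrime A J 𝔭 f.1 f.2).range) := by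
  intro f g
  have hfg : f.1 * g.1 ∉ 𝔭 := fun h => (Ideal.IsPrime.mem_or_mem ‹_› h).elim f.2 g.2
  exact ⟨⟨f.1 * g.1, hfg⟩, range_le_range A J 𝔭 f.1 _ (dvd_mul_right _ _) f.2 hfg,
    range_le_range A J 𝔭 g.1 _ (dvd_mul_left _ _) g.2 hfg⟩

theorem mem_stalkSubring_iff (c : cAtPrime A J 𝔭) :
    c ∈ stalkSubring A J 𝔭 ↔ ∃ (f : A) (hf : f ∉ 𝔭), c ∈ (cAwayToAtPrime A J 𝔭 f hf).range := by
  unfold stalkSubring
  haveI : Nonempty {f : A // f ∉ 𝔭} := ⟨⟨1, fun h => (Ideal.IsPrime.ne_top ‹_›) (Ideal.eq_top_of_isUnit_mem _ h isUnit_one)⟩⟩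
  rw [Subring.mem_iSup_of_directed (directed_range A J 𝔭)]
  constructor
  · rintro ⟨f, hf⟩
    exact ⟨f.1, f.2, hf⟩
  · rintro ⟨f, hf, h⟩
    exact ⟨⟨f, hf⟩, h⟩

theorem range_le_stalkSubring (f : A) (hf : f ∉ 𝔭) :
    (cAwayToAtPrime A J 𝔭 f hf).range ≤ stalkSubring A J 𝔭 :=
  fun c hc => (mem_stalkSubring_iff A J 𝔭 c).mpr ⟨f, hf, hc⟩

/-- Every finite subset of the stalk ring lies in the image of a single `A_{f}`. -/
theorem exists_range_of_finset (s : Finset (cAtPrime A J 𝔭))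
    (hs : ∀ c ∈ s, c ∈ stalkSubring A J 𝔭) :
    ∃ (f : A) (hf : f ∉ 𝔭), ∀ c ∈ s, c ∈ (cAwayToAtPrime A J 𝔭 f hf).range := by
  classical
  induction s using Finset.induction_on with
  | empty =>
    exact ⟨1, fun h => (Ideal.IsPrime.ne_top ‹_›) (Ideal.eq_top_of_isUnit_mem _ h isUnit_one),
      fun c hc => absurd hc (Finset.notMem_empty c)⟩
  | insert a s _ ih =>
    obtain ⟨f, hf, hfs⟩ := ih (fun c hc => hs c (Finset.mem_insert_of_mem hc))
    obtain ⟨g, hg, hga⟩ := (mem_stalkSubring_iff A J 𝔭 a).mp (hs a (Finset.mem_insert_self a s))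
    have hfg : f * g ∉ 𝔭 := fun h => (Ideal.IsPrime.mem_or_mem ‹_› h).elim hf hg
    refine ⟨f * g, hfg, fun c hc => ?_⟩
    rcases Finset.mem_insert.mp hc with rfl | hc
    · exact range_le_range A J 𝔭 g _ (dvd_mul_left _ _) hg hfg hga
    · exact range_le_range A J 𝔭 f _ (dvd_mul_right _ _) hf hfg (hfs c hc)

end Groth.Agent.Lib.Helper12.FComplC
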