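import Groth.Agent.Lib.Helper12.FComplC

/-!
# The stalk ring `A_{S}` of a formal spectrum: flatness over `A_{f}`, locality
-/

set_option autoImplicit false
universe u

namespace Groth.Agent.Lib.Helper12.FComplD

open FSch Groth.Agent.Lib.Helper12.FComplA Groth.Agent.Lib.Helper12.FComplB
  Groth.Agent.Lib.Helper12.FComplC

variable (A : Type u) [CommRing A] [IsNoetherianRing A] (J 𝔭 : Ideal A) [𝔭.IsPrime]

/-- `A{S⁻¹}` is flat over each `A_{f}`. -/
theorem flat_cAwayToAtPrime (f : A) (hf : f ∉ 𝔭) : (cAwayToAtPrime A J 𝔭 f hf).Flat := by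
  letI : Algebra (Localization.Away f) (Localization.AtPrime 𝔭) :=
    (awayToAtPrime A 𝔭 f hf).toAlgebra
  haveI : IsScalarTower A (Localization.Away f) (Localization.AtPrime 𝔭) :=
    IsScalarTower.of_algebraMap_eq (fun a => (awayToAtPrime_algebraMap A 𝔭 f hf a).symm)
  have hle : Submonoid.powers f ≤ 𝔭.primeCompl := by
    rintro _ ⟨n, rfl⟩
    exact fun h => hf (Ideal.IsPrime.mem_of_pow_mem ‹_› n h)
  haveI : IsLocalization ((𝔭.primeCompl).map (algebraMap A (Localization.Away f)))
      (Localization.AtPrime 𝔭) :=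
    IsLocalization.isLocalization_of_submonoid_le (Localization.Away f)
      (Localization.AtPrime 𝔭) (Submonoid.powers f) 𝔭.primeCompl hle
  have hK : (J.map (algebraMap A (Localization.Away f))).map
      (algebraMap (Localization.Away f) (Localization.AtPrime 𝔭)) =
      J.map (algebraMap A (Localization.AtPrime 𝔭)) := by
    rw [Ideal.map_map, ← IsScalarTower.algebraMap_eq]
  exact flat_complMap (J.map (algebraMap A (Localization.Away f)))
    (J.map (algebraMap A (Localization.AtPrime 𝔭)))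
    ((𝔭.primeCompl).map (algebraMap A (Localization.Away f))) hK

instance : IsNoetherianRing (cAtPrime A J 𝔭) :=
  Groth.Agent.Lib.helper19.isNoetherianRing_adicCompletion _ _

instance (f : A) : IsNoetherianRing (cAway A J f) :=
  Groth.Agent.Lib.helper19.isNoetherianRing_adicCompletion _ _

variable {J 𝔭}

theorem map_le_maximalIdeal (hJ : J ≤ 𝔭) :
    J.map (algebraMap A (Localization.AtPrime 𝔭)) ≤
      IsLocalRing.maximalIdeal (Localization.AtPrime 𝔭) := by
  rw [← Localization.AtPrime.map_eq_maximalIdeal]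
  exact Ideal.map_mono hJ

theorem isLocalRing_cAtPrime (hJ : J ≤ 𝔭) : IsLocalRing (cAtPrime A J 𝔭) :=
  isLocalRing_adicCompletion _ (IsNoetherian.noetherian _) (map_le_maximalIdeal A hJ)

/-- An element of `A_{f}` which becomes a unit in `A{S⁻¹}` becomes a unit in some `A_{g}`. -/
theorem exists_unit_lift (hJ : J ≤ 𝔭) (f : A) (hf : f ∉ 𝔭) (d : cAway A J f)
    (hu : IsUnit (cAwayToAtPrime A J 𝔭 f hf d)) :
    ∃ (g : A) (hg : g ∉ 𝔭) (d' : cAway A J g), IsUnit d' ∧
      cAwayToAtPrime A J 𝔭 g hg d' = cAwayToAtPrime A J 𝔭 f hf d := by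
  set Jf := J.map (algebraMap A (Localization.Away f)) with hJf
  set Jp := J.map (algebraMap A (Localization.AtPrime 𝔭)) with hJp
  have fgf : Jf.FG := IsNoetherian.noetherian _
  have fgp : Jp.FG := IsNoetherian.noetherian _
  obtain ⟨x, hx⟩ := exists_sub_algebraMap_mem Jf fgf 1 d
  rw [pow_one] at hx
  obtain ⟨a, ⟨_, k, rfl⟩, hxa⟩ := IsLocalization.exists_mk'_eq (Submonoid.powers f) x
  have key : x * algebraMap A (Localization.Away f) (f ^ k) = algebraMap A _ a := by
    rw [← hxa]; exact IsLocalization.mk'_spec _ _ _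
  set ψ := cAwayToAtPrime A J 𝔭 f hf with hψ
  have h1 : ψ (d - algebraMap _ _ x) ∈
      Jp.map (algebraMap (Localization.AtPrime 𝔭) (cAtPrime A J 𝔭)) :=
    map_complMap_le Jf Jp (awayToAtPrime A 𝔭 f hf) (map_awayToAtPrime_le A J 𝔭 f hf)
      (Ideal.mem_map_of_mem _ hx)
  have h2 : IsUnit (algebraMap (Localization.AtPrime 𝔭) (cAtPrime A J 𝔭)
      (awayToAtPrime A 𝔭 f hf x)) := by
    have e : algebraMap _ (cAtPrime A J 𝔭) (awayToAtPrime A 𝔭 f hf x) =
        ψ d - ψ (d - algebraMap _ _ x) := by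
      rw [map_sub, sub_sub_cancel]
      exact (complMap_algebraMap _ _ _ _ x).symm
    rw [e]
    exact isUnit_sub_of_mem_jacobson hu (map_le_jacobson Jp fgp h1)
  have h3 : IsUnit (awayToAtPrime A 𝔭 f hf x) :=
    isUnit_of_isUnit_algebraMap Jp (map_le_maximalIdeal A hJ) _ h2
  have hfk : f ^ k ∉ 𝔭 := fun h => hf (Ideal.IsPrime.mem_of_pow_mem ‹_› k h)
  have h4 : IsUnit (algebraMap A (Localization.AtPrime 𝔭) a) := by
    have := congrArg (awayToAtPrime A 𝔭 f hf) key
    rw [map_mul, awayToAtPrime_algebraMap, awayToAtPrime_algebraMap] at this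
    rw [← this]
    exact h3.mul (IsLocalization.map_units _ (⟨f ^ k, hfk⟩ : 𝔭.primeCompl))
  have ha : a ∉ 𝔭 :=
    (IsLocalization.AtPrime.isUnit_to_map_iff (Localization.AtPrime 𝔭) 𝔭 a).mp h4
  have hg : f * a ∉ 𝔭 := fun h => (Ideal.IsPrime.mem_or_mem ‹_› h).elim hf ha
  refine ⟨f * a, hg, cAwayTrans A J f (f * a) (dvd_mul_right _ _) d, ?_,
    cAwayToAtPrime_cAwayTrans A J 𝔭 f _ _ hf hg d⟩
  set Jg := J.map (algebraMap A (Localization.Away (f * a))) with hJg
  have fgg : Jg.FG := IsNoetherian.noetherian _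
  apply isUnit_of_isUnit_evalOne Jg fgg
  set τ := cAwayTrans A J f (f * a) (dvd_mul_right _ _) with hτ
  have h5 : τ (d - algebraMap _ _ x) ∈
      Jg.map (algebraMap (Localization.Away (f * a)) (cAway A J (f * a))) :=
    map_complMap_le Jf Jg _ (map_awayTrans_le A J f (f * a) (dvd_mul_right _ _))
      (Ideal.mem_map_of_mem _ hx)
  have h6 : AdicCompletion.evalOneₐ Jg (τ d) =
      Ideal.Quotient.mk Jg (awayTrans A f (f * a) (dvd_mul_right _ _) x) := by
    have e : τ d = τ (d - algebraMap _ _ x) +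
        algebraMap _ _ (awayTrans A f (f * a) (dvd_mul_right _ _) x) := by
      rw [map_sub, sub_add_eq_add_sub, add_sub_assoc]
      have : τ (algebraMap _ _ x) =
          algebraMap _ _ (awayTrans A f (f * a) (dvd_mul_right _ _) x) :=
        complMap_algebraMap _ _ _ _ x
      rw [this, sub_self, add_zero]
    rw [e, map_add, evalOne_algebraMap]
    rw [← AdicCompletion.ker_evalOneₐ_eq_map Jg fgg, RingHom.mem_ker] at h5
    have h5' : AdicCompletion.evalOneₐ Jg (τ (d - algebraMap _ _ x)) = 0 := h5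
    rw [h5', zero_add]
  rw [h6]
  apply IsUnit.map
  have := congrArg (awayTrans A f (f * a) (dvd_mul_right _ _)) key
  rw [map_mul, awayTrans_algebraMap, awayTrans_algebraMap] at this
  have hua : IsUnit (algebraMap A (Localization.Away (f * a)) a) :=
    isUnit_of_dvd_unit (map_dvd _ (dvd_mul_left a f))
      (IsLocalization.Away.algebraMap_isUnit (f * a))
  rw [← this] at hua
  exact isUnit_of_mul_isUnit_left hua

end Groth.Agent.Lib.Helper12.FComplD
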