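import Groth.Agent.Lib.Helper12.FComplD

/-!
# The stalk ring `A_{S}` of a formal spectrum is Noetherian local and `A{S⁻¹}` is faithfully
flat over it (EGA 0_I 7.6.17-18)
-/

set_option autoImplicit false
universe u

namespace Groth.Agent.Lib.Helper12.FComplE

open FSch Groth.Agent.Lib.Helper12.FComplA Groth.Agent.Lib.Helper12.FComplB
  Groth.Agent.Lib.Helper12.FComplC Groth.Agent.Lib.Helper12.FComplD

variable (A : Type u) [CommRing A] [IsNoetherianRing A] (J 𝔭 : Ideal A) [𝔭.IsPrime]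

/-- The corestriction of `A_{f} → A{S⁻¹}` to the stalk ring. -/
noncomputable def toStalk (f : A) (hf : f ∉ 𝔭) : cAway A J f →+* stalkSubring A J 𝔭 :=
  (cAwayToAtPrime A J 𝔭 f hf).codRestrict _
    (fun x => range_le_stalkSubring A J 𝔭 f hf ⟨x, rfl⟩)

theorem flat_stalkSubring : Module.Flat (stalkSubring A J 𝔭) (cAtPrime A J 𝔭) := by
  classical
  refine flat_of_forall_finset fun s => ?_
  obtain ⟨f, hf, hfs⟩ := exists_range_of_finset A J 𝔭 (s.image Subtype.val) (fun c hc => by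
    obtain ⟨b, _, rfl⟩ := Finset.mem_image.mp hc
    exact b.2)
  letI : Algebra (cAway A J f) (cAtPrime A J 𝔭) := (cAwayToAtPrime A J 𝔭 f hf).toAlgebra
  refine ⟨cAway A J f, inferInstance, Algebra.toModule, toStalk A J 𝔭 f hf, ?_,
    flat_cAwayToAtPrime A J 𝔭 f hf, ?_⟩
  · intro e m
    rfl
  · intro x hx
    obtain ⟨d, hd⟩ := hfs x.1 (Finset.mem_image_of_mem _ hx)
    exact ⟨d, Subtype.ext hd⟩

variable {J 𝔭}

theorem isUnit_of_isUnit_coe (hJ : J ≤ 𝔭) (b : stalkSubring A J 𝔭)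
    (hb : IsUnit (b : cAtPrime A J 𝔭)) : IsUnit b := by
  obtain ⟨f, hf, d, hd⟩ := (mem_stalkSubring_iff A J 𝔭 b.1).mp b.2
  rw [← hd] at hb
  obtain ⟨g, hg, d', hd'u, hd'⟩ := exists_unit_lift A hJ f hf d hb
  have : toStalk A J 𝔭 g hg d' = b := Subtype.ext (hd'.trans hd)
  rw [← this]
  exact hd'u.map _

theorem isLocalRing_stalkSubring (hJ : J ≤ 𝔭) : IsLocalRing (stalkSubring A J 𝔭) := by
  haveI := isLocalRing_cAtPrime A hJ
  refine IsLocalRing.of_isUnit_or_isUnit_one_sub_self fun b => ?_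
  rcases IsLocalRing.isUnit_or_isUnit_one_sub_self (b : cAtPrime A J 𝔭) with h | h
  · exact Or.inl (isUnit_of_isUnit_coe A hJ b h)
  · exact Or.inr (isUnit_of_isUnit_coe A hJ (1 - b) (by simpa using h))

theorem faithfullyFlat_stalkSubring (hJ : J ≤ 𝔭) :
    Module.FaithfullyFlat (stalkSubring A J 𝔭) (cAtPrime A J 𝔭) := by
  haveI := isLocalRing_cAtPrime A hJ
  haveI := isLocalRing_stalkSubring A hJ
  haveI := flat_stalkSubring A J 𝔭
  haveI : IsLocalHom (algebraMap (stalkSubring A J 𝔭) (cAtPrime A J 𝔭)) :=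
    ⟨fun b hb => isUnit_of_isUnit_coe A hJ b hb⟩
  exact Module.FaithfullyFlat.of_flat_of_isLocalHom

theorem isNoetherianRing_stalkSubring (hJ : J ≤ 𝔭) : IsNoetherianRing (stalkSubring A J 𝔭) := by
  haveI := faithfullyFlat_stalkSubring A hJ
  exact isNoetherianRing_of_faithfullyFlat (stalkSubring A J 𝔭) (cAtPrime A J 𝔭)

end Groth.Agent.Lib.Helper12.FComplE
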