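import Mathlib
import Groth.Agent.S9297
import Groth.Agent.S9125
import Groth.Agent.Lib.Helper12.CMCatA
import Groth.Agent.Lib.Helper12.CMCatE
import Groth.Agent.Lib.Helper12.HensFCB
import Groth.Agent.Lib.Helper5.FibreCompA
import Groth.Agent.Lib.helper19.FlatHeight

/-!
# Descent of "equidimensional and catenary" along flat local homomorphisms (EGA IV 7.1.x)
-/

set_option autoImplicit false
universe u
open IsLocalRing Order

namespace Groth.Agent.Lib.Helper12.FEqui

theorem exists_nat_ringKrullDim (R : Type u) [CommRing R] [IsLocalRing R] [IsNoetherianRing R] :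
    ∃ n : ℕ, ringKrullDim R = ((n : ℕ∞) : WithBot ℕ∞) := by
  obtain ⟨n, hn⟩ := ENat.ne_top_iff_exists.mp
    (Ideal.height_lt_top (maximalIdeal.isMaximal R).ne_top).ne
  refine ⟨n, ?_⟩
  rw [← IsLocalRing.maximalIdeal_height_eq_ringKrullDim, ← hn]

theorem exists_nat_height {R : Type u} [CommRing R] [IsNoetherianRing R] (p : Ideal R)
    [hp : p.IsPrime] : ∃ n : ℕ, p.height = (n : ℕ∞) := by
  obtain ⟨n, hn⟩ := ENat.ne_top_iff_exists.mp (Ideal.height_lt_top hp.ne_top).ne
  exact ⟨n, hn.symm⟩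

/-- `p ⋖ q` implies that `q/p` has height one in `R/p` -/
theorem height_map_mk_of_covBy {R : Type u} [CommRing R] {p q : PrimeSpectrum R} (h : p ⋖ q) :
    (q.asIdeal.map (Ideal.Quotient.mk p.asIdeal)).height = 1 := by
  have hmks : Function.Surjective (Ideal.Quotient.mk p.asIdeal) := Ideal.Quotient.mk_surjective
  have hpq : p.asIdeal ≤ q.asIdeal := h.le
  have hker : RingHom.ker (Ideal.Quotient.mk p.asIdeal) ≤ q.asIdeal := by
    rw [Ideal.mk_ker]; exact hpq
  haveI hq' : (q.asIdeal.map (Ideal.Quotient.mk p.asIdeal)).IsPrime :=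
    Ideal.map_isPrime_of_surjective hmks hker
  have hcomap : (q.asIdeal.map (Ideal.Quotient.mk p.asIdeal)).comap (Ideal.Quotient.mk p.asIdeal)
      = q.asIdeal := by
    rw [Ideal.comap_map_of_surjective _ hmks, ← RingHom.ker_eq_comap_bot, Ideal.mk_ker]
    exact sup_eq_left.mpr hpq
  haveI : IsDomain (R ⧸ p.asIdeal) := Ideal.Quotient.isDomain _
  apply le_antisymm
  · have : (q.asIdeal.map (Ideal.Quotient.mk p.asIdeal)).height ≤ ((1 : ℕ) : ℕ∞) := by
      rw [Ideal.height_le_iff]
      intro y hy hlt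
      have h1 : p.asIdeal ≤ y.comap (Ideal.Quotient.mk p.asIdeal) := by
        intro x hx
        rw [Ideal.mem_comap, Ideal.Quotient.eq_zero_iff_mem.2 hx]
        exact y.zero_mem
      have h2 : y.comap (Ideal.Quotient.mk p.asIdeal) ≤ q.asIdeal := by
        rw [← hcomap]; exact Ideal.comap_mono hlt.le
      have h3 : y.comap (Ideal.Quotient.mk p.asIdeal) ≠ q.asIdeal := by
        intro he
        apply hlt.ne
        rw [← he, Ideal.map_comap_of_surjective _ hmks]
      let y0 : PrimeSpectrum R := ⟨y.comap (Ideal.Quotient.mk p.asIdeal), Ideal.IsPrime.comap _⟩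
      have h4 : y0 < q := lt_of_le_of_ne h2 (fun he => h3 (congrArg PrimeSpectrum.asIdeal he))
      have h5 : y0 = p := by
        by_contra hne
        exact h.2 (lt_of_le_of_ne h1 (fun he => hne he.symm)) h4
      have h6 : y = ⊥ := by
        rw [← Ideal.map_comap_of_surjective _ hmks y]
        have : y.comap (Ideal.Quotient.mk p.asIdeal) = p.asIdeal :=
          congrArg PrimeSpectrum.asIdeal h5
        rw [this, Ideal.map_quotient_self]
      rw [h6, Ideal.height_bot]
      exact zero_lt_one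
    simpa using this
  · rw [Order.one_le_iff_ne_zero, Ne, Ideal.height_eq_zero_iff_eq_bot]
    intro hbot
    have : q.asIdeal = p.asIdeal := by
      rw [← hcomap, hbot, ← RingHom.ker_eq_comap_bot, Ideal.mk_ker]
    exact h.lt.ne (PrimeSpectrum.ext this).symm

section Pair

variable (A A' : Type u) [CommRing A] [CommRing A'] [IsNoetherianRing A] [IsNoetherianRing A']
  [IsLocalRing A] [IsLocalRing A'] [Algebra A A'] [IsLocalHom (algebraMap A A')]
  [Module.Flat A A']

/-- dimension formula for quotients: `dim A'/IA' = dim A/I + dim A'/m_A A'` -/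
theorem ringKrullDim_quotient_map (I : Ideal A) (hI : I ≠ ⊤) :
    ringKrullDim (A' ⧸ I.map (algebraMap A A')) =
      ringKrullDim (A ⧸ I) + ringKrullDim (EGA4.FibRing A A') := by
  have hI' : I ≤ maximalIdeal A := le_maximalIdeal hI
  haveI := Helper5.FibreComp.isLocalRing_quotient I hI'
  haveI : IsLocalRing (A' ⧸ I.map (algebraMap A A')) :=
    Helper5.FibreComp.isLocalRing_quotient _
      (Helper5.FibreComp.map_le_maximalIdeal_of_le A A' I hI')
  haveI := Helper5.FibreComp.isLocalHom_quotient A A' I hI'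
  haveI := Helper5.FibreComp.flat_quotient A A' I
  rw [Helper19.FlatDimFormula.ringKrullDim_eq_add_of_flat (A ⧸ I) (A' ⧸ I.map (algebraMap A A')),
    ringKrullDim_eq_of_ringEquiv (Helper5.FibreComp.fibreEquiv A A' I hI')]

variable {A A'}

/-- for `P'` minimal over `pA'`: `ht p + dim A'/P' = dim A'` -/
theorem height_add_dim_of_minimal (heq : EGA4.IsEquidim A') (hcat : CAlg.IsCatenary A')
    (p : Ideal A) [p.IsPrime] (P' : Ideal A')
    (hP' : P' ∈ (p.map (algebraMap A A')).minimalPrimes) :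
    ((p.height : ℕ∞) : WithBot ℕ∞) + ringKrullDim (A' ⧸ P') = ringKrullDim A' := by
  haveI := hP'.1.1
  haveI := Helper19.FlatHeight.liesOver_of_mem_minimalPrimes A A' p P' hP'
  have hht := Helper19.FlatHeight.height_eq_of_mem_minimalPrimes A A' p P' hP'
  obtain ⟨p₀, hp₀, _, h3⟩ :=
    Helper21.CatKit.exists_minimalPrimes_height_add_dim hcat ⟨P', hP'.1.1⟩
  rw [heq _ hp₀] at h3
  rw [← hht]
  exact h3

omit [IsNoetherianRing A] [IsNoetherianRing A'] [Module.Flat A A'] in
theorem map_ne_top (I : Ideal A) (hI : I ≠ ⊤) : I.map (algebraMap A A') ≠ ⊤ := by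
  intro htop
  have h1 := Helper5.FibreComp.map_le_maximalIdeal_of_le A A' I (le_maximalIdeal hI)
  rw [htop] at h1
  exact (maximalIdeal.isMaximal A').ne_top (top_le_iff.mp h1)

/-- `ht p + dim A'/pA' = dim A'` -/
theorem height_add_dim_map (heq : EGA4.IsEquidim A') (hcat : CAlg.IsCatenary A')
    (p : Ideal A) [hp : p.IsPrime] :
    ((p.height : ℕ∞) : WithBot ℕ∞) + ringKrullDim (A' ⧸ p.map (algebraMap A A')) =
      ringKrullDim A' := by
  have h1 : EGA4.IsEquidim (A' ⧸ p.map (algebraMap A A')) :=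
    Groth.Agent.S9297.result A A' hcat heq p
  rw [HensFC.isEquidim_quotient_iff] at h1
  obtain ⟨P', hP'⟩ := Ideal.nonempty_minimalPrimes (map_ne_top (A' := A') p hp.ne_top)
  rw [← h1 P' hP']
  exact height_add_dim_of_minimal heq hcat p P' hP'

/-- **Lemma G**: `ht p + dim A/p = dim A` for all primes of `A` -/
theorem height_add_dim_eq (heq : EGA4.IsEquidim A') (hcat : CAlg.IsCatenary A')
    (p : Ideal A) [hp : p.IsPrime] :
    ((p.height : ℕ∞) : WithBot ℕ∞) + ringKrullDim (A ⧸ p) = ringKrullDim A := by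
  have h1 := height_add_dim_map heq hcat p
  have h2 := ringKrullDim_quotient_map A A' p hp.ne_top
  have h3 := Helper19.FlatDimFormula.ringKrullDim_eq_add_of_flat A A'
  obtain ⟨f, hf⟩ := exists_nat_ringKrullDim (EGA4.FibRing A A')
  rw [h2, h3] at h1
  change _ = ringKrullDim A + ringKrullDim (EGA4.FibRing A A') at h1
  rw [hf] at h1
  have h4 : ((f : ℕ∞) : WithBot ℕ∞) + (((p.height : ℕ∞) : WithBot ℕ∞) + ringKrullDim (A ⧸ p)) =
      ((f : ℕ∞) : WithBot ℕ∞) + ringKrullDim A := by
    rw [add_comm, add_assoc, h1, add_comm]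
  exact CMCat.withBot_enat_add_left_cancel h4

theorem isEquidim_of_flat (heq : EGA4.IsEquidim A') (hcat : CAlg.IsCatenary A') :
    EGA4.IsEquidim A := by
  intro p hp
  haveI := hp.1.1
  have h := height_add_dim_eq heq hcat p
  rw [Ideal.height_eq_zero_iff.mpr hp] at h
  simpa using h

theorem dim_quotient_of_covBy (heq : EGA4.IsEquidim A') (hcat : CAlg.IsCatenary A')
    {p q : PrimeSpectrum A} (h : p ⋖ q) :
    ringKrullDim (A ⧸ p.asIdeal) = ringKrullDim (A ⧸ q.asIdeal) + 1 := by
  have hp' : p.asIdeal ≤ maximalIdeal A := le_maximalIdeal p.2.ne_top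
  haveI := Helper5.FibreComp.isLocalRing_quotient p.asIdeal hp'
  haveI : IsLocalRing (A' ⧸ p.asIdeal.map (algebraMap A A')) :=
    Helper5.FibreComp.isLocalRing_quotient _
      (Helper5.FibreComp.map_le_maximalIdeal_of_le A A' p.asIdeal hp')
  haveI := Helper5.FibreComp.isLocalHom_quotient A A' p.asIdeal hp'
  haveI := Helper5.FibreComp.flat_quotient A A' p.asIdeal
  have heq' : EGA4.IsEquidim (A' ⧸ p.asIdeal.map (algebraMap A A')) :=
    Groth.Agent.S9297.result A A' hcat heq p.asIdeal
  have hcat' : CAlg.IsCatenary (A' ⧸ p.asIdeal.map (algebraMap A A')) :=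
    Groth.Agent.S9125.result A' _ hcat
  have hpq : p.asIdeal ≤ q.asIdeal := h.le
  haveI : (q.asIdeal.map (Ideal.Quotient.mk p.asIdeal)).IsPrime :=
    Ideal.map_isPrime_of_surjective Ideal.Quotient.mk_surjective
      (by rw [Ideal.mk_ker]; exact hpq)
  have hG := height_add_dim_eq (A := A ⧸ p.asIdeal) (A' := A' ⧸ p.asIdeal.map (algebraMap A A'))
    heq' hcat' (q.asIdeal.map (Ideal.Quotient.mk p.asIdeal))
  rw [height_map_mk_of_covBy h,
    ringKrullDim_eq_of_ringEquiv (DoubleQuot.quotQuotEquivQuotOfLE hpq)] at hG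
  rw [← hG, add_comm]
  rfl

theorem height_eq_of_covBy (heq : EGA4.IsEquidim A') (hcat : CAlg.IsCatenary A')
    {p q : PrimeSpectrum A} (h : p ⋖ q) : q.asIdeal.height = p.asIdeal.height + 1 := by
  have h1 := height_add_dim_eq heq hcat p.asIdeal
  have h2 := height_add_dim_eq heq hcat q.asIdeal
  have h3 := dim_quotient_of_covBy heq hcat h
  obtain ⟨a, ha⟩ := exists_nat_height p.asIdeal
  obtain ⟨b, hb⟩ := exists_nat_height q.asIdeal
  haveI := Helper5.FibreComp.isLocalRing_quotient q.asIdeal (le_maximalIdeal q.2.ne_top)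
  obtain ⟨c, hc⟩ := exists_nat_ringKrullDim (A ⧸ q.asIdeal)
  obtain ⟨d, hd⟩ := exists_nat_ringKrullDim A
  rw [ha, h3, hc, hd] at h1
  rw [hb, hc, hd] at h2
  have h1' : a + (c + 1) = d := by exact_mod_cast h1
  have h2' : b + c = d := by exact_mod_cast h2
  rw [ha, hb]
  exact_mod_cast (by omega : b = a + 1)

theorem isCatenary_of_flat (heq : EGA4.IsEquidim A') (hcat : CAlg.IsCatenary A') :
    CAlg.IsCatenary A :=
  CMCat.isCatenary_of_height_covBy A fun _ _ h => height_eq_of_covBy heq hcat h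

end Pair

end Groth.Agent.Lib.Helper12.FEqui
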