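import Mathlib
import Groth.Agent.Lib.Helper12.FEquiA

/-!
# Equidimensionality of `A/a` versus `A'/aA'` for flat local maps with zero-dimensional closed fibre
-/

set_option autoImplicit false
universe u
open IsLocalRing Order

namespace Groth.Agent.Lib.Helper12.FEqui

theorem isEquidim_of_subsingleton (R : Type u) [CommRing R] [Subsingleton R] : EGA4.IsEquidim R := by
  intro p hp
  exact absurd (Subsingleton.elim p ⊤) hp.1.1.ne_top

section Pair

variable {A A' : Type u} [CommRing A] [CommRing A'] [IsNoetherianRing A] [IsNoetherianRing A']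
  [IsLocalRing A] [IsLocalRing A'] [Algebra A A'] [IsLocalHom (algebraMap A A')]
  [Module.Flat A A']

/-- descent of equidimensionality to `A/a` (needs only that `A'` is catenary) -/
theorem isEquidim_quotient_of_map (hcat : CAlg.IsCatenary A') (a : Ideal A)
    (h : EGA4.IsEquidim (A' ⧸ a.map (algebraMap A A'))) : EGA4.IsEquidim (A ⧸ a) := by
  by_cases ha : a = ⊤
  · haveI : Subsingleton (A ⧸ a) := Ideal.Quotient.subsingleton_iff.mpr ha
    exact isEquidim_of_subsingleton _
  have ha' : a ≤ maximalIdeal A := le_maximalIdeal ha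
  haveI := Helper5.FibreComp.isLocalRing_quotient a ha'
  haveI : IsLocalRing (A' ⧸ a.map (algebraMap A A')) :=
    Helper5.FibreComp.isLocalRing_quotient _
      (Helper5.FibreComp.map_le_maximalIdeal_of_le A A' a ha')
  haveI := Helper5.FibreComp.isLocalHom_quotient A A' a ha'
  haveI := Helper5.FibreComp.flat_quotient A A' a
  exact isEquidim_of_flat (A := A ⧸ a) (A' := A' ⧸ a.map (algebraMap A A')) h
    (Groth.Agent.S9125.result A' _ hcat)

omit [IsLocalRing A] [IsLocalRing A'] [IsLocalHom (algebraMap A A')] [IsNoetherianRing A]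
  [IsNoetherianRing A'] in
/-- a minimal prime of `aA'` contracts to a minimal prime of `a`, and is minimal over its
extension -/
theorem under_mem_minimalPrimes (a : Ideal A) (P' : Ideal A')
    (hP' : P' ∈ (a.map (algebraMap A A')).minimalPrimes) :
    P'.under A ∈ a.minimalPrimes ∧
      P' ∈ ((P'.under A).map (algebraMap A A')).minimalPrimes := by
  haveI := hP'.1.1
  have hle : a ≤ P'.under A := by
    rw [Ideal.under_def, ← Ideal.map_le_iff_le_comap]; exact hP'.1.2
  refine ⟨⟨⟨inferInstance, hle⟩, ?_⟩, ⟨⟨hP'.1.1, Ideal.map_comap_le⟩, ?_⟩⟩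
  · intro p₁ ⟨hp₁, hap₁⟩ hp₁le
    by_contra hnle
    have hlt : p₁ < P'.under A := lt_of_le_of_ne hp₁le (fun he => hnle he.ge)
    haveI := hp₁
    obtain ⟨P₁, hP₁le, hP₁prime, hP₁over⟩ :=
      Algebra.HasGoingDown.exists_ideal_le_liesOver_of_lt (p := p₁) P' hlt
    have h1 : a.map (algebraMap A A') ≤ P₁ := by
      rw [Ideal.map_le_iff_le_comap, ← Ideal.under_def, ← hP₁over.over]; exact hap₁
    have h2 : P' ≤ P₁ := hP'.2 ⟨hP₁prime, h1⟩ hP₁le
    have h3 : P₁ = P' := le_antisymm hP₁le h2
    rw [h3] at hP₁over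
    exact hlt.ne hP₁over.over
  · intro Q ⟨hQ, hQle⟩ hQP
    exact hP'.2 ⟨hQ, (Ideal.map_mono hle).trans hQle⟩ hQP

/-- ascent of equidimensionality from `A/a` to `A'/aA'` when the closed fibre has dimension zero -/
theorem isEquidim_map_of_quotient (heq : EGA4.IsEquidim A') (hcat : CAlg.IsCatenary A')
    (h0 : ringKrullDim (EGA4.FibRing A A') = 0) (a : Ideal A)
    (h : EGA4.IsEquidim (A ⧸ a)) : EGA4.IsEquidim (A' ⧸ a.map (algebraMap A A')) := by
  by_cases ha : a = ⊤
  · haveI : Subsingleton (A' ⧸ a.map (algebraMap A A')) := by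
      rw [Ideal.Quotient.subsingleton_iff, ha, Ideal.map_top]
    exact isEquidim_of_subsingleton _
  rw [HensFC.isEquidim_quotient_iff] at h ⊢
  intro P' hP'
  haveI := hP'.1.1
  obtain ⟨hp, hP'p⟩ := under_mem_minimalPrimes a P' hP'
  have h1 := height_add_dim_of_minimal heq hcat (P'.under A) P' hP'p
  have h2 := height_add_dim_eq (A' := A') heq hcat (P'.under A)
  have h3 := Helper19.FlatDimFormula.ringKrullDim_eq_add_of_flat A A'
  change _ = ringKrullDim A + ringKrullDim (EGA4.FibRing A A') at h3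
  rw [h0, add_zero] at h3
  have h4 := ringKrullDim_quotient_map A A' a ha
  rw [h0, add_zero] at h4
  rw [h4, ← h (P'.under A) hp]
  obtain ⟨n, hn⟩ := exists_nat_height (P'.under A)
  rw [hn, h3, ← h2, hn] at h1
  exact CMCat.withBot_enat_add_left_cancel h1

end Pair

end Groth.Agent.Lib.Helper12.FEqui
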