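import Mathlib
import Groth.Agent.Lib.Helper12.FEquiB
import Groth.Agent.Lib.Helper12.CMCatC
import Groth.Agent.Lib.Helper12.CMCatE
import Groth.Agent.Lib.Helper12.CohenStructA
import Groth.Agent.Lib.Helper12.CohenSqB
import Groth.Agent.S10834
import Groth.Agent.Lib.lead.DimFormulaLoc

/-!
# Complete Noetherian local rings are catenary; formally equidimensional rings (EGA IV 7.1.4)
-/

set_option autoImplicit false
universe u
open IsLocalRing Order

namespace Groth.Agent.Lib.Helper12.FEqui

/-- **Cohen**: a complete Noetherian local ring is a quotient of a regular local ring -/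
theorem exists_regular_surjective (R : Type u) [CommRing R] [IsLocalRing R] [IsNoetherianRing R]
    [IsAdicComplete (maximalIdeal R) R] :
    ∃ (P : Type u) (_ : CommRing P) (_ : IsRegularLocalRing P) (f : P →+* R),
      Function.Surjective f := by
  obtain ⟨Λ, i1, n, f, hΛ, hf⟩ :=
    CohenStruct.exists_surjective_mvPowerSeries R (IsNoetherian.noetherian _)
  rcases hΛ with hfield | hcohen
  · letI := hfield.toField
    have hm0 : maximalIdeal Λ = ⊥ := IsLocalRing.maximalIdeal_eq_bot
    have hπ : maximalIdeal Λ = Ideal.span (Set.range (fun j : Fin 0 => (j.elim0 : Λ))) := by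
      rw [hm0, Set.range_eq_empty, Ideal.span_empty]
    have hreg := CohenSq.isRegularLocalRing_ps (n := n) (fun j : Fin 0 => (j.elim0 : Λ)) hπ
      (by rw [Nat.cast_zero]; exact ringKrullDim_nonneg_of_nontrivial)
    exact ⟨_, inferInstance, hreg, f, hf⟩
  · obtain ⟨hdom, hdvr, -, p, hp, hmp⟩ := hcohen
    have hπ : maximalIdeal Λ = Ideal.span (Set.range (fun _ : Fin 1 => ((p : ℕ) : Λ))) := by
      rw [hmp]
      congr 1
      ext y
      simp
    have hdim : ((1 : ℕ) : WithBot ℕ∞) ≤ ringKrullDim Λ := by
      rw [IsPrincipalIdealRing.ringKrullDim_eq_one Λ (IsDiscreteValuationRing.not_isField Λ)]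
      rfl
    have hreg := CohenSq.isRegularLocalRing_ps (n := n) _ hπ hdim
    exact ⟨_, inferInstance, hreg, f, hf⟩

theorem isCMLocalRing_of_isRegularLocalRing (P : Type u) [CommRing P] [IsRegularLocalRing P] :
    LocCoh.IsCohenMacaulayLocalRing P :=
  { supportDim_eq_depth := Groth.Agent.S10834.isCM_of_isRegularLocalRing P }

/-- a quotient of a Cohen–Macaulay local ring is catenary -/
theorem isCatenary_of_surjective_of_isCM {P R : Type u} [CommRing P] [CommRing R]
    [LocCoh.IsCohenMacaulayLocalRing P] (f : P →+* R) (hf : Function.Surjective f) :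
    CAlg.IsCatenary R :=
  Groth.Agent.Lib.lead.DimFormulaLoc.isCatenary_of_ringEquiv
    (RingHom.quotientKerEquivOfSurjective hf)
    (Groth.Agent.S9125.result P (RingHom.ker f) (CMCat.isCatenary_of_isCMLocalRing P))

/-- a complete Noetherian local ring is catenary -/
theorem isCatenary_of_isAdicComplete (R : Type u) [CommRing R] [IsLocalRing R]
    [IsNoetherianRing R] [IsAdicComplete (maximalIdeal R) R] : CAlg.IsCatenary R := by
  obtain ⟨P, _, hP, f, hf⟩ := exists_regular_surjective R
  haveI := isCMLocalRing_of_isRegularLocalRing P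
  exact isCatenary_of_surjective_of_isCM f hf

section Cpl

variable (A : Type u) [CommRing A] [IsLocalRing A] [IsNoetherianRing A]

theorem isCatenary_cpl : CAlg.IsCatenary (AdicCompletion (maximalIdeal A) A) := by
  haveI : IsAdicComplete (maximalIdeal (AdicCompletion (maximalIdeal A) A))
      (AdicCompletion (maximalIdeal A) A) := inferInstance
  exact isCatenary_of_isAdicComplete _

theorem ringKrullDim_fibRing_cpl :
    ringKrullDim (EGA4.FibRing A (AdicCompletion (maximalIdeal A) A)) = 0 := by
  have h := CMCat.maximalIdeal_fibRing_cpl A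
  rw [← IsLocalRing.isField_iff_maximalIdeal_eq] at h
  letI := h.toField
  exact ringKrullDim_eq_zero_of_field _

variable {A}

/-- formally equidimensional ⇒ equidimensional and catenary -/
theorem isEquidim_and_isCatenary_of_isFormallyEquidim (h : EGA4.IsFormallyEquidim A) :
    EGA4.IsEquidim A ∧ CAlg.IsCatenary A :=
  ⟨isEquidim_of_flat (A' := AdicCompletion (maximalIdeal A) A) h (isCatenary_cpl A),
    isCatenary_of_flat (A' := AdicCompletion (maximalIdeal A) A) h (isCatenary_cpl A)⟩

/-- for a formally equidimensional ring, `A/a` is equidimensional iff formally equidimensional -/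
theorem isEquidim_quotient_iff_isFormallyEquidim (h : EGA4.IsFormallyEquidim A) (a : Ideal A)
    [IsLocalRing (A ⧸ a)] : EGA4.IsEquidim (A ⧸ a) ↔ EGA4.IsFormallyEquidim (A ⧸ a) := by
  rw [CMCat.isFormallyEquidim_quotient_iff, ← HensFC.isEquidim_quotient_iff]
  exact ⟨isEquidim_map_of_quotient h (isCatenary_cpl A) (ringKrullDim_fibRing_cpl A) a,
    isEquidim_quotient_of_map (isCatenary_cpl A) a⟩

end Cpl

end Groth.Agent.Lib.Helper12.FEqui
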