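import Mathlib
import Groth.Prelude.Def_FEt

/-!
# Finite étale covers of an affine scheme: standard objects `Spec B`
-/

set_option autoImplicit false
set_option linter.unusedSectionVars false
set_option linter.style.haveILetI false
universe u

open CategoryTheory CategoryTheory.Limits AlgebraicGeometry

namespace Groth.Agent.Lib.Helper12.FEtHens

/-- The standard finite étale cover `Spec B ⟶ Spec R` for a finite étale `R`-algebra `B`. -/
noncomputable def std (R : Type u) [CommRing R] (B : Type u) [CommRing B] [Algebra R B]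
    [Module.Finite R B] [Algebra.Etale R B] : FEt.Cat (Spec (CommRingCat.of R)) :=
  MorphismProperty.Over.mk ⊤ (Spec.map (CommRingCat.ofHom (algebraMap R B)))
    ⟨(IsFinite.SpecMap_iff _).mpr (RingHom.finite_algebraMap.mpr inferInstance),
     (HasRingHomProperty.Spec_iff (P := @Etale)).mpr (RingHom.etale_algebraMap.mpr inferInstance)⟩

@[simp]
theorem std_left (R : Type u) [CommRing R] (B : Type u) [CommRing B] [Algebra R B]
    [Module.Finite R B] [Algebra.Etale R B] : (std R B).left = Spec (CommRingCat.of B) := rfl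

@[simp]
theorem std_hom (R : Type u) [CommRing R] (B : Type u) [CommRing B] [Algebra R B]
    [Module.Finite R B] [Algebra.Etale R B] :
    (std R B).hom = Spec.map (CommRingCat.ofHom (algebraMap R B)) := rfl

/-- A finite étale morphism to `Spec R` is `Spec` of a finite étale algebra. -/
theorem exists_algebra_of_isFinite_etale (R : Type u) [CommRing R] {X : Scheme.{u}}
    (f : X ⟶ Spec (CommRingCat.of R)) [hfin : IsFinite f] [het : Etale f] :
    ∃ (B : Type u) (_ : CommRing B) (_ : Algebra R B) (_ : Module.Finite R B)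
      (_ : Algebra.Etale R B) (e : X ≅ Spec (CommRingCat.of B)),
      e.hom ≫ Spec.map (CommRingCat.ofHom (algebraMap R B)) = f := by
  haveI : IsAffine X := isAffine_of_isAffineHom f
  let ψ : CommRingCat.of R ⟶ Γ(X, ⊤) := (Scheme.ΓSpecIso (CommRingCat.of R)).inv ≫ f.appTop
  have hfac : X.toSpecΓ ≫ Spec.map ψ = f := by
    rw [Spec.map_comp, ← Category.assoc, ← Scheme.toSpecΓ_naturality, Category.assoc,
      toSpecΓ_SpecMap_ΓSpecIso_inv, Category.comp_id]
  haveI : IsIso X.toSpecΓ := IsAffine.affine
  have h1 : IsFinite (Spec.map ψ) := by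
    have : IsFinite (X.toSpecΓ ≫ Spec.map ψ) := by rw [hfac]; exact hfin
    exact (MorphismProperty.cancel_left_of_respectsIso @IsFinite X.toSpecΓ (Spec.map ψ)).mp this
  have h2 : Etale (Spec.map ψ) := by
    have : Etale (X.toSpecΓ ≫ Spec.map ψ) := by rw [hfac]; exact het
    exact (MorphismProperty.cancel_left_of_respectsIso @Etale X.toSpecΓ (Spec.map ψ)).mp this
  have h1' : ψ.hom.Finite := (IsFinite.SpecMap_iff _).mp h1
  have h2' : ψ.hom.Etale := (HasRingHomProperty.Spec_iff (P := @Etale)).mp h2
  letI : Algebra R Γ(X, ⊤) := ψ.hom.toAlgebra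
  haveI : Module.Finite R Γ(X, ⊤) := h1'
  haveI : Algebra.Etale R Γ(X, ⊤) := h2'
  exact ⟨Γ(X, ⊤), inferInstance, inferInstance, inferInstance, inferInstance,
    asIso X.toSpecΓ, hfac⟩

/-- Every finite étale cover of `Spec R` is isomorphic to a standard one. -/
theorem exists_iso_std (R : Type u) [CommRing R] (Y : FEt.Cat (Spec (CommRingCat.of R))) :
    ∃ (B : Type u) (_ : CommRing B) (_ : Algebra R B) (_ : Module.Finite R B)
      (_ : Algebra.Etale R B), Nonempty (Y ≅ std R B) := by
  let f : Y.left ⟶ Spec (CommRingCat.of R) := Y.hom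
  haveI hfin : IsFinite f := Y.prop.1
  haveI het : Etale f := Y.prop.2
  obtain ⟨B, _, _, _, _, e, he⟩ := exists_algebra_of_isFinite_etale R f
  exact ⟨B, inferInstance, inferInstance, inferInstance, inferInstance,
    ⟨MorphismProperty.Over.isoMk e he⟩⟩

end Groth.Agent.Lib.Helper12.FEtHens
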