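import Mathlib

/-!
# The pullback square `Spec (B/IB) = Spec B ×_{Spec A} Spec (A/I)`
-/

set_option autoImplicit false
set_option linter.unusedSectionVars false
set_option linter.style.haveILetI false
universe u

open CategoryTheory CategoryTheory.Limits AlgebraicGeometry TensorProduct

namespace Groth.Agent.Lib.Helper12.HCoup

section Quotient

variable {A B : Type u} [CommRing A] [CommRing B] [Algebra A B] (J : Ideal A)

attribute [local instance] Algebra.TensorProduct.rightAlgebra in
/-- (Copied from helper5's `PushDict.isPushout_quotient` to avoid its imports.) -/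
theorem isPushout_quotient : Algebra.IsPushout A (A ⧸ J) B (B ⧸ J.map (algebraMap A B)) := by
  have h : Algebra.IsPushout A (A ⧸ J) B ((A ⧸ J) ⊗[A] B) := inferInstance
  refine Algebra.IsPushout.of_equiv (R := A) (R' := A ⧸ J) (S := B) (S' := (A ⧸ J) ⊗[A] B)
    (T := B ⧸ J.map (algebraMap A B)) (Algebra.TensorProduct.quotIdealMapEquivQuotTensor B J).symm ?_
  ext b
  change (Algebra.TensorProduct.quotIdealMapEquivQuotTensor B J).symm ((1 : A ⧸ J) ⊗ₜ[A] b) = _
  rw [AlgEquiv.symm_apply_eq]
  rfl

/-- `Spec (B/JB) = Spec B ×_{Spec A} Spec (A/J)`. -/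
theorem isPullback_Spec_quotient :
    IsPullback (Spec.map (CommRingCat.ofHom (Ideal.Quotient.mk (J.map (algebraMap A B)))))
      (Spec.map (CommRingCat.ofHom (algebraMap (A ⧸ J) (B ⧸ J.map (algebraMap A B)))))
      (Spec.map (CommRingCat.ofHom (algebraMap A B)))
      (Spec.map (CommRingCat.ofHom (Ideal.Quotient.mk J))) := by
  haveI := isPushout_quotient (A := A) (B := B) J
  have h := CommRingCat.isPushout_of_isPushout A (A ⧸ J) B (B ⧸ J.map (algebraMap A B))
  exact h.op.map Scheme.Spec

end Quotient

end Groth.Agent.Lib.Helper12.HCoup
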