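import Groth.Agent.Lib.Helper12.GabberHensel
import Mathlib.RingTheory.Ideal.GoingUp
import Mathlib.RingTheory.Polynomial.Resultant.Basic
import Mathlib.RingTheory.IntegralClosure.IsIntegral.Basic

set_option autoImplicit false
universe u v

/-!
# Henselian pairs and lifting of idempotents along integral algebras (forward direction)
-/

namespace Groth.Agent.Lib.Helper12

open Polynomial

section general

variable {A : Type*} [CommRing A] {I : Ideal A}

theorem isCoprime_of_isCoprime_map_mk (hjac : I ≤ Ideal.jacobson ⊥) {g h : A[X]} (hg : g.Monic)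
    (hh : h.Monic)
    (hcop : IsCoprime (g.map (Ideal.Quotient.mk I)) (h.map (Ideal.Quotient.mk I))) :
    IsCoprime g h := by
  rcases subsingleton_or_nontrivial (A ⧸ I) with hs | hn
  · have hI : I = ⊤ := Ideal.Quotient.subsingleton_iff.mp hs
    rw [hI, top_le_iff, Ideal.jacobson_eq_top_iff] at hjac
    rcases subsingleton_or_nontrivial A with hA | hA
    · exact ⟨0, 0, Subsingleton.elim _ _⟩
    · exact absurd hjac bot_ne_top
  · rw [← isUnit_resultant_iff_isCoprime hg]
    apply isUnit_of_isUnit_mk hjac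
    have := (isUnit_resultant_iff_isCoprime (hg.map (Ideal.Quotient.mk I))).mpr hcop
    rwa [hg.natDegree_map, hh.natDegree_map, resultant_map_map] at this

theorem map_le_jacobson_of_isIntegral (hjac : I ≤ Ideal.jacobson ⊥) (B : Type*) [CommRing B]
    [Algebra A B] [Algebra.IsIntegral A B] :
    I.map (algebraMap A B) ≤ Ideal.jacobson ⊥ := by
  rw [Ideal.map_le_iff_le_comap]
  intro a ha
  rw [Ideal.mem_comap, Ideal.jacobson, Ideal.mem_sInf]
  rintro M ⟨-, hM⟩
  have hmax := Ideal.isMaximal_comap_of_isIntegral_of_isMaximal (R := A) M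
  have h2 : a ∈ M.comap (algebraMap A B) := by
    have := hjac ha
    rw [Ideal.jacobson, Ideal.mem_sInf] at this
    exact this ⟨bot_le, hmax⟩
  exact h2

theorem idempotent_eq_of_sub_mem {B : Type*} [CommRing B] {J : Ideal B}
    (hJ : J ≤ Ideal.jacobson ⊥) {e e' : B} (he : IsIdempotentElem e) (he' : IsIdempotentElem e')
    (h : e - e' ∈ J) : e = e' := by
  have h1 : e * e = e := he
  have h2 : e' * e' = e' := he'
  have hx : (e - e') * (1 - (e - e') * (e - e')) = 0 := by
    linear_combination (-(e + 1 - 3 * e')) * h1 + (-(3 * e - e' - 1)) * h2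
  have hu : IsUnit (1 - (e - e') * (e - e')) := by
    apply isUnit_of_sub_one_mem hJ
    have : 1 - (e - e') * (e - e') - 1 = -((e - e') * (e - e')) := by ring
    rw [this]
    exact J.neg_mem (J.mul_mem_left _ h)
  exact sub_eq_zero.mp ((hu.mul_left_eq_zero).mp hx)

theorem exists_monic_X_pow_of_mem_map {B : Type*} [CommRing B] [Algebra A B] [Module.Finite A B]
    (z : B) (hz : z ∈ I.map (algebraMap A B)) :
    ∃ (n : ℕ) (F : A[X]), F.Monic ∧ F.map (Ideal.Quotient.mk I) = X ^ (n + 1) ∧ aeval z F = 0 := by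
  have hrange : LinearMap.range (Algebra.lmul A B z) ≤ I • (⊤ : Submodule A B) := by
    rintro _ ⟨x, rfl⟩
    rw [Ideal.smul_top_eq_map]
    show z * x ∈ I.map (algebraMap A B)
    exact Ideal.mul_mem_right _ _ hz
  obtain ⟨p, hpm, -, hpc, hpz⟩ :=
    LinearMap.exists_monic_and_natDegree_eq_and_coeff_mem_pow_and_aeval_eq_zero A
      (Algebra.lmul A B z) I hrange
  refine ⟨p.natDegree, X * p, monic_X.mul hpm, ?_, ?_⟩
  · rw [Polynomial.map_mul, map_X, pow_succ']
    congr 1
    ext k
    rw [coeff_map, coeff_X_pow]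
    split_ifs with hk
    · rw [hk, hpm.coeff_natDegree, map_one]
    · rcases lt_or_gt_of_ne hk with hlt | hgt
      · rw [Ideal.Quotient.eq_zero_iff_mem]
        have := hpc k
        have hpos : p.natDegree - k ≠ 0 := by omega
        exact Ideal.pow_le_self hpos this
      · rw [coeff_eq_zero_of_natDegree_lt hgt, map_zero]
  · have h3 : aeval (Algebra.lmul A B z) p = Algebra.lmul A B (aeval z p) :=
      Polynomial.aeval_algHom_apply _ _ _
    have h4 : (aeval (Algebra.lmul A B z) p) 1 = aeval z p := by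
      rw [h3]
      simp
    rw [map_mul, ← h4, hpz]
    simp

end general

section lift

variable {A : Type u} [CommRing A] {I : Ideal A}

theorem exists_idempotent_lift_of_finite (hjac : I ≤ Ideal.jacobson ⊥) (hfl : FactorLift I)
    {B : Type*} [CommRing B] [Algebra A B] [Module.Finite A B] (b : B)
    (hb : b * b - b ∈ I.map (algebraMap A B)) :
    ∃ e : B, IsIdempotentElem e ∧ e - b ∈ I.map (algebraMap A B) := by
  rcases subsingleton_or_nontrivial A with hA | hA
  · have : Subsingleton B := by
      refine ⟨fun x y => ?_⟩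
      have h1 : (1 : B) = 0 := by
        rw [← map_one (algebraMap A B), Subsingleton.elim (1 : A) 0, map_zero]
      rw [← mul_one x, ← mul_one y, h1, mul_zero, mul_zero]
    exact ⟨0, IsIdempotentElem.zero, by rw [Subsingleton.elim (0 - b) 0]; exact Ideal.zero_mem _⟩
  set J := I.map (algebraMap A B) with hJ
  obtain ⟨n, F, hFm, hFmap, hFz⟩ := exists_monic_X_pow_of_mem_map (I := I) (b * b - b) hb
  set q : A[X] := X * (X - C 1) with hq
  have hqm : q.Monic := monic_X.mul (monic_X_sub_C 1)
  have hqdeg : q.natDegree ≠ 0 := by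
    rw [hq, monic_X.natDegree_mul (monic_X_sub_C 1), natDegree_X, natDegree_X_sub_C]
    norm_num
  set P : A[X] := F.comp q with hP
  have hPm : P.Monic := hFm.comp hqm hqdeg
  have hPb : aeval b P = 0 := by
    rw [hP, aeval_comp]
    have : aeval b q = b * b - b := by
      rw [hq]
      simp
      ring
    rw [this, hFz]
  set g₀ : (A ⧸ I)[X] := X ^ (n + 1) with hg₀
  set h₀ : (A ⧸ I)[X] := (X - C 1) ^ (n + 1) with hh₀
  have hPmap : P.map (Ideal.Quotient.mk I) = g₀ * h₀ := by
    rw [hP, Polynomial.map_comp, hFmap, X_pow_comp, hq, hg₀, hh₀, ← mul_pow]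
    simp
  have hcop₀ : IsCoprime g₀ h₀ := by
    apply IsCoprime.pow
    exact ⟨1, -1, by ring_nf; simp⟩
  obtain ⟨g, h, hg, hh, hfgh, hgmap, hhmap⟩ :=
    hfl P hPm g₀ h₀ (monic_X_pow _) ((monic_X_sub_C 1).pow _) hcop₀ hPmap
  have hcop : IsCoprime g h := by
    apply isCoprime_of_isCoprime_map_mk hjac hg hh
    rw [hgmap, hhmap]
    exact hcop₀
  obtain ⟨r, s, hrs⟩ := hcop
  set G := aeval b g with hG
  set H := aeval b h with hH
  set R := aeval b r with hR
  set S := aeval b s with hS
  have h1 : R * G + S * H = 1 := by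
    have := congrArg (aeval b) hrs
    simpa using this
  have hGH : G * H = 0 := by
    rw [hG, hH, ← map_mul, ← hfgh, hPb]
  have hGJ : G - b ^ (n + 1) ∈ J := by
    have hmap : (g - X ^ (n + 1)).map (Ideal.Quotient.mk I) = 0 := by
      rw [Polynomial.map_sub, hgmap, hg₀, Polynomial.map_pow, map_X, sub_self]
    have := aeval_mem_map_of_coeff_mem (coeff_mem_of_map_mk_eq_zero hmap) b
    simpa using this
  have hHJ : H - (b - 1) ^ (n + 1) ∈ J := by
    have hmap : (h - (X - C 1) ^ (n + 1)).map (Ideal.Quotient.mk I) = 0 := by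
      rw [Polynomial.map_sub, hhmap, hh₀, Polynomial.map_pow, Polynomial.map_sub, map_X, map_C,
        map_one]
      simp
    have := aeval_mem_map_of_coeff_mem (coeff_mem_of_map_mk_eq_zero hmap) b
    simpa using this
  refine ⟨R * G, ?_, ?_⟩
  · show R * G * (R * G) = R * G
    have e1 : R * G = 1 - S * H := by rw [← h1]; ring
    calc R * G * (R * G) = R * G * (1 - S * H) := by rw [← e1]
      _ = R * G - R * S * (G * H) := by ring
      _ = R * G := by rw [hGH, mul_zero, sub_zero]
  · have e1 : G * (1 - b) ∈ J := by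
      have : G * (1 - b) = (G - b ^ (n + 1)) * (1 - b) + (b ^ (n + 1) - b) * (1 - b)
          - (b * b - b) := by ring
      rw [this]
      exact J.sub_mem (J.add_mem (J.mul_mem_right _ hGJ) (J.mul_mem_right _ (pow_succ_sub_mem hb n)))
        hb
    have e2 : H * b ∈ J := by
      have : H * b = (H - (b - 1) ^ (n + 1)) * b + (b - 1) ^ n * (b * b - b) := by ring
      rw [this]
      exact J.add_mem (J.mul_mem_right _ hHJ) (J.mul_mem_left _ hb)
    have : R * G - b = R * (G * (1 - b)) - S * (H * b) := by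
      have e : R * G - b = R * G * (1 - b) - (1 - R * G) * b := by ring
      rw [e, ← h1]
      ring
    rw [this]
    exact J.sub_mem (J.mul_mem_left _ e1) (J.mul_mem_left _ e2)

end lift

end Groth.Agent.Lib.Helper12
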