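import Mathlib
import Groth.Prelude.Def_FEt
import Groth.Agent.Lib.Helper12.FEtHensA
import Groth.Agent.Lib.Helper12.HCoupH
import Groth.Agent.Lib.Helper12.FiniteEtaleHom
import Groth.Agent.Lib.Helper12.IdemLift

/-!
# Finite étale covers of a henselian pair: full faithfulness on standard objects
-/

set_option autoImplicit false
set_option linter.unusedSectionVars false
set_option linter.style.haveILetI false
universe u

open CategoryTheory CategoryTheory.Limits AlgebraicGeometry

namespace Groth.Agent.Lib.Helper12.FEtHens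

variable (A : Type u) [CommRing A] (I : Ideal A)

/-- The closed immersion `Spec (A/I) ⟶ Spec A`. -/
noncomputable abbrev ii : Spec (CommRingCat.of (A ⧸ I)) ⟶ Spec (CommRingCat.of A) :=
  Spec.map (CommRingCat.ofHom (Ideal.Quotient.mk I))

variable (B : Type u) [CommRing B] [Algebra A B]

/-- `Spec (B/IB) ≅ Spec B ×_{Spec A} Spec (A/I)`. -/
noncomputable def kappa :
    Spec (CommRingCat.of (B ⧸ I.map (algebraMap A B))) ≅
      pullback (Spec.map (CommRingCat.ofHom (algebraMap A B))) (ii A I) :=
  (HCoup.isPullback_Spec_quotient (A := A) (B := B) I).isoPullback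

theorem kappa_hom_fst :
    (kappa A I B).hom ≫ pullback.fst _ _ =
      Spec.map (CommRingCat.ofHom (Ideal.Quotient.mk (I.map (algebraMap A B)))) :=
  (HCoup.isPullback_Spec_quotient (A := A) (B := B) I).isoPullback_hom_fst

theorem kappa_hom_snd :
    (kappa A I B).hom ≫ pullback.snd _ _ =
      Spec.map (CommRingCat.ofHom (algebraMap (A ⧸ I) (B ⧸ I.map (algebraMap A B)))) :=
  (HCoup.isPullback_Spec_quotient (A := A) (B := B) I).isoPullback_hom_snd

/-- A morphism `Spec B₁ ⟶ Spec B₂` over `Spec A` comes from an `A`-algebra map. -/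
theorem exists_algHom_of_over {B₁ B₂ : Type u} [CommRing B₁] [CommRing B₂] [Algebra A B₁]
    [Algebra A B₂] (t : Spec (CommRingCat.of B₁) ⟶ Spec (CommRingCat.of B₂))
    (ht : t ≫ Spec.map (CommRingCat.ofHom (algebraMap A B₂)) =
      Spec.map (CommRingCat.ofHom (algebraMap A B₁))) :
    ∃ a : B₂ →ₐ[A] B₁, t = Spec.map (CommRingCat.ofHom a.toRingHom) := by
  obtain ⟨a, rfl⟩ : ∃ a : CommRingCat.of B₂ ⟶ CommRingCat.of B₁, Spec.map a = t :=
    ⟨Spec.preimage t, Spec.map_preimage t⟩
  rw [← Spec.map_comp] at ht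
  have h1 := Spec.map_injective ht
  have h2 : a.hom.comp (algebraMap A B₂) = algebraMap A B₁ := by
    have := congrArg CommRingCat.Hom.hom h1
    exact this
  refine ⟨{ a.hom with commutes' := fun r => RingHom.congr_fun h2 r }, ?_⟩
  rfl

section std

variable [HenselianRing A I]
variable (B₁ B₂ : Type u) [CommRing B₁] [CommRing B₂] [Algebra A B₁] [Algebra A B₂]
  [Module.Finite A B₁] [Algebra.Etale A B₁] [Module.Finite A B₂] [Algebra.Etale A B₂]

theorem faithful_std (φ ψ : std A B₁ ⟶ std A B₂)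
    (h : (FEt.restrict (ii A I)).map φ = (FEt.restrict (ii A I)).map ψ) : φ = ψ := by
  let φl : Spec (CommRingCat.of B₁) ⟶ Spec (CommRingCat.of B₂) := φ.left
  let ψl : Spec (CommRingCat.of B₁) ⟶ Spec (CommRingCat.of B₂) := ψ.left
  have hφw : φl ≫ Spec.map (CommRingCat.ofHom (algebraMap A B₂)) =
      Spec.map (CommRingCat.ofHom (algebraMap A B₁)) := MorphismProperty.Over.w φ
  have hψw : ψl ≫ Spec.map (CommRingCat.ofHom (algebraMap A B₂)) =
      Spec.map (CommRingCat.ofHom (algebraMap A B₁)) := MorphismProperty.Over.w ψ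
  obtain ⟨a, ha⟩ := exists_algHom_of_over A φl hφw
  obtain ⟨b, hb⟩ := exists_algHom_of_over A ψl hψw
  -- the two maps agree after composing with the first projection
  have h1 : pullback.fst (Spec.map (CommRingCat.ofHom (algebraMap A B₁))) (ii A I) ≫ φl =
      pullback.fst (Spec.map (CommRingCat.ofHom (algebraMap A B₁))) (ii A I) ≫ ψl := by
    have := congrArg (fun k => k.left ≫ pullback.fst (std A B₂).hom (ii A I)) h
    simp only [FEt.restrict, MorphismProperty.Over.pullback_map_left] at this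
    exact (pullback.lift_fst _ _ _).symm.trans (this.trans (pullback.lift_fst _ _ _))
  have h2 : Spec.map (CommRingCat.ofHom (Ideal.Quotient.mk (I.map (algebraMap A B₁)))) ≫ φl =
      Spec.map (CommRingCat.ofHom (Ideal.Quotient.mk (I.map (algebraMap A B₁)))) ≫ ψl := by
    rw [← kappa_hom_fst, Category.assoc, Category.assoc, h1]
  rw [ha, hb, ← Spec.map_comp, ← Spec.map_comp] at h2
  have h3 := congrArg CommRingCat.Hom.hom (Spec.map_injective h2)
  have hab : a = b := by
    haveI : Algebra.IsIntegral A B₁ := Algebra.IsIntegral.of_finite A B₁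
    apply algHom_eq_of_sub_mem_of_unramified
      (map_le_jacobson_of_isIntegral (HenselianRing.jac (I := I)) B₁) a b
    intro x
    have := RingHom.congr_fun h3 x
    rw [← Ideal.Quotient.eq]
    exact this
  apply MorphismProperty.Over.Hom.ext
  show φl = ψl
  rw [ha, hb, hab]

theorem full_std (θ : (FEt.restrict (ii A I)).obj (std A B₁) ⟶
      (FEt.restrict (ii A I)).obj (std A B₂)) :
    ∃ φ : std A B₁ ⟶ std A B₂, (FEt.restrict (ii A I)).map φ = θ := by
  let g₁ : Spec (CommRingCat.of B₁) ⟶ Spec (CommRingCat.of A) :=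
    Spec.map (CommRingCat.ofHom (algebraMap A B₁))
  let g₂ : Spec (CommRingCat.of B₂) ⟶ Spec (CommRingCat.of A) :=
    Spec.map (CommRingCat.ofHom (algebraMap A B₂))
  let θl : pullback g₁ (ii A I) ⟶ pullback g₂ (ii A I) := θ.left
  have hθw : θl ≫ pullback.snd g₂ (ii A I) = pullback.snd g₁ (ii A I) :=
    MorphismProperty.Over.w θ
  let t : Spec (CommRingCat.of (B₁ ⧸ I.map (algebraMap A B₁))) ⟶ Spec (CommRingCat.of B₂) :=
    (kappa A I B₁).hom ≫ θl ≫ pullback.fst g₂ (ii A I)
  have ht : t ≫ Spec.map (CommRingCat.ofHom (algebraMap A B₂)) =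
      Spec.map (CommRingCat.ofHom (algebraMap A (B₁ ⧸ I.map (algebraMap A B₁)))) := by
    show ((kappa A I B₁).hom ≫ θl ≫ pullback.fst g₂ (ii A I)) ≫ g₂ = _
    rw [Category.assoc, Category.assoc, pullback.condition, ← Category.assoc θl, hθw,
      ← Category.assoc, kappa_hom_snd, ← Spec.map_comp]
    rfl
  obtain ⟨g, hg⟩ := exists_algHom_of_over A t ht
  haveI : Algebra.IsIntegral A B₁ := Algebra.IsIntegral.of_finite A B₁
  obtain ⟨φ', hφ'⟩ := exists_algHom_lift_of_etale_of_isIntegral A I B₂ B₁ g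
  let φl : Spec (CommRingCat.of B₁) ⟶ Spec (CommRingCat.of B₂) :=
    Spec.map (CommRingCat.ofHom φ'.toRingHom)
  have hφw : φl ≫ g₂ = g₁ := by
    show Spec.map _ ≫ Spec.map _ = Spec.map _
    rw [← Spec.map_comp]
    congr 1
    ext r
    exact φ'.commutes r
  let φ : std A B₁ ⟶ std A B₂ := MorphismProperty.Over.homMk φl hφw
  refine ⟨φ, ?_⟩
  apply MorphismProperty.Over.Hom.ext
  show ((FEt.restrict (ii A I)).map φ).left = θl
  have hkey : θl ≫ pullback.fst g₂ (ii A I) = pullback.fst g₁ (ii A I) ≫ φl := by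
    rw [← cancel_epi (kappa A I B₁).hom]
    have h1 : (kappa A I B₁).hom ≫ θl ≫ pullback.fst g₂ (ii A I) = t := rfl
    rw [h1, hg, ← Category.assoc, kappa_hom_fst]
    show _ = Spec.map _ ≫ Spec.map _
    rw [← Spec.map_comp]
    congr 1
    ext x
    exact (hφ' x).symm
  apply pullback.hom_ext
  · simp only [FEt.restrict, MorphismProperty.Over.pullback_map_left]
    exact (pullback.lift_fst _ _ _).trans hkey.symm
  · simp only [FEt.restrict, MorphismProperty.Over.pullback_map_left]
    exact (pullback.lift_snd _ _ _).trans hθw.symm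

end std

end Groth.Agent.Lib.Helper12.FEtHens
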