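import Mathlib
import Groth.Prelude.Def_FEt
import Groth.Agent.Lib.Helper12.FEtHensB
import Groth.Agent.Lib.helper19.FinEtLift

/-!
# Finite étale covers of a henselian pair: the restriction functor is an equivalence
-/

set_option autoImplicit false
set_option linter.unusedSectionVars false
set_option linter.style.haveILetI false
universe u

open CategoryTheory CategoryTheory.Limits AlgebraicGeometry TensorProduct

namespace Groth.Agent.Lib.Helper12.FEtHens

variable (A : Type u) [CommRing A] (I : Ideal A) [HenselianRing A I]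

theorem faithful_restrict : (FEt.restrict (ii A I)).Faithful := by
  constructor
  intro Y Z φ ψ h
  obtain ⟨B₁, _, _, _, _, ⟨a⟩⟩ := exists_iso_std A Y
  obtain ⟨B₂, _, _, _, _, ⟨c⟩⟩ := exists_iso_std A Z
  have h' : (FEt.restrict (ii A I)).map (a.inv ≫ φ ≫ c.hom) =
      (FEt.restrict (ii A I)).map (a.inv ≫ ψ ≫ c.hom) := by
    rw [CategoryTheory.Functor.map_comp, CategoryTheory.Functor.map_comp, h,
      ← CategoryTheory.Functor.map_comp, ← CategoryTheory.Functor.map_comp]
  have h2 := faithful_std A I B₁ B₂ _ _ h'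
  rw [Iso.cancel_iso_inv_left, Iso.cancel_iso_hom_right] at h2
  exact h2

theorem full_restrict : (FEt.restrict (ii A I)).Full := by
  constructor
  intro Y Z θ
  obtain ⟨B₁, _, _, _, _, ⟨a⟩⟩ := exists_iso_std A Y
  obtain ⟨B₂, _, _, _, _, ⟨c⟩⟩ := exists_iso_std A Z
  obtain ⟨φ', hφ'⟩ := full_std A I B₁ B₂
    ((FEt.restrict (ii A I)).map a.inv ≫ θ ≫ (FEt.restrict (ii A I)).map c.hom)
  refine ⟨a.hom ≫ φ' ≫ c.inv, ?_⟩
  rw [CategoryTheory.Functor.map_comp, CategoryTheory.Functor.map_comp, hφ']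
  have e1 : (FEt.restrict (ii A I)).map a.hom ≫ (FEt.restrict (ii A I)).map a.inv = 𝟙 _ := by
    rw [← CategoryTheory.Functor.map_comp, Iso.hom_inv_id, CategoryTheory.Functor.map_id]
  have e2 : (FEt.restrict (ii A I)).map c.hom ≫ (FEt.restrict (ii A I)).map c.inv = 𝟙 _ := by
    rw [← CategoryTheory.Functor.map_comp, Iso.hom_inv_id, CategoryTheory.Functor.map_id]
  simp only [Category.assoc]
  rw [e2, Category.comp_id, ← Category.assoc, e1, Category.id_comp]

theorem essSurj_restrict : (FEt.restrict (ii A I)).EssSurj := by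
  constructor
  intro Y₀
  obtain ⟨C, _, _, _, _, ⟨a⟩⟩ := exists_iso_std (A ⧸ I) Y₀
  obtain ⟨B, _, _, hfin, het, ⟨ε⟩⟩ := Groth.Agent.Lib.helper19.FinEtLift.main A I C
  haveI := hfin
  haveI := het
  let δ : (B ⧸ I.map (algebraMap A B)) ≃ₐ[A ⧸ I] C :=
    (Algebra.TensorProduct.quotIdealMapEquivQuotTensor B I).trans ε
  let s₁ : Spec (CommRingCat.of (B ⧸ I.map (algebraMap A B))) ⟶ Spec (CommRingCat.of C) :=
    Spec.map (CommRingCat.ofHom (δ.symm : C →+* B ⧸ I.map (algebraMap A B)))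
  let s₂ : Spec (CommRingCat.of C) ⟶ Spec (CommRingCat.of (B ⧸ I.map (algebraMap A B))) :=
    Spec.map (CommRingCat.ofHom (δ : B ⧸ I.map (algebraMap A B) →+* C))
  have h12 : s₁ ≫ s₂ = 𝟙 _ := by
    show Spec.map _ ≫ Spec.map _ = _
    rw [← Spec.map_comp, ← Spec.map_id]
    congr 1
    ext x
    exact δ.symm_apply_apply x
  have h21 : s₂ ≫ s₁ = 𝟙 _ := by
    show Spec.map _ ≫ Spec.map _ = _
    rw [← Spec.map_comp, ← Spec.map_id]
    congr 1
    ext x
    exact δ.apply_symm_apply x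
  let σ : Spec (CommRingCat.of (B ⧸ I.map (algebraMap A B))) ≅ Spec (CommRingCat.of C) :=
    ⟨s₁, s₂, h12, h21⟩
  have hw : s₁ ≫ Spec.map (CommRingCat.ofHom (algebraMap (A ⧸ I) C)) =
      Spec.map (CommRingCat.ofHom (algebraMap (A ⧸ I) (B ⧸ I.map (algebraMap A B)))) := by
    show Spec.map _ ≫ Spec.map _ = _
    rw [← Spec.map_comp]
    congr 1
    ext x
    exact δ.symm.commutes x
  refine ⟨std A B, ⟨?_ ≪≫ a.symm⟩⟩
  refine MorphismProperty.Over.isoMk ((kappa A I B).symm ≪≫ σ) ?_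
  show ((kappa A I B).inv ≫ s₁) ≫ Spec.map (CommRingCat.ofHom (algebraMap (A ⧸ I) C)) =
    pullback.snd (Spec.map (CommRingCat.ofHom (algebraMap A B))) (ii A I)
  rw [Category.assoc, hw, Iso.inv_comp_eq, kappa_hom_snd]

theorem isEquivalence_restrict : (FEt.restrict (ii A I)).IsEquivalence := by
  have h1 := faithful_restrict A I
  have h2 := full_restrict A I
  have h3 := essSurj_restrict A I
  exact { }

end Groth.Agent.Lib.Helper12.FEtHens
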