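import Mathlib

/-!
# Algebra for "closed immersion / isomorphism near a closed subset"
-/

set_option autoImplicit false
universe u

namespace Groth.Agent.Lib.Helper12.FNear

section Nak

variable {B C : Type*} [CommRing B] [CommRing C] [Algebra B C]

/-- Nakayama: surjectivity mod `K` spreads to a principal neighbourhood `D(a)`, `a ∈ 1 + K`. -/
theorem exists_mul_mem_range [Module.Finite B C] (K : Ideal B)
    (hsurj : ∀ c : C, ∃ b : B, c - algebraMap B C b ∈ K.map (algebraMap B C)) :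
    ∃ a : B, a - 1 ∈ K ∧ ∀ c : C, ∃ b : B, algebraMap B C b = algebraMap B C a * c := by
  let R : Submodule B C := LinearMap.range (Algebra.linearMap B C)
  have hfg : (⊤ : Submodule B (C ⧸ R)).FG := Module.finite_def.mp inferInstance
  have hle : (⊤ : Submodule B (C ⧸ R)) ≤ K • ⊤ := by
    intro m _
    obtain ⟨c, rfl⟩ := R.mkQ_surjective m
    obtain ⟨b, hb⟩ := hsurj c
    have h1 : c - algebraMap B C b ∈ K • (⊤ : Submodule B C) := by
      rw [Ideal.smul_top_eq_map]; exact hb
    have h2 : R.mkQ (c - algebraMap B C b) ∈ (K • (⊤ : Submodule B C)).map R.mkQ :=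
      Submodule.mem_map_of_mem h1
    rw [Submodule.map_smul'', Submodule.map_top, Submodule.range_mkQ] at h2
    have h3 : R.mkQ (c - algebraMap B C b) = R.mkQ c := by
      rw [map_sub, sub_eq_self]
      exact (Submodule.Quotient.mk_eq_zero R).mpr ⟨b, rfl⟩
    rwa [h3] at h2
  obtain ⟨a, ha, hza⟩ :=
    Submodule.exists_sub_one_mem_and_smul_eq_zero_of_fg_of_le_smul K ⊤ hfg hle
  refine ⟨a, ha, fun c => ?_⟩
  have h4 := hza (R.mkQ c) trivial
  rw [← map_smul] at h4
  have h5 : a • c ∈ R := (Submodule.Quotient.mk_eq_zero R).mp h4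
  obtain ⟨b, hb⟩ := h5
  refine ⟨b, ?_⟩
  rw [← Algebra.smul_def]
  exact hb

/-- Nakayama + Krull: bijectivity modulo all powers of `K` spreads to `D(a)`, `a ∈ 1 + K`. -/
theorem exists_mul_mem_range_and_ker [IsNoetherianRing B] [Module.Finite B C] (K : Ideal B)
    (hsurj : ∀ c : C, ∃ b : B, c - algebraMap B C b ∈ K.map (algebraMap B C))
    (hker : ∀ n : ℕ, ((K.map (algebraMap B C)) ^ (n + 1)).comap (algebraMap B C) ≤ K ^ (n + 1)) :
    ∃ a : B, a - 1 ∈ K ∧ (∀ c : C, ∃ b : B, algebraMap B C b = algebraMap B C a * c) ∧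
      ∀ b : B, algebraMap B C b = 0 → a * b = 0 := by
  obtain ⟨a₁, ha₁, h₁⟩ := exists_mul_mem_range K hsurj
  let N : Ideal B := RingHom.ker (algebraMap B C)
  have hN : ∀ x ∈ N, ∀ n : ℕ, x ∈ K ^ (n + 1) := by
    intro x hx n
    apply hker n
    rw [Ideal.mem_comap, (RingHom.mem_ker).mp hx]
    exact Ideal.zero_mem _
  have hle : N ≤ K • N := by
    intro x hx
    have hx' : x ∈ (⨅ i : ℕ, K ^ i • ⊤ : Submodule B B) := by
      rw [Submodule.mem_iInf]
      intro i
      rcases i with _ | n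
      · simp
      · have := hN x hx n
        rw [smul_eq_mul, Ideal.mul_top]
        exact this
    obtain ⟨r, hr⟩ := (Ideal.mem_iInf_smul_pow_eq_bot_iff K x).mp hx'
    rw [← hr]
    exact Submodule.smul_mem_smul r.2 hx
  have hfg : N.FG := (isNoetherianRing_iff_ideal_fg B).mp inferInstance N
  obtain ⟨a₂, ha₂, h₂⟩ :=
    Submodule.exists_sub_one_mem_and_smul_eq_zero_of_fg_of_le_smul K N hfg hle
  refine ⟨a₁ * a₂, ?_, ?_, ?_⟩
  · have : a₁ * a₂ - 1 = a₁ * (a₂ - 1) + (a₁ - 1) := by ring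
    rw [this]
    exact K.add_mem (K.mul_mem_left _ ha₂) ha₁
  · intro c
    obtain ⟨b, hb⟩ := h₁ c
    refine ⟨a₂ * b, ?_⟩
    rw [map_mul, map_mul, hb]; ring
  · intro b hb
    have := h₂ b ((RingHom.mem_ker).mpr hb)
    rw [smul_eq_mul] at this
    rw [mul_assoc, this, mul_zero]

end Nak

section Loc

variable {B C B' C' : Type*} [CommRing B] [CommRing C] [CommRing B'] [CommRing C']
  [Algebra B B'] [Algebra C C'] (φ : B →+* C) (φ' : B' →+* C') (a : B)
  [IsLocalization.Away a B'] [IsLocalization.Away (φ a) C']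
  (hcomp : ∀ b : B, φ' (algebraMap B B' b) = algebraMap C C' (φ b))

include hcomp

theorem surjective_of_mul_mem_range (h : ∀ c : C, ∃ b : B, φ b = φ a * c) :
    Function.Surjective φ' := by
  intro c'
  obtain ⟨⟨c, s⟩, hcs⟩ := IsLocalization.surj (Submonoid.powers (φ a)) c'
  obtain ⟨m, hm⟩ := s.2
  obtain ⟨b, hb⟩ := h c
  have hu : IsUnit (algebraMap B B' a) := IsLocalization.Away.algebraMap_isUnit a
  have hu' : IsUnit (algebraMap B B' (a ^ (m + 1))) := by
    rw [map_pow]; exact hu.pow _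
  obtain ⟨u, hu''⟩ := hu'
  refine ⟨algebraMap B B' b * ↑u⁻¹, ?_⟩
  have hφu : φ' (↑u : B') = algebraMap C C' (φ a ^ (m + 1)) := by
    rw [hu'', hcomp, map_pow]
  have hunit : IsUnit (algebraMap C C' (φ a ^ (m + 1))) := by
    rw [map_pow]; exact (IsLocalization.Away.algebraMap_isUnit (φ a)).pow _
  apply hunit.mul_right_cancel
  rw [map_mul, mul_assoc, ← hφu, ← map_mul, Units.inv_mul, map_one, mul_one, hcomp, hb, hφu]
  have hm' : φ a ^ m = ↑s := hm
  rw [pow_succ, map_mul, map_mul, hm', ← hcs]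
  ring

theorem injective_of_mul_eq_zero (h : ∀ b : B, φ b = 0 → a * b = 0) :
    Function.Injective φ' := by
  rw [injective_iff_map_eq_zero]
  intro b' hb'
  obtain ⟨⟨b, s⟩, hbs⟩ := IsLocalization.surj (Submonoid.powers a) b'
  simp only at hbs
  have h1 : algebraMap C C' (φ b) = 0 := by
    rw [← hcomp, ← hbs, map_mul, hb', zero_mul]
  obtain ⟨⟨_, l, rfl⟩, hl⟩ := (IsLocalization.map_eq_zero_iff (Submonoid.powers (φ a)) C' _).mp h1
  simp only at hl
  have h2 : φ (a ^ l * b) = 0 := by rw [map_mul, map_pow, hl]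
  have h3 := h _ h2
  have h4 : algebraMap B B' b = 0 := by
    rw [IsLocalization.map_eq_zero_iff (Submonoid.powers a)]
    exact ⟨⟨a ^ (l + 1), l + 1, rfl⟩, by simp only; rw [pow_succ', mul_assoc]; exact h3⟩
  have hs : IsUnit (algebraMap B B' s) := IsLocalization.map_units B' s
  apply hs.mul_left_cancel
  rw [mul_comm, hbs, h4, mul_zero]

end Loc

end Groth.Agent.Lib.Helper12.FNear
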