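import Mathlib
import Groth.Agent.Lib.Helper29.IdealComap

/-!
# Inverse image ideal sheaves and powers; the level squares of a completed morphism are cartesian
-/

set_option autoImplicit false
universe u
open CategoryTheory CategoryTheory.Limits AlgebraicGeometry TopologicalSpace

namespace Groth.Agent.Lib.Helper12.FNear

open Groth.Agent.Lib.Helper29.EffCart

variable {X Y : Scheme.{u}}

/-- inverse image of ideal sheaves commutes with products -/
theorem comap_mul (P Q : Y.IdealSheafData) (g : X ⟶ Y) :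
    (P * Q).comap g = P.comap g * Q.comap g := by
  let ι := { U : X.affineOpens // ∃ V : Y.affineOpens, U.1 ≤ g ⁻¹ᵁ V.1 }
  have hcov : ⨆ i : ι, (i.1 : X.affineOpens).1 = ⊤ := by
    rw [eq_top_iff]
    intro x _
    obtain ⟨_, ⟨V, hV : IsAffineOpen V, rfl⟩, hxV, -⟩ :=
      Y.isBasis_affineOpens.exists_subset_of_mem_open (Set.mem_univ (g x)) isOpen_univ
    obtain ⟨_, ⟨U, hU : IsAffineOpen U, rfl⟩, hxU, hUV⟩ :=
      X.isBasis_affineOpens.exists_subset_of_mem_open (show x ∈ (g ⁻¹ᵁ V : Set X) from hxV)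
        (g ⁻¹ᵁ V).2
    exact TopologicalSpace.Opens.mem_iSup.2 ⟨⟨⟨U, hU⟩, ⟨V, hV⟩, hUV⟩, hxU⟩
  refine Scheme.IdealSheafData.ext_of_iSup_eq_top (fun i : ι => i.1) hcov ?_
  rintro ⟨U, V, e⟩
  have h1 := ideal_comap_eq_map P g V U e
  have h2 := ideal_comap_eq_map Q g V U e
  have h3 := ideal_comap_eq_map (P * Q) g V U e
  change ((P * Q).comap g).ideal U = (P.comap g).ideal U * (Q.comap g).ideal U
  rw [h1, h2, h3, ← Ideal.map_mul]
  rfl

/-- inverse image of ideal sheaves commutes with positive powers -/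
theorem comap_pow_succ (P : Y.IdealSheafData) (g : X ⟶ Y) (n : ℕ) :
    (P ^ (n + 1)).comap g = (P.comap g) ^ (n + 1) := by
  induction n with
  | zero => simp
  | succ n ih => rw [pow_succ, comap_mul, ih, ← pow_succ]

/-- the level squares are cartesian -/
theorem isPullback_level (K : Y.IdealSheafData) (f : X ⟶ Y) (n : ℕ)
    (H : K ^ (n + 1) ≤ ((K.comap f) ^ (n + 1)).map f) :
    IsPullback ((K.comap f) ^ (n + 1)).subschemeι
      (Scheme.IdealSheafData.subschemeMap ((K.comap f) ^ (n + 1)) (K ^ (n + 1)) f H)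
      f (K ^ (n + 1)).subschemeι := by
  apply isPullback_of_isClosedImmersion
  · simp
  · rw [Scheme.IdealSheafData.ker_subschemeι, Scheme.IdealSheafData.ker_subschemeι, comap_pow_succ]

end Groth.Agent.Lib.Helper12.FNear
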