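import Mathlib
import Groth.Agent.Lib.Helper12.FNearB

/-!
# Levels of a completed morphism inherit base-change-stable properties from a neighbourhood
-/

set_option autoImplicit false
universe u
open CategoryTheory CategoryTheory.Limits AlgebraicGeometry TopologicalSpace

namespace Groth.Agent.Lib.Helper12.FNear

variable {X Y : Scheme.{u}}

theorem level_of_restrict (P : MorphismProperty Scheme.{u}) [P.IsStableUnderBaseChange]
    (K : Y.IdealSheafData) (f : X ⟶ Y) (W : Y.Opens) (hW : (K.support : Set Y) ⊆ W) (n : ℕ)
    (H : K ^ (n + 1) ≤ ((K.comap f) ^ (n + 1)).map f) (hP : P (f ∣_ W)) :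
    P (Scheme.IdealSheafData.subschemeMap ((K.comap f) ^ (n + 1)) (K ^ (n + 1)) f H) := by
  have hr : Set.range (K ^ (n + 1)).subschemeι ⊆ Set.range W.ι := by
    rw [Scheme.IdealSheafData.range_subschemeι, Scheme.IdealSheafData.support_pow_succ,
      Scheme.Opens.range_ι]
    exact hW
  let j : (K ^ (n + 1)).subscheme ⟶ W.toScheme :=
    IsOpenImmersion.lift W.ι (K ^ (n + 1)).subschemeι hr
  have hj : j ≫ W.ι = (K ^ (n + 1)).subschemeι := IsOpenImmersion.lift_fac _ _ _
  have s := (isPullback_level K f n H).flip
  rw [← hj] at s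
  have t := isPullback_morphismRestrict f W
  have sq := IsPullback.of_bot' s t
  exact P.of_isPullback sq.flip hP

end Groth.Agent.Lib.Helper12.FNear
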