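import Mathlib
import Groth.Agent.Lib.Helper12.FNearA
import Groth.Agent.Lib.Helper12.FNearB

/-!
# Local step: closed immersion / isomorphism near a point of the support
-/

set_option autoImplicit false
universe u
open CategoryTheory CategoryTheory.Limits AlgebraicGeometry TopologicalSpace

namespace Groth.Agent.Lib.Helper12.FNear

variable {X Y : Scheme.{u}}

theorem restrict_of_le (P : MorphismProperty Scheme.{u}) [IsZariskiLocalAtTarget P]
    (f : X ⟶ Y) {V V₁ : Y.Opens} (h : V₁ ≤ V) (hP : P (f ∣_ V)) : P (f ∣_ V₁) := by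
  have h1 : P ((f ∣_ V) ∣_ (V.ι ⁻¹ᵁ V₁)) := IsZariskiLocalAtTarget.restrict hP _
  rw [P.arrow_mk_iso_iff (morphismRestrictRestrict f V _)] at h1
  have h2 : V.ι ''ᵁ (V.ι ⁻¹ᵁ V₁) = V₁ := by
    rw [Scheme.Hom.image_preimage_eq_opensRange_inf, Scheme.Opens.opensRange_ι]
    exact inf_eq_right.mpr h
  rwa [P.arrow_mk_iso_iff (morphismRestrictEq f h2)] at h1

theorem exists_affine_finite (f : X ⟶ Y) [IsProper f] (y : Y) (hy : (f ⁻¹' {y}).Finite) :
    ∃ V₁ : Y.Opens, ∃ _ : IsAffineOpen V₁, y ∈ V₁ ∧ IsAffineOpen (f ⁻¹ᵁ V₁) ∧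
      (f.app V₁).hom.Finite := by
  obtain ⟨V, hyV, hV⟩ := exists_isFinite_morphismRestrict_of_finite_preimage_singleton f y hy
  obtain ⟨V₁, hV₁, hyV₁, hV₁V⟩ : ∃ V₁ : Y.Opens, IsAffineOpen V₁ ∧ y ∈ V₁ ∧ V₁ ≤ V := by
    obtain ⟨_, ⟨V₁, hV₁ : IsAffineOpen V₁, rfl⟩, hyV₁, hV₁V⟩ :=
      Y.isBasis_affineOpens.exists_subset_of_mem_open hyV V.2
    exact ⟨V₁, hV₁, hyV₁, hV₁V⟩
  have hfin : IsFinite (f ∣_ V₁) := restrict_of_le @IsFinite f hV₁V hV
  have : IsAffine V₁.toScheme := hV₁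
  have hU : IsAffineOpen (f ⁻¹ᵁ V₁) := isAffine_of_isAffineHom (f ∣_ V₁)
  refine ⟨V₁, hV₁, hyV₁, hU, ?_⟩
  have h1 := (f ∣_ V₁).finite_appTop
  rw [morphismRestrict_appTop] at h1
  have h2 : (f.app (V₁.ι ''ᵁ ⊤)).hom.Finite :=
    (RingHom.finite_respectsIso.cancel_right_isIso _ _).mp h1
  have key : ∀ U₀ : Y.Opens, U₀ = V₁ → (f.app U₀).hom.Finite → (f.app V₁).hom.Finite := by
    rintro _ rfl h; exact h
  exact key _ (Scheme.Opens.ι_image_top V₁) h2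

theorem mem_basicOpen_of_sub_one_mem (K : Y.IdealSheafData) (V₁ : Y.affineOpens) (y : Y)
    (hy : y ∈ K.support) (hyV : y ∈ V₁.1) (a : Γ(Y, V₁.1)) (ha : a - 1 ∈ K.ideal V₁) :
    y ∈ Y.basicOpen a := by
  have h1 := (Scheme.IdealSheafData.mem_support_iff_of_mem (I := K) (U := V₁) hyV).mp hy
  rw [Scheme.mem_zeroLocus_iff] at h1
  have h2 : y ∉ Y.basicOpen (1 - a) := h1 _ (by
    have : 1 - a = -(a - 1) := by ring
    rw [this]; exact (K.ideal V₁).neg_mem ha)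
  rw [Scheme.mem_basicOpen _ _ _ hyV] at h2 ⊢
  have h3 : Y.presheaf.germ V₁.1 y hyV a + Y.presheaf.germ V₁.1 y hyV (1 - a) = 1 := by
    rw [← map_add]; simp
  rcases IsLocalRing.isUnit_or_isUnit_of_add_one h3 with h | h
  · exact h
  · exact absurd h h2

theorem isAffineOpen_preimage_basicOpen (f : X ⟶ Y) {V₁ : Y.Opens}
    (hU : IsAffineOpen (f ⁻¹ᵁ V₁)) (a : Γ(Y, V₁)) : IsAffineOpen (f ⁻¹ᵁ Y.basicOpen a) := by
  rw [Scheme.preimage_basicOpen]
  exact hU.basicOpen _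

theorem surjective_app_basicOpen (f : X ⟶ Y) {V₁ : Y.Opens} (hV₁ : IsAffineOpen V₁)
    (hU : IsAffineOpen (f ⁻¹ᵁ V₁)) (a : Γ(Y, V₁))
    (h : ∀ c : Γ(X, f ⁻¹ᵁ V₁), ∃ b : Γ(Y, V₁),
      (f.app V₁).hom b = (f.app V₁).hom a * c) :
    Function.Surjective (f.app (Y.basicOpen a)).hom := by
  have i1 := hV₁.isLocalization_basicOpen a
  have i2 := hU.isLocalization_basicOpen (f.app V₁ a)
  rw [IsAffineOpen.app_basicOpen_eq_away_map f hV₁ hU a, CommRingCat.hom_comp, RingHom.coe_comp]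
  refine Function.Surjective.comp
    (ConcreteCategory.bijective_of_isIso (X.presheaf.map (eqToHom _).op)).2 ?_
  rw [CommRingCat.hom_ofHom]
  refine surjective_of_mul_mem_range (f.app V₁).hom _ a (fun b => ?_) h
  exact IsLocalization.map_eq _ _

theorem injective_app_basicOpen (f : X ⟶ Y) {V₁ : Y.Opens} (hV₁ : IsAffineOpen V₁)
    (hU : IsAffineOpen (f ⁻¹ᵁ V₁)) (a : Γ(Y, V₁))
    (h : ∀ b : Γ(Y, V₁), (f.app V₁).hom b = 0 → a * b = 0) :
    Function.Injective (f.app (Y.basicOpen a)).hom := by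
  have i1 := hV₁.isLocalization_basicOpen a
  have i2 := hU.isLocalization_basicOpen (f.app V₁ a)
  rw [IsAffineOpen.app_basicOpen_eq_away_map f hV₁ hU a, CommRingCat.hom_comp, RingHom.coe_comp]
  refine Function.Injective.comp
    (ConcreteCategory.bijective_of_isIso (X.presheaf.map (eqToHom _).op)).1 ?_
  rw [CommRingCat.hom_ofHom]
  refine injective_of_mul_eq_zero (f.app V₁).hom _ a (fun b => ?_) h
  exact IsLocalization.map_eq _ _

theorem isClosedImmersion_restrict_of_surjective (f : X ⟶ Y) (D : Y.Opens)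
    (hD : IsAffineOpen D) (hD' : IsAffineOpen (f ⁻¹ᵁ D))
    (h : Function.Surjective (f.app D).hom) : IsClosedImmersion (f ∣_ D) := by
  have : IsAffine D.toScheme := hD
  have : IsAffine (f ⁻¹ᵁ D).toScheme := hD'
  apply IsClosedImmersion.of_surjective_of_isAffine
  rw [morphismRestrict_appTop]
  have key : ∀ U₀ : Y.Opens, U₀ = D → Function.Surjective (f.app U₀).hom := by
    rintro _ rfl; exact h
  have h2 := key _ (Scheme.Opens.ι_image_top D)
  have h3 : Function.Surjective (f.app (D.ι ''ᵁ ⊤) ≫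
      X.presheaf.map (eqToHom (image_morphismRestrict_preimage f D ⊤)).op).hom := by
    rw [CommRingCat.hom_comp, RingHom.coe_comp]
    exact Function.Surjective.comp
      (ConcreteCategory.bijective_of_isIso (X.presheaf.map (eqToHom _).op)).2 h2
  exact h3

theorem isIso_restrict_of_bijective (f : X ⟶ Y) (D : Y.Opens)
    (hD : IsAffineOpen D) (hD' : IsAffineOpen (f ⁻¹ᵁ D))
    (h : Function.Bijective (f.app D).hom) : IsIso (f ∣_ D) := by
  have : IsAffine D.toScheme := hD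
  have : IsAffine (f ⁻¹ᵁ D).toScheme := hD'
  have : IsClosedImmersion (f ∣_ D) :=
    isClosedImmersion_restrict_of_surjective f D hD hD' h.2
  apply IsClosedImmersion.isIso_of_injective_of_isAffine
  rw [morphismRestrict_appTop]
  have key : ∀ U₀ : Y.Opens, U₀ = D → Function.Injective (f.app U₀).hom := by
    rintro _ rfl; exact h.1
  have h2 := key _ (Scheme.Opens.ι_image_top D)
  have h3 : Function.Injective (f.app (D.ι ''ᵁ ⊤) ≫
      X.presheaf.map (eqToHom (image_morphismRestrict_preimage f D ⊤)).op).hom := by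
    rw [CommRingCat.hom_comp, RingHom.coe_comp]
    exact Function.Injective.comp
      (ConcreteCategory.bijective_of_isIso (X.presheaf.map (eqToHom _).op)).1 h2
  exact h3

open Groth.Agent.Lib.Helper29.EffCart in
theorem ideal_comap_preimage (f : X ⟶ Y) (K : Y.IdealSheafData) {V₁ : Y.Opens}
    (hV₁ : IsAffineOpen V₁) (hU : IsAffineOpen (f ⁻¹ᵁ V₁)) :
    (K.comap f).ideal ⟨f ⁻¹ᵁ V₁, hU⟩ = (K.ideal ⟨V₁, hV₁⟩).map (f.app V₁).hom := by
  rw [ideal_comap_eq_map K f ⟨V₁, hV₁⟩ ⟨f ⁻¹ᵁ V₁, hU⟩ le_rfl, ← Scheme.Hom.app_eq_appLE]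

theorem hsurj_of_isClosedImmersion (f : X ⟶ Y) (K : Y.IdealSheafData) {V₁ : Y.Opens}
    (hV₁ : IsAffineOpen V₁) (hU : IsAffineOpen (f ⁻¹ᵁ V₁))
    (hci : IsClosedImmersion (((K.comap f) ^ (0 + 1)).subschemeι ≫ f)) :
    ∀ c : Γ(X, f ⁻¹ᵁ V₁), ∃ b : Γ(Y, V₁),
      c - (f.app V₁).hom b ∈ (K.ideal ⟨V₁, hV₁⟩).map (f.app V₁).hom := by
  intro c
  have hs := Scheme.Hom.app_surjective (((K.comap f) ^ (0 + 1)).subschemeι ≫ f) V₁ hV₁
  obtain ⟨b, hb⟩ := hs ((((K.comap f) ^ (0 + 1)).subschemeι.app (f ⁻¹ᵁ V₁)).hom c)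
  rw [Scheme.Hom.comp_app] at hb
  refine ⟨b, ?_⟩
  have hmem : c - (f.app V₁).hom b ∈
      RingHom.ker (((K.comap f) ^ (0 + 1)).subschemeι.app (f ⁻¹ᵁ V₁)).hom := by
    rw [RingHom.mem_ker, map_sub, sub_eq_zero]
    exact hb.symm
  rw [Scheme.IdealSheafData.ker_subschemeι_app ((K.comap f) ^ (0 + 1)) ⟨f ⁻¹ᵁ V₁, hU⟩] at hmem
  rw [Scheme.IdealSheafData.ideal_pow, Pi.pow_apply, zero_add, pow_one,
    ideal_comap_preimage f K hV₁ hU] at hmem
  exact hmem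

theorem hker_of_map_eq (f : X ⟶ Y) [QuasiCompact f] (K : Y.IdealSheafData) {V₁ : Y.Opens}
    (hV₁ : IsAffineOpen V₁) (hU : IsAffineOpen (f ⁻¹ᵁ V₁)) (n : ℕ)
    (hmap : ((K.comap f) ^ (n + 1)).map f = K ^ (n + 1)) :
    (((K.ideal ⟨V₁, hV₁⟩).map (f.app V₁).hom) ^ (n + 1)).comap (f.app V₁).hom ≤
      (K.ideal ⟨V₁, hV₁⟩) ^ (n + 1) := by
  have h1 := Scheme.IdealSheafData.ideal_map ((K.comap f) ^ (n + 1)) f ⟨V₁, hV₁⟩ hU
  rw [hmap, Scheme.IdealSheafData.ideal_pow, Scheme.IdealSheafData.ideal_pow, Pi.pow_apply,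
    Pi.pow_apply, ideal_comap_preimage f K hV₁ hU] at h1
  exact h1.ge

/-- Local step, closed immersion case. -/
theorem exists_nhd_isClosedImmersion (f : X ⟶ Y) [IsProper f] (K : Y.IdealSheafData)
    (hci : IsClosedImmersion (((K.comap f) ^ (0 + 1)).subschemeι ≫ f))
    (y : Y) (hy : y ∈ K.support) (hfib : (f ⁻¹' {y}).Finite) :
    ∃ D : Y.Opens, y ∈ D ∧ IsClosedImmersion (f ∣_ D) := by
  obtain ⟨V₁, hV₁, hyV₁, hU, hfin⟩ := exists_affine_finite f y hfib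
  algebraize [(f.app V₁).hom]
  have : Module.Finite Γ(Y, V₁) Γ(X, f ⁻¹ᵁ V₁) := hfin
  obtain ⟨a, ha, hrange⟩ := exists_mul_mem_range (K.ideal ⟨V₁, hV₁⟩)
    (hsurj_of_isClosedImmersion f K hV₁ hU hci)
  refine ⟨Y.basicOpen a, mem_basicOpen_of_sub_one_mem K ⟨V₁, hV₁⟩ y hy hyV₁ a ha, ?_⟩
  exact isClosedImmersion_restrict_of_surjective f _ (hV₁.basicOpen a)
    (isAffineOpen_preimage_basicOpen f hU a) (surjective_app_basicOpen f hV₁ hU a hrange)

/-- Local step, isomorphism case. -/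
theorem exists_nhd_isIso (f : X ⟶ Y) [IsProper f] [IsLocallyNoetherian Y]
    (K : Y.IdealSheafData)
    (hci : IsClosedImmersion (((K.comap f) ^ (0 + 1)).subschemeι ≫ f))
    (hmap : ∀ n : ℕ, ((K.comap f) ^ (n + 1)).map f = K ^ (n + 1))
    (y : Y) (hy : y ∈ K.support) (hfib : (f ⁻¹' {y}).Finite) :
    ∃ D : Y.Opens, y ∈ D ∧ IsIso (f ∣_ D) := by
  obtain ⟨V₁, hV₁, hyV₁, hU, hfin⟩ := exists_affine_finite f y hfib
  algebraize [(f.app V₁).hom]
  have : Module.Finite Γ(Y, V₁) Γ(X, f ⁻¹ᵁ V₁) := hfin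
  have : IsNoetherianRing Γ(Y, V₁) := IsLocallyNoetherian.component_noetherian ⟨V₁, hV₁⟩
  obtain ⟨a, ha, hrange, hker⟩ := exists_mul_mem_range_and_ker (K.ideal ⟨V₁, hV₁⟩)
    (hsurj_of_isClosedImmersion f K hV₁ hU hci)
    (fun n => hker_of_map_eq f K hV₁ hU n (hmap n))
  refine ⟨Y.basicOpen a, mem_basicOpen_of_sub_one_mem K ⟨V₁, hV₁⟩ y hy hyV₁ a ha, ?_⟩
  exact isIso_restrict_of_bijective f _ (hV₁.basicOpen a)
    (isAffineOpen_preimage_basicOpen f hU a)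
    ⟨injective_app_basicOpen f hV₁ hU a hker, surjective_app_basicOpen f hV₁ hU a hrange⟩

end Groth.Agent.Lib.Helper12.FNear
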