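import Mathlib
import Groth.Agent.Lib.Helper12.FNearC
import Groth.Agent.Lib.Helper12.FNearD

/-!
# Globalisation: a property of all levels of the completed morphism holds near the support
-/

set_option autoImplicit false
universe u
open CategoryTheory CategoryTheory.Limits AlgebraicGeometry TopologicalSpace

namespace Groth.Agent.Lib.Helper12.FNear

variable {X Y Z : Scheme.{u}}

theorem restrict_of_forall_exists (P : MorphismProperty Scheme.{u}) [IsZariskiLocalAtTarget P]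
    (f : X ⟶ Y) (W : Y.Opens) (H : ∀ y ∈ W, ∃ D : Y.Opens, y ∈ D ∧ P (f ∣_ D)) :
    P (f ∣_ W) := by
  apply IsZariskiLocalAtTarget.of_forall_exists_morphismRestrict (P := P)
  rintro ⟨y, hyW⟩
  obtain ⟨D, hyD, hD⟩ := H y hyW
  refine ⟨W.ι ⁻¹ᵁ D, hyD, ?_⟩
  rw [P.arrow_mk_iso_iff (morphismRestrictRestrict f W _)]
  have h2 : W.ι ''ᵁ (W.ι ⁻¹ᵁ D) ≤ D := by
    rw [Scheme.Hom.image_preimage_eq_opensRange_inf]
    exact inf_le_right
  exact restrict_of_le P f h2 hD

theorem main_iff (P : MorphismProperty Scheme.{u}) [P.IsStableUnderBaseChange]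
    [IsZariskiLocalAtTarget P] (h : Y ⟶ Z) [IsProper h] (f : X ⟶ Y) (J : Z.IdealSheafData)
    (H : ∀ n : ℕ, (J.comap h) ^ (n + 1) ≤ (((J.comap h).comap f) ^ (n + 1)).map f)
    (hlocal : (∀ n : ℕ, P (Scheme.IdealSheafData.subschemeMap (((J.comap h).comap f) ^ (n + 1))
        ((J.comap h) ^ (n + 1)) f (H n))) →
      ∀ y ∈ (J.comap h).support, ∃ D : Y.Opens, y ∈ D ∧ P (f ∣_ D)) :
    (∀ n : ℕ, P (Scheme.IdealSheafData.subschemeMap (((J.comap h).comap f) ^ (n + 1))
        ((J.comap h) ^ (n + 1)) f (H n))) ↔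
      ∃ U : Z.Opens, (J.support : Set Z) ⊆ U ∧ P (f ∣_ h ⁻¹ᵁ U) := by
  constructor
  · intro hall
    have hloc := hlocal hall
    let G : Set Y := {y | ∃ D : Y.Opens, y ∈ D ∧ P (f ∣_ D)}
    have hG : IsOpen G := by
      rw [isOpen_iff_forall_mem_open]
      rintro y ⟨D, hyD, hD⟩
      exact ⟨D, fun y' hy' => ⟨D, hy', hD⟩, D.2, hyD⟩
    have hcl : IsClosed (h '' Gᶜ) := h.isClosedMap _ hG.isClosed_compl
    let U : Z.Opens := ⟨(h '' Gᶜ)ᶜ, hcl.isOpen_compl⟩
    refine ⟨U, ?_, ?_⟩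
    · intro z hz
      change z ∉ h '' Gᶜ
      rintro ⟨y, hyG, rfl⟩
      apply hyG
      apply hloc y
      rw [Scheme.IdealSheafData.support_comap]
      exact hz
    · apply restrict_of_forall_exists
      intro y hy
      by_contra hcon
      exact hy ⟨y, hcon, rfl⟩
  · rintro ⟨U, hU, hP⟩ n
    refine level_of_restrict P (J.comap h) f (h ⁻¹ᵁ U) ?_ n (H n) hP
    rw [Scheme.IdealSheafData.support_comap]
    exact fun y hy => hU hy

end Groth.Agent.Lib.Helper12.FNear
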