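import Mathlib
import Groth.Agent.Lib.Helper12.FNearE

/-!
# EGA III 4.6.8: closed immersion / isomorphism of completions iff near the support
-/

set_option autoImplicit false
universe u
open CategoryTheory CategoryTheory.Limits AlgebraicGeometry TopologicalSpace

namespace Groth.Agent.Lib.Helper12.FNear

variable {X Y Z : Scheme.{u}}

theorem finite_fiber (f : X ⟶ Y) (K : Y.IdealSheafData)
    (H0 : K ^ (0 + 1) ≤ ((K.comap f) ^ (0 + 1)).map f)
    (hinj : Function.Injective (Scheme.IdealSheafData.subschemeMap ((K.comap f) ^ (0 + 1))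
      (K ^ (0 + 1)) f H0))
    (y : Y) (hy : y ∈ K.support) : (f ⁻¹' {y}).Finite := by
  apply Set.Subsingleton.finite
  intro x₁ hx₁ x₂ hx₂
  · have hx : ∀ x, f x = y → ∃ x' : ((K.comap f) ^ (0 + 1)).subscheme,
        ((K.comap f) ^ (0 + 1)).subschemeι x' = x := by
      intro x hxy
      have : x ∈ Set.range ((K.comap f) ^ (0 + 1)).subschemeι := by
        rw [Scheme.IdealSheafData.range_subschemeι, Scheme.IdealSheafData.support_pow_succ,
          Scheme.IdealSheafData.support_comap]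
        change f x ∈ K.support
        rw [hxy]; exact hy
      exact this
    obtain ⟨x₁', rfl⟩ := hx x₁ hx₁
    obtain ⟨x₂', rfl⟩ := hx x₂ hx₂
    have hcomm : ∀ x' : ((K.comap f) ^ (0 + 1)).subscheme,
        (K ^ (0 + 1)).subschemeι ((Scheme.IdealSheafData.subschemeMap ((K.comap f) ^ (0 + 1))
          (K ^ (0 + 1)) f H0) x') = f (((K.comap f) ^ (0 + 1)).subschemeι x') := by
      intro x'
      rw [← Scheme.Hom.comp_apply, ← Scheme.Hom.comp_apply,
        Scheme.IdealSheafData.subschemeMap_subschemeι]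
    have h1 : (K ^ (0 + 1)).subschemeι ((Scheme.IdealSheafData.subschemeMap
        ((K.comap f) ^ (0 + 1)) (K ^ (0 + 1)) f H0) x₁') =
        (K ^ (0 + 1)).subschemeι ((Scheme.IdealSheafData.subschemeMap
        ((K.comap f) ^ (0 + 1)) (K ^ (0 + 1)) f H0) x₂') := by
      rw [hcomm, hcomm]
      exact hx₁.trans hx₂.symm
    have h2 := (K ^ (0 + 1)).subschemeι.isEmbedding.injective h1
    rw [hinj h2]

theorem isClosedImmersion_iff (g : X ⟶ Z) (h : Y ⟶ Z) [IsProper g] [IsProper h] (f : X ⟶ Y)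
    (w : f ≫ h = g) (J : Z.IdealSheafData)
    (H : ∀ n : ℕ, (J.comap h) ^ (n + 1) ≤ ((J.comap g) ^ (n + 1)).map f) :
    (∀ n : ℕ, IsClosedImmersion (Scheme.IdealSheafData.subschemeMap ((J.comap g) ^ (n + 1))
        ((J.comap h) ^ (n + 1)) f (H n))) ↔
      ∃ U : Z.Opens, (J.support : Set Z) ⊆ U ∧ IsClosedImmersion (f ∣_ h ⁻¹ᵁ U) := by
  have hf : IsProper f := by
    have : IsProper (f ≫ h) := w ▸ inferInstance
    exact IsProper.of_comp f h
  have key : ∀ (I' : X.IdealSheafData) (_ : I' = (J.comap h).comap f)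
      (H : ∀ n : ℕ, (J.comap h) ^ (n + 1) ≤ (I' ^ (n + 1)).map f),
      (∀ n : ℕ, IsClosedImmersion (Scheme.IdealSheafData.subschemeMap (I' ^ (n + 1))
        ((J.comap h) ^ (n + 1)) f (H n))) ↔
      ∃ U : Z.Opens, (J.support : Set Z) ⊆ U ∧ IsClosedImmersion (f ∣_ h ⁻¹ᵁ U) := by
    rintro _ rfl H
    refine main_iff @IsClosedImmersion h f J H ?_
    intro hall y hy
    have hci : IsClosedImmersion ((((J.comap h).comap f) ^ (0 + 1)).subschemeι ≫ f) := by
      rw [← Scheme.IdealSheafData.subschemeMap_subschemeι _ _ f (H 0)]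
      have := hall 0
      infer_instance
    exact exists_nhd_isClosedImmersion f (J.comap h) hci y hy
      (finite_fiber f (J.comap h) (H 0) (hall 0).isClosedEmbedding.injective y hy)
  exact key _ (by rw [← w, Scheme.IdealSheafData.comap_comp]) H

theorem isIso_iff [IsLocallyNoetherian Z] (g : X ⟶ Z) (h : Y ⟶ Z) [IsProper g] [IsProper h]
    (f : X ⟶ Y) (w : f ≫ h = g) (J : Z.IdealSheafData)
    (H : ∀ n : ℕ, (J.comap h) ^ (n + 1) ≤ ((J.comap g) ^ (n + 1)).map f) :
    (∀ n : ℕ, IsIso (Scheme.IdealSheafData.subschemeMap ((J.comap g) ^ (n + 1))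
        ((J.comap h) ^ (n + 1)) f (H n))) ↔
      ∃ U : Z.Opens, (J.support : Set Z) ⊆ U ∧ IsIso (f ∣_ h ⁻¹ᵁ U) := by
  have hf : IsProper f := by
    have : IsProper (f ≫ h) := w ▸ inferInstance
    exact IsProper.of_comp f h
  have : IsLocallyNoetherian Y := LocallyOfFiniteType.isLocallyNoetherian h
  have key : ∀ (I' : X.IdealSheafData) (_ : I' = (J.comap h).comap f)
      (H : ∀ n : ℕ, (J.comap h) ^ (n + 1) ≤ (I' ^ (n + 1)).map f),
      (∀ n : ℕ, IsIso (Scheme.IdealSheafData.subschemeMap (I' ^ (n + 1))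
        ((J.comap h) ^ (n + 1)) f (H n))) ↔
      ∃ U : Z.Opens, (J.support : Set Z) ⊆ U ∧ IsIso (f ∣_ h ⁻¹ᵁ U) := by
    rintro _ rfl H
    refine main_iff (MorphismProperty.isomorphisms Scheme.{u}) h f J H ?_
    intro hall y hy
    have hall' : ∀ n, IsIso (Scheme.IdealSheafData.subschemeMap
        (((J.comap h).comap f) ^ (n + 1)) ((J.comap h) ^ (n + 1)) f (H n)) := hall
    have hci : IsClosedImmersion ((((J.comap h).comap f) ^ (0 + 1)).subschemeι ≫ f) := by
      rw [← Scheme.IdealSheafData.subschemeMap_subschemeι _ _ f (H 0)]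
      have := hall' 0
      infer_instance
    have hmap : ∀ n : ℕ, (((J.comap h).comap f) ^ (n + 1)).map f = (J.comap h) ^ (n + 1) := by
      intro n
      have := hall' n
      change ((((J.comap h).comap f) ^ (n + 1)).subschemeι ≫ f).ker = _
      rw [← Scheme.IdealSheafData.subschemeMap_subschemeι _ _ f (H n),
        Scheme.Hom.ker_comp_of_isIso, Scheme.IdealSheafData.ker_subschemeι]
    have hinj : Function.Injective (Scheme.IdealSheafData.subschemeMap
        (((J.comap h).comap f) ^ (0 + 1)) ((J.comap h) ^ (0 + 1)) f (H 0)) := by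
      have := hall' 0
      exact (Scheme.Hom.isClosedEmbedding _).injective
    obtain ⟨D, hyD, hD⟩ := exists_nhd_isIso f (J.comap h) hci hmap y hy
      (finite_fiber f (J.comap h) (H 0) hinj y hy)
    exact ⟨D, hyD, hD⟩
  exact key _ (by rw [← w, Scheme.IdealSheafData.comap_comp]) H

end Groth.Agent.Lib.Helper12.FNear
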