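import Mathlib
import Groth.Agent.Lib.Helper12.PairDirectLimit

/-!
# Maps from finitely presented algebras into direct limits
-/

set_option autoImplicit false
universe u v w

namespace Groth.Agent.Lib.Helper12

namespace FPDirectLimit

/-- Common stage for finitely many monotone conditions in a directed order. -/
theorem exists_common_of_finset {α : Type*} {κ : Type*} [Preorder κ] [IsDirectedOrder κ]
    [Nonempty κ] (s : Finset α) (P : α → κ → Prop)
    (mono : ∀ x a b, a ≤ b → P x a → P x b) (h : ∀ x ∈ s, ∃ a, P x a) (a₀ : κ) :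
    ∃ a, a₀ ≤ a ∧ ∀ x ∈ s, P x a := by
  classical
  induction s using Finset.induction_on with
  | empty => exact ⟨a₀, le_rfl, fun x hx => absurd hx (Finset.notMem_empty x)⟩
  | insert y s hy ih =>
    obtain ⟨a, ha₀, ha⟩ := ih (fun x hx => h x (Finset.mem_insert_of_mem hx))
    obtain ⟨b, hb⟩ := h y (Finset.mem_insert_self y s)
    obtain ⟨c, hac, hbc⟩ := exists_ge_ge a b
    refine ⟨c, ha₀.trans hac, fun x hx => ?_⟩
    rcases Finset.mem_insert.mp hx with rfl | hx
    · exact mono _ b c hbc hb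
    · exact mono x a c hac (ha x hx)

variable {A : Type u} [CommRing A] {κ : Type v} [Preorder κ] [IsDirectedOrder κ] [Nonempty κ]
  (Ra : κ → Type w) [∀ a, CommRing (Ra a)] [∀ a, Algebra A (Ra a)]
  (t : ∀ a b : κ, a ≤ b → (Ra a →+* Ra b)) [DirectedSystem Ra (fun a b h => t a b h)]
  (ht : ∀ (a b : κ) (h : a ≤ b), (t a b h).comp (algebraMap A (Ra a)) = algebraMap A (Ra b))
  [Algebra A (DirectLimit Ra t)]
  (halg : ∀ (a : κ) (x : A), algebraMap A (DirectLimit Ra t) x =
      DirectLimit.Ring.of Ra t a (algebraMap A (Ra a) x))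

/-- The transition maps as algebra maps. -/
noncomputable def tAlg (a b : κ) (h : a ≤ b) : Ra a →ₐ[A] Ra b :=
  { t a b h with commutes' := fun x => RingHom.congr_fun (ht a b h) x }

/-- The canonical maps as algebra maps. -/
noncomputable def ofAlg (a : κ) : Ra a →ₐ[A] DirectLimit Ra t :=
  { DirectLimit.Ring.of Ra t a with commutes' := fun x => (halg a x).symm }

include ht halg in
theorem exists_algHom_of_finitePresentation {R₀ : Type*} [CommRing R₀] [Algebra A R₀]
    [Algebra.FinitePresentation A R₀] (χ : R₀ →ₐ[A] DirectLimit Ra t) :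
    ∃ (a : κ) (φ : R₀ →ₐ[A] Ra a), ∀ x : R₀, DirectLimit.Ring.of Ra t a (φ x) = χ x := by
  classical
  obtain ⟨n, π, hπ, hker⟩ := Algebra.FinitePresentation.out (R := A) (A := R₀)
  obtain ⟨s, hs⟩ := hker
  -- lift the images of the variables to a common stage
  obtain ⟨a₀, -, ha₀⟩ := exists_common_of_finset (Finset.univ : Finset (Fin n))
    (fun i a => ∃ y : Ra a, DirectLimit.Ring.of Ra t a y = χ (π (MvPolynomial.X i)))
    (fun i a b hab ⟨y, hy⟩ => ⟨t a b hab y, by rw [DirectLimit.Ring.of_f, hy]⟩)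
    (fun i _ => PairDirectLimit.exists_of Ra t _) (Classical.arbitrary κ)
  choose y hy using fun i => ha₀ i (Finset.mem_univ i)
  let g₀ : MvPolynomial (Fin n) A →ₐ[A] Ra a₀ := MvPolynomial.aeval y
  have hg₀ : ∀ p, DirectLimit.Ring.of Ra t a₀ (g₀ p) = χ (π p) := by
    intro p
    have : ((ofAlg Ra t halg a₀).comp g₀) = χ.comp π := by
      apply MvPolynomial.algHom_ext
      intro i
      show DirectLimit.Ring.of Ra t a₀ (MvPolynomial.aeval y (MvPolynomial.X i)) = _
      rw [MvPolynomial.aeval_X, hy]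
      rfl
    exact AlgHom.congr_fun this p
  -- kill the relations at a later stage
  obtain ⟨b, hab, hb⟩ := exists_common_of_finset s
    (fun r c => ∃ h : a₀ ≤ c, t a₀ c h (g₀ r) = 0)
    (fun r c d hcd ⟨h, hr⟩ => ⟨h.trans hcd, by
      rw [← DirectedSystem.map_map' (f := t) h hcd, hr, map_zero]⟩)
    (fun r hr => by
      have h0 : DirectLimit.Ring.of Ra t a₀ (g₀ r) = 0 := by
        rw [hg₀]
        have : r ∈ RingHom.ker π.toRingHom := by
          rw [← hs]
          exact Ideal.subset_span hr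
        rw [RingHom.mem_ker] at this
        have h' : π r = 0 := this
        rw [h', map_zero]
      exact (PairDirectLimit.of_eq_zero_iff Ra t _).mp h0) a₀
  let g : MvPolynomial (Fin n) A →ₐ[A] Ra b := (tAlg Ra t ht a₀ b hab).comp g₀
  have hgker : RingHom.ker π.toRingHom ≤ RingHom.ker g.toRingHom := by
    rw [← hs, Ideal.span_le]
    intro r hr
    obtain ⟨h, hr0⟩ := hb r hr
    exact hr0
  refine ⟨b, AlgHom.liftOfSurjective π hπ g hgker, ?_⟩
  intro x
  obtain ⟨p, rfl⟩ := hπ x
  rw [AlgHom.liftOfSurjective_apply]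
  show DirectLimit.Ring.of Ra t b (t a₀ b hab (g₀ p)) = _
  rw [DirectLimit.Ring.of_f, hg₀]

include ht in
theorem exists_eq_of_finiteType {R₀ : Type*} [CommRing R₀] [Algebra A R₀]
    [Algebra.FiniteType A R₀] (a : κ) (φ ψ : R₀ →ₐ[A] Ra a)
    (h : ∀ x : R₀, DirectLimit.Ring.of Ra t a (φ x) = DirectLimit.Ring.of Ra t a (ψ x)) :
    ∃ (b : κ) (hab : a ≤ b), ∀ x : R₀, t a b hab (φ x) = t a b hab (ψ x) := by
  classical
  obtain ⟨s, hs⟩ := (Algebra.FiniteType.out (R := A) (A := R₀))
  obtain ⟨b, hab, hb⟩ := exists_common_of_finset s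
    (fun r c => ∃ h : a ≤ c, t a c h (φ r) = t a c h (ψ r))
    (fun r c d hcd ⟨h, hr⟩ => ⟨h.trans hcd, by
      rw [← DirectedSystem.map_map' (f := t) h hcd, hr, DirectedSystem.map_map' (f := t)]⟩)
    (fun r _ => by
      obtain ⟨k, h1, h2, hk⟩ := (PairDirectLimit.of_eq_of_iff Ra t _ _).mp (h r)
      exact ⟨k, h1, hk⟩) a
  refine ⟨b, hab, ?_⟩
  have : (tAlg Ra t ht a b hab).comp φ = (tAlg Ra t ht a b hab).comp ψ := by
    apply AlgHom.ext_of_adjoin_eq_top hs
    intro r hr
    obtain ⟨h', hr'⟩ := hb r hr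
    exact hr'
  intro x
  exact AlgHom.congr_fun this x

end FPDirectLimit

end Groth.Agent.Lib.Helper12
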