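import Mathlib
import Groth.Agent.Lib.Helper12.FlatDirected
import Groth.Agent.Lib.Helper12.PairRingDirectLimit

/-!
# Direct limits of faithfully flat algebras are faithfully flat
-/

set_option autoImplicit false
universe u

namespace Groth.Agent.Lib.Helper12

open Ring.DirectLimit

theorem faithfullyFlat_ringDirectLimit {R : Type u} [CommRing R] {ι : Type u} [Preorder ι]
    [Nonempty ι] [IsDirected ι (· ≤ ·)] (G : ι → Type u) [∀ i, CommRing (G i)]
    [∀ i, Algebra R (G i)] (f : ∀ i j, i ≤ j → G i →+* G j)
    [DirectedSystem G fun i j h => f i j h]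
    (hcompat : ∀ i j (h : i ≤ j), (f i j h).comp (algebraMap R (G i)) = algebraMap R (G j))
    (hff : ∀ i, Module.FaithfullyFlat R (G i)) (i : ι) :
    ((Ring.DirectLimit.of G (fun i j h => f i j h) i).comp (algebraMap R (G i))).FaithfullyFlat := by
  classical
  letI alg : Algebra R (Ring.DirectLimit G (fun i j h => f i j h)) :=
    ((Ring.DirectLimit.of G (fun i j h => f i j h) i).comp (algebraMap R (G i))).toAlgebra
  show Module.FaithfullyFlat R (Ring.DirectLimit G (fun i j h => f i j h))
  have halg : ∀ (j : ι) (r : R), algebraMap R (Ring.DirectLimit G (fun i j h => f i j h)) r =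
      Ring.DirectLimit.of G (fun i j h => f i j h) j (algebraMap R (G j) r) := by
    intro j r
    obtain ⟨k, hik, hjk⟩ := exists_ge_ge i j
    show Ring.DirectLimit.of G (fun i j h => f i j h) i (algebraMap R (G i) r) = _
    rw [← Ring.DirectLimit.of_f hik, ← Ring.DirectLimit.of_f hjk]
    have h1 := RingHom.congr_fun (hcompat i k hik) r
    have h2 := RingHom.congr_fun (hcompat j k hjk) r
    simp only [RingHom.comp_apply] at h1 h2
    rw [h1, h2]
  let t : ∀ a b, a ≤ b → G a →ₐ[R] G b := fun a b h =>
    { f a b h with commutes' := fun r => RingHom.congr_fun (hcompat a b h) r }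
  let o : ∀ a, G a →ₐ[R] Ring.DirectLimit G (fun i j h => f i j h) := fun a =>
    { Ring.DirectLimit.of G (fun i j h => f i j h) a with
      commutes' := fun r => (halg a r).symm }
  haveI hflat : Module.Flat R (Ring.DirectLimit G (fun i j h => f i j h)) :=
    flat_of_directed_system G t o
      (fun a b h x => Ring.DirectLimit.of_f h x)
      (fun x => by
        obtain ⟨a, y, rfl⟩ := Ring.DirectLimit.exists_of x
        exact ⟨a, y, rfl⟩)
      (fun a y hy => Ring.DirectLimit.of.zero_exact hy)
  refine ⟨fun m hm htop => ?_⟩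
  -- the extended ideals
  let K : ∀ j, Ideal (G j) := fun j => m.map (algebraMap R (G j))
  have hK : ∀ (a b : ι) (h : a ≤ b), (K a).map (f a b h) ≤ K b := by
    intro a b h
    show (m.map (algebraMap R (G a))).map (f a b h) ≤ m.map (algebraMap R (G b))
    rw [Ideal.map_map, hcompat a b h]
  have hKne : ∀ j, K j ≠ ⊤ := by
    intro j hj
    have h1 := (hff j).submodule_ne_top hm
    apply h1
    rw [Ideal.smul_top_eq_map]
    show (m.map (algebraMap R (G j))).restrictScalars R = ⊤
    rw [show m.map (algebraMap R (G j)) = ⊤ from hj]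
    rfl
  have hmap : m.map (algebraMap R (Ring.DirectLimit G (fun i j h => f i j h))) = ⊤ := by
    rw [Ideal.smul_top_eq_map] at htop
    rw [eq_top_iff]
    intro x _
    have : x ∈ (m.map (algebraMap R (Ring.DirectLimit G (fun i j h => f i j h)))).restrictScalars R := by
      rw [htop]
      exact Submodule.mem_top
    exact this
  have h1 : (1 : Ring.DirectLimit G (fun i j h => f i j h)) ∈
      PairRingDirectLimit.limIdeal G f K := by
    have hle : m.map (algebraMap R (Ring.DirectLimit G (fun i j h => f i j h))) ≤
        PairRingDirectLimit.limIdeal G f K := by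
      rw [Ideal.map_le_iff_le_comap]
      intro r hr
      rw [Ideal.mem_comap, halg i r]
      exact (le_iSup (fun j => (K j).map (Ring.DirectLimit.of G (fun i j h => f i j h) j)) i)
        (Ideal.mem_map_of_mem _ (Ideal.mem_map_of_mem _ hr))
    apply hle
    rw [hmap]
    exact Submodule.mem_top
  obtain ⟨a, y, hy, hy1⟩ := (PairRingDirectLimit.mem_limIdeal_iff G f K hK _).mp h1
  have h2 : Ring.DirectLimit.of G (fun i j h => f i j h) a (y - 1) = 0 := by
    rw [map_sub, hy1, map_one, sub_self]
  obtain ⟨b, hab, hb⟩ := Ring.DirectLimit.of.zero_exact h2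
  have hb' : f a b hab y = 1 := by
    have : f a b hab (y - 1) = 0 := hb
    rwa [map_sub, map_one, sub_eq_zero] at this
  apply hKne b
  rw [Ideal.eq_top_iff_one, ← hb']
  exact hK a b hab (Ideal.mem_map_of_mem _ hy)

end Groth.Agent.Lib.Helper12
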