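import Mathlib

/-!
# Flatness and reduced fibres over an Artinian local base: the local filtration argument
-/

set_option autoImplicit false
universe u

namespace Groth.Agent.Lib.Helper12.FamFlat

open IsLocalRing TensorProduct

section cover

variable {A : Type u} [CommRing A] [IsLocalRing A] [IsArtinianRing A]

/-- Every nonzero ideal of an Artinian local ring covers an ideal with simple quotient. -/
theorem exists_cover (I : Ideal A) (hI : I ≠ ⊥) :
    ∃ (I' : Ideal A) (a : A), I' < I ∧ a ∈ I ∧ a ∉ I' ∧ I = I' ⊔ Ideal.span {a} ∧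
      ∀ r ∈ maximalIdeal A, r * a ∈ I' := by
  have hmin : ¬ IsMin I := by
    rw [isMin_iff_eq_bot]; exact hI
  obtain ⟨I', hcov⟩ := exists_covBy_of_wellFoundedGT hmin
  obtain ⟨a, haI, haI'⟩ := SetLike.exists_of_lt hcov.lt
  have hle : I' ⊔ Ideal.span {a} ≤ I :=
    sup_le hcov.le ((Ideal.span_singleton_le_iff_mem _).2 haI)
  have hsup : I = I' ⊔ Ideal.span {a} := by
    rcases hcov.eq_or_eq le_sup_left hle with h | h
    · exfalso
      apply haI'
      rw [← h]
      exact Ideal.mem_sup_right (Ideal.mem_span_singleton_self a)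
    · exact h.symm
  refine ⟨I', a, hcov.lt, haI, haI', hsup, ?_⟩
  intro r hr
  by_contra hra
  have hle2 : I' ⊔ Ideal.span {r * a} ≤ I :=
    sup_le hcov.le ((Ideal.span_singleton_le_iff_mem _).2 (I.mul_mem_left r haI))
  rcases hcov.eq_or_eq le_sup_left hle2 with h | h
  · apply hra
    rw [← h]
    exact Ideal.mem_sup_right (Ideal.mem_span_singleton_self _)
  · have haa : a ∈ I' ⊔ Ideal.span {r * a} := by rw [h]; exact haI
    obtain ⟨i', hi', w, hw, hsum⟩ := Submodule.mem_sup.1 haa
    obtain ⟨t, rfl⟩ := Ideal.mem_span_singleton'.1 hw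
    have hu : IsUnit (1 - t * r) := by
      have : t * r ∈ maximalIdeal A := Ideal.mul_mem_left _ _ hr
      have h1 := IsLocalRing.isUnit_or_isUnit_one_sub_self (t * r)
      rcases h1 with h1 | h1
      · exact absurd h1 ((IsLocalRing.mem_maximalIdeal _).1 this)
      · exact h1
    obtain ⟨v, hv⟩ := hu
    have : a = (v⁻¹ : Aˣ) * i' := by
      have h2 : (v : A) * a = i' := by rw [hv]; linear_combination -hsum
      rw [← h2, ← mul_assoc, Units.inv_mul, one_mul]
    exact haI' (this ▸ I'.mul_mem_left _ hi')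

end cover

section power

variable {F : Type u} [CommRing F] [IsLocalRing F] [IsNoetherianRing F]

/-- An ideal contained in no prime other than the maximal ideal contains a power of it. -/
theorem exists_pow_le (𝔠 : Ideal F)
    (h : ∀ Q : Ideal F, Q.IsPrime → Q ≠ maximalIdeal F → ¬ 𝔠 ≤ Q) :
    ∃ k : ℕ, maximalIdeal F ^ k ≤ 𝔠 := by
  apply Ideal.exists_pow_le_of_le_radical_of_fg_radical
  · rw [Ideal.radical_eq_sInf]
    apply le_sInf
    rintro Q ⟨hcQ, hQ⟩
    by_cases hQn : Q = maximalIdeal F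
    · rw [hQn]
    · exact absurd hcQ (h Q hQ hQn)
  · exact IsNoetherian.noetherian _

end power


section localArg

variable (A : Type u) [CommRing A] [IsLocalRing A]
  (F : Type u) [CommRing F] [IsLocalRing F] [Algebra A F]

/-- The hypotheses of the local statement. -/
structure Hyp (x y : F) : Prop where
  hx : x ∈ maximalIdeal F
  hy : y ∈ maximalIdeal F
  hxreg : ∀ u : F, x * u = 0 → u = 0
  hxJ : ∀ u : F, x * u ∈ nilradical F → u ∈ nilradical F
  hyJ : ∀ u : F, y * u ∈ Ideal.span {x} ⊔ nilradical F → u ∈ Ideal.span {x} ⊔ nilradical F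
  hN : ∀ ν ∈ nilradical F, ∀ Q : Ideal F, Q.IsPrime → Q ≠ maximalIdeal F →
      ∃ s, s ∉ Q ∧ s * ν ∈ (maximalIdeal A).map (algebraMap A F)
  hK : ∀ (I' : Ideal A) (a : A), a ∉ I' → (∀ r ∈ maximalIdeal A, r * a ∈ I') → ∀ c : F,
      algebraMap A F a * c ∈ I'.map (algebraMap A F) →
      ∀ Q : Ideal F, Q.IsPrime → Q ≠ maximalIdeal F →
      ∃ s, s ∉ Q ∧ s * c ∈ (maximalIdeal A).map (algebraMap A F)

variable {A F}

/-- `[x, y]` is a regular sequence on the ideal `𝔐` (as a module). -/
def Reg2 (x y : F) (𝔐 : Ideal F) : Prop :=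
  ∀ μ ∈ 𝔐, ∀ v ∈ 𝔐, y * μ = x * v → ∃ μ' ∈ 𝔐, μ = x * μ'

variable [IsArtinianRing A] [IsNoetherianRing F] {x y : F}

theorem map_max_le_nilradical :
    (maximalIdeal A).map (algebraMap A F) ≤ nilradical F := by
  have hnil : IsNilpotent (maximalIdeal A) := by
    have := IsArtinianRing.isNilpotent_jacobson_bot (R := A)
    rwa [IsLocalRing.jacobson_eq_maximalIdeal ⊥ bot_ne_top] at this
  obtain ⟨k, hk⟩ := hnil
  intro f hf
  rw [mem_nilradical]
  refine ⟨k, ?_⟩
  have h1 : f ^ k ∈ ((maximalIdeal A).map (algebraMap A F)) ^ k := Ideal.pow_mem_pow hf k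
  rw [← Ideal.map_pow, hk, Ideal.zero_eq_bot, Ideal.map_bot] at h1
  exact h1

theorem pow_colon (c : F)
    (h : ∀ Q : Ideal F, Q.IsPrime → Q ≠ maximalIdeal F →
      ∃ s, s ∉ Q ∧ s * c ∈ (maximalIdeal A).map (algebraMap A F)) :
    ∃ k : ℕ, ∀ z ∈ maximalIdeal F ^ k, z * c ∈ (maximalIdeal A).map (algebraMap A F) := by
  obtain ⟨k, hk⟩ := exists_pow_le
    (((maximalIdeal A).map (algebraMap A F) : Submodule F F).colon {c}) (by
      intro Q hQ hQn hle
      obtain ⟨s, hsQ, hs⟩ := h Q hQ hQn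
      exact hsQ (hle (Submodule.mem_colon_singleton.2 hs)))
  refine ⟨k, fun z hz => ?_⟩
  exact Submodule.mem_colon_singleton.1 (hk hz)

theorem mem_of_socle (H : Hyp A F x y) (𝔐 : Ideal F) (h2 : Reg2 x y 𝔐) (w : F)
    (hw : ∀ z ∈ maximalIdeal F, z * w ∈ 𝔐) : w ∈ 𝔐 := by
  obtain ⟨μ', hμ', he⟩ := h2 (x * w) (hw x H.hx) (y * w) (hw y H.hy) (by ring)
  have : w - μ' = 0 := H.hxreg _ (by rw [mul_sub, he, sub_self])
  rw [sub_eq_zero.1 this]
  exact hμ'

theorem mem_of_pow (H : Hyp A F x y) (𝔐 : Ideal F) (h2 : Reg2 x y 𝔐) :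
    ∀ (k : ℕ) (w : F), (∀ z ∈ maximalIdeal F ^ k, z * w ∈ 𝔐) → w ∈ 𝔐 := by
  intro k
  induction k with
  | zero =>
    intro w hw
    have := hw 1 (by rw [pow_zero, Ideal.one_eq_top]; exact Submodule.mem_top)
    rwa [one_mul] at this
  | succ k ih =>
    intro w hw
    apply ih w
    intro z hz
    apply mem_of_socle H 𝔐 h2
    intro z' hz'
    have : z * z' ∈ maximalIdeal F ^ (k + 1) := by
      rw [pow_succ]; exact Ideal.mul_mem_mul hz hz'
    have h3 := hw _ this
    have e : z' * (z * w) = z * z' * w := by ring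
    rw [e]; exact h3

theorem nil_of_pow (H : Hyp A F x y) : ∀ (k : ℕ) (c : F), x ^ k * c ∈ nilradical F →
    c ∈ nilradical F := by
  intro k
  induction k with
  | zero => intro c hc; simpa using hc
  | succ k ih =>
    intro c hc
    apply ih c
    apply H.hxJ
    have e : x * (x ^ k * c) = x ^ (k + 1) * c := by ring
    rw [e]; exact hc

theorem map_mul_mem (I' : Ideal A) (a : A) (hma : ∀ r ∈ maximalIdeal A, r * a ∈ I') (f : F)
    (hf : f ∈ (maximalIdeal A).map (algebraMap A F)) :
    algebraMap A F a * f ∈ I'.map (algebraMap A F) := by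
  have h1 : algebraMap A F a * f ∈
      (Ideal.span {a}).map (algebraMap A F) * (maximalIdeal A).map (algebraMap A F) :=
    Ideal.mul_mem_mul (Ideal.mem_map_of_mem _ (Ideal.mem_span_singleton_self a)) hf
  rw [← Ideal.map_mul] at h1
  refine Ideal.map_mono ?_ h1
  rw [Ideal.mul_le]
  intro r hr s hs
  obtain ⟨t, rfl⟩ := Ideal.mem_span_singleton'.1 hr
  have := I'.mul_mem_left t (hma s hs)
  have e : t * a * s = t * (s * a) := by ring
  rw [e]; exact this

theorem step (H : Hyp A F x y) (I' : Ideal A) (a : A) (haI' : a ∉ I')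
    (hma : ∀ r ∈ maximalIdeal A, r * a ∈ I') (h2 : Reg2 x y (I'.map (algebraMap A F))) :
    (∀ c : F, algebraMap A F a * c ∈ I'.map (algebraMap A F) ↔ c ∈ nilradical F) ∧
      Reg2 x y ((I' ⊔ Ideal.span {a}).map (algebraMap A F)) := by
  have hA : ∀ c : F, algebraMap A F a * c ∈ I'.map (algebraMap A F) ↔ c ∈ nilradical F := by
    intro c
    constructor
    · intro hc
      obtain ⟨k, hk⟩ := pow_colon (A := A) c (H.hK I' a haI' hma c hc)
      apply nil_of_pow H k
      exact map_max_le_nilradical (hk _ (Ideal.pow_mem_pow H.hx k))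
    · intro hc
      obtain ⟨k, hk⟩ := pow_colon (A := A) c (H.hN c hc)
      apply mem_of_pow H _ h2 k
      intro z hz
      have e : z * (algebraMap A F a * c) = algebraMap A F a * (z * c) := by ring
      rw [e]
      exact map_mul_mem I' a hma _ (hk z hz)
  refine ⟨hA, ?_⟩
  have hmap : (I' ⊔ Ideal.span {a}).map (algebraMap A F) =
      I'.map (algebraMap A F) ⊔ Ideal.span {algebraMap A F a} := by
    rw [Ideal.map_sup, Ideal.map_span, Set.image_singleton]
  rw [hmap]
  intro μ hμ v hv hyx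
  obtain ⟨u', hu', w, hw, rfl⟩ := Submodule.mem_sup.1 hμ
  obtain ⟨c, rfl⟩ := Ideal.mem_span_singleton'.1 hw
  obtain ⟨v', hv', w', hw', rfl⟩ := Submodule.mem_sup.1 hv
  obtain ⟨d, rfl⟩ := Ideal.mem_span_singleton'.1 hw'
  -- a (y c - x d) ∈ e I'
  have h3 : algebraMap A F a * (y * c - x * d) ∈ I'.map (algebraMap A F) := by
    have e : algebraMap A F a * (y * c - x * d) = x * v' - y * u' := by
      linear_combination hyx
    rw [e]
    exact Ideal.sub_mem _ (Ideal.mul_mem_left _ _ hv') (Ideal.mul_mem_left _ _ hu')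
  have h4 : y * c - x * d ∈ nilradical F := (hA _).1 h3
  have h5 : y * c ∈ Ideal.span {x} ⊔ nilradical F := by
    have e : y * c = x * d + (y * c - x * d) := by ring
    rw [e]
    exact Submodule.add_mem_sup (Ideal.mul_mem_right _ _ (Ideal.mem_span_singleton_self x)) h4
  obtain ⟨w'', hw'', j₁, hj₁, hc⟩ := Submodule.mem_sup.1 (H.hyJ c h5)
  obtain ⟨c', rfl⟩ := Ideal.mem_span_singleton'.1 hw''
  have h6 : y * c' - d ∈ nilradical F := by
    apply H.hxJ
    have e : x * (y * c' - d) = (y * c - x * d) - y * j₁ := by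
      rw [← hc]; ring
    rw [e]
    exact Ideal.sub_mem _ h4 (Ideal.mul_mem_left _ _ hj₁)
  have h7 : algebraMap A F a * (y * c' - d) ∈ I'.map (algebraMap A F) := (hA _).2 h6
  have h8 : algebraMap A F a * j₁ ∈ I'.map (algebraMap A F) := (hA _).2 hj₁
  obtain ⟨u''', hu''', hu⟩ := h2 (algebraMap A F a * j₁ + u') (Ideal.add_mem _ h8 hu')
    (v' - algebraMap A F a * (y * c' - d)) (Ideal.sub_mem _ hv' h7) (by
      rw [← hc] at hyx
      linear_combination hyx)
  refine ⟨algebraMap A F a * c' + u''', ?_, ?_⟩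
  · exact Ideal.add_mem _
      (Ideal.mem_sup_right (Ideal.mul_mem_right _ _ (Ideal.mem_span_singleton_self _)))
      (Ideal.mem_sup_left hu''')
  · rw [← hc]
    linear_combination hu

theorem reg2_all (H : Hyp A F x y) : ∀ I : Ideal A, Reg2 x y (I.map (algebraMap A F)) := by
  intro I
  induction I using IsArtinian.induction with
  | _ I IH =>
    by_cases hI : I = ⊥
    · rw [hI, Ideal.map_bot]
      intro μ hμ v hv _
      rw [Ideal.mem_bot] at hμ
      exact ⟨0, Ideal.zero_mem _, by rw [hμ, mul_zero]⟩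
    · obtain ⟨I', a, hlt, haI, haI', hsup, hma⟩ := exists_cover I hI
      rw [hsup]
      exact (step H I' a haI' hma (IH I' hlt)).2

theorem nilradical_eq (H : Hyp A F x y) :
    nilradical F = (maximalIdeal A).map (algebraMap A F) := by
  have h1 : (1 : A) ∉ maximalIdeal A := fun h =>
    (IsLocalRing.maximalIdeal.isMaximal A).ne_top ((Ideal.eq_top_iff_one _).2 h)
  have hA := (step H (maximalIdeal A) 1 h1 (fun r hr => by rwa [mul_one])
    (reg2_all H _)).1
  ext c
  rw [← hA c, map_one, one_mul]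


/-- The multiplication map `I ⊗ F → F`. -/
noncomputable def psi (I : Ideal A) : I ⊗[A] F →ₗ[A] F :=
  TensorProduct.lift ((LinearMap.lsmul A F).comp I.subtype)

omit [IsLocalRing A] [IsLocalRing F] [IsArtinianRing A] [IsNoetherianRing F] in
@[simp] theorem psi_tmul (I : Ideal A) (i : I) (f : F) : psi (F := F) I (i ⊗ₜ f) = (i : A) • f := by
  simp [psi]

omit [IsLocalRing A] [IsLocalRing F] [IsArtinianRing A] [IsNoetherianRing F] in
theorem psi_mem (I : Ideal A) (ξ : I ⊗[A] F) : psi I ξ ∈ I.map (algebraMap A F) := by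
  induction ξ with
  | zero => rw [map_zero]; exact Ideal.zero_mem _
  | tmul i f =>
    rw [psi_tmul, Algebra.smul_def]
    exact Ideal.mul_mem_right _ _ (Ideal.mem_map_of_mem _ i.2)
  | add a b ha hb => rw [map_add]; exact Ideal.add_mem _ ha hb

omit [IsLocalRing A] [IsLocalRing F] [IsArtinianRing A] [IsNoetherianRing F] in
theorem psi_comp {I' I : Ideal A} (hle : I' ≤ I) (ξ : I' ⊗[A] F) :
    psi I ((Submodule.inclusion hle).rTensor F ξ) = psi I' ξ := by
  induction ξ with
  | zero => simp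
  | tmul i f => simp
  | add a b ha hb => simp only [map_add, ha, hb]

theorem psi_injective (H : Hyp A F x y) : ∀ I : Ideal A, Function.Injective (psi (F := F) I) := by
  intro I
  induction I using IsArtinian.induction with
  | _ I IH =>
    by_cases hI : I = ⊥
    · subst hI
      intro ξ₁ ξ₂ _
      haveI : Subsingleton ((⊥ : Ideal A) ⊗[A] F) := by
        haveI : Subsingleton (⊥ : Ideal A) := ⟨fun a b => Subtype.ext (by
          rw [(Submodule.mem_bot A).1 a.2, (Submodule.mem_bot A).1 b.2])⟩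
        infer_instance
      exact Subsingleton.elim _ _
    · obtain ⟨I', a, hlt, haI, haI', hsup, hma⟩ := exists_cover I hI
      subst hsup
      have hle : I' ≤ I' ⊔ Ideal.span {a} := le_sup_left
      let ι : I' ⊗[A] F →ₗ[A] (I' ⊔ Ideal.span {a} : Ideal A) ⊗[A] F :=
        (Submodule.inclusion hle).rTensor F
      let aI : (I' ⊔ Ideal.span {a} : Ideal A) := ⟨a, haI⟩
      have hA := (step H I' a haI' hma (reg2_all H I')).1
      -- decomposition
      have hdec : ∀ ξ : (I' ⊔ Ideal.span {a} : Ideal A) ⊗[A] F,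
          ∃ (ξ' : I' ⊗[A] F) (f : F), ξ = ι ξ' + aI ⊗ₜ[A] f := by
        intro ξ
        induction ξ with
        | zero => exact ⟨0, 0, by simp⟩
        | tmul i f =>
          obtain ⟨i', hi', w, hw, hiw⟩ := Submodule.mem_sup.1 i.2
          obtain ⟨t, rfl⟩ := Ideal.mem_span_singleton'.1 hw
          refine ⟨(⟨i', hi'⟩ : I') ⊗ₜ[A] f, t • f, ?_⟩
          have hi : i = Submodule.inclusion hle ⟨i', hi'⟩ + t • aI := by
            apply Subtype.ext
            simp only [Submodule.coe_add, Submodule.coe_inclusion, Submodule.coe_smul, smul_eq_mul,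
              aI]
            exact hiw.symm
          rw [hi, TensorProduct.add_tmul, TensorProduct.smul_tmul]
          rfl
        | add ξ₁ ξ₂ h₁ h₂ =>
          obtain ⟨ξ₁', f₁, e₁⟩ := h₁
          obtain ⟨ξ₂', f₂, e₂⟩ := h₂
          refine ⟨ξ₁' + ξ₂', f₁ + f₂, ?_⟩
          rw [e₁, e₂, map_add, TensorProduct.tmul_add]
          abel
      -- absorbing `aI ⊗ f` for `f ∈ mF`
      have habs : ∀ f ∈ (maximalIdeal A).map (algebraMap A F), ∃ η : I' ⊗[A] F,
          aI ⊗ₜ[A] f = ι η := by
        intro f hf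
        refine Submodule.span_induction (p := fun f _ => ∃ η : I' ⊗[A] F, aI ⊗ₜ[A] f = ι η)
          ?_ ?_ ?_ ?_ hf
        · rintro _ ⟨r, hr, rfl⟩
          refine ⟨(⟨r * a, hma r hr⟩ : I') ⊗ₜ[A] (1 : F), ?_⟩
          rw [Algebra.algebraMap_eq_smul_one, ← TensorProduct.smul_tmul]
          rfl
        · exact ⟨0, by simp⟩
        · rintro f₁ f₂ _ _ ⟨η₁, e₁⟩ ⟨η₂, e₂⟩
          exact ⟨η₁ + η₂, by rw [TensorProduct.tmul_add, e₁, e₂, map_add]⟩
        · rintro g f _ ⟨η, e⟩
          refine ⟨(LinearMap.mulLeft A g).lTensor I' η, ?_⟩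
          have h1 : aI ⊗ₜ[A] (g • f) =
              (LinearMap.mulLeft A g).lTensor (I' ⊔ Ideal.span {a} : Ideal A) (aI ⊗ₜ[A] f) := by
            simp
          rw [h1, e]
          change ((LinearMap.mulLeft A g).lTensor _ ∘ₗ (Submodule.inclusion hle).rTensor F) η =
            ((Submodule.inclusion hle).rTensor F ∘ₗ (LinearMap.mulLeft A g).lTensor _) η
          rw [LinearMap.lTensor_comp_rTensor, LinearMap.rTensor_comp_lTensor]
      rw [injective_iff_map_eq_zero]
      intro ξ hξ
      obtain ⟨ξ', f, rfl⟩ := hdec ξ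
      have h1 : psi (I' ⊔ Ideal.span {a}) (ι ξ') = psi I' ξ' := psi_comp hle ξ'
      rw [map_add, h1, psi_tmul] at hξ
      have h2 : algebraMap A F a * f ∈ I'.map (algebraMap A F) := by
        have e : algebraMap A F a * f = -(psi I' ξ') := by
          rw [← Algebra.smul_def]
          exact (neg_eq_of_add_eq_zero_right hξ).symm
        rw [e]
        exact Ideal.neg_mem_iff _ |>.2 (psi_mem I' ξ')
      have h3 : f ∈ (maximalIdeal A).map (algebraMap A F) := by
        rw [← nilradical_eq H]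
        exact (hA f).1 h2
      obtain ⟨η, hη⟩ := habs f h3
      rw [hη, ← map_add]
      have h4 : psi I' (ξ' + η) = 0 := by
        rw [← psi_comp hle, map_add, ← hη, map_add, h1, psi_tmul]
        exact hξ
      rw [(injective_iff_map_eq_zero _).1 (IH I' hlt) _ h4, map_zero]

/-- The local statement: flatness and reducedness of the closed fibre. -/
theorem local_main (H : Hyp A F x y) :
    Module.Flat A F ∧ nilradical F = (maximalIdeal A).map (algebraMap A F) :=
  ⟨Module.Flat.iff_lift_lsmul_comp_subtype_injective.2 (fun I _ => psi_injective H I),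
    nilradical_eq H⟩

end localArg

end Groth.Agent.Lib.Helper12.FamFlat
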