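import Mathlib
import Groth.Prelude.Def_CAlg
import Groth.Prelude.Def_EGA4b
import Groth.Agent.Lib.Helper12.FamFlatA
import Groth.Agent.Lib.Helper12.S2Connected
import Groth.Agent.S2085

/-!
# Flatness and reduced fibres over an Artinian local base: globalization
-/

set_option autoImplicit false
universe u

namespace Groth.Agent.Lib.Helper12.FamFlat

open IsLocalRing TensorProduct

section flatColon

variable {A : Type u} [CommRing A] [IsLocalRing A] {G : Type u} [CommRing G] [Algebra A G]

/-- For a flat algebra, `a γ ∈ I'G` with `a ∉ I'` forces `γ ∈ mG`. -/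
theorem mem_map_of_flat [Module.Flat A G] (I' : Ideal A) (a : A) (haI' : a ∉ I') (γ : G)
    (h : algebraMap A G a * γ ∈ I'.map (algebraMap A G)) :
    γ ∈ (maximalIdeal A).map (algebraMap A G) := by
  classical
  rw [Ideal.map, Ideal.span, Submodule.mem_span_set'] at h
  obtain ⟨n, f, g, hsum⟩ := h
  choose i' hi' hg using fun t => (g t).2
  let Fc : Option (Fin n) → A := fun o => o.elim a (fun t => - i' t)
  let X : Option (Fin n) → G := fun o => o.elim γ (fun t => f t)
  have hrel : ∑ o, Fc o • X o = 0 := by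
    rw [Fintype.sum_option]
    simp only [Fc, X, Option.elim_none, Option.elim_some, neg_smul, Finset.sum_neg_distrib]
    rw [Algebra.smul_def, ← hsum, add_neg_eq_zero]
    apply Finset.sum_congr rfl
    intro t _
    rw [← hg t, smul_eq_mul, Algebra.smul_def, mul_comm]
  obtain ⟨k, α, yv, hX, hF⟩ := Module.Flat.isTrivialRelation_of_sum_smul_eq_zero
    (R := A) (M := G) (f := Fc) (x := X) hrel
  have hα : ∀ j, α none j ∈ maximalIdeal A := by
    intro j
    have h1 := hF j
    rw [Fintype.sum_option] at h1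
    simp only [Fc, Option.elim_none, Option.elim_some, neg_mul, Finset.sum_neg_distrib] at h1
    by_contra hnot
    have hu : IsUnit (α none j) := by
      by_contra hnu
      exact hnot ((IsLocalRing.mem_maximalIdeal _).2 hnu)
    have hmem : a * α none j ∈ I' := by
      have e : a * α none j = ∑ t, i' t * α (some t) j := by
        rw [add_neg_eq_zero] at h1; exact h1
      rw [e]
      exact I'.sum_mem (fun t _ => I'.mul_mem_right _ (hi' t))
    obtain ⟨v, hv⟩ := hu
    apply haI'
    have e2 : a = a * α none j * (v⁻¹ : Aˣ) := by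
      rw [← hv, mul_assoc, Units.mul_inv, mul_one]
    rw [e2]
    exact I'.mul_mem_right _ hmem
  have h2 := hX none
  have h3 : γ = ∑ j, α none j • yv j := h2
  rw [h3]
  refine Ideal.sum_mem _ (fun j _ => ?_)
  rw [Algebra.smul_def]
  exact Ideal.mul_mem_right _ _ (Ideal.mem_map_of_mem _ (hα j))

end flatColon

section nilloc

variable {B : Type u} [CommRing B] (q : Ideal B) [q.IsPrime]

/-- The nilradical of a localization at a prime. -/
theorem mk'_mem_nilradical_iff (u₀ : B) (t : q.primeCompl) :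
    IsLocalization.mk' (Localization.AtPrime q) u₀ t ∈ nilradical (Localization.AtPrime q) ↔
      ∃ s ∉ q, s * u₀ ∈ nilradical B := by
  constructor
  · intro h
    obtain ⟨k, hk⟩ := mem_nilradical.1 h
    rw [← IsLocalization.mk'_pow, IsLocalization.mk'_eq_zero_iff] at hk
    obtain ⟨s, hs⟩ := hk
    refine ⟨s, s.2, mem_nilradical.2 ⟨k + 1, ?_⟩⟩
    have e : ((s : B) * u₀) ^ (k + 1) = (s : B) ^ k * u₀ * ((s : B) * u₀ ^ k) := by ring
    rw [e, hs, mul_zero]
  · rintro ⟨s, hs, hsu⟩
    have e : IsLocalization.mk' (Localization.AtPrime q) u₀ t =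
        algebraMap B (Localization.AtPrime q) (s * u₀) *
          IsLocalization.mk' (Localization.AtPrime q) 1 (⟨s, hs⟩ * t) := by
      rw [IsLocalization.mul_mk'_eq_mk'_of_mul, mul_one, IsLocalization.mk'_eq_iff_eq]
      congr 1
      push_cast
      ring
    rw [e]
    apply Ideal.mul_mem_right
    rw [mem_nilradical]
    exact (mem_nilradical.1 hsu).map _

theorem nilradical_localization :
    nilradical (Localization.AtPrime q) =
      (nilradical B).map (algebraMap B (Localization.AtPrime q)) := by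
  ext u
  obtain ⟨u₀, t, rfl⟩ := IsLocalization.exists_mk'_eq q.primeCompl u
  rw [mk'_mem_nilradical_iff, IsLocalization.mk'_mem_map_algebraMap_iff q.primeCompl]
  constructor
  · rintro ⟨s, hs, h⟩
    exact ⟨s, hs, h⟩
  · rintro ⟨s, hs, h⟩
    exact ⟨s, hs, h⟩

end nilloc


section global

variable (A : Type u) [CommRing A] [IsArtinianRing A] [IsLocalRing A]
  (B : Type u) [CommRing B] [Algebra A B] [IsNoetherianRing B]

/-- The property at a prime: flat with reduced fibre. -/
def P (q : Ideal B) [q.IsPrime] : Prop :=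
  Module.Flat A (Localization.AtPrime q) ∧
    nilradical (Localization.AtPrime q) =
      (maximalIdeal A).map (algebraMap A (Localization.AtPrime q))

variable {A B}

omit [IsArtinianRing A] [IsLocalRing A] [IsNoetherianRing B] in
theorem map_eq (q : Ideal B) [q.IsPrime] (I : Ideal A) :
    I.map (algebraMap A (Localization.AtPrime q)) =
      (I.map (algebraMap A B)).map (algebraMap B (Localization.AtPrime q)) := by
  rw [Ideal.map_map, ← IsScalarTower.algebraMap_eq]

omit [IsArtinianRing A] [IsNoetherianRing B] in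
theorem c1 (q' : Ideal B) [q'.IsPrime] (h : P A B q') (b : B) (hb : b ∈ nilradical B) :
    ∃ s, s ∉ q' ∧ s * b ∈ (maximalIdeal A).map (algebraMap A B) := by
  have h1 : algebraMap B (Localization.AtPrime q') b ∈ nilradical (Localization.AtPrime q') := by
    rw [mem_nilradical]
    exact (mem_nilradical.1 hb).map _
  rw [h.2, map_eq, IsLocalization.algebraMap_mem_map_algebraMap_iff q'.primeCompl] at h1
  obtain ⟨s, hs, h2⟩ := h1
  exact ⟨s, hs, h2⟩

omit [IsArtinianRing A] [IsNoetherianRing B] in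
theorem c2 (q' : Ideal B) [q'.IsPrime] (h : P A B q') (I' : Ideal A) (a : A) (haI' : a ∉ I')
    (c : B) (hc : algebraMap A B a * c ∈ I'.map (algebraMap A B)) :
    ∃ s, s ∉ q' ∧ s * c ∈ (maximalIdeal A).map (algebraMap A B) := by
  haveI := h.1
  have h1 : algebraMap A (Localization.AtPrime q') a * algebraMap B (Localization.AtPrime q') c ∈
      I'.map (algebraMap A (Localization.AtPrime q')) := by
    rw [map_eq, IsScalarTower.algebraMap_apply A B (Localization.AtPrime q'), ← map_mul]
    exact Ideal.mem_map_of_mem _ hc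
  have h2 := mem_map_of_flat I' a haI' _ h1
  rw [map_eq, IsLocalization.algebraMap_mem_map_algebraMap_iff q'.primeCompl] at h2
  obtain ⟨s, hs, h3⟩ := h2
  exact ⟨s, hs, h3⟩

/-- Base case from the hypothesis in codimension one. -/
theorem base (q : Ideal B) [q.IsPrime]
    (h : Module.Flat A (Localization.AtPrime q) ∧ IsReduced (EGA4.FibLocRing A B q)) :
    P A B q := by
  obtain ⟨hflat, hred⟩ := h
  refine ⟨hflat, le_antisymm ?_ map_max_le_nilradical⟩
  have hcomap : q.comap (algebraMap A B) = maximalIdeal A :=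
    IsLocalRing.eq_maximalIdeal (IsArtinianRing.isMaximal_of_isPrime _)
  have hrad : ((q.comap (algebraMap A B)).map
      (algebraMap A (Localization.AtPrime q))).IsRadical :=
    (Ideal.isRadical_iff_quotient_reduced _).2 hred
  rw [hcomap] at hrad
  intro ν hν
  obtain ⟨k, hk⟩ := mem_nilradical.1 hν
  exact hrad ⟨k, by rw [hk]; exact Ideal.zero_mem _⟩


/-- Height at least two passes to the quotient by the nilradical. -/
theorem two_le_height_map (q : Ideal B) [q.IsPrime] (hht : (2 : ℕ∞) ≤ q.height)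
    [(q.map (Ideal.Quotient.mk (nilradical B))).IsPrime] :
    (2 : ℕ∞) ≤ (q.map (Ideal.Quotient.mk (nilradical B))).height := by
  have hsurj : Function.Surjective (Ideal.Quotient.mk (nilradical B)) :=
    Ideal.Quotient.mk_surjective
  have hker : ∀ p : Ideal B, p.IsPrime →
      (p.map (Ideal.Quotient.mk (nilradical B))).comap (Ideal.Quotient.mk (nilradical B)) = p := by
    intro p hp
    rw [Ideal.comap_map_of_surjective _ hsurj, ← RingHom.ker_eq_comap_bot, Ideal.mk_ker]
    exact sup_eq_left.2 (nilradical_le_prime p)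
  have hprime : ∀ p : Ideal B, p.IsPrime → (p.map (Ideal.Quotient.mk (nilradical B))).IsPrime := by
    intro p hp
    apply Ideal.map_isPrime_of_surjective hsurj
    rw [Ideal.mk_ker]
    exact nilradical_le_prime p
  have hlt : ∀ p p' : Ideal B, p.IsPrime → p'.IsPrime → p < p' →
      p.map (Ideal.Quotient.mk (nilradical B)) < p'.map (Ideal.Quotient.mk (nilradical B)) := by
    intro p p' hp hp' h
    refine lt_of_le_of_ne (Ideal.map_mono h.le) ?_
    intro heq
    have := congrArg (Ideal.comap (Ideal.Quotient.mk (nilradical B))) heq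
    rw [hker p hp, hker p' hp'] at this
    exact h.ne this
  -- find a chain p0 < p1 < q
  have h1 : ¬ q.height ≤ ((1 : ℕ) : ℕ∞) := by
    intro h
    have : (2 : ℕ∞) ≤ 1 := hht.trans (by exact_mod_cast h)
    exact absurd this (by decide)
  rw [Ideal.height_le_iff] at h1
  push Not at h1
  obtain ⟨p1, hp1, hp1q, hp1h⟩ := h1
  haveI := hp1
  have hp1min : p1 ∉ minimalPrimes B := by
    intro hmin
    have := Ideal.height_eq_zero_iff.2 hmin
    rw [this] at hp1h
    exact absurd hp1h (by norm_num)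
  obtain ⟨p0, hp0, hp0le⟩ := Ideal.exists_minimalPrimes_le (bot_le : (⊥ : Ideal B) ≤ p1)
  have hp0lt : p0 < p1 := lt_of_le_of_ne hp0le (fun h => hp1min (h ▸ hp0))
  haveI := hp0.1.1
  haveI := hprime p0 hp0.1.1
  haveI := hprime p1 hp1
  have e1 := Ideal.height_add_one_le_of_lt_of_isPrime (hlt p0 p1 hp0.1.1 hp1 hp0lt)
  have e2 := Ideal.height_add_one_le_of_lt_of_isPrime (hlt p1 q hp1 inferInstance hp1q)
  calc (2 : ℕ∞) = 0 + 1 + 1 := by norm_num
    _ ≤ (p0.map (Ideal.Quotient.mk (nilradical B))).height + 1 + 1 := by gcongr; exact zero_le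
    _ ≤ (p1.map (Ideal.Quotient.mk (nilradical B))).height + 1 := by gcongr
    _ ≤ _ := e2


omit [Algebra A B] in
/-- The regular sequence used in the local argument, expressed in `B`. -/
theorem exists_xy (hS1 : LocCoh.HasSk 1 B B)
    (hS2 : LocCoh.HasSk 2 (B ⧸ nilradical B) (B ⧸ nilradical B))
    (q : Ideal B) [q.IsPrime] (hht : (2 : ℕ∞) ≤ q.height) :
    ∃ x₀ ∈ q, ∃ y₀ ∈ q, x₀ ∈ nonZeroDivisors B ∧
      (∀ u, x₀ * u ∈ nilradical B → u ∈ nilradical B) ∧
      ∀ u₀ s₀ : B, s₀ ∉ q → s₀ * y₀ * u₀ ∈ Ideal.span {x₀} ⊔ nilradical B →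
        ∃ s', s' ∉ q ∧ s' * u₀ ∈ Ideal.span {x₀} ⊔ nilradical B := by
  classical
  have hqnotmin : q ∉ minimalPrimes B := by
    intro hmin
    have := Ideal.height_eq_zero_iff.2 hmin
    rw [this] at hht
    exact absurd hht (by decide)
  have hfin := minimalPrimes.finite_of_isNoetherianRing B
  -- x₀ outside all minimal primes
  have hx₀ : ∃ x₀ ∈ q, ∀ p ∈ minimalPrimes B, x₀ ∉ p := by
    by_contra hcon
    push Not at hcon
    have hsub : (q : Set B) ⊆ ⋃ p ∈ (hfin.toFinset : Set (Ideal B)), (p : Set B) := by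
      intro y hy
      obtain ⟨p, hp, hyp⟩ := hcon y hy
      simp only [Set.mem_iUnion]
      exact ⟨p, by simpa using hp, hyp⟩
    obtain ⟨p, hp, hle⟩ := (Ideal.subset_union_prime (f := fun p : Ideal B => p) q q
      (fun p hp _ _ => (hfin.mem_toFinset.1 hp).1.1)).1 hsub
    have hpm := hfin.mem_toFinset.1 hp
    have hpq : p ≤ q := hpm.2 ⟨inferInstance, bot_le⟩ hle
    have : q = p := le_antisymm hle hpq
    exact hqnotmin (this ▸ hpm)
  obtain ⟨x₀, hx₀q, hx₀min⟩ := hx₀
  have hnil : nilradical B = sInf (minimalPrimes B) := by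
    rw [minimalPrimes, Ideal.sInf_minimalPrimes]
    rfl
  have hx₀N : ∀ u, x₀ * u ∈ nilradical B → u ∈ nilradical B := by
    intro u hu
    rw [hnil, Ideal.mem_sInf] at hu ⊢
    intro p hp
    haveI := hp.1.1
    exact ((Ideal.IsPrime.mem_or_mem inferInstance (hu hp)).resolve_left (hx₀min p hp))
  -- no embedded primes
  have hemb : ∀ p ∈ associatedPrimes B B, p ∈ minimalPrimes B := by
    intro p hp
    have h := (Groth.Agent.S2085.result (R := B) (M := B)).2 hS1 p hp
    have hann : Module.annihilator B B = ⊥ := Module.annihilator_eq_bot.2 inferInstance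
    rwa [hann] at h
  have hx₀reg : x₀ ∈ nonZeroDivisors B := by
    rw [mem_nonZeroDivisors_iff_right]
    intro b hb
    by_contra hb0
    obtain ⟨Q, hQ, hle⟩ := exists_le_isAssociatedPrime_of_isNoetherianRing B b hb0
    apply hx₀min Q (hemb Q hQ)
    apply hle
    rw [Submodule.mem_colon_singleton, Submodule.mem_bot, smul_eq_mul, mul_comm, hb]
  -- the quotient by the nilradical
  let π := Ideal.Quotient.mk (nilradical B)
  have hsurj : Function.Surjective π := Ideal.Quotient.mk_surjective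
  haveI hqbar : (q.map π).IsPrime := by
    apply Ideal.map_isPrime_of_surjective hsurj
    rw [Ideal.mk_ker]
    exact nilradical_le_prime q
  have hmemq : ∀ b : B, π b ∈ q.map π → b ∈ q := by
    intro b hb
    obtain ⟨z, hz, hzb⟩ := (Ideal.mem_map_iff_of_surjective π hsurj).1 hb
    have : z - b ∈ nilradical B := by
      rw [← Ideal.Quotient.eq_zero_iff_mem, map_sub, sub_eq_zero]; exact hzb
    have h2 : b = z - (z - b) := by ring
    rw [h2]
    exact Ideal.sub_mem _ hz (nilradical_le_prime q this)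
  have hxbreg : π x₀ ∈ nonZeroDivisors (B ⧸ nilradical B) := by
    rw [mem_nonZeroDivisors_iff_right]
    intro b hb
    obtain ⟨b, rfl⟩ := hsurj b
    rw [← map_mul, Ideal.Quotient.eq_zero_iff_mem, mul_comm] at hb
    exact Ideal.Quotient.eq_zero_iff_mem.2 (hx₀N b hb)
  have hht' := two_le_height_map q hht
  have hSq := hS2 (q.map π)
  rw [Groth.Agent.Lib.Helper12.IndEtLocal.supportDim_localizedModule,
    Groth.Agent.Lib.Helper12.IndEtLocal.depth_localizedModule] at hSq
  have hd : (2 : ℕ∞) ≤ LocCoh.depth (Localization.AtPrime (q.map π))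
      (Localization.AtPrime (q.map π)) := by
    have hmin : min ((2 : ℕ) : WithBot ℕ∞) (((q.map π).height : ℕ∞) : WithBot ℕ∞) =
        ((2 : ℕ) : WithBot ℕ∞) := by
      apply min_eq_left
      have e2 : ((2 : ℕ) : WithBot ℕ∞) = (((2 : ℕ) : ℕ∞) : WithBot ℕ∞) := rfl
      rw [e2, WithBot.coe_le_coe]
      exact_mod_cast hht'
    rw [hmin] at hSq
    have e2 : ((2 : ℕ) : WithBot ℕ∞) = (((2 : ℕ) : ℕ∞) : WithBot ℕ∞) := rfl
    rw [e2, WithBot.coe_le_coe] at hSq
    exact_mod_cast hSq
  obtain ⟨yb₀, hybq, hyb⟩ := Groth.Agent.Lib.Helper12.S2Connected.exists_second (q.map π) (π x₀)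
    (Ideal.mem_map_of_mem π hx₀q) hxbreg hd
  obtain ⟨y₀, hy₀q, rfl⟩ := (Ideal.mem_map_iff_of_surjective π hsurj).1 hybq
  refine ⟨x₀, hx₀q, y₀, hy₀q, hx₀reg, hx₀N, ?_⟩
  intro u₀ s₀ hs₀ hmem
  obtain ⟨w, hw, n₀, hn₀, hsum⟩ := Submodule.mem_sup.1 hmem
  obtain ⟨c₀, rfl⟩ := Ideal.mem_span_singleton'.1 hw
  have h1 : π s₀ * π y₀ * π u₀ = π x₀ * π c₀ := by
    rw [← map_mul, ← map_mul, ← map_mul, ← hsum, map_add,
      Ideal.Quotient.eq_zero_iff_mem.2 hn₀, add_zero, mul_comm]
  obtain ⟨sb', hsb', cb', hcb'⟩ := hyb (π u₀) (π s₀) (π c₀) (fun h => hs₀ (hmemq s₀ h)) h1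
  obtain ⟨s', rfl⟩ := hsurj sb'
  obtain ⟨c', rfl⟩ := hsurj cb'
  refine ⟨s', fun h => hsb' (Ideal.mem_map_of_mem π h), ?_⟩
  have h2 : s' * u₀ - x₀ * c' ∈ nilradical B := by
    rw [← Ideal.Quotient.eq_zero_iff_mem, map_sub, map_mul, map_mul, sub_eq_zero]
    exact hcb'
  have h3 : s' * u₀ = c' * x₀ + (s' * u₀ - x₀ * c') := by ring
  rw [h3]
  exact Submodule.add_mem_sup (Ideal.mem_span_singleton'.2 ⟨c', rfl⟩) h2


/-- The inductive step at a prime of height at least two. -/
theorem step_prime (hS1 : LocCoh.HasSk 1 B B)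
    (hS2 : LocCoh.HasSk 2 (B ⧸ nilradical B) (B ⧸ nilradical B))
    (q : Ideal B) [q.IsPrime] (hht : (2 : ℕ∞) ≤ q.height)
    (IH : ∀ (q' : Ideal B) [q'.IsPrime], q' < q → P A B q') : P A B q := by
  obtain ⟨x₀, hx₀q, y₀, hy₀q, hx₀reg, hx₀N, hY⟩ := exists_xy hS1 hS2 q hht
  let L := Localization.AtPrime q
  -- primes of `L` other than the maximal ideal
  have hprime : ∀ Q : Ideal L, Q.IsPrime → Q ≠ maximalIdeal L →
      ∃ (q' : Ideal B) (_ : q'.IsPrime), q' < q ∧ ∀ b : B, algebraMap B L b ∈ Q ↔ b ∈ q' := by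
    intro Q hQ hQn
    refine ⟨Q.comap (algebraMap B L), Ideal.comap_isPrime _ _, ?_, fun b => Iff.rfl⟩
    have hle : Q.comap (algebraMap B L) ≤ q := by
      have h1 : Q ≤ maximalIdeal L := IsLocalRing.le_maximalIdeal hQ.ne_top
      have h2 := Ideal.comap_mono (f := algebraMap B L) h1
      have h3 : (maximalIdeal L).comap (algebraMap B L) = q :=
        Localization.AtPrime.under_maximalIdeal
      rwa [h3] at h2
    refine lt_of_le_of_ne hle ?_
    intro heq
    apply hQn
    have h4 : (Q.comap (algebraMap B L)).map (algebraMap B L) = Q :=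
      IsLocalization.map_comap q.primeCompl L Q
    rw [← h4, heq]
    exact Localization.AtPrime.map_eq_maximalIdeal
  have hH : Hyp A L (algebraMap B L x₀) (algebraMap B L y₀) := by
    refine ⟨?_, ?_, ?_, ?_, ?_, ?_, ?_⟩
    · exact (IsLocalization.AtPrime.to_map_mem_maximal_iff L q x₀).2 hx₀q
    · exact (IsLocalization.AtPrime.to_map_mem_maximal_iff L q y₀).2 hy₀q
    · intro u hu
      have hnzd : algebraMap B L x₀ ∈ nonZeroDivisors L :=
        IsLocalization.map_nonZeroDivisors_le q.primeCompl L ⟨x₀, hx₀reg, rfl⟩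
      exact (mem_nonZeroDivisors_iff_right.1 hnzd) u (by rw [mul_comm]; exact hu)
    · intro u hu
      obtain ⟨u₀, t, rfl⟩ := IsLocalization.exists_mk'_eq q.primeCompl u
      rw [IsLocalization.mul_mk'_eq_mk'_of_mul, mk'_mem_nilradical_iff] at hu
      obtain ⟨s, hs, hsu⟩ := hu
      rw [mk'_mem_nilradical_iff]
      refine ⟨s, hs, hx₀N _ ?_⟩
      have e : x₀ * (s * u₀) = s * (x₀ * u₀) := by ring
      rw [e]; exact hsu
    · intro u hu
      have hmap : Ideal.span {algebraMap B L x₀} ⊔ nilradical L =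
          (Ideal.span {x₀} ⊔ nilradical B).map (algebraMap B L) := by
        rw [Ideal.map_sup, Ideal.map_span, Set.image_singleton, nilradical_localization]
      rw [hmap] at hu ⊢
      obtain ⟨u₀, t, rfl⟩ := IsLocalization.exists_mk'_eq q.primeCompl u
      rw [IsLocalization.mul_mk'_eq_mk'_of_mul,
        IsLocalization.mk'_mem_map_algebraMap_iff q.primeCompl] at hu
      obtain ⟨s₀, hs₀, hsu⟩ := hu
      rw [IsLocalization.mk'_mem_map_algebraMap_iff q.primeCompl]
      obtain ⟨s', hs', h'⟩ := hY u₀ s₀ hs₀ (by rw [mul_assoc]; exact hsu)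
      exact ⟨s', hs', h'⟩
    · intro ν hν Q hQ hQn
      obtain ⟨q', hq', hlt, hmem⟩ := hprime Q hQ hQn
      haveI := hq'
      obtain ⟨ν₀, t, rfl⟩ := IsLocalization.exists_mk'_eq q.primeCompl ν
      rw [mk'_mem_nilradical_iff] at hν
      obtain ⟨s₁, hs₁, hs₁ν⟩ := hν
      obtain ⟨s₂, hs₂, hs₂ν⟩ := c1 q' (IH q' hlt) _ hs₁ν
      refine ⟨algebraMap B L (s₂ * s₁), ?_, ?_⟩
      · rw [hmem]
        intro h
        rcases Ideal.IsPrime.mem_or_mem hq' h with h | h
        · exact hs₂ h
        · exact hs₁ (hlt.le h)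
      · rw [IsLocalization.mul_mk'_eq_mk'_of_mul, map_eq,
          IsLocalization.mk'_mem_map_algebraMap_iff q.primeCompl]
        refine ⟨1, Submonoid.one_mem _, ?_⟩
        rw [one_mul, mul_assoc]
        exact hs₂ν
    · intro I' a haI' hma c hc Q hQ hQn
      obtain ⟨q', hq', hlt, hmem⟩ := hprime Q hQ hQn
      haveI := hq'
      obtain ⟨c₀, t, rfl⟩ := IsLocalization.exists_mk'_eq q.primeCompl c
      rw [IsScalarTower.algebraMap_apply A B L, IsLocalization.mul_mk'_eq_mk'_of_mul, map_eq,
        IsLocalization.mk'_mem_map_algebraMap_iff q.primeCompl] at hc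
      obtain ⟨s₁, hs₁, hs₁c⟩ := hc
      obtain ⟨s₂, hs₂, hs₂c⟩ := c2 q' (IH q' hlt) I' a haI' (s₁ * c₀) (by
        have e : algebraMap A B a * (s₁ * c₀) = s₁ * (algebraMap A B a * c₀) := by ring
        rw [e]; exact hs₁c)
      refine ⟨algebraMap B L (s₂ * s₁), ?_, ?_⟩
      · rw [hmem]
        intro h
        rcases Ideal.IsPrime.mem_or_mem hq' h with h | h
        · exact hs₂ h
        · exact hs₁ (hlt.le h)
      · rw [IsLocalization.mul_mk'_eq_mk'_of_mul, map_eq,
          IsLocalization.mk'_mem_map_algebraMap_iff q.primeCompl]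
        refine ⟨1, Submonoid.one_mem _, ?_⟩
        rw [one_mul, mul_assoc]
        exact hs₂c
  exact local_main hH

/-- All primes: flat with reduced fibre. -/
theorem all_primes (hS1 : LocCoh.HasSk 1 B B)
    (hS2 : LocCoh.HasSk 2 (B ⧸ nilradical B) (B ⧸ nilradical B))
    (hcodim : ∀ (q : Ideal B) [q.IsPrime], q.height ≤ 1 →
      Module.Flat A (Localization.AtPrime q) ∧ IsReduced (EGA4.FibLocRing A B q)) :
    ∀ (q : Ideal B) [q.IsPrime], P A B q := by
  have key : ∀ (n : ℕ) (q : Ideal B) [q.IsPrime], q.height = n → P A B q := by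
    intro n
    induction n using Nat.strong_induction_on with
    | _ n ih =>
      intro q _ hq
      by_cases h1 : q.height ≤ 1
      · exact base q (hcodim q h1)
      · have h2 : (2 : ℕ∞) ≤ q.height := Order.add_one_le_of_lt (not_le.1 h1)
        apply step_prime hS1 hS2 q h2
        intro q' _ hlt
        have hlt' : q'.height < q.height := Ideal.height_strict_mono_of_isPrime hlt
        obtain ⟨k, hk⟩ := ENat.ne_top_iff_exists.1 (Ideal.height_ne_top_of_isPrime (I := q'))
        refine ih k ?_ q' hk.symm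
        rw [hq, ← hk] at hlt'
        exact_mod_cast hlt'
  intro q _
  obtain ⟨n, hn⟩ := ENat.ne_top_iff_exists.1 (Ideal.height_ne_top_of_isPrime (I := q))
  exact key n q hn.symm

end global

end Groth.Agent.Lib.Helper12.FamFlat
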