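import Mathlib
import Groth.Agent.Lib.Helper12.EtaleAdjoinRoot

/-!
# Finite étale subalgebras of an algebra over a field
-/

set_option autoImplicit false
universe u

namespace Groth.Agent.Lib.Helper12.FinEtSub

open TensorProduct Polynomial

variable {k : Type u} [Field k] {B : Type u} [CommRing B] [Algebra k B]

theorem etale_of_finite_of_formallyUnramified (E : Type u) [CommRing E] [Algebra k E]
    [Module.Finite k E] [Algebra.FormallyUnramified k E] : Algebra.Etale k E := by
  haveI : Algebra.FormallyEtale k E := Algebra.FormallyEtale.of_formallyUnramified_of_field k E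
  exact ⟨inferInstance, Algebra.FinitePresentation.of_finiteType.mp inferInstance⟩

theorem finite_etale_range {C : Type u} [CommRing C] [Algebra k C] [Module.Finite k C]
    [Algebra.Etale k C] (f : C →ₐ[k] B) :
    Module.Finite k f.range ∧ Algebra.Etale k f.range := by
  have hs : Function.Surjective f.rangeRestrict := f.rangeRestrict_surjective
  haveI : Module.Finite k f.range := Module.Finite.of_surjective f.rangeRestrict.toLinearMap hs
  haveI : Algebra.FormallyUnramified k f.range :=
    Algebra.FormallyUnramified.of_surjective f.rangeRestrict hs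
  exact ⟨inferInstance, etale_of_finite_of_formallyUnramified _⟩

theorem finite_etale_sup (E₁ E₂ : Subalgebra k B) [Module.Finite k E₁] [Algebra.Etale k E₁]
    [Module.Finite k E₂] [Algebra.Etale k E₂] :
    Module.Finite k (E₁ ⊔ E₂ : Subalgebra k B) ∧ Algebra.Etale k (E₁ ⊔ E₂ : Subalgebra k B) := by
  haveI : Algebra.Etale k (E₁ ⊗[k] E₂) := Algebra.Etale.comp k E₁ _
  have h := finite_etale_range (Algebra.TensorProduct.productMap E₁.val E₂.val)
  rw [Algebra.TensorProduct.productMap_range, Subalgebra.range_val, Subalgebra.range_val] at h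
  exact h

theorem exists_finite_etale_of_idempotent (e : B) (he : IsIdempotentElem e) :
    ∃ E : Subalgebra k B, e ∈ E ∧ E ≤ Algebra.adjoin k {e} ∧ Module.Finite k E ∧
      Algebra.Etale k E := by
  let f : k[X] := X ^ 2 - X
  have hfm : f.Monic := by
    have : f = X ^ 2 - X := rfl
    rw [this]
    exact monic_X_pow_sub (by rw [degree_X]; norm_num)
  have hsep : f.Separable := by
    refine ⟨-4, 2 * X - 1, ?_⟩
    have : derivative f = 2 * X - 1 := by
      show derivative (X ^ 2 - X : k[X]) = _
      rw [derivative_sub, derivative_X_pow, derivative_X]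
      simp only [Nat.cast_ofNat, Nat.add_one_sub_one, pow_one]
      rw [show (C (2 : k) : k[X]) = 2 from map_ofNat C 2]
    rw [this]
    show -4 * (X ^ 2 - X : k[X]) + (2 * X - 1) * (2 * X - 1) = 1
    ring
  haveI : Algebra.Etale k (AdjoinRoot f) := etale_adjoinRoot_of_separable f hfm hsep
  haveI : Module.Finite k (AdjoinRoot f) :=
    Module.Finite.of_basis (AdjoinRoot.powerBasis' hfm).basis
  have h0 : f.eval₂ (Algebra.ofId k B) e = 0 := by
    show eval₂ (Algebra.ofId k B) e (X ^ 2 - X : k[X]) = 0
    rw [eval₂_sub, eval₂_pow, eval₂_X, pow_two, he.eq, sub_self]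
  let ψ : AdjoinRoot f →ₐ[k] B := AdjoinRoot.liftAlgHom f (Algebra.ofId k B) e h0
  obtain ⟨h1, h2⟩ := finite_etale_range ψ
  refine ⟨ψ.range, ⟨AdjoinRoot.root f, ?_⟩, ?_, h1, h2⟩
  · exact AdjoinRoot.liftAlgHom_root f _ e h0
  · rintro _ ⟨y, rfl⟩
    obtain ⟨p, rfl⟩ := AdjoinRoot.mk_surjective y
    have : ψ (AdjoinRoot.mk f p) = aeval e p := rfl
    show ψ (AdjoinRoot.mk f p) ∈ Algebra.adjoin k {e}
    rw [this, Algebra.adjoin_singleton_eq_range_aeval]
    exact ⟨p, rfl⟩

end Groth.Agent.Lib.Helper12.FinEtSub
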