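import Mathlib

/-!
# Bounded dimension of finite étale subalgebras of a finite type algebra over a field
-/

set_option autoImplicit false
universe u

namespace Groth.Agent.Lib.Helper12.FinEtSub

open TensorProduct

theorem exists_bound (k : Type u) [Field k] (B : Type u) [CommRing B] [Algebra k B]
    [Algebra.FiniteType k B] :
    ∃ N : ℕ, ∀ E : Subalgebra k B, Module.Finite k E → Algebra.Etale k E →
      Module.finrank k E ≤ N := by
  classical
  let Ω := AlgebraicClosure k
  haveI : IsNoetherianRing (Ω ⊗[k] B) := Algebra.FiniteType.isNoetherianRing Ω (Ω ⊗[k] B)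
  have hfin : (minimalPrimes (Ω ⊗[k] B)).Finite := minimalPrimes.finite_of_isNoetherianRing _
  haveI : Finite ↥(minimalPrimes (Ω ⊗[k] B)) := hfin.to_subtype
  refine ⟨Nat.card ↥(minimalPrimes (Ω ⊗[k] B)), fun E hE1 hE2 => ?_⟩
  haveI := hE1
  haveI := hE2
  let j : Ω ⊗[k] E →ₐ[Ω] Ω ⊗[k] B := Algebra.TensorProduct.map (AlgHom.id Ω Ω) E.val
  have hj : Function.Injective j := by
    have h1 : Function.Injective (TensorProduct.map (LinearMap.id : Ω →ₗ[k] Ω) E.val.toLinearMap) :=
      TensorProduct.map_injective_of_flat_flat _ _ Function.injective_id Subtype.val_injective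
    intro x y hxy
    apply h1
    exact hxy
  haveI : Module.Finite Ω (Ω ⊗[k] E) := inferInstance
  haveI : IsArtinianRing (Ω ⊗[k] E) := IsArtinianRing.of_finite Ω _
  haveI : Finite (PrimeSpectrum (Ω ⊗[k] E)) := inferInstance
  haveI : Fintype (PrimeSpectrum (Ω ⊗[k] E)) := Fintype.ofFinite _
  have hrank : Module.finrank k E = Nat.card (PrimeSpectrum (Ω ⊗[k] E)) := by
    rw [← Module.finrank_baseChange (R := Ω) (S := k) (M' := E)]
    have e := Algebra.FormallyEtale.equivPiOfIsSepClosed Ω (Ω ⊗[k] E)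
    rw [LinearEquiv.finrank_eq e.toLinearEquiv, Module.finrank_fintype_fun_eq_card,
      Nat.card_eq_fintype_card]
  rw [hrank]
  have hex : ∀ p : PrimeSpectrum (Ω ⊗[k] E), ∃ q ∈ minimalPrimes (Ω ⊗[k] B),
      q.comap j.toRingHom = p.asIdeal := by
    intro p
    have hp : p.asIdeal ∈ ((⊥ : Ideal (Ω ⊗[k] B)).comap j.toRingHom).minimalPrimes := by
      have hker : (⊥ : Ideal (Ω ⊗[k] B)).comap j.toRingHom = ⊥ := by
        rw [← RingHom.ker_eq_comap_bot]
        exact (RingHom.injective_iff_ker_eq_bot _).mp hj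
      rw [hker]
      exact Ideal.mem_minimalPrimes_of_krullDimLE_zero p.asIdeal
    exact Ideal.exists_minimalPrimes_comap_eq j.toRingHom p.asIdeal hp
  choose g hg1 hg2 using hex
  let G : PrimeSpectrum (Ω ⊗[k] E) → ↥(minimalPrimes (Ω ⊗[k] B)) := fun p => ⟨g p, hg1 p⟩
  have hG : Function.Injective G := by
    intro p p' hpp'
    have h1 : g p = g p' := congrArg Subtype.val hpp'
    apply PrimeSpectrum.ext
    rw [← hg2 p, ← hg2 p', h1]
  exact Nat.card_le_card_of_injective G hG

end Groth.Agent.Lib.Helper12.FinEtSub
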