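import Mathlib
import Groth.Agent.Lib.Helper12.FinEtSubA
import Groth.Agent.Lib.Helper12.FinEtSubB

/-!
# The largest finite étale subalgebra
-/

set_option autoImplicit false
universe u

namespace Groth.Agent.Lib.Helper12.FinEtSub

open TensorProduct

theorem exists_largest (k : Type u) [Field k] (B : Type u) [CommRing B] [Algebra k B]
    [Algebra.FiniteType k B] (A : Subalgebra k B) :
    ∃ E : Subalgebra k B, E ≤ A ∧ Module.Finite k E ∧ Algebra.Etale k E ∧
      ∀ E' : Subalgebra k B, E' ≤ A → Module.Finite k E' → Algebra.Etale k E' → E' ≤ E := by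
  classical
  obtain ⟨N, hN⟩ := exists_bound k B
  let P : ℕ → Prop := fun n => ∃ E : Subalgebra k B, E ≤ A ∧ Module.Finite k E ∧
    Algebra.Etale k E ∧ Module.finrank k E = n
  have h0 : ∃ n, n ≤ N ∧ P n := by
    obtain ⟨h1, h2⟩ := finite_etale_range (Algebra.ofId k B)
    refine ⟨_, hN _ h1 h2, (Algebra.ofId k B).range, ?_, h1, h2, rfl⟩
    rintro _ ⟨c, rfl⟩
    exact A.algebraMap_mem c
  obtain ⟨n0, hn0, hP0⟩ := h0
  have hspec : P (Nat.findGreatest P N) := Nat.findGreatest_spec hn0 hP0
  obtain ⟨E, hEA, hE1, hE2, hEr⟩ := hspec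
  refine ⟨E, hEA, hE1, hE2, fun E' hE'A hE'1 hE'2 => ?_⟩
  haveI := hE1
  haveI := hE2
  haveI := hE'1
  haveI := hE'2
  obtain ⟨h1, h2⟩ := finite_etale_sup E E'
  have hle : Module.finrank k (E ⊔ E' : Subalgebra k B) ≤ Module.finrank k E := by
    rw [hEr]
    exact Nat.le_findGreatest (hN _ h1 h2) ⟨E ⊔ E', sup_le hEA hE'A, h1, h2, rfl⟩
  haveI := h1
  have heq : Subalgebra.toSubmodule E = Subalgebra.toSubmodule (E ⊔ E') := by
    haveI : FiniteDimensional k ↥(Subalgebra.toSubmodule (E ⊔ E')) := h1
    exact Submodule.eq_of_le_of_finrank_le (fun x hx => (le_sup_left : E ≤ E ⊔ E') hx) hle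
  intro x hx
  have : x ∈ Subalgebra.toSubmodule (E ⊔ E') := (le_sup_right : E' ≤ E ⊔ E') hx
  rw [← heq] at this
  exact this

theorem main (k : Type u) [Field k] (B : Type u) [CommRing B] [Algebra k B]
    [Algebra.FiniteType k B] (A : Subalgebra k B) :
    ∃ (E : Subalgebra k B) (hE : E ≤ A), Module.Finite k E ∧ Algebra.Etale k E ∧
      (∀ E' : Subalgebra k B, E' ≤ A → Module.Finite k E' → Algebra.Etale k E' → E' ≤ E) ∧
      Function.Surjective (PrimeSpectrum.comap (Subalgebra.inclusion hE).toRingHom) ∧
      ∀ p q : PrimeSpectrum A, PrimeSpectrum.comap (Subalgebra.inclusion hE).toRingHom p =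
          PrimeSpectrum.comap (Subalgebra.inclusion hE).toRingHom q ↔
        connectedComponent p = connectedComponent q := by
  classical
  obtain ⟨E, hEA, hE1, hE2, hmax⟩ := exists_largest k B A
  refine ⟨E, hEA, hE1, hE2, hmax, ?_, ?_⟩
  all_goals
    haveI := hE1
    haveI := hE2
    haveI : IsArtinianRing E := IsArtinianRing.of_finite k E
    set f : E →+* A := (Subalgebra.inclusion hEA).toRingHom with hf
    have hfinj : Function.Injective f := Subalgebra.inclusion_injective hEA
  · intro p
    have hp : p.asIdeal ∈ ((⊥ : Ideal A).comap f).minimalPrimes := by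
      have hker : (⊥ : Ideal A).comap f = ⊥ := by
        rw [← RingHom.ker_eq_comap_bot]
        exact (RingHom.injective_iff_ker_eq_bot _).mp hfinj
      rw [hker]
      exact Ideal.mem_minimalPrimes_of_krullDimLE_zero p.asIdeal
    obtain ⟨p', hp'prime, -, hp'⟩ := Ideal.exists_comap_eq_of_mem_minimalPrimes f p.asIdeal hp
    exact ⟨⟨p', hp'prime⟩, PrimeSpectrum.ext hp'⟩
  · intro p q
    haveI : DiscreteTopology (PrimeSpectrum E) := inferInstance
    have hcont : Continuous (PrimeSpectrum.comap f) := PrimeSpectrum.continuous_comap f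
    constructor
    · intro hpq
      set x := PrimeSpectrum.comap f p with hx
      let F : Set (PrimeSpectrum A) := (PrimeSpectrum.comap f) ⁻¹' {x}
      have hFclopen : IsClopen F := (isClopen_discrete {x}).preimage hcont
      have hpF : p ∈ F := rfl
      have hqF : q ∈ F := hpq.symm
      have hFconn : IsPreconnected F := by
        intro u v hu hv hFuv hFu hFv
        by_contra hempty
        rw [Set.not_nonempty_iff_eq_empty] at hempty
        have hUeq : F ∩ u = F ∩ vᶜ := by
          ext z
          constructor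
          · rintro ⟨hzF, hzu⟩
            refine ⟨hzF, fun hzv => ?_⟩
            have : z ∈ F ∩ (u ∩ v) := ⟨hzF, hzu, hzv⟩
            rw [hempty] at this
            exact this
          · rintro ⟨hzF, hzv⟩
            exact ⟨hzF, (hFuv hzF).resolve_right hzv⟩
        have hUclopen : IsClopen (F ∩ u) := by
          refine ⟨?_, hFclopen.isOpen.inter hu⟩
          rw [hUeq]
          exact hFclopen.isClosed.inter hv.isClosed_compl
        obtain ⟨e, he, hUe⟩ := PrimeSpectrum.isClopen_iff.mp hUclopen
        have heB : IsIdempotentElem (e : B) := by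
          have := congrArg (fun z : A => (z : B)) he.eq
          exact this
        obtain ⟨E', heE', hE'le, hE'1, hE'2⟩ :=
          exists_finite_etale_of_idempotent (k := k) (e : B) heB
        have hE'A : E' ≤ A := hE'le.trans (Algebra.adjoin_le (by
          rintro _ rfl
          exact e.2))
        have heE : (e : B) ∈ E := hmax E' hE'A hE'1 hE'2 heE'
        have hfe : f ⟨(e : B), heE⟩ = e := Subtype.ext rfl
        have hmemU : ∀ z : PrimeSpectrum A, z ∈ F ∩ u ↔
            (⟨(e : B), heE⟩ : E) ∉ (PrimeSpectrum.comap f z).asIdeal := by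
          intro z
          rw [hUe]
          show e ∉ z.asIdeal ↔ f ⟨(e : B), heE⟩ ∉ z.asIdeal
          rw [hfe]
        obtain ⟨z₁, hz₁⟩ := hFu
        obtain ⟨z₂, hz₂F, hz₂v⟩ := hFv
        have h1 := (hmemU z₁).mp hz₁
        have hz₁x : PrimeSpectrum.comap f z₁ = x := hz₁.1
        have hz₂x : PrimeSpectrum.comap f z₂ = x := hz₂F
        rw [hz₁x, ← hz₂x] at h1
        have h2 : z₂ ∈ F ∩ u := (hmemU z₂).mpr h1
        have : z₂ ∈ F ∩ (u ∩ v) := ⟨hz₂F, h2.2, hz₂v⟩
        rw [hempty] at this
        exact this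
      have hsub := hFconn.subset_connectedComponent hpF
      exact connectedComponent_eq (hsub hqF)
    · intro hpq
      have hq : q ∈ connectedComponent p := by
        rw [hpq]; exact mem_connectedComponent
      have h1 := hcont.image_connectedComponent_subset p ⟨q, hq, rfl⟩
      rw [connectedComponent_eq_singleton] at h1
      exact h1.symm

end Groth.Agent.Lib.Helper12.FinEtSub
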