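import Mathlib

/-! In a ring with finite prime spectrum, the localisation at a prime is a localisation away from
one element. -/

namespace Groth.Agent.Lib.Helper12.FinSpecAway

theorem exists_away {B S : Type*} [CommRing B] [CommRing S] [Algebra B S]
    [Finite (PrimeSpectrum B)] (P : Ideal B) [P.IsPrime] [IsLocalization.AtPrime S P] :
    ∃ f : B, f ∉ P ∧ IsLocalization.Away f S := by
  classical
  haveI : Fintype (PrimeSpectrum B) := Fintype.ofFinite _
  let T : Finset (PrimeSpectrum B) := Finset.univ.filter (fun q => ¬ q.asIdeal ≤ P)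
  have h1 : ¬ T.inf (fun q => q.asIdeal) ≤ P := by
    intro h
    obtain ⟨q, hq, hqP⟩ := (Ideal.IsPrime.inf_le' inferInstance).1 h
    exact (Finset.mem_filter.1 hq).2 hqP
  obtain ⟨f, hfT, hfP⟩ := Set.not_subset.1 h1
  have hfT' : ∀ q : PrimeSpectrum B, ¬ q.asIdeal ≤ P → f ∈ q.asIdeal := by
    intro q hq
    have : T.inf (fun q => q.asIdeal) ≤ q.asIdeal :=
      Finset.inf_le (Finset.mem_filter.2 ⟨Finset.mem_univ _, hq⟩)
    exact this hfT
  have hle : Submonoid.powers f ≤ P.primeCompl := by
    rintro _ ⟨n, rfl⟩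
    exact fun h => hfP (Ideal.IsPrime.mem_of_pow_mem inferInstance n h)
  have hdvd : ∀ n ∈ P.primeCompl, ∃ m ∈ Submonoid.powers f, n ∣ m := by
    intro n hn
    by_contra hcon
    push Not at hcon
    have hdisj : Disjoint (Ideal.span {n} : Set B) (Submonoid.powers f : Set B) := by
      rw [Set.disjoint_left]
      intro x hx hxf
      exact hcon x hxf (Ideal.mem_span_singleton.1 hx)
    obtain ⟨q, hq, hnq, hqf⟩ := Ideal.exists_le_prime_disjoint _ _ hdisj
    have hfq : f ∉ q := fun h => Set.disjoint_left.1 hqf h ⟨1, pow_one f⟩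
    have hqP : q ≤ P := by
      by_contra hqP
      exact hfq (hfT' ⟨q, hq⟩ hqP)
    exact hn (hqP (hnq (Ideal.subset_span rfl)))
  exact ⟨f, hfP,
    (IsLocalization.iff_of_le_of_exists_dvd (Submonoid.powers f) P.primeCompl hle hdvd).2
      inferInstance⟩

end Groth.Agent.Lib.Helper12.FinSpecAway
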