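import Mathlib

/-! Finite intersections of valuation rings of a field: the geometric-sum device. -/

namespace Groth.Agent.Lib.Helper12.FinValInter

open Finset

/-- For an element `y` of a field there is `d ≥ 1` such that the geometric sum of length `1 + d t`
never vanishes. -/
theorem exists_modulus {κ : Type*} [Field κ] (y : κ) :
    ∃ d : ℕ, 0 < d ∧ ∀ t : ℕ, ∑ k ∈ range (1 + d * t), y ^ k ≠ 0 := by
  by_cases hy : y = 1
  · subst hy
    refine ⟨if ringChar κ = 0 then 1 else ringChar κ, ?_, ?_⟩
    · split_ifs with h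
      · exact Nat.one_pos
      · exact Nat.pos_of_ne_zero h
    · intro t h0
      simp only [one_pow, sum_const, card_range, nsmul_eq_mul, mul_one] at h0
      have hdvd := (ringChar.spec κ _).1 h0
      split_ifs at hdvd with h
      · rw [h] at hdvd
        have := Nat.eq_zero_of_zero_dvd hdvd
        omega
      · have h1 : ringChar κ ∣ 1 := by
          have h2 : ringChar κ ∣ ringChar κ * t := dvd_mul_right _ _
          exact (Nat.dvd_add_left h2).1 hdvd
        exact CharP.ringChar_ne_one (Nat.dvd_one.1 h1)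
  · refine ⟨if orderOf y = 0 then 1 else orderOf y, ?_, ?_⟩
    · split_ifs with h
      · exact Nat.one_pos
      · exact Nat.pos_of_ne_zero h
    · intro t h0
      have h1 : y ^ (1 + (if orderOf y = 0 then 1 else orderOf y) * t) = 1 := by
        have := geom_sum_mul y (1 + (if orderOf y = 0 then 1 else orderOf y) * t)
        rw [h0, zero_mul] at this
        exact (sub_eq_zero.1 this.symm)
      have hpos : 0 < orderOf y := by
        apply IsOfFinOrder.orderOf_pos
        rw [isOfFinOrder_iff_pow_eq_one]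
        exact ⟨_, by omega, h1⟩
      have hdvd := orderOf_dvd_of_pow_eq_one h1
      rw [if_neg hpos.ne'] at hdvd
      have h2 : orderOf y ∣ 1 := by
        have h3 : orderOf y ∣ orderOf y * t := dvd_mul_right _ _
        exact (Nat.dvd_add_left h3).1 hdvd
      exact hy (orderOf_eq_one_iff.1 (Nat.dvd_one.1 h2))

/-- Valuation of a geometric sum of an element of valuation `> 1`. -/
theorem valuation_geom_sum {L Γ : Type*} [Field L] [LinearOrderedCommGroupWithZero Γ]
    (v : Valuation L Γ) (x : L) (hx : 1 < v x) (s : ℕ) :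
    v (∑ k ∈ range (s + 1), x ^ k) = v x ^ s := by
  induction s with
  | zero => simp
  | succ n ih =>
    rw [sum_range_succ]
    have hlt : v (∑ k ∈ range (n + 1), x ^ k) < v (x ^ (n + 1)) := by
      rw [ih, map_pow]
      exact pow_lt_pow_right₀ hx (Nat.lt_succ_self n)
    rw [Valuation.map_add_eq_of_lt_right _ hlt, map_pow]

variable {L : Type*} [Field L] {ι : Type*} [Finite ι] (V : ι → ValuationSubring L)

/-- The geometric-sum device: a common length `s ≥ 2` for which the geometric sum of `x` is a unit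
in every `V i` containing `x`. -/
theorem exists_geom_len (x : L) :
    ∃ s : ℕ, 1 ≤ s ∧ ∀ i, x ∈ V i → (V i).valuation (∑ k ∈ range (s + 1), x ^ k) = 1 := by
  classical
  cases nonempty_fintype ι
  have key : ∀ i, ∃ d : ℕ, 0 < d ∧ ∀ t : ℕ, x ∈ V i →
      (V i).valuation (∑ k ∈ range (1 + d * t), x ^ k) = 1 := by
    intro i
    by_cases hx : x ∈ V i
    · obtain ⟨d, hd, hdt⟩ := exists_modulus (IsLocalRing.residue (V i) ⟨x, hx⟩)
      refine ⟨d, hd, fun t _ => ?_⟩
      have hu : IsUnit (∑ k ∈ range (1 + d * t), (⟨x, hx⟩ : V i) ^ k) := by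
        rw [← IsLocalRing.residue_ne_zero_iff_isUnit, map_sum]
        simp only [map_pow]
        exact hdt t
      have := ((V i).valuation_eq_one_iff _).1 hu
      simpa using this
    · exact ⟨1, Nat.one_pos, fun t h => absurd h hx⟩
  choose d hd hdt using key
  refine ⟨∏ i, d i, ?_, fun i hx => ?_⟩
  · exact Nat.one_le_iff_ne_zero.2 (Finset.prod_ne_zero_iff.2 fun i _ => (hd i).ne')
  · obtain ⟨t, ht⟩ : d i ∣ ∏ i, d i := Finset.dvd_prod_of_mem d (Finset.mem_univ i)
    have := hdt i t hx
    rw [← ht, add_comm] at this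
    exact this

/-- The element `r = u⁻¹` of Matsumura's Theorem 12.2. -/
theorem exists_denominator [Nonempty ι] (x : L) :
    ∃ r : L, r ≠ 0 ∧ (∀ K : Subfield L, x ∈ K → r ∈ K) ∧
      ∀ i, r ∈ V i ∧ x * r ∈ V i ∧ (x ∈ V i → (V i).valuation r = 1) := by
  obtain ⟨s, hs, hsx⟩ := exists_geom_len V x
  set u : L := ∑ k ∈ range (s + 1), x ^ k with hu
  have hval : ∀ i, (x ∈ V i → (V i).valuation u = 1) ∧
      (x ∉ V i → (V i).valuation u = (V i).valuation x ^ s ∧ 1 < (V i).valuation x) := by
    intro i
    refine ⟨hsx i, fun hx => ?_⟩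
    have h1 : 1 < (V i).valuation x := by
      rw [← not_le, ValuationSubring.valuation_le_one_iff]
      exact hx
    exact ⟨valuation_geom_sum _ x h1 s, h1⟩
  have hu0 : u ≠ 0 := by
    obtain ⟨i⟩ := ‹Nonempty ι›
    intro h0
    by_cases hx : x ∈ V i
    · have := (hval i).1 hx
      rw [h0, map_zero] at this
      exact zero_ne_one this
    · have := (hval i).2 hx
      rw [h0, map_zero] at this
      have h2 : (V i).valuation x ^ s ≠ 0 := pow_ne_zero _ (zero_lt_one.trans this.2).ne'
      exact h2 this.1.symm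
  refine ⟨u⁻¹, inv_ne_zero hu0, fun K hK => ?_, fun i => ?_⟩
  · exact K.inv_mem (K.sum_mem fun k _ => K.pow_mem hK k)
  · by_cases hx : x ∈ V i
    · have h1 := (hval i).1 hx
      have h2 : (V i).valuation u⁻¹ = 1 := by rw [map_inv₀, h1, inv_one]
      refine ⟨?_, ?_, fun _ => h2⟩
      · rw [← ValuationSubring.valuation_le_one_iff, h2]
      · rw [← ValuationSubring.valuation_le_one_iff, map_mul, h2, mul_one,
          ValuationSubring.valuation_le_one_iff]
        exact hx
    · obtain ⟨h1, h2⟩ := (hval i).2 hx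
      refine ⟨?_, ?_, fun h => absurd h hx⟩
      · rw [← ValuationSubring.valuation_le_one_iff, map_inv₀, h1]
        exact inv_le_one_of_one_le₀ (one_le_pow₀ h2.le)
      · rw [← ValuationSubring.valuation_le_one_iff, map_mul, map_inv₀, h1]
        obtain ⟨n, rfl⟩ : ∃ n, s = n + 1 := ⟨s - 1, by omega⟩
        have hx0 : (V i).valuation x ≠ 0 := (zero_lt_one.trans h2).ne'
        rw [pow_succ, mul_inv_rev, mul_inv_cancel_left₀ hx0]
        exact inv_le_one_of_one_le₀ (one_le_pow₀ h2.le)

end Groth.Agent.Lib.Helper12.FinValInter
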