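import Mathlib
import Groth.Agent.Lib.Helper12.FinValInterA

/-! A finite intersection of valuation rings of a field, cut down to a subfield, is a semilocal
Prüfer domain (Matsumura, Theorem 12.2). -/

namespace Groth.Agent.Lib.Helper12.FinValInter

open Finset

variable {L : Type*} [Field L] {ι : Type*} [Finite ι] [Nonempty ι] (V : ι → ValuationSubring L)
  (K : Subfield L) (A : Subring L) (hA : ∀ x, x ∈ A ↔ x ∈ K ∧ ∀ i, x ∈ V i)

/-- The centre of `V i` on `A`. -/
noncomputable def centre (hA : ∀ x, x ∈ A ↔ x ∈ K ∧ ∀ i, x ∈ V i) (i : ι) : Ideal A :=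
  Ideal.comap (RingHom.codRestrict A.subtype (V i) (fun a => ((hA a).1 a.2).2 i))
    (IsLocalRing.maximalIdeal (V i))

instance (i : ι) : (centre V K A hA i).IsPrime := by
  unfold centre
  infer_instance

theorem mem_centre_iff (i : ι) (a : A) :
    a ∈ centre V K A hA i ↔ (V i).valuation (a : L) < 1 := by
  unfold centre
  rw [Ideal.mem_comap, ValuationSubring.valuation_lt_one_iff]
  rfl

theorem notMem_centre_iff (i : ι) (a : A) :
    a ∉ centre V K A hA i ↔ (V i).valuation (a : L) = 1 := by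
  rw [mem_centre_iff]
  have h1 : (V i).valuation (a : L) ≤ 1 :=
    (ValuationSubring.valuation_le_one_iff _ _).2 (((hA a).1 a.2).2 i)
  constructor
  · intro h
    exact le_antisymm h1 (not_lt.1 h)
  · intro h
    rw [h]
    exact lt_irrefl _

include hA in
/-- Every proper ideal of `A` lies in one of the centres. -/
theorem exists_le_centre (I : Ideal A) (hI : I ≠ ⊤) : ∃ i, I ≤ centre V K A hA i := by
  classical
  cases nonempty_fintype ι
  by_contra hcon
  push Not at hcon
  obtain ⟨i0⟩ := ‹Nonempty ι›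
  have h1 : ¬ ((I : Set A) ⊆ ⋃ i ∈ ((Finset.univ : Finset ι) : Set ι), centre V K A hA i) := by
    rw [Ideal.subset_union_prime i0 i0 (fun i _ _ _ => inferInstance)]
    rintro ⟨i, _, hi⟩
    exact hcon i hi
  rw [Set.not_subset] at h1
  obtain ⟨a, haI, ha⟩ := h1
  simp only [coe_univ, Set.mem_univ, Set.iUnion_true, Set.mem_iUnion, SetLike.mem_coe,
    not_exists] at ha
  have hval : ∀ i, (V i).valuation (a : L) = 1 := fun i => (notMem_centre_iff V K A hA i a).1 (ha i)
  have ha0 : (a : L) ≠ 0 := by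
    intro h0
    have := hval i0
    rw [h0, map_zero] at this
    exact zero_ne_one this
  have hinv : (a : L)⁻¹ ∈ A := by
    rw [hA]
    refine ⟨K.inv_mem ((hA a).1 a.2).1, fun i => ?_⟩
    rw [← ValuationSubring.valuation_le_one_iff, map_inv₀, hval i, inv_one]
  apply hI
  rw [Ideal.eq_top_iff_one]
  have : (1 : A) = ⟨(a : L)⁻¹, hinv⟩ * a := by
    apply Subtype.ext
    simp [inv_mul_cancel₀ ha0]
  rw [this]
  exact I.mul_mem_left _ haI

include hA in
theorem finite_maximalSpectrum : Finite (MaximalSpectrum A) := by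
  have key : ∀ M : MaximalSpectrum A, ∃ i, M.asIdeal = centre V K A hA i := by
    intro M
    obtain ⟨i, hi⟩ := exists_le_centre V K A hA M.asIdeal M.isMaximal.ne_top
    exact ⟨i, M.isMaximal.eq_of_le (Ideal.IsPrime.ne_top inferInstance) hi⟩
  choose f hf using key
  apply Finite.of_injective f
  intro M M' h
  ext1
  rw [hf M, hf M', h]

include hA in
theorem exists_div (x : L) (hx : x ∈ K) :
    ∃ a b : L, a ∈ A ∧ b ∈ A ∧ b ≠ 0 ∧ x = a / b := by
  obtain ⟨r, hr0, hrK, hr⟩ := exists_denominator V x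
  refine ⟨x * r, r, ?_, ?_, hr0, ?_⟩
  · rw [hA]
    exact ⟨K.mul_mem hx (hrK K hx), fun i => (hr i).2.1⟩
  · rw [hA]
    exact ⟨hrK K hx, fun i => (hr i).1⟩
  · field_simp

include hA in
/-- If `x ∈ K` lies in `V i`, it is a fraction with denominator outside the centre of `V i`. -/
theorem exists_frac_of_mem (i : ι) (x : L) (hx : x ∈ K) (hxi : x ∈ V i) :
    ∃ c r : A, r ∉ centre V K A hA i ∧ (c : L) = x * r := by
  obtain ⟨r, hr0, hrK, hr⟩ := exists_denominator V x
  refine ⟨⟨x * r, ?_⟩, ⟨r, ?_⟩, ?_, rfl⟩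
  · rw [hA]
    exact ⟨K.mul_mem hx (hrK K hx), fun i => (hr i).2.1⟩
  · rw [hA]
    exact ⟨hrK K hx, fun i => (hr i).1⟩
  · rw [notMem_centre_iff]
    exact (hr i).2.2 hxi

include hA in
theorem valuationRing_localization (p : Ideal A) [p.IsPrime] :
    ValuationRing (Localization.AtPrime p) := by
  obtain ⟨i, hi⟩ := exists_le_centre V K A hA p (Ideal.IsPrime.ne_top inferInstance)
  -- divisibility in `A` up to a factor outside `p`
  have key : ∀ a b : A, (b : L) ≠ 0 → (a : L) / b ∈ V i →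
      ∃ c r : A, r ∉ p ∧ a * r = c * b := by
    intro a b hb hab
    have hK : (a : L) / b ∈ K := K.div_mem ((hA a).1 a.2).1 ((hA b).1 b.2).1
    obtain ⟨c, r, hr, hc⟩ := exists_frac_of_mem V K A hA i _ hK hab
    refine ⟨c, r, fun h => hr (hi h), ?_⟩
    apply Subtype.ext
    push_cast
    rw [hc]
    field_simp
  refine { toPreValuationRing := ⟨fun x y => ?_⟩ }
  obtain ⟨⟨a, s⟩, rfl⟩ := IsLocalization.mk'_surjective p.primeCompl x
  obtain ⟨⟨b, t⟩, rfl⟩ := IsLocalization.mk'_surjective p.primeCompl y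
  by_cases hb : (b : L) = 0
  · have hb' : b = 0 := Subtype.ext hb
    refine ⟨0, Or.inl ?_⟩
    simp [hb']
  by_cases ha : (a : L) = 0
  · have ha' : a = 0 := Subtype.ext ha
    refine ⟨0, Or.inr ?_⟩
    simp [ha']
  rcases (V i).mem_or_inv_mem ((a : L) / b) with h | h
  · -- b divides a
    obtain ⟨c, r, hr, hc⟩ := key a b hb h
    refine ⟨IsLocalization.mk' _ (c * t) (⟨r, hr⟩ * s), Or.inr ?_⟩
    rw [← IsLocalization.mk'_mul, IsLocalization.mk'_eq_iff_eq]
    congr 1
    simp only [Submonoid.coe_mul]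
    linear_combination (-(t : A) * s) * hc
  · rw [inv_div] at h
    obtain ⟨c, r, hr, hc⟩ := key b a ha h
    refine ⟨IsLocalization.mk' _ (c * s) (⟨r, hr⟩ * t), Or.inl ?_⟩
    rw [← IsLocalization.mk'_mul, IsLocalization.mk'_eq_iff_eq]
    congr 1
    simp only [Submonoid.coe_mul]
    linear_combination (-(t : A) * s) * hc

end Groth.Agent.Lib.Helper12.FinValInter
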