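import Mathlib
import Groth.Agent.Lib.Helper12.FinValInterB

/-! The valuation subrings of the fraction field attached to a Prüfer domain. -/

namespace Groth.Agent.Lib.Helper12.FinValInter

variable (R L : Type*) [CommRing R] [IsDomain R] [Field L] [Algebra R L] [IsFractionRing R L]

/-- The localisation at a prime as a valuation subring of the fraction field. -/
noncomputable def valSub (p : Ideal R) [p.IsPrime] (h : ValuationRing (Localization.AtPrime p)) :
    ValuationSubring L :=
  { (Localization.subalgebra.ofField L p.primeCompl p.primeCompl_le_nonZeroDivisors).toSubring with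
    mem_or_inv_mem' := by
      intro x
      obtain ⟨a, b, hb, rfl⟩ := IsFractionRing.div_surjective (A := R) x
      have hb0 : b ≠ 0 := nonZeroDivisors.ne_zero hb
      have hinj : Function.Injective (algebraMap R (Localization.AtPrime p)) :=
        IsLocalization.injective _ p.primeCompl_le_nonZeroDivisors
      have hinjL : Function.Injective (algebraMap R L) := IsFractionRing.injective R L
      obtain ⟨c, hc⟩ := ValuationRing.cond (algebraMap R (Localization.AtPrime p) a)
        (algebraMap R (Localization.AtPrime p) b)
      obtain ⟨⟨c', t⟩, rfl⟩ := IsLocalization.mk'_surjective p.primeCompl c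
      have ht0 : (t : R) ≠ 0 := fun h0 => t.2 (h0 ▸ p.zero_mem)
      have htL : algebraMap R L t ≠ 0 := fun h0 => ht0 (hinjL (by rw [h0, map_zero]))
      have hbL : algebraMap R L b ≠ 0 := fun h0 => hb0 (hinjL (by rw [h0, map_zero]))
      rcases hc with hc | hc
      · right
        have h1 : a * c' = b * t := by
          apply hinj
          rw [map_mul, map_mul, ← hc, mul_assoc, IsLocalization.mk'_spec]
        have ha0 : a ≠ 0 := by
          rintro rfl
          rw [zero_mul] at h1
          exact mul_ne_zero hb0 ht0 h1.symm
        have haL : algebraMap R L a ≠ 0 := fun h0 => ha0 (hinjL (by rw [h0, map_zero]))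
        refine ⟨c', t, t.2, ?_⟩
        have h2 := congrArg (algebraMap R L) h1
        rw [map_mul, map_mul] at h2
        field_simp
        linear_combination -h2
      · left
        have h1 : b * c' = a * t := by
          apply hinj
          rw [map_mul, map_mul, ← hc, mul_assoc, IsLocalization.mk'_spec]
        refine ⟨c', t, t.2, ?_⟩
        have h2 := congrArg (algebraMap R L) h1
        rw [map_mul, map_mul] at h2
        field_simp
        linear_combination -h2 }

theorem mem_valSub_iff (p : Ideal R) [p.IsPrime] (h : ValuationRing (Localization.AtPrime p))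
    (x : L) : x ∈ valSub R L p h ↔
      x ∈ Localization.subalgebra.ofField L p.primeCompl p.primeCompl_le_nonZeroDivisors :=
  Iff.rfl

theorem mem_range_iff (hR : ∀ (p : Ideal R) [p.IsPrime], ValuationRing (Localization.AtPrime p))
    (x : L) : x ∈ (algebraMap R L).range ↔
      ∀ m : MaximalSpectrum R, x ∈ valSub R L m.asIdeal (hR m.asIdeal) := by
  have h1 := MaximalSpectrum.iInf_localization_eq_bot R L
  have h2 : x ∈ (algebraMap R L).range ↔ x ∈ (⊥ : Subalgebra R L) := by
    rw [Algebra.mem_bot]
    rfl
  rw [h2, ← h1, Algebra.mem_iInf]
  rfl

end Groth.Agent.Lib.Helper12.FinValInter
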