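import Mathlib

/-! A semilocal Prüfer domain of finite Krull dimension has a finite spectrum. -/

namespace Groth.Agent.Lib.Helper12.FinValInter

variable (R : Type*) [CommRing R] [IsDomain R]
  (hR : ∀ (p : Ideal R) [p.IsPrime], ValuationRing (Localization.AtPrime p))

include hR in
/-- Primes below a common prime are comparable. -/
theorem le_total_of_le (m : Ideal R) [m.IsPrime] (p q : Ideal R) [p.IsPrime] [q.IsPrime]
    (hp : p ≤ m) (hq : q ≤ m) : p ≤ q ∨ q ≤ p := by
  by_contra hcon
  push Not at hcon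
  obtain ⟨h1, h2⟩ := hcon
  obtain ⟨a, hap, haq⟩ := Set.not_subset.1 h1
  obtain ⟨b, hbq, hbp⟩ := Set.not_subset.1 h2
  haveI := hR m
  have hinj : Function.Injective (algebraMap R (Localization.AtPrime m)) :=
    IsLocalization.injective _ m.primeCompl_le_nonZeroDivisors
  obtain ⟨c, hc⟩ := ValuationRing.cond (algebraMap R (Localization.AtPrime m) a)
    (algebraMap R (Localization.AtPrime m) b)
  obtain ⟨⟨c', t⟩, rfl⟩ := IsLocalization.mk'_surjective m.primeCompl c
  rcases hc with hc | hc
  · have h3 : a * c' = b * t := by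
      apply hinj
      rw [map_mul, map_mul, ← hc, mul_assoc, IsLocalization.mk'_spec]
    have h4 : b * (t : R) ∈ p := h3 ▸ p.mul_mem_right _ hap
    rcases (Ideal.IsPrime.mem_or_mem inferInstance h4) with h5 | h5
    · exact hbp h5
    · exact t.2 (hp h5)
  · have h3 : b * c' = a * t := by
      apply hinj
      rw [map_mul, map_mul, ← hc, mul_assoc, IsLocalization.mk'_spec]
    have h4 : a * (t : R) ∈ q := h3 ▸ q.mul_mem_right _ hbq
    rcases (Ideal.IsPrime.mem_or_mem inferInstance h4) with h5 | h5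
    · exact haq h5
    · exact t.2 (hq h5)

include hR in
theorem finite_primeSpectrum (hfin : Finite (MaximalSpectrum R)) (hdim : ringKrullDim R < ⊤) :
    Finite (PrimeSpectrum R) := by
  classical
  haveI : FiniteRingKrullDim R := by
    rw [finiteRingKrullDim_iff_ne_bot_and_top]
    refine ⟨fun h => ?_, hdim.ne⟩
    have := ringKrullDim_nonneg_of_nontrivial (R := R)
    rw [h] at this
    exact absurd this (by decide)
  have hm : ∀ p : PrimeSpectrum R, ∃ m : MaximalSpectrum R, p.asIdeal ≤ m.asIdeal := by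
    intro p
    obtain ⟨m, hm, hpm⟩ := Ideal.exists_le_maximal p.asIdeal p.isPrime.ne_top
    exact ⟨⟨m, hm⟩, hpm⟩
  choose f hf using hm
  have hinj : Function.Injective (fun p : PrimeSpectrum R => (f p, p.asIdeal.height)) := by
    intro p q hpq
    simp only [Prod.mk.injEq] at hpq
    obtain ⟨h1, h2⟩ := hpq
    have hq := hf q
    rw [← h1] at hq
    ext1
    rcases le_total_of_le R hR (f p).asIdeal p.asIdeal q.asIdeal (hf p) hq with h | h
    · by_contra hne
      have hlt : p.asIdeal < q.asIdeal := lt_of_le_of_ne h hne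
      have := Ideal.height_strict_mono_of_isPrime_of_isPrime hlt
      rw [h2] at this
      exact lt_irrefl _ this
    · by_contra hne
      have hlt : q.asIdeal < p.asIdeal := lt_of_le_of_ne h (Ne.symm hne)
      have := Ideal.height_strict_mono_of_isPrime_of_isPrime hlt
      rw [h2] at this
      exact lt_irrefl _ this
  -- bound the heights
  obtain ⟨d, hd⟩ : ∃ d : ℕ∞, d ≠ ⊤ ∧ ∀ p : PrimeSpectrum R, p.asIdeal.height ≤ d := by
    have h1 : ringKrullDim R ≠ ⊥ := ringKrullDim_ne_bot
    obtain ⟨d, hd⟩ := WithBot.ne_bot_iff_exists.1 h1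
    refine ⟨d, ?_, fun p => ?_⟩
    · rintro rfl
      rw [← hd] at hdim
      exact lt_irrefl _ hdim
    · have := Ideal.height_le_ringKrullDim_of_isPrime (I := p.asIdeal)
      rw [← hd] at this
      exact WithBot.coe_le_coe.1 this
  have hfin2 : (Set.Iic d).Finite := by
    obtain ⟨n, rfl⟩ := ENat.ne_top_iff_exists.1 hd.1
    refine ((Set.finite_Iic n).image (Nat.cast : ℕ → ℕ∞)).subset ?_
    intro x hx
    have hx' : x ≤ (n : ℕ∞) := hx
    obtain ⟨k, rfl⟩ := ENat.ne_top_iff_exists.1 (ne_top_of_le_ne_top (ENat.coe_ne_top n) hx')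
    exact ⟨k, Nat.cast_le.1 hx', rfl⟩
  haveI : Finite (Set.Iic d) := hfin2
  have hinj2 : Function.Injective
      (fun p : PrimeSpectrum R => (f p, (⟨p.asIdeal.height, hd.2 p⟩ : Set.Iic d))) := by
    intro p q hpq
    apply hinj
    simp only [Prod.mk.injEq, Subtype.mk.injEq] at hpq ⊢
    exact hpq
  exact Finite.of_injective _ hinj2

end Groth.Agent.Lib.Helper12.FinValInter
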