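import Mathlib

/-! Multiplicative independence of values lying in pairwise distinct archimedean classes. -/

namespace Groth.Agent.Lib.Helper12.ValRank

variable {Γ : Type*} [LinearOrderedCommGroupWithZero Γ]

/-- `g` is infinitely smaller than `h`. -/
def Inf (g h : Γ) : Prop := ∀ M : ℕ, g ≤ h ^ M

theorem indep_aux {ι : Type*} [DecidableEq ι] (g : ι → Γ) (h0 : ∀ i, 0 < g i) (h1 : ∀ i, g i < 1)
    (hp : ∀ i j, i ≠ j → Inf (g i) (g j) ∨ Inf (g j) (g i)) :
    ∀ (n : ℕ) (t : Finset ι), t.card = n → ∀ a : ι → ℤ,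
      ((∏ i ∈ t, g i ^ a i = 1 → ∀ i ∈ t, a i = 0) ∧
       ∀ h : Γ, h < 1 → (∀ i ∈ t, Inf h (g i)) → h < ∏ i ∈ t, g i ^ a i) := by
  intro n
  induction n with
  | zero =>
    intro t ht a
    rw [Finset.card_eq_zero] at ht
    subst ht
    simp
  | succ n ih =>
    intro t ht a
    have hne : t.Nonempty := by rw [← Finset.card_pos]; omega
    obtain ⟨i0, hi0, hmin⟩ := Finset.exists_min_image t g hne
    have hcard : (t.erase i0).card = n := by rw [Finset.card_erase_of_mem hi0, ht]; rfl
    have hinf : ∀ i ∈ t.erase i0, Inf (g i0) (g i) := by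
      intro i hi
      have hne : i ≠ i0 := Finset.ne_of_mem_erase hi
      rcases hp i0 i hne.symm with h | h
      · exact h
      · exfalso
        have h2 := h 2
        have h3 : g i0 ^ 2 < g i0 := by
          calc g i0 ^ 2 = g i0 * g i0 := sq _
            _ < g i0 * 1 := mul_lt_mul_of_pos_left (h1 i0) (h0 i0)
            _ = g i0 := mul_one _
        exact absurd (hmin i (Finset.mem_of_mem_erase hi)) (not_le.2 (h2.trans_lt h3))
    obtain ⟨T, hT⟩ : ∃ T, T = ∏ i ∈ t.erase i0, g i ^ a i := ⟨_, rfl⟩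
    have hprod : ∏ i ∈ t, g i ^ a i = g i0 ^ a i0 * T := by
      rw [hT]
      exact (Finset.mul_prod_erase t _ hi0).symm
    have hT1 : g i0 < T := by
      rw [hT]
      exact (ih _ hcard a).2 (g i0) (h1 i0) hinf
    have hT2 : g i0 < T⁻¹ := by
      have := (ih _ hcard (fun i => - a i)).2 (g i0) (h1 i0) hinf
      rw [hT, ← Finset.prod_inv_distrib]
      simpa [zpow_neg] using this
    have hTpos : 0 < T := lt_trans (h0 i0) hT1
    refine ⟨fun hone => ?_, fun h hh hinfh => ?_⟩
    · rw [hprod] at hone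
      have ha0 : a i0 = 0 := by
        rcases lt_trichotomy (a i0) 0 with hneg | hz | hpos
        · exfalso
          have h4 : (g i0)⁻¹ ≤ g i0 ^ a i0 := by
            have := zpow_le_zpow_right_of_le_one₀ (h0 i0) (h1 i0).le (show a i0 ≤ -1 by omega)
            simpa using this
          have h5 : (g i0)⁻¹ * T ≤ 1 := by
            rw [← hone]
            exact mul_le_mul_left h4 T
          have h6 : 1 < (g i0)⁻¹ * T := by
            rw [← inv_mul_cancel₀ (h0 i0).ne']
            exact mul_lt_mul_of_pos_left hT1 (inv_pos.2 (h0 i0))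
          exact absurd h5 (not_le.2 h6)
        · exact hz
        · exfalso
          have h4 : g i0 ^ a i0 ≤ g i0 := by
            have := zpow_le_zpow_right_of_le_one₀ (h0 i0) (h1 i0).le (show (1:ℤ) ≤ a i0 by omega)
            simpa using this
          have h5 : 1 ≤ g i0 * T := by
            rw [← hone]
            exact mul_le_mul_left h4 T
          have h6 : g i0 * T < 1 := by
            rw [← inv_mul_cancel₀ hTpos.ne']
            exact mul_lt_mul_of_pos_right hT2 hTpos
          exact absurd h5 (not_le.2 h6)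
      rw [ha0, zpow_zero, one_mul] at hone
      intro i hi
      by_cases hii : i = i0
      · rw [hii, ha0]
      · exact (ih _ hcard a).1 (hT ▸ hone) i (Finset.mem_erase.2 ⟨hii, hi⟩)
    · rw [hprod]
      have h7 : g i0 ^ (a i0 + 1) < g i0 ^ a i0 * T := by
        rw [zpow_add_one₀ (h0 i0).ne']
        exact mul_lt_mul_of_pos_left hT1 (zpow_pos (h0 i0) _)
      refine lt_of_le_of_lt ?_ h7
      by_cases hle : a i0 + 1 ≤ 0
      · exact hh.le.trans (one_le_zpow_of_nonpos₀ (h0 i0) (h1 i0).le hle)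
      · obtain ⟨M, hM⟩ : ∃ M : ℕ, a i0 + 1 = M := ⟨(a i0 + 1).toNat, by omega⟩
        rw [hM, zpow_natCast]
        exact hinfh i0 hi0 M

/-- Values in pairwise different archimedean classes are multiplicatively independent. -/
theorem indep {ι : Type*} [Fintype ι] (g : ι → Γ) (h0 : ∀ i, 0 < g i) (h1 : ∀ i, g i < 1)
    (hp : ∀ i j, i ≠ j → Inf (g i) (g j) ∨ Inf (g j) (g i)) (a b : ι → ℤ)
    (hab : ∏ i, g i ^ a i = ∏ i, g i ^ b i) : a = b := by
  classical
  have h2 : ∏ i, g i ^ (a i - b i) = 1 := by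
    have h3 : ∀ i, g i ^ (a i - b i) = g i ^ a i / g i ^ b i := fun i => zpow_sub₀ (h0 i).ne' _ _
    simp only [h3]
    rw [Finset.prod_div_distrib, hab]
    refine div_self ?_
    exact Finset.prod_ne_zero_iff.2 fun i _ => (zpow_pos (h0 i) _).ne'
  have h4 := (indep_aux g h0 h1 hp _ Finset.univ rfl (fun i => a i - b i)).1 h2
  funext i
  have := h4 i (Finset.mem_univ i)
  omega

/-- A finite nonempty sum of nonzero terms with pairwise distinct valuations is nonzero. -/
theorem sum_ne_zero_of_distinct {K : Type*} [Field K] (v : Valuation K Γ) {α : Type*}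
    (T : Finset α) (hT : T.Nonempty) (f : α → K) (hf : ∀ a ∈ T, f a ≠ 0)
    (hd : ∀ a ∈ T, ∀ b ∈ T, a ≠ b → v (f a) ≠ v (f b)) : ∑ a ∈ T, f a ≠ 0 := by
  classical
  obtain ⟨a0, ha0, hmax⟩ := Finset.exists_max_image T (fun a => v (f a)) hT
  have hv0 : v (f a0) ≠ 0 := (Valuation.ne_zero_iff v).2 (hf a0 ha0)
  have hlt : v (∑ a ∈ T.erase a0, f a) < v (f a0) := by
    apply Valuation.map_sum_lt v hv0
    intro a ha
    have hne : a ≠ a0 := Finset.ne_of_mem_erase ha
    have haT := Finset.mem_of_mem_erase ha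
    exact lt_of_le_of_ne (hmax a haT) (hd a haT a0 ha0 hne)
  rw [← Finset.add_sum_erase T f ha0]
  intro h0
  have := Valuation.map_add_eq_of_lt_left v hlt
  rw [h0, map_zero] at this
  exact hv0 this.symm

end Groth.Agent.Lib.Helper12.ValRank
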