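import Mathlib

/-! A valuation restricted to the prime field has a value group generated by one element. -/

namespace Groth.Agent.Lib.Helper12.ValRank

variable {K Γ : Type*} [Field K] [LinearOrderedCommGroupWithZero Γ] (v : Valuation K Γ)

theorem map_natCast_le_one (n : ℕ) : v (n : K) ≤ 1 := by
  induction n with
  | zero => simp
  | succ n ih =>
    rw [Nat.cast_succ]
    exact (v.map_add _ _).trans (max_le ih (by simp))

theorem exists_uniformizer_natCast :
    ∃ π : K, π ≠ 0 ∧ π ∈ (⊥ : Subfield K) ∧ v π ≤ 1 ∧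
      ∀ n : ℕ, (n : K) ≠ 0 → ∃ e : ℕ, v (n : K) = v π ^ e := by
  classical
  by_cases hA : ∀ n : ℕ, (n : K) ≠ 0 → v (n : K) = 1
  · exact ⟨1, one_ne_zero, one_mem _, by simp, fun n hn => ⟨0, by simp [hA n hn]⟩⟩
  · push Not at hA
    have hex : ∃ n : ℕ, (n : K) ≠ 0 ∧ v (n : K) ≠ 1 := hA
    obtain ⟨hq0, hq1⟩ := Nat.find_spec hex
    have hmin : ∀ m, m < Nat.find hex → ¬ ((m : K) ≠ 0 ∧ v (m : K) ≠ 1) :=
      fun m hm => Nat.find_min hex hm
    obtain ⟨q, hq⟩ : ∃ q, q = Nat.find hex := ⟨_, rfl⟩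
    rw [← hq] at hq0 hq1 hmin
    have hqlt : v (q : K) < 1 := lt_of_le_of_ne (map_natCast_le_one v q) hq1
    have hq2 : 1 < q := by
      rcases q with _ | _ | q
      · simp at hq0
      · simp at hq1
      · omega
    refine ⟨q, hq0, natCast_mem _ q, hqlt.le, ?_⟩
    intro n
    induction n using Nat.strong_induction_on with
    | _ n ih =>
      intro hn
      have hn0 : 0 < n := by
        rcases Nat.eq_zero_or_pos n with h | h
        · subst h
          simp at hn
        · exact h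
      have hdm : (n : K) = (q : K) * ((n / q : ℕ) : K) + ((n % q : ℕ) : K) := by
        rw [← Nat.cast_mul, ← Nat.cast_add, Nat.div_add_mod]
      by_cases hs : ((n % q : ℕ) : K) = 0
      · rw [hs, add_zero] at hdm
        have ht0 : ((n / q : ℕ) : K) ≠ 0 := by
          intro h0
          rw [h0, mul_zero] at hdm
          exact hn hdm
        obtain ⟨e, he⟩ := ih (n / q) (Nat.div_lt_self hn0 hq2) ht0
        refine ⟨e + 1, ?_⟩
        rw [hdm, map_mul, he, pow_succ, mul_comm]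
      · have hs1 : v ((n % q : ℕ) : K) = 1 := by
          have := hmin (n % q) (Nat.mod_lt _ (by omega))
          by_contra h1
          exact this ⟨hs, h1⟩
        refine ⟨0, ?_⟩
        rw [pow_zero, hdm]
        have hlt : v ((q : K) * ((n / q : ℕ) : K)) < v ((n % q : ℕ) : K) := by
          rw [hs1, map_mul]
          calc v (q : K) * v ((n / q : ℕ) : K) ≤ v (q : K) * 1 :=
                mul_le_mul_right (map_natCast_le_one v _) _
            _ = v (q : K) := mul_one _
            _ < 1 := hqlt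
        rw [Valuation.map_add_eq_of_lt_right v hlt, hs1]

theorem exists_uniformizer :
    ∃ π : K, π ≠ 0 ∧ π ∈ (⊥ : Subfield K) ∧ v π ≤ 1 ∧
      ∀ c ∈ (⊥ : Subfield K), c ≠ 0 → ∃ e : ℤ, v c = v π ^ e := by
  obtain ⟨π, hπ0, hπ, hπ1, hn⟩ := exists_uniformizer_natCast v
  refine ⟨π, hπ0, hπ, hπ1, ?_⟩
  have hint : ∀ m : ℤ, (m : K) ≠ 0 → ∃ e : ℕ, v (m : K) = v π ^ e := by
    intro m hm
    rcases Int.natAbs_eq m with h | h
    · rw [h] at hm ⊢
      rw [Int.cast_natCast] at hm ⊢
      exact hn _ hm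
    · rw [h] at hm ⊢
      rw [Int.cast_neg, Int.cast_natCast] at hm ⊢
      rw [Valuation.map_neg]
      exact hn _ (neg_ne_zero.1 hm)
  intro c hc hc0
  rw [← Subfield.closure_empty, Subfield.mem_closure_iff, Subring.closure_empty] at hc
  obtain ⟨y, hy, z, hz, rfl⟩ := hc
  obtain ⟨m, rfl⟩ := Subring.mem_bot.1 hy
  obtain ⟨n, rfl⟩ := Subring.mem_bot.1 hz
  have hm0 : (m : K) ≠ 0 := fun h => hc0 (by rw [h, zero_div])
  have hn0 : (n : K) ≠ 0 := fun h => hc0 (by rw [h, div_zero])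
  obtain ⟨e1, he1⟩ := hint m hm0
  obtain ⟨e2, he2⟩ := hint n hn0
  refine ⟨(e1 : ℤ) - e2, ?_⟩
  rw [map_div₀, he1, he2, zpow_sub₀ ((Valuation.ne_zero_iff v).2 hπ0), zpow_natCast, zpow_natCast]

end Groth.Agent.Lib.Helper12.ValRank
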