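import Mathlib
import Groth.Agent.Lib.Helper12.ValRankA
import Groth.Agent.Lib.Helper12.ValRankB
import Groth.Agent.Lib.helper10.Abhyankar

/-! Elements whose values lie in distinct archimedean classes are algebraically independent over the
prime field (up to one of them); the rank of a valuation is at most the transcendence degree plus
one. -/

namespace Groth.Agent.Lib.Helper12.ValRank

open Cardinal

variable {K Γ : Type*} [Field K] [LinearOrderedCommGroupWithZero Γ] (v : Valuation K Γ)

theorem algebraicIndependent_of_inf {ι : Type*} [Fintype ι] (x : ι → K) (π : K) (hπ0 : π ≠ 0)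
    (hx0 : ∀ i, x i ≠ 0) (hx1 : ∀ i, v (x i) < 1)
    (hp : ∀ i j, i ≠ j → Inf (v (x i)) (v (x j)) ∨ Inf (v (x j)) (v (x i)))
    (hπ : v π = 1 ∨ (v π < 1 ∧ ∀ i, Inf (v (x i)) (v π) ∨ Inf (v π) (v (x i))))
    (k : Subfield K) (hk : ∀ c ∈ k, c ≠ 0 → ∃ e : ℤ, v c = v π ^ e) :
    AlgebraicIndependent k x := by
  classical
  apply Groth.Agent.Lib.helper10.Abhyankar.algebraicIndependent_of_linearIndependent_monomials
  rw [linearIndependent_iff']
  intro s c hsum d hd
  by_contra hcd
  have hpos : ∀ i, 0 < v (x i) := fun i => zero_lt_iff.2 ((Valuation.ne_zero_iff v).2 (hx0 i))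
  have hπpos : 0 < v π := zero_lt_iff.2 ((Valuation.ne_zero_iff v).2 hπ0)
  have hmono : ∀ d : ι →₀ ℕ, (d.prod fun i n => x i ^ n) = ∏ i, x i ^ d i := fun d =>
    Finsupp.prod_fintype _ _ (fun i => pow_zero _)
  have hvmono : ∀ d : ι →₀ ℕ, v (d.prod fun i n => x i ^ n) = ∏ i, v (x i) ^ ((d i : ℕ) : ℤ) := by
    intro d
    rw [hmono, map_prod]
    refine Finset.prod_congr rfl fun i _ => ?_
    rw [map_pow, zpow_natCast]
  have hsum' : ∑ d ∈ s.filter (fun d => c d ≠ 0), c d • (d.prod fun i n => x i ^ n) = 0 := by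
    rw [Finset.sum_filter_of_ne, hsum]
    intro d _ hne h0
    exact hne (by rw [h0, zero_smul])
  refine Groth.Agent.Lib.Helper12.ValRank.sum_ne_zero_of_distinct v _ ⟨d, Finset.mem_filter.2 ⟨hd, hcd⟩⟩
    (fun d => c d • (d.prod fun i n => x i ^ n)) ?_ ?_ hsum'
  · intro d hd
    have hc : c d ≠ 0 := (Finset.mem_filter.1 hd).2
    rw [Subfield.smul_def, smul_eq_mul, hmono]
    refine mul_ne_zero (fun h => hc (Subtype.ext h)) ?_
    exact Finset.prod_ne_zero_iff.2 fun i _ => pow_ne_zero _ (hx0 i)
  · intro d1 hd1 d2 hd2 hne heq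
    have hc1 : c d1 ≠ 0 := (Finset.mem_filter.1 hd1).2
    have hc2 : c d2 ≠ 0 := (Finset.mem_filter.1 hd2).2
    obtain ⟨e1, he1⟩ := hk (c d1) (c d1).2 (fun h => hc1 (Subtype.ext h))
    obtain ⟨e2, he2⟩ := hk (c d2) (c d2).2 (fun h => hc2 (Subtype.ext h))
    rw [Subfield.smul_def, Subfield.smul_def, smul_eq_mul, smul_eq_mul, map_mul, map_mul, hvmono,
      hvmono, he1, he2] at heq
    apply hne
    rcases hπ with hπ1 | ⟨hπ1, hπ2⟩
    · rw [hπ1, one_zpow, one_zpow, one_mul, one_mul] at heq
      have := indep (fun i => v (x i)) hpos hx1 hp (fun i => (d1 i : ℤ)) (fun i => (d2 i : ℤ)) heq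
      ext i
      exact Nat.cast_injective (congrFun this i)
    · have hp' : ∀ i j : Option ι, i ≠ j →
          Inf ((fun o : Option ι => o.elim (v π) fun i => v (x i)) i)
              ((fun o : Option ι => o.elim (v π) fun i => v (x i)) j) ∨
          Inf ((fun o : Option ι => o.elim (v π) fun i => v (x i)) j)
              ((fun o : Option ι => o.elim (v π) fun i => v (x i)) i) := by
        intro i j hij
        cases i with
        | none =>
          cases j with
          | none => exact absurd rfl hij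
          | some j => exact (hπ2 j).symm
        | some i =>
          cases j with
          | none => exact hπ2 i
          | some j => exact hp i j (fun h => hij (by rw [h]))
      have := indep (fun o : Option ι => o.elim (v π) fun i => v (x i))
        (fun o => by cases o <;> simp [hπpos, hpos])
        (fun o => by cases o <;> simp [hπ1, hx1]) hp'
        (fun o => o.elim e1 fun i => (d1 i : ℤ)) (fun o => o.elim e2 fun i => (d2 i : ℤ))
        (by simpa [Fintype.prod_option] using heq)
      ext i
      exact Nat.cast_injective (congrFun this (some i))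

theorem card_le_trdeg_add_one (r : ℕ) (x : Fin r → K) (hx0 : ∀ j, x j ≠ 0)
    (hx1 : ∀ j, v (x j) < 1) (hchain : ∀ i j, i < j → Inf (v (x i)) (v (x j))) (d : ℕ)
    (hd : Algebra.trdeg (⊥ : Subfield K) K ≤ d) : r ≤ d + 1 := by
  classical
  obtain ⟨π, hπ0, -, hπ1, hk⟩ := exists_uniformizer v
  have hpos : ∀ i, 0 < v (x i) := fun i => zero_lt_iff.2 ((Valuation.ne_zero_iff v).2 (hx0 i))
  have hp : ∀ i j : Fin r, i ≠ j → Inf (v (x i)) (v (x j)) ∨ Inf (v (x j)) (v (x i)) := by
    intro i j hij
    rcases lt_or_gt_of_ne hij with h | h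
    · exact Or.inl (hchain i j h)
    · exact Or.inr (hchain j i h)
  -- the conflicting indices
  obtain ⟨C, hC⟩ : ∃ C : Finset (Fin r), C = Finset.univ.filter
      (fun j => ¬ Inf (v (x j)) (v π) ∧ ¬ Inf (v π) (v (x j))) := ⟨_, rfl⟩
  have hCcard : C.card ≤ 1 := by
    rw [Finset.card_le_one]
    have key : ∀ i j : Fin r, i ∈ C → j ∈ C → i < j → False := by
      intro i j hi hj hij
      rw [hC, Finset.mem_filter] at hi hj
      apply hj.2.2
      have h1 := hi.2.1
      unfold Inf at h1
      push Not at h1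
      obtain ⟨M0, hM0⟩ := h1
      have hM0' : M0 ≠ 0 := by
        rintro rfl
        rw [pow_zero] at hM0
        exact absurd (hx1 i) (not_lt.2 hM0.le)
      intro M'
      have h2 : v π ^ M0 ≤ (v (x j) ^ M') ^ M0 := by
        rw [← pow_mul]
        exact hM0.le.trans (hchain i j hij (M' * M0))
      exact le_of_pow_le_pow_left₀ hM0' zero_le' h2
    intro i hi j hj
    rcases lt_trichotomy i j with h | h | h
    · exact (key i j hi hj h).elim
    · exact h
    · exact (key j i hj hi h).elim
  have hAI : AlgebraicIndependent (⊥ : Subfield K) (fun j : {j : Fin r // j ∉ C} => x j) := by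
    apply algebraicIndependent_of_inf v (ι := {j : Fin r // j ∉ C})
      (fun j : {j : Fin r // j ∉ C} => x j) π hπ0 (fun j => hx0 j) (fun j => hx1 j)
      (fun i j hij => hp i j (fun h => hij (Subtype.ext h))) ?_ _ hk
    rcases lt_or_eq_of_le hπ1 with h | h
    · refine Or.inr ⟨h, fun j => ?_⟩
      by_contra hcon
      push Not at hcon
      have hmem : ∀ j' : Fin r, (¬ Inf (v (x j')) (v π) ∧ ¬ Inf (v π) (v (x j'))) → j' ∈ C := by
        intro j' hj'
        rw [hC, Finset.mem_filter]
        exact ⟨Finset.mem_univ _, hj'⟩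
      exact j.2 (hmem j.1 hcon)
    · exact Or.inl h
  have h1 := hAI.lift_cardinalMk_le_trdeg
  have h2 : (Fintype.card {j : Fin r // j ∉ C} : Cardinal) ≤ (d : Cardinal) := by
    rw [Cardinal.mk_fintype, Cardinal.lift_natCast, Cardinal.lift_uzero] at h1
    exact h1.trans hd
  have h3 : Fintype.card {j : Fin r // j ∉ C} ≤ d := by exact_mod_cast h2
  have h4 : Fintype.card {j : Fin r // j ∉ C} = r - C.card := by
    rw [Fintype.card_subtype_compl, Fintype.card_fin]
    simp
  omega

end Groth.Agent.Lib.Helper12.ValRank
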