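import Mathlib
import Groth.Agent.Lib.Helper12.FinValInterB
import Groth.Agent.Lib.Helper12.ValRankC

/-! Finite intersections of valuation rings in a field of finite transcendence degree over its prime
field have finite Krull dimension. -/

namespace Groth.Agent.Lib.Helper12.FinValInter

open Groth.Agent.Lib.Helper12.ValRank

section dim

variable {L : Type*} [Field L] {ι : Type*} [Finite ι] [Nonempty ι] (V : ι → ValuationSubring L)
  (K : Subfield L) (A : Subring L) (hA : ∀ x, x ∈ A ↔ x ∈ K ∧ ∀ i, x ∈ V i)

include hA in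
theorem ringKrullDim_le (d : ℕ) (hd : Algebra.trdeg (⊥ : Subfield K) K ≤ d) :
    ringKrullDim A ≤ ((d + 1 : ℕ) : WithBot ℕ∞) := by
  unfold ringKrullDim Order.krullDim
  refine iSup_le fun p => ?_
  obtain ⟨i, hi⟩ := exists_le_centre V K A hA (p (Fin.last _)).asIdeal
    (p (Fin.last _)).isPrime.ne_top
  have htop : ∀ j : Fin (p.length + 1), (p j).asIdeal ≤ centre V K A hA i := fun j =>
    le_trans (p.monotone (Fin.le_last j)) hi
  have hstep : ∀ j : Fin p.length, ∃ y : A, y ∈ (p j.succ).asIdeal ∧ y ∉ (p j.castSucc).asIdeal := by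
    intro j
    have hlt : (p j.castSucc).asIdeal < (p j.succ).asIdeal := p.step j
    exact SetLike.exists_of_lt hlt
  choose y hy1 hy2 using hstep
  have hyK : ∀ j, (y j : L) ∈ K := fun j => ((hA _).1 (y j).2).1
  have hy0 : ∀ j, (y j : L) ≠ 0 := by
    intro j h0
    apply hy2 j
    have : y j = 0 := Subtype.ext h0
    rw [this]
    exact Ideal.zero_mem _
  have hr := card_le_trdeg_add_one ((V i).valuation.comap K.subtype) p.length
    (fun j => (⟨(y j : L), hyK j⟩ : K)) ?_ ?_ ?_ d hd
  · exact_mod_cast hr
  · intro j h0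
    exact hy0 j (congrArg Subtype.val h0)
  · intro j
    show (V i).valuation (y j : L) < 1
    rw [← mem_centre_iff V K A hA]
    exact htop _ (hy1 j)
  · intro i' j hij M
    show (V i).valuation (y i' : L) ≤ (V i).valuation (y j : L) ^ M
    by_contra hcon
    rw [not_le] at hcon
    have hwK : (y j : L) ^ M / (y i' : L) ∈ K := K.div_mem (K.pow_mem (hyK j) M) (hyK i')
    have hwV : (y j : L) ^ M / (y i' : L) ∈ V i := by
      rw [← ValuationSubring.valuation_le_one_iff, map_div₀, map_pow]
      have hpos : 0 < (V i).valuation (y i' : L) :=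
        zero_lt_iff.2 ((Valuation.ne_zero_iff _).2 (hy0 i'))
      rw [div_le_one₀ hpos]
      exact hcon.le
    obtain ⟨c, t, ht, hc⟩ := exists_frac_of_mem V K A hA i _ hwK hwV
    have hmono : (p i'.succ).asIdeal ≤ (p j.castSucc).asIdeal := by
      have h1 : i'.succ ≤ j.castSucc := by
        rw [Fin.le_def]
        simp only [Fin.val_succ, Fin.val_castSucc]
        exact hij
      exact p.monotone h1
    have heq : t * y j ^ M = c * y i' := by
      apply Subtype.ext
      push_cast
      rw [hc]
      field_simp [hy0 i']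
    have hmem : t * y j ^ M ∈ (p j.castSucc).asIdeal := by
      rw [heq]
      exact Ideal.mul_mem_left _ _ (hmono (hy1 i'))
    rcases (p j.castSucc).isPrime.mem_or_mem hmem with h | h
    · exact ht (htop _ h)
    · exact hy2 j ((p j.castSucc).isPrime.mem_of_pow_mem M h)

end dim

section trdeg

variable {L : Type*} [Field L]

/-- A finitely generated field has finite transcendence degree over its prime field. -/
theorem exists_trdeg_le (S : Set L) (hS : S.Finite) :
    ∃ d : ℕ, Algebra.trdeg (⊥ : Subfield (Subfield.closure S)) (Subfield.closure S) ≤ d := by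
  classical
  obtain ⟨F, hF⟩ : ∃ F : Subfield L, F = Subfield.closure S := ⟨_, rfl⟩
  rw [← hF]
  obtain ⟨s, hs⟩ : ∃ s : Set F, s = F.subtype ⁻¹' S := ⟨_, rfl⟩
  have hsfin : s.Finite := by
    rw [hs]
    exact hS.preimage (Subtype.val_injective.injOn)
  have hlift : ∀ y ∈ Subring.closure S,
      ∃ b : Algebra.adjoin (⊥ : Subfield F) s, ((b : F) : L) = y := by
    intro y hy
    induction hy using Subring.closure_induction with
    | mem y hy =>
      have hyF : y ∈ F := hF ▸ Subfield.subset_closure hy
      exact ⟨⟨⟨y, hyF⟩, Algebra.subset_adjoin (by rw [hs]; exact hy)⟩, rfl⟩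
    | zero => exact ⟨0, rfl⟩
    | one => exact ⟨1, rfl⟩
    | add x y _ _ hx hy =>
      obtain ⟨a, rfl⟩ := hx
      obtain ⟨b, rfl⟩ := hy
      exact ⟨a + b, rfl⟩
    | neg x _ hx =>
      obtain ⟨a, rfl⟩ := hx
      exact ⟨-a, rfl⟩
    | mul x y _ _ hx hy =>
      obtain ⟨a, rfl⟩ := hx
      obtain ⟨b, rfl⟩ := hy
      exact ⟨a * b, rfl⟩
  haveI : Algebra.IsAlgebraic (Algebra.adjoin (⊥ : Subfield F) s) F := by
    constructor
    intro z
    have hz : (z : L) ∈ Subfield.closure S := hF ▸ z.2
    rw [Subfield.mem_closure_iff] at hz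
    obtain ⟨y, hy, w, hw, hyw⟩ := hz
    obtain ⟨a, ha⟩ := hlift y hy
    obtain ⟨b, hb⟩ := hlift w hw
    by_cases hw0 : w = 0
    · have : z = 0 := by
        apply Subtype.ext
        rw [← hyw, hw0, div_zero]
        rfl
      rw [this]
      exact isAlgebraic_zero
    · have hb0 : b ≠ 0 := by
        rintro rfl
        exact hw0 hb.symm
      refine ⟨Polynomial.C b * Polynomial.X - Polynomial.C a, ?_, ?_⟩
      · intro h0
        have := congrArg (fun q => Polynomial.coeff q 1) h0
        simp at this
        exact hb0 this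
      · simp only [map_sub, map_mul, Polynomial.aeval_C, Polynomial.aeval_X]
        apply Subtype.ext
        simp only [Subfield.coe_sub, Subfield.coe_mul, ZeroMemClass.coe_zero]
        have h1 : (((algebraMap (Algebra.adjoin (⊥ : Subfield F) s) F) b : F) : L) = w := hb
        have h2 : (((algebraMap (Algebra.adjoin (⊥ : Subfield F) s) F) a : F) : L) = y := ha
        rw [h1, h2, ← hyw]
        field_simp
        ring
  have h1 := Algebra.IsAlgebraic.trdeg_le_cardinalMk (⊥ : Subfield F) s
  obtain ⟨d, hd⟩ := Cardinal.lt_aleph0.1 (lt_of_le_of_lt h1 hsfin.lt_aleph0)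
  exact ⟨d, hd.le⟩

end trdeg

end Groth.Agent.Lib.Helper12.FinValInter
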