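import Mathlib

/-! Transport of the semilocal Prüfer properties along a ring isomorphism. -/

namespace Groth.Agent.Lib.Helper12.FinValInter

theorem transfer {A B : Type*} [CommRing A] [CommRing B] [IsDomain A] [IsDomain B] (e : A ≃+* B)
    (h1 : ∀ (p : Ideal B) [p.IsPrime], ValuationRing (Localization.AtPrime p))
    (h2 : Finite (MaximalSpectrum B)) (h3 : ringKrullDim B < ⊤) :
    (∀ (p : Ideal A) [p.IsPrime], ValuationRing (Localization.AtPrime p)) ∧
      Finite (MaximalSpectrum A) ∧ ringKrullDim A < ⊤ := by
  refine ⟨fun p _ => ?_, ?_, ?_⟩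
  · haveI : (p.comap (e.symm : B →+* A)).IsPrime := Ideal.comap_isPrime _ _
    haveI := h1 (p.comap (e.symm : B →+* A))
    have H : (p.comap (e.symm : B →+* A)).primeCompl.map e.symm.toMonoidHom = p.primeCompl := by
      ext x
      constructor
      · rintro ⟨b, hb, rfl⟩
        exact hb
      · intro hx
        refine ⟨e x, ?_, e.symm_apply_apply x⟩
        show e x ∉ p.comap (e.symm : B →+* A)
        rw [Ideal.mem_comap]
        simpa using hx
    let E := IsLocalization.ringEquivOfRingEquiv
      (Localization.AtPrime (p.comap (e.symm : B →+* A))) (Localization.AtPrime p) e.symm H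
    exact Function.Surjective.valuationRing E.toRingHom E.surjective
  · haveI := h2
    let f : MaximalSpectrum A → MaximalSpectrum B := fun M =>
      ⟨M.asIdeal.comap (e.symm : B →+* A), by
        haveI := M.isMaximal
        exact Ideal.comap_isMaximal_of_equiv e.symm⟩
    apply Finite.of_injective f
    intro M M' h
    have h' : M.asIdeal.comap (e.symm : B →+* A) = M'.asIdeal.comap (e.symm : B →+* A) :=
      congrArg MaximalSpectrum.asIdeal h
    ext1
    exact Ideal.comap_injective_of_surjective (e.symm : B →+* A) e.symm.surjective h'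
  · rw [ringKrullDim_eq_of_ringEquiv e]
    exact h3

end Groth.Agent.Lib.Helper12.FinValInter
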