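import Mathlib

/-!
# The ideal of the fixed locus of a finite group of invertible order acting on a local algebra

`J = (g • a - a)` is generated by elements of the maximal ideal whose classes in the cotangent
space are linearly independent.
-/

set_option autoImplicit false

namespace Groth.Agent.Lib.Helper12.FixedLocusA

open IsLocalRing

variable {k A G : Type*} [Field k] [CommRing A] [Algebra k A] [IsLocalRing A]
  [Group G] [MulSemiringAction G A] [SMulCommClass G k A]

/-- the generators of the fixed-locus ideal -/
def S (G A : Type*) [CommRing A] [Group G] [MulSemiringAction G A] : Set A :=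
  {x : A | ∃ (g : G) (a : A), x = g • a - a}

theorem smul_mem_maximalIdeal (g : G) {a : A} (ha : a ∈ maximalIdeal A) :
    g • a ∈ maximalIdeal A := by
  rw [mem_maximalIdeal, mem_nonunits_iff] at ha ⊢
  intro h
  apply ha
  have h2 : IsUnit (g⁻¹ • (g • a)) := by
    have := h.map (MulSemiringAction.toRingHom G A g⁻¹)
    simpa using this
  rwa [inv_smul_smul] at h2

theorem smul_algebraMap (g : G) (c : k) : g • (algebraMap k A c) = algebraMap k A c := by
  rw [Algebra.algebraMap_eq_smul_one, smul_comm, smul_one]

section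
variable (hres : Function.Surjective (algebraMap k (ResidueField A)))
include hres

theorem exists_sub_mem (a : A) : ∃ c : k, a - algebraMap k A c ∈ maximalIdeal A := by
  obtain ⟨c, hc⟩ := hres (residue A a)
  refine ⟨c, ?_⟩
  rw [← Ideal.Quotient.eq_zero_iff_mem]
  have h1 : residue A (algebraMap k A c) = algebraMap k (ResidueField A) c :=
    (IsScalarTower.algebraMap_apply k A (ResidueField A) c).symm
  have : residue A (a - algebraMap k A c) = 0 := by
    rw [map_sub, h1, hc, sub_self]
  exact this

theorem S_subset : S G A ⊆ maximalIdeal A := by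
  rintro x ⟨g, a, rfl⟩
  obtain ⟨c, hc⟩ := exists_sub_mem hres a
  have h1 : g • a - a = g • (a - algebraMap k A c) - (a - algebraMap k A c) := by
    rw [smul_sub, smul_algebraMap]
    ring
  rw [h1]
  exact Ideal.sub_mem _ (smul_mem_maximalIdeal g hc) hc

end

/-- `u - g • u ∈ m * J` for `u ∈ m ^ 2` -/
theorem sub_smul_mem (hS : S G A ⊆ maximalIdeal A) (g : G) {u : A}
    (hu : u ∈ maximalIdeal A ^ 2) :
    u - g • u ∈ maximalIdeal A * Ideal.span (S G A) := by
  rw [pow_two] at hu
  induction hu using Submodule.mul_induction_on' with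
  | mem_mul_mem a ha b hb =>
    have h1 : a * b - g • (a * b) = b * (-(g • a - a)) + (g • a) * (-(g • b - b)) := by
      rw [smul_mul']
      ring
    rw [h1]
    refine Ideal.add_mem _ (Ideal.mul_mem_mul hb ?_) (Ideal.mul_mem_mul ?_ ?_)
    · exact neg_mem (Ideal.subset_span ⟨g, a, rfl⟩)
    · exact smul_mem_maximalIdeal g ha
    · exact neg_mem (Ideal.subset_span ⟨g, b, rfl⟩)
  | add x _ y _ hx hy =>
    have : x + y - g • (x + y) = (x - g • x) + (y - g • y) := by
      rw [smul_add]; ring
    rw [this]
    exact Ideal.add_mem _ hx hy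

variable [Fintype G]

theorem sum_smul_S {x : A} (hx : x ∈ S G A) : ∑ g : G, g • x = 0 := by
  obtain ⟨h, a, rfl⟩ := hx
  simp only [smul_sub, Finset.sum_sub_distrib]
  rw [sub_eq_zero]
  simp only [← mul_smul]
  exact Fintype.sum_bijective (fun g => g * h) (Group.mulRight_bijective h) _ _ (fun _ => rfl)

theorem mem_of_sum_smul_eq_zero (hS : S G A ⊆ maximalIdeal A) (hG : (Fintype.card G : k) ≠ 0)
    {u : A} (hu : u ∈ maximalIdeal A ^ 2) (h0 : ∑ g : G, g • u = 0) :
    u ∈ maximalIdeal A * Ideal.span (S G A) := by
  have h1 : (Fintype.card G : A) * u = ∑ g : G, (u - g • u) := by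
    rw [Finset.sum_sub_distrib, h0, sub_zero, Finset.sum_const, Finset.card_univ, nsmul_eq_mul]
  have h2 : (Fintype.card G : A) * u ∈ maximalIdeal A * Ideal.span (S G A) := by
    rw [h1]
    exact Ideal.sum_mem _ fun g _ => sub_smul_mem hS g hu
  have h3 : IsUnit (Fintype.card G : A) := by
    have : (Fintype.card G : A) = algebraMap k A (Fintype.card G : k) := by simp
    rw [this]
    exact (IsUnit.mk0 _ hG).map (algebraMap k A)
  exact (Ideal.unit_mul_mem_iff_mem _ h3).1 h2

end Groth.Agent.Lib.Helper12.FixedLocusA
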