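import Mathlib
import Groth.Agent.Lib.Helper12.FixedLocusA

/-!
# The fixed-locus ideal is generated by part of a regular system of parameters
-/

set_option autoImplicit false

namespace Groth.Agent.Lib.Helper12.FixedLocusB

open IsLocalRing Groth.Agent.Lib.Helper12.FixedLocusA

variable {k A G : Type*} [Field k] [CommRing A] [Algebra k A] [IsLocalRing A] [IsNoetherianRing A]
  [Group G] [MulSemiringAction G A] [SMulCommClass G k A]

theorem exists_generators (hres : Function.Surjective (algebraMap k (ResidueField A)))
    [Finite G] (hG : (Nat.card G : k) ≠ 0) :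
    ∃ (r : ℕ) (y : Fin r → maximalIdeal A),
      Ideal.span (Set.range fun i => (y i : A)) = Ideal.span (S G A) ∧
      LinearIndependent (ResidueField A) (fun i => (maximalIdeal A).toCotangent (y i)) := by
  classical
  cases nonempty_fintype G
  have hG' : (Fintype.card G : k) ≠ 0 := by rwa [Nat.card_eq_fintype_card] at hG
  have hS : S G A ⊆ maximalIdeal A := S_subset (G := G) hres
  let Sm : Set (maximalIdeal A) := {x | (x : A) ∈ S G A}
  obtain ⟨b, hb_sub, hb_span, hb_li⟩ :=
    exists_linearIndependent (ResidueField A) ((maximalIdeal A).toCotangent '' Sm)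
  have hbfin : b.Finite := hb_li.setFinite
  have hpre : ∀ v : b, ∃ x : maximalIdeal A, (x : A) ∈ S G A ∧
      (maximalIdeal A).toCotangent x = v := fun v => by
    obtain ⟨x, hx, hxv⟩ := hb_sub v.2
    exact ⟨x, hx, hxv⟩
  choose p hp1 hp2 using hpre
  haveI : Finite b := hbfin.to_subtype
  let e : Fin (Nat.card b) ≃ b := (Finite.equivFin b).symm
  have hli : LinearIndependent (ResidueField A)
      (fun i => (maximalIdeal A).toCotangent (p (e i))) := by
    have h1 : (fun i => (maximalIdeal A).toCotangent (p (e i))) = ((↑) : b → _) ∘ e := by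
      funext i
      exact hp2 (e i)
    rw [h1]
    exact hb_li.comp e e.injective
  refine ⟨Nat.card b, fun i => p (e i), ?_, hli⟩
  set J' : Ideal A := Ideal.span (Set.range fun i => ((p (e i) : maximalIdeal A) : A)) with hJ'
  apply le_antisymm
  · rw [Ideal.span_le]
    rintro _ ⟨i, rfl⟩
    exact Ideal.subset_span (hp1 (e i))
  · -- Nakayama
    apply Submodule.le_of_le_smul_of_le_jacobson_bot (I := maximalIdeal A)
      (IsNoetherian.noetherian _)
      (IsLocalRing.jacobson_eq_maximalIdeal _ bot_ne_top).ge
    rw [Ideal.span_le]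
    intro s hs
    have hsm : s ∈ maximalIdeal A := hS hs
    -- the class of `s` is a combination of the classes of the `y i`
    have h1 : (maximalIdeal A).toCotangent ⟨s, hsm⟩ ∈
        Submodule.span (ResidueField A)
          (Set.range fun i => (maximalIdeal A).toCotangent (p (e i))) := by
      have h2 : (Set.range fun i => (maximalIdeal A).toCotangent (p (e i))) = b := by
        ext v
        constructor
        · rintro ⟨i, rfl⟩
          show (maximalIdeal A).toCotangent (p (e i)) ∈ b
          rw [hp2]
          exact (e i).2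
        · intro hv
          refine ⟨e.symm ⟨v, hv⟩, ?_⟩
          show (maximalIdeal A).toCotangent (p (e (e.symm ⟨v, hv⟩))) = v
          rw [hp2, Equiv.apply_symm_apply]
      rw [h2, hb_span]
      exact Submodule.subset_span ⟨⟨s, hsm⟩, hs, rfl⟩
    obtain ⟨c, hc⟩ := (Submodule.mem_span_range_iff_exists_fun _).1 h1
    choose c' hc' using fun i => hres (c i)
    -- the correction term
    let u : A := s - ∑ i, algebraMap k A (c' i) * (p (e i) : A)
    have hu1 : u ∈ maximalIdeal A ^ 2 := by
      have hum : u ∈ maximalIdeal A :=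
        Ideal.sub_mem _ hsm (Ideal.sum_mem _ fun i _ => Ideal.mul_mem_left _ _ (p (e i)).2)
      have h3 : (⟨u, hum⟩ : maximalIdeal A) =
          ⟨s, hsm⟩ - ∑ i, algebraMap k A (c' i) • p (e i) := by
        ext
        simp [u, Algebra.smul_def]
      rw [← Ideal.toCotangent_eq_zero _ ⟨u, hum⟩, h3, map_sub, map_sum, ← hc, sub_eq_zero]
      apply Finset.sum_congr rfl
      intro i _
      rw [map_smul, ← hc' i]
      rw [IsScalarTower.algebraMap_apply k A (ResidueField A)]
      rfl
    have hu2 : ∑ g : G, g • u = 0 := by
      simp only [u, smul_sub, Finset.sum_sub_distrib, Finset.smul_sum]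
      rw [sum_smul_S hs, zero_sub, neg_eq_zero, Finset.sum_comm]
      apply Finset.sum_eq_zero
      intro i _
      simp only [smul_mul', FixedLocusA.smul_algebraMap]
      rw [← Finset.mul_sum, sum_smul_S (hp1 (e i)), mul_zero]
    have hu3 := mem_of_sum_smul_eq_zero (k := k) hS hG' hu1 hu2
    have hs_eq : s = ∑ i, algebraMap k A (c' i) * (p (e i) : A) + u := by
      simp [u]
    rw [hs_eq]
    refine Submodule.add_mem_sup ?_ ?_
    · exact Ideal.sum_mem _ fun i _ => Ideal.mul_mem_left _ _ (Ideal.subset_span ⟨i, rfl⟩)
    · exact hu3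

end Groth.Agent.Lib.Helper12.FixedLocusB
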