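import Mathlib

/-!
# Quotient of a regular local ring by part of a regular system of parameters
-/

set_option autoImplicit false

namespace Groth.Agent.Lib.Helper12.FixedLocusC

open IsLocalRing

variable {A : Type*} [CommRing A] [IsRegularLocalRing A]

theorem isRegularLocalRing_quotient {r : ℕ} (y : Fin r → maximalIdeal A)
    (hli : LinearIndependent (ResidueField A) (fun i => (maximalIdeal A).toCotangent (y i))) :
    IsRegularLocalRing (A ⧸ Ideal.span (Set.range fun i => (y i : A))) := by
  classical
  set J : Ideal A := Ideal.span (Set.range fun i => (y i : A)) with hJ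
  have hJm : J ≤ maximalIdeal A := by
    rw [hJ, Ideal.span_le]
    rintro _ ⟨i, rfl⟩
    exact (y i).2
  have hJtop : J ≠ ⊤ := fun h => (maximalIdeal.isMaximal A).ne_top (top_le_iff.1 (h ▸ hJm))
  haveI : Nontrivial (A ⧸ J) := Ideal.Quotient.nontrivial_iff.2 hJtop
  haveI : IsLocalRing (A ⧸ J) :=
    IsLocalRing.of_surjective' (Ideal.Quotient.mk J) Ideal.Quotient.mk_surjective
  apply IsRegularLocalRing.of_spanFinrank_maximalIdeal_le
  -- extend to a basis of the cotangent space
  set v : Fin r → CotangentSpace A := fun i => (maximalIdeal A).toCotangent (y i) with hv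
  set s : Set (CotangentSpace A) := Set.range v with hs
  have hsli : LinearIndepOn (ResidueField A) id s := hli.linearIndepOn_id
  set b : Set (CotangentSpace A) := hsli.extend (Set.subset_univ s) with hb
  have hsb : s ⊆ b := hsli.subset_extend _
  let B : Module.Basis b (ResidueField A) (CotangentSpace A) := Module.Basis.extend hsli
  have hBcoe : ⇑B = ((↑) : b → CotangentSpace A) := Module.Basis.coe_extend hsli
  haveI : Finite b := Module.Finite.finite_basis B
  have hbfin : b.Finite := Set.toFinite b
  have hn : Module.finrank (ResidueField A) (CotangentSpace A) = b.ncard := by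
    rw [Module.finrank_eq_nat_card_basis B, Nat.card_coe_set_eq]
  have hcard : (b \ s).ncard + r = b.ncard := by
    have h1 := Set.ncard_sdiff_add_ncard_of_subset hsb hbfin
    have h2 : s.ncard = r := by
      rw [hs, Set.ncard_range_of_injective hli.injective, Nat.card_eq_fintype_card,
        Fintype.card_fin]
    rw [h2] at h1
    exact h1
  -- lifts of the extra basis vectors
  have hpre : ∀ w : (b \ s : Set (CotangentSpace A)), ∃ z : maximalIdeal A,
      (maximalIdeal A).toCotangent z = w := fun w => Ideal.toCotangent_surjective _ _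
  choose z hz using hpre
  let Z : Set (maximalIdeal A) := Set.range y ∪ Set.range z
  have hZ : Submodule.span A Z = ⊤ := by
    rw [← CotangentSpace.span_image_eq_top_iff]
    rw [eq_top_iff, ← B.span_eq, hBcoe]
    apply Submodule.span_mono
    rintro _ ⟨w, rfl⟩
    by_cases hw : (w : CotangentSpace A) ∈ s
    · obtain ⟨i, hi⟩ := hw
      exact ⟨y i, Or.inl ⟨i, rfl⟩, hi⟩
    · exact ⟨z ⟨w, w.2, hw⟩, Or.inr ⟨_, rfl⟩, hz _⟩
  have hm : maximalIdeal A = Ideal.span (((↑) : maximalIdeal A → A) '' Z) := by
    have h1 := congrArg (Submodule.map (maximalIdeal A).subtype) hZ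
    rw [Submodule.map_span, Submodule.map_top, Submodule.range_subtype] at h1
    exact h1.symm
  have hmq : maximalIdeal (A ⧸ J) =
      Ideal.span (Set.range fun w => Ideal.Quotient.mk J (z w : A)) := by
    have hm' := congrArg (Ideal.map (Ideal.Quotient.mk J)) hm
    rw [← map_maximalIdeal_of_surjective (Ideal.Quotient.mk J) Ideal.Quotient.mk_surjective, hm',
      Ideal.map_span]
    apply le_antisymm
    · rw [Ideal.span_le]
      rintro _ ⟨_, ⟨x, hx, rfl⟩, rfl⟩
      rcases hx with ⟨i, rfl⟩ | ⟨w, rfl⟩
      · have : Ideal.Quotient.mk J (y i : A) = 0 :=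
          Ideal.Quotient.eq_zero_iff_mem.2 (Ideal.subset_span ⟨i, rfl⟩)
        rw [this]
        exact Ideal.zero_mem _
      · exact Ideal.subset_span ⟨w, rfl⟩
    · apply Ideal.span_mono
      rintro _ ⟨w, rfl⟩
      exact ⟨_, ⟨z w, Or.inr ⟨w, rfl⟩, rfl⟩, rfl⟩
  have hfin_extra : (b \ s).Finite := hbfin.subset Set.sdiff_subset
  haveI : Finite (b \ s : Set (CotangentSpace A)) := hfin_extra.to_subtype
  have h1 : (maximalIdeal (A ⧸ J)).spanFinrank ≤ (b \ s).ncard := by
    rw [hmq]
    refine le_trans (Submodule.spanFinrank_span_le_ncard_of_finite (Set.finite_range _)) ?_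
    have : (Set.range fun w : (b \ s : Set (CotangentSpace A)) =>
        Ideal.Quotient.mk J (z w : A)).ncard ≤ Nat.card (b \ s : Set (CotangentSpace A)) := by
      rw [← Set.image_univ, ← Set.ncard_univ]
      exact Set.ncard_image_le (Set.finite_univ)
    rwa [Nat.card_coe_set_eq] at this
  -- dimension inequality
  have h2 : ringKrullDim A ≤ ringKrullDim (A ⧸ J) + J.spanFinrank :=
    ringKrullDim_le_ringKrullDim_quotient_add_spanFinrank J
      (hJm.trans (IsLocalRing.ringJacobson_eq_maximalIdeal (R := A)).ge)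
  have h3 : J.spanFinrank ≤ r := by
    rw [hJ]
    refine le_trans (Submodule.spanFinrank_span_le_ncard_of_finite (Set.finite_range _)) ?_
    rw [← Set.image_univ]
    refine le_trans (Set.ncard_image_le (Set.finite_univ)) ?_
    rw [Set.ncard_univ, Nat.card_eq_fintype_card, Fintype.card_fin]
  have h4 : (Module.finrank (ResidueField A) (CotangentSpace A) : WithBot ℕ∞) = ringKrullDim A :=
    (IsRegularLocalRing.iff_finrank_cotangentSpace A).1 inferInstance
  have h5 : (((b \ s).ncard + r : ℕ) : WithBot ℕ∞) ≤ ringKrullDim (A ⧸ J) + (r : ℕ) := by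
    rw [hcard, ← hn, h4]
    refine le_trans h2 ?_
    gcongr
  -- cancel `r`
  have h6 : ((b \ s).ncard : WithBot ℕ∞) ≤ ringKrullDim (A ⧸ J) := by
    have hne : ringKrullDim (A ⧸ J) ≠ ⊥ :=
      ne_bot_of_le_ne_bot (by simp) (ringKrullDim_nonneg_of_nontrivial (R := A ⧸ J))
    obtain ⟨d, hd⟩ := WithBot.ne_bot_iff_exists.1 hne
    rw [← hd] at h5 ⊢
    have h7 : (((b \ s).ncard + r : ℕ) : ℕ∞) ≤ d + (r : ℕ) := by
      exact_mod_cast h5
    have h8 : ((b \ s).ncard : ℕ∞) ≤ d := by
      push_cast at h7
      exact (ENat.add_le_add_iff_right (ENat.natCast_ne_top r)).1 h7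
    exact_mod_cast h8
  exact le_trans (by exact_mod_cast h1) h6

end Groth.Agent.Lib.Helper12.FixedLocusC
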