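import Mathlib
import Groth.Agent.Lib.Helper12.FixedLocusB

/-!
# The fixed-locus ideal of a single automorphism of finite invertible order
-/

set_option autoImplicit false

namespace Groth.Agent.Lib.Helper12.FixedLocusD

open IsLocalRing Groth.Agent.Lib.Helper12.FixedLocusA

variable {k A : Type*} [Field k] [CommRing A] [Algebra k A]

theorem bijective_of_iterate (σ : A →ₐ[k] A) (n : ℕ) (hn : n ≠ 0)
    (hσ : ∀ a : A, (⇑σ)^[n] a = a) : Function.Bijective σ := by
  obtain ⟨m, rfl⟩ := Nat.exists_eq_succ_of_ne_zero hn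
  constructor
  · intro a b h
    have h2 := congrArg (⇑σ)^[m] h
    have ha := hσ a
    have hb := hσ b
    rw [Function.iterate_succ_apply] at ha hb
    rw [ha, hb] at h2
    exact h2
  · intro a
    exact ⟨(⇑σ)^[m] a, by
      have ha := hσ a
      rw [Function.iterate_succ_apply'] at ha
      exact ha⟩

theorem pow_sub_mem (σ' : A ≃ₐ[k] A) (i : ℕ) (a : A) :
    (σ' ^ i) a - a ∈ Ideal.span (Set.range fun a : A => a - σ' a) := by
  induction i generalizing a with
  | zero => simp
  | succ i ih =>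
    have h1 : (σ' ^ (i + 1)) a - a = ((σ' ^ i) (σ' a) - σ' a) + -(a - σ' a) := by
      rw [pow_succ, AlgEquiv.mul_apply]
      ring
    rw [h1]
    exact Ideal.add_mem _ (ih _) (neg_mem (Ideal.subset_span ⟨a, rfl⟩))

theorem main [IsLocalRing A] [IsNoetherianRing A]
    (hres : Function.Surjective (algebraMap k (ResidueField A)))
    (σ : A →ₐ[k] A) (n : ℕ) (hσ : ∀ a : A, (⇑σ)^[n] a = a) (hn : (n : k) ≠ 0) :
    ∃ (m : ℕ) (f : Fin m → ↥(maximalIdeal A)),
      Ideal.span (Set.range fun i : Fin m => (f i : A)) =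
        Ideal.span (Set.range fun a : A => a - σ a) ∧
      LinearIndependent (ResidueField A)
        (fun i : Fin m => (maximalIdeal A).toCotangent (f i)) := by
  have hn0 : n ≠ 0 := by
    rintro rfl
    simp at hn
  let σ' : A ≃ₐ[k] A := AlgEquiv.ofBijective σ (bijective_of_iterate σ n hn0 hσ)
  have hσ'a : ∀ a, σ' a = σ a := fun a => rfl
  have hpow : σ' ^ n = 1 := by
    apply AlgEquiv.ext
    intro a
    rw [AlgEquiv.coe_pow]
    exact hσ a
  have hfo : IsOfFinOrder σ' := isOfFinOrder_iff_pow_eq_one.2 ⟨n, Nat.pos_of_ne_zero hn0, hpow⟩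
  have hcard : Nat.card (Subgroup.zpowers σ') = orderOf σ' := Nat.card_zpowers σ'
  haveI : Finite (Subgroup.zpowers σ') :=
    Nat.finite_of_card_ne_zero (by rw [hcard]; exact hfo.orderOf_pos.ne')
  have hG : (Nat.card (Subgroup.zpowers σ') : k) ≠ 0 := by
    rw [hcard]
    obtain ⟨d, hd⟩ := orderOf_dvd_of_pow_eq_one hpow
    intro h0
    apply hn
    rw [hd, Nat.cast_mul, h0, zero_mul]
  obtain ⟨r, y, hy, hli⟩ := FixedLocusB.exists_generators (k := k) (A := A)
    (G := Subgroup.zpowers σ') hres hG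
  refine ⟨r, y, ?_, hli⟩
  rw [hy]
  apply le_antisymm
  · rw [Ideal.span_le]
    rintro _ ⟨g, a, rfl⟩
    obtain ⟨i, hi⟩ := (hfo.mem_powers_iff_mem_zpowers).2 g.2
    have h1 : g • a = (σ' ^ i) a := by
      rw [Subgroup.smul_def, AlgEquiv.smul_def]
      simp only at hi
      rw [← hi]
    rw [h1]
    exact pow_sub_mem σ' i a
  · rw [Ideal.span_le]
    rintro _ ⟨a, rfl⟩
    have h1 : a - σ a =
        -((⟨σ', Subgroup.mem_zpowers σ'⟩ : Subgroup.zpowers σ') • a - a) := by
      rw [Subgroup.smul_def, AlgEquiv.smul_def]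
      simp [hσ'a]
    show a - σ a ∈ _
    rw [h1]
    exact neg_mem (Ideal.subset_span ⟨_, a, rfl⟩)

end Groth.Agent.Lib.Helper12.FixedLocusD
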