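import Mathlib.AlgebraicGeometry.Morphisms.Flat
import Mathlib.AlgebraicGeometry.IdealSheaf.Functorial
import Mathlib.AlgebraicGeometry.PullbackCarrier

namespace Groth.Agent.Lib.Helper12

open AlgebraicGeometry CategoryTheory Limits

universe u

/-- For a flat surjective morphism, the maps on sections are injective. -/
theorem app_injective_of_flat_of_surjective {X Y : Scheme.{u}} (g : X ⟶ Y) [Flat g] [Surjective g]
    (U : Y.Opens) : Function.Injective (g.app U).hom := by
  rw [injective_iff_map_eq_zero]
  intro s hs
  refine TopCat.Presheaf.section_ext Y.sheaf U s 0 fun y hy => ?_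
  obtain ⟨x, rfl⟩ := g.surjective y
  have hinj : Function.Injective (g.stalkMap x).hom := by
    have hflat : (g.stalkMap x).hom.Flat := Flat.stalkMap g x
    have hloc : IsLocalHom (g.stalkMap x).hom := inferInstance
    algebraize [(g.stalkMap x).hom]
    have : IsLocalHom (algebraMap (Y.presheaf.stalk (g x)) (X.presheaf.stalk x)) := hloc
    have : Module.FaithfullyFlat (Y.presheaf.stalk (g x)) (X.presheaf.stalk x) :=
      Module.FaithfullyFlat.of_flat_of_isLocalHom
    exact FaithfulSMul.algebraMap_injective _ _
  have := Scheme.Hom.germ_stalkMap_apply g U x hy s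
  have hs' : (g.app U) s = 0 := hs
  rw [hs', map_zero] at this
  show Y.presheaf.germ U (g x) hy s = Y.presheaf.germ U (g x) hy 0
  rw [map_zero]
  apply hinj
  rw [map_zero]
  exact this

/-- A flat surjective morphism has trivial kernel ideal sheaf. -/
theorem ker_eq_bot_of_flat_of_surjective {X Y : Scheme.{u}} (g : X ⟶ Y) [Flat g] [Surjective g] :
    g.ker = ⊥ := by
  rw [← le_bot_iff]
  intro U
  refine (g.ideal_ker_le U).trans ?_
  rw [(RingHom.injective_iff_ker_eq_bot _).1 (app_injective_of_flat_of_surjective g U)]
  exact bot_le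

end Groth.Agent.Lib.Helper12
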