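import Mathlib

/-! Elementary matrices in `GL₂` of a field and generation of `SL₂`. -/

namespace Groth.Agent.Lib.Helper12.GL2

open Matrix

variable {F : Type*} [Field F]

/-- Upper unitriangular matrix. -/
def T (b : F) : GL (Fin 2) F :=
  ⟨!![1, b; 0, 1], !![1, -b; 0, 1],
    by rw [Matrix.mul_fin_two, Matrix.one_fin_two]; simp,
    by rw [Matrix.mul_fin_two, Matrix.one_fin_two]; simp⟩

/-- Lower unitriangular matrix. -/
def L (c : F) : GL (Fin 2) F :=
  ⟨!![1, 0; c, 1], !![1, 0; -c, 1],
    by rw [Matrix.mul_fin_two, Matrix.one_fin_two]; simp,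
    by rw [Matrix.mul_fin_two, Matrix.one_fin_two]; simp⟩

@[simp] theorem T_val (b : F) : ((T b : GL (Fin 2) F) : Matrix (Fin 2) (Fin 2) F) = !![1, b; 0, 1] :=
  rfl

@[simp] theorem L_val (c : F) : ((L c : GL (Fin 2) F) : Matrix (Fin 2) (Fin 2) F) = !![1, 0; c, 1] :=
  rfl

theorem T_mul (a b : F) : T a * T b = T (a + b) := by
  apply Units.ext
  rw [Units.val_mul, T_val, T_val, T_val, Matrix.mul_fin_two]
  simp [add_comm]

theorem L_mul (a b : F) : L a * L b = L (a + b) := by
  apply Units.ext
  rw [Units.val_mul, L_val, L_val, L_val, Matrix.mul_fin_two]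
  simp

theorem T_zero : T (0 : F) = 1 := by
  apply Units.ext
  rw [T_val, Units.val_one, Matrix.one_fin_two]

theorem L_zero : L (0 : F) = 1 := by
  apply Units.ext
  rw [L_val, Units.val_one, Matrix.one_fin_two]

theorem T_pow (b : F) (k : ℕ) : T b ^ k = T (k * b) := by
  induction k with
  | zero => simp [T_zero]
  | succ k ih =>
    rw [pow_succ, ih, T_mul]
    congr 1
    push_cast
    ring

theorem L_pow (b : F) (k : ℕ) : L b ^ k = L (k * b) := by
  induction k with
  | zero => simp [L_zero]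
  | succ k ih =>
    rw [pow_succ, ih, L_mul]
    congr 1
    push_cast
    ring

theorem mulVec_e1 (M : Matrix (Fin 2) (Fin 2) F) : M.mulVec ![1, 0] = ![M 0 0, M 1 0] := by
  ext i
  fin_cases i <;> simp [Matrix.mulVec, dotProduct, Fin.sum_univ_two]

theorem mulVec_e2 (M : Matrix (Fin 2) (Fin 2) F) : M.mulVec ![0, 1] = ![M 0 1, M 1 1] := by
  ext i
  fin_cases i <;> simp [Matrix.mulVec, dotProduct, Fin.sum_univ_two]

theorem eq_T_of_fix (g : GL (Fin 2) F)
    (h1 : (g : Matrix (Fin 2) (Fin 2) F).mulVec ![1, 0] = ![1, 0])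
    (hdet : (g : Matrix (Fin 2) (Fin 2) F).det = 1) :
    g = T ((g : Matrix (Fin 2) (Fin 2) F) 0 1) := by
  rw [mulVec_e1] at h1
  have h00 : (g : Matrix (Fin 2) (Fin 2) F) 0 0 = 1 := by
    have := congrFun h1 0
    simpa using this
  have h10 : (g : Matrix (Fin 2) (Fin 2) F) 1 0 = 0 := by
    have := congrFun h1 1
    simpa using this
  have h11 : (g : Matrix (Fin 2) (Fin 2) F) 1 1 = 1 := by
    rw [Matrix.det_fin_two, h00, h10] at hdet
    simpa using hdet
  apply Units.ext
  rw [T_val]
  ext i j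
  fin_cases i <;> fin_cases j <;> simp [h00, h10, h11]

theorem eq_L_of_fix (g : GL (Fin 2) F)
    (h1 : (g : Matrix (Fin 2) (Fin 2) F).mulVec ![0, 1] = ![0, 1])
    (hdet : (g : Matrix (Fin 2) (Fin 2) F).det = 1) :
    g = L ((g : Matrix (Fin 2) (Fin 2) F) 1 0) := by
  rw [mulVec_e2] at h1
  have h01 : (g : Matrix (Fin 2) (Fin 2) F) 0 1 = 0 := by
    have := congrFun h1 0
    simpa using this
  have h11 : (g : Matrix (Fin 2) (Fin 2) F) 1 1 = 1 := by
    have := congrFun h1 1
    simpa using this
  have h00 : (g : Matrix (Fin 2) (Fin 2) F) 0 0 = 1 := by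
    rw [Matrix.det_fin_two, h01, h11] at hdet
    simpa using hdet
  apply Units.ext
  rw [L_val]
  ext i j
  fin_cases i <;> fin_cases j <;> simp [h00, h01, h11]

theorem L_mulVec_e2 (c : F) :
    ((L c : GL (Fin 2) F) : Matrix (Fin 2) (Fin 2) F).mulVec ![0, 1] = ![0, 1] := by
  rw [mulVec_e2, L_val]
  simp

theorem det_T (b : F) : ((T b : GL (Fin 2) F) : Matrix (Fin 2) (Fin 2) F).det = 1 := by
  rw [T_val, Matrix.det_fin_two]; simp

theorem det_L (c : F) : ((L c : GL (Fin 2) F) : Matrix (Fin 2) (Fin 2) F).det = 1 := by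
  rw [L_val, Matrix.det_fin_two]; simp

/-- A subgroup containing all elementary matrices contains every matrix of determinant one. -/
theorem mem_of_det_eq_one (H : Subgroup (GL (Fin 2) F)) (hT : ∀ b, T b ∈ H) (hL : ∀ c, L c ∈ H)
    (g : GL (Fin 2) F) (hdet : (g : Matrix (Fin 2) (Fin 2) F).det = 1) : g ∈ H := by
  -- case lower-left entry nonzero
  have key : ∀ g : GL (Fin 2) F, (g : Matrix (Fin 2) (Fin 2) F).det = 1 →
      (g : Matrix (Fin 2) (Fin 2) F) 1 0 ≠ 0 → g ∈ H := by
    intro g hdet hc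
    set a := (g : Matrix (Fin 2) (Fin 2) F) 0 0 with ha
    set b := (g : Matrix (Fin 2) (Fin 2) F) 0 1 with hb
    set c := (g : Matrix (Fin 2) (Fin 2) F) 1 0 with hc'
    set d := (g : Matrix (Fin 2) (Fin 2) F) 1 1 with hd
    have hdet' : a * d - b * c = 1 := by
      rw [Matrix.det_fin_two] at hdet
      exact hdet
    have hg : g = T ((a - 1) / c) * L c * T ((d - 1) / c) := by
      apply Units.ext
      rw [Units.val_mul, Units.val_mul, T_val, L_val, T_val, Matrix.mul_fin_two,
        Matrix.mul_fin_two]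
      ext i j
      fin_cases i <;> fin_cases j
      · show a = _
        simp
        field_simp
        ring
      · show b = _
        simp
        field_simp
        linear_combination (-1 : F) * hdet'
      · show c = _
        simp
      · show d = _
        simp
        field_simp
        ring
    rw [hg]
    exact H.mul_mem (H.mul_mem (hT _) (hL _)) (hT _)
  by_cases hc : (g : Matrix (Fin 2) (Fin 2) F) 1 0 = 0
  · -- multiply by `L 1`
    have ha : (g : Matrix (Fin 2) (Fin 2) F) 0 0 ≠ 0 := by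
      intro ha
      rw [Matrix.det_fin_two, ha, hc] at hdet
      simp at hdet
    have h1 : L 1 * g ∈ H := by
      apply key
      · rw [Units.val_mul, Matrix.det_mul, det_L, hdet, one_mul]
      · rw [Units.val_mul, L_val, Matrix.mul_apply, Fin.sum_univ_two]
        simp [hc, ha]
    have h2 : g = L (-1) * (L 1 * g) := by
      rw [← mul_assoc, L_mul]
      simp [L_zero]
    rw [h2]
    exact H.mul_mem (hL _) h1
  · exact key g hdet hc

end Groth.Agent.Lib.Helper12.GL2
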