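import Mathlib
import Groth.Agent.Lib.Helper12.GL2A

/-! A non-split Cartan subgroup of `GL₂((ZMod p)_p)`: transitivity on nonzero vectors and surjectivity
of the determinant. -/

namespace Groth.Agent.Lib.Helper12.GL2

open Matrix Polynomial

/-- `2 × 2` matrices over `(ZMod p)_p`. -/
abbrev Mat (p : ℕ) := Matrix (Fin 2) (Fin 2) (ZMod p)

/-- `GL₂((ZMod p)_p)`. -/
abbrev Gl (p : ℕ) := GL (Fin 2) (ZMod p)

variable {p : ℕ} [Fact p.Prime]


/-- The data of a non-split Cartan subgroup. -/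
structure Cartan (C : Subgroup (Gl p)) (E : Subring (Mat p)) : Prop where
  isField : IsField E
  card : Nat.card E = p ^ 2
  eq : (E : Set (Mat p)) = insert 0 ((fun g : (Gl p) => (g : (Mat p))) '' (C : Set (Gl p)))

variable {C : Subgroup (Gl p)} {E : Subring (Mat p)}

theorem Cartan.exists_of_mem (h : Cartan C E) {x : (Mat p)} (hx : x ∈ E) (hx0 : x ≠ 0) :
    ∃ c ∈ C, (c : (Mat p)) = x := by
  have h1 : x ∈ (E : Set (Mat p)) := hx
  rw [h.eq] at h1
  rcases h1 with h1 | ⟨c, hc, rfl⟩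
  · exact absurd h1 hx0
  · exact ⟨c, hc, rfl⟩

theorem Cartan.mem_of_mem (h : Cartan C E) {c : (Gl p)} (hc : c ∈ C) : (c : (Mat p)) ∈ E := by
  have h1 : (c : (Mat p)) ∈ insert (0 : (Mat p)) ((fun g : (Gl p) => (g : (Mat p))) '' (C : Set (Gl p))) :=
    Set.mem_insert_of_mem _ ⟨c, hc, rfl⟩
  rw [← h.eq] at h1
  exact h1

theorem Cartan.transitive (h : Cartan C E) (v w : Fin 2 → (ZMod p)) (hv : v ≠ 0) (hw : w ≠ 0) :
    ∃ c ∈ C, (c : (Mat p)).mulVec v = w := by
  let φ : E → (Fin 2 → (ZMod p)) := fun e => (e : (Mat p)).mulVec v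
  have hinj : Function.Injective φ := by
    intro e₁ e₂ h12
    by_contra hne
    have hd : e₁ - e₂ ≠ 0 := sub_ne_zero.2 hne
    obtain ⟨d', hd'⟩ := h.isField.mul_inv_cancel hd
    have h1 : ((e₁ - e₂ : E) : (Mat p)).mulVec v = 0 := by
      have : ((e₁ - e₂ : E) : (Mat p)) = (e₁ : (Mat p)) - (e₂ : (Mat p)) := rfl
      rw [this, Matrix.sub_mulVec]
      exact sub_eq_zero.2 h12
    have h2 : ((d' : (Mat p)) * ((e₁ - e₂ : E) : (Mat p))) = 1 := by
      have h3 : d' * (e₁ - e₂) = 1 := by rw [h.isField.mul_comm]; exact hd'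
      exact congrArg Subtype.val h3
    apply hv
    calc v = (1 : (Mat p)).mulVec v := (Matrix.one_mulVec v).symm
      _ = ((d' : (Mat p)) * ((e₁ - e₂ : E) : (Mat p))).mulVec v := by rw [h2]
      _ = (d' : (Mat p)).mulVec (((e₁ - e₂ : E) : (Mat p)).mulVec v) := (Matrix.mulVec_mulVec _ _ _).symm
      _ = 0 := by rw [h1, Matrix.mulVec_zero]
  have hbij : Function.Bijective φ := by
    apply hinj.bijective_of_nat_card_le
    rw [h.card, Nat.card_eq_fintype_card, Fintype.card_fun, ZMod.card, Fintype.card_fin]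
  obtain ⟨e, he⟩ := hbij.2 w
  have he0 : (e : (Mat p)) ≠ 0 := by
    intro h0
    apply hw
    rw [← he]
    show (e : (Mat p)).mulVec v = 0
    rw [h0, Matrix.zero_mulVec]
  obtain ⟨c, hc, hce⟩ := h.exists_of_mem e.2 he0
  exact ⟨c, hc, by rw [hce]; exact he⟩

/-- An element of `p`-power order one has a nonzero fixed vector. -/
theorem exists_fixed_vector (u : (Gl p)) (hu : u ^ p = 1) :
    ∃ v : Fin 2 → (ZMod p), v ≠ 0 ∧ (u : (Mat p)).mulVec v = v := by
  have h1 : ((u : (Mat p)) - 1) ^ p = 0 := by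
    rw [sub_pow_char_of_commute p (Commute.one_right _), one_pow]
    have : (u : (Mat p)) ^ p = 1 := by
      rw [← Units.val_pow_eq_pow_val, hu, Units.val_one]
    rw [this, sub_self]
  have h2 : ((u : (Mat p)) - 1).det = 0 := by
    have h3 : (((u : (Mat p)) - 1) ^ p).det = 0 := by rw [h1, Matrix.det_zero]
    rw [Matrix.det_pow] at h3
    exact pow_eq_zero_iff (Fact.out : p.Prime).ne_zero |>.1 h3
  obtain ⟨v, hv, hv'⟩ := Matrix.exists_mulVec_eq_zero_iff.2 h2
  refine ⟨v, hv, ?_⟩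
  rw [Matrix.sub_mulVec, Matrix.one_mulVec] at hv'
  exact sub_eq_zero.1 hv'

theorem scalar_mem (E : Subring (Mat p)) (x : (ZMod p)) : (x • (1 : (Mat p))) ∈ E := by
  have h1 : ((x.val : ℕ) : (Mat p)) ∈ E := natCast_mem E x.val
  have h2 : ((x.val : ℕ) : (Mat p)) = x • (1 : (Mat p)) := by
    have h3 : ((x.val : ℕ) : (Mat p)) = algebraMap (ZMod p) (Mat p) ((x.val : ℕ) : (ZMod p)) :=
      (map_natCast (algebraMap (ZMod p) (Mat p)) x.val).symm
    rw [h3, ZMod.natCast_zmod_val, Algebra.algebraMap_eq_smul_one]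
  rw [← h2]
  exact h1

theorem Cartan.exists_nonscalar (h : Cartan C E) : ∃ γ ∈ E, ∀ x : (ZMod p), γ ≠ x • (1 : (Mat p)) := by
  by_contra hcon
  push Not at hcon
  -- then `E` injects into `(ZMod p)`
  choose f hf using fun e : E => hcon e.1 e.2
  have hinj : Function.Injective f := by
    intro e₁ e₂ h12
    apply Subtype.ext
    rw [hf e₁, hf e₂, h12]
  have h1 := Nat.card_le_card_of_injective f hinj
  rw [h.card, Nat.card_eq_fintype_card, ZMod.card] at h1
  have hp : 2 ≤ p := (Fact.out : p.Prime).two_le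
  nlinarith

theorem det_smul_one_add (x : (ZMod p)) (γ : (Mat p)) :
    (x • (1 : (Mat p)) + γ).det = x ^ 2 + γ.trace * x + γ.det := by
  rw [Matrix.det_fin_two, Matrix.det_fin_two, Matrix.trace_fin_two]
  simp only [Matrix.add_apply, Matrix.smul_apply, Matrix.one_apply_eq, smul_eq_mul, mul_one]
  simp
  ring

/-- The determinant is surjective on a non-split Cartan subgroup. -/
theorem Cartan.det_surjective (h : Cartan C E) (δ : (ZMod p)ˣ) :
    ∃ c ∈ C, Matrix.GeneralLinearGroup.det c = δ := by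
  classical
  let ψ : C →* (ZMod p)ˣ := (Matrix.GeneralLinearGroup.det).comp C.subtype
  suffices hR : ψ.range = ⊤ by
    have : δ ∈ ψ.range := by rw [hR]; trivial
    obtain ⟨c, hc⟩ := this
    exact ⟨c.1, c.2, hc⟩
  by_contra hR
  -- the order `r` of the range
  set r := Nat.card ψ.range with hr
  have hrdvd : r ∣ p - 1 := by
    have := Subgroup.card_subgroup_dvd_card ψ.range
    rwa [Nat.card_eq_fintype_card (α := (ZMod p)ˣ), ZMod.card_units] at this
  have hrne : r ≠ p - 1 := by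
    intro hrp
    apply hR
    apply Subgroup.eq_top_of_card_eq
    rw [← hr, hrp, Nat.card_eq_fintype_card, ZMod.card_units]
  have hp : 2 ≤ p := (Fact.out : p.Prime).two_le
  have hrpos : 0 < r := Nat.card_pos
  have h2r : 2 * r ≤ p - 1 := by
    obtain ⟨s, hs⟩ := hrdvd
    have hs1 : s ≠ 1 := by
      intro h1
      rw [h1, mul_one] at hs
      exact hrne hs.symm
    have hs0 : s ≠ 0 := by
      intro h0
      rw [h0, mul_zero] at hs
      omega
    have : 2 ≤ s := by omega
    calc 2 * r ≤ s * r := Nat.mul_le_mul_right r this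
      _ = p - 1 := by rw [hs, mul_comm]
  have hpow : ∀ c ∈ C, (c : (Mat p)).det ^ r = 1 := by
    intro c hc
    have h1 : (⟨ψ ⟨c, hc⟩, ⟨⟨c, hc⟩, rfl⟩⟩ : ψ.range) ^ r = 1 := pow_card_eq_one'
    have h2 := congrArg (fun y : ψ.range => ((y : (ZMod p)ˣ) : (ZMod p))) h1
    simp only [SubmonoidClass.coe_pow, Units.val_pow_eq_pow_val, OneMemClass.coe_one,
      Units.val_one] at h2
    exact h2
  obtain ⟨γ, hγE, hγ⟩ := h.exists_nonscalar
  let P : (ZMod p)[X] := (X ^ 2 + Polynomial.C γ.trace * X + Polynomial.C γ.det) ^ r - 1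
  have hmonic : (X ^ 2 + Polynomial.C γ.trace * X + Polynomial.C γ.det : (ZMod p)[X]).Monic := by
    have : (X ^ 2 + Polynomial.C γ.trace * X + Polynomial.C γ.det : (ZMod p)[X]) = X ^ 2 + (Polynomial.C γ.trace * X + Polynomial.C γ.det) := by ring
    rw [this]
    apply Polynomial.monic_X_pow_add
    refine lt_of_le_of_lt (Polynomial.degree_linear_le) ?_
    norm_num
  have hdeg2 : (X ^ 2 + Polynomial.C γ.trace * X + Polynomial.C γ.det : (ZMod p)[X]).natDegree = 2 := by
    have : (X ^ 2 + Polynomial.C γ.trace * X + Polynomial.C γ.det : (ZMod p)[X]) = X ^ 2 + (Polynomial.C γ.trace * X + Polynomial.C γ.det) := by ring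
    rw [this, Polynomial.natDegree_add_eq_left_of_degree_lt, Polynomial.natDegree_X_pow]
    rw [Polynomial.degree_X_pow]
    exact lt_of_le_of_lt Polynomial.degree_linear_le (by norm_num)
  have hPdeg : P.natDegree = 2 * r := by
    have h1 : ((X ^ 2 + Polynomial.C γ.trace * X + Polynomial.C γ.det : (ZMod p)[X]) ^ r).natDegree = 2 * r := by
      rw [hmonic.natDegree_pow, hdeg2, mul_comm]
    show ((X ^ 2 + Polynomial.C γ.trace * X + Polynomial.C γ.det : (ZMod p)[X]) ^ r - 1).natDegree = 2 * r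
    rw [Polynomial.natDegree_sub_eq_left_of_natDegree_lt, h1]
    rw [h1, Polynomial.natDegree_one]
    omega
  have heval : ∀ x : ZMod p, P.eval x = 0 := by
    intro x
    have hmem : x • (1 : Mat p) + γ ∈ E := E.add_mem (scalar_mem E x) hγE
    have hne : x • (1 : Mat p) + γ ≠ 0 := by
      intro h0
      apply hγ (-x)
      rw [neg_smul]
      exact eq_neg_of_add_eq_zero_right h0
    obtain ⟨c, hc, hce⟩ := h.exists_of_mem hmem hne
    have h1 := hpow c hc
    rw [hce, det_smul_one_add] at h1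
    show ((X ^ 2 + Polynomial.C γ.trace * X + Polynomial.C γ.det : (ZMod p)[X]) ^ r - 1).eval x = 0
    simp only [Polynomial.eval_sub, Polynomial.eval_pow, Polynomial.eval_add, Polynomial.eval_mul,
      Polynomial.eval_X, Polynomial.eval_C, Polynomial.eval_one]
    rw [h1, sub_self]
  have hP0 : P = 0 := by
    apply Polynomial.eq_zero_of_natDegree_lt_card_of_eval_eq_zero P (f := id)
      Function.injective_id heval
    rw [hPdeg, ZMod.card]
    omega
  rw [hP0, Polynomial.natDegree_zero] at hPdeg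
  omega

end Groth.Agent.Lib.Helper12.GL2
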