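import Mathlib
import Groth.Agent.Lib.Helper12.GL2A
import Groth.Agent.Lib.Helper12.GL2B

/-! A subgroup of `GL₂(𝔽_p)` containing a non-split Cartan subgroup and of order divisible by `p`
is the whole group. -/

namespace Groth.Agent.Lib.Helper12.GL2

open Matrix

variable {p : ℕ} [Fact p.Prime]

theorem conj_mulVec (c g : Gl p) (v w : Fin 2 → ZMod p) (hcv : (c : Mat p).mulVec v = w)
    (hg : (g : Mat p).mulVec v = v) : ((c * g * c⁻¹ : Gl p) : Mat p).mulVec w = w := by
  have h1 : ((c⁻¹ : Gl p) : Mat p).mulVec w = v := by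
    rw [← hcv, Matrix.mulVec_mulVec, Units.inv_mul, Matrix.one_mulVec]
  rw [Units.val_mul, Units.val_mul, ← Matrix.mulVec_mulVec, ← Matrix.mulVec_mulVec, h1, hg, hcv]

theorem det_conj (c g : Gl p) : ((c * g * c⁻¹ : Gl p) : Mat p).det = (g : Mat p).det := by
  rw [Units.val_mul, Units.val_mul, Matrix.det_mul, Matrix.det_mul, mul_comm, ← mul_assoc,
    ← Matrix.det_mul, Units.inv_mul, Matrix.det_one, one_mul]

theorem e1_ne_zero : (![1, 0] : Fin 2 → ZMod p) ≠ 0 := by
  intro h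
  have := congrFun h 0
  simp at this

theorem e2_ne_zero : (![0, 1] : Fin 2 → ZMod p) ≠ 0 := by
  intro h
  have := congrFun h 1
  simp at this

variable {C : Subgroup (Gl p)} {E : Subring (Mat p)}

theorem T_mem (H : Subgroup (Gl p)) (h : Cartan C E) (hCH : C ≤ H) (hp : p ∣ Nat.card H)
    (b' : ZMod p) : T b' ∈ H := by
  obtain ⟨x, hx⟩ := exists_prime_orderOf_dvd_card' (G := H) p hp
  set u : Gl p := (x : Gl p) with hu_def
  have hu : u ^ p = 1 := by
    have h1 : x ^ p = 1 := by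
      have := pow_orderOf_eq_one x
      rwa [hx] at this
    have h2 := congrArg (fun y : H => (y : Gl p)) h1
    exact h2
  obtain ⟨v, hv0, hv⟩ := exists_fixed_vector u hu
  obtain ⟨c, hc, hcv⟩ := h.transitive v ![1, 0] hv0 e1_ne_zero
  have hu'H : c * u * c⁻¹ ∈ H := H.mul_mem (H.mul_mem (hCH hc) x.2) (H.inv_mem (hCH hc))
  have hfix := conj_mulVec c u v ![1, 0] hcv hv
  have hdetu : (u : Mat p).det = 1 := by
    have h1 : ((u : Mat p).det) ^ p = 1 := by
      rw [← Matrix.det_pow, ← Units.val_pow_eq_pow_val, hu, Units.val_one, Matrix.det_one]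
    rwa [ZMod.pow_card] at h1
  have hdet : ((c * u * c⁻¹ : Gl p) : Mat p).det = 1 := by rw [det_conj, hdetu]
  have hT := eq_T_of_fix (c * u * c⁻¹) hfix hdet
  set b := ((c * u * c⁻¹ : Gl p) : Mat p) 0 1 with hb
  have hb0 : b ≠ 0 := by
    intro hb0
    rw [hb0, T_zero] at hT
    have h1 : u = 1 := by
      have : c * u = c := by
        have := congrArg (fun y => y * c) hT
        simpa using this
      exact mul_eq_left.mp this
    have h2 : x = 1 := Subtype.ext h1
    rw [h2, orderOf_one] at hx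
    exact (Fact.out : p.Prime).one_lt.ne hx
  have hTb : T b ∈ H := by rw [← hT]; exact hu'H
  have h3 : T b' = T b ^ (b' * b⁻¹).val := by
    rw [T_pow, ZMod.natCast_zmod_val, mul_assoc, inv_mul_cancel₀ hb0, mul_one]
  rw [h3]
  exact H.pow_mem hTb _

theorem mem_of_fix (H : Subgroup (Gl p)) (h : Cartan C E) (hCH : C ≤ H)
    (hT : ∀ b : ZMod p, T b ∈ H) (v : Fin 2 → ZMod p) (hv : v ≠ 0) (g : Gl p)
    (hdet : (g : Mat p).det = 1) (hg : (g : Mat p).mulVec v = v) : g ∈ H := by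
  obtain ⟨c, hc, hcv⟩ := h.transitive v ![1, 0] hv e1_ne_zero
  have hfix := conj_mulVec c g v ![1, 0] hcv hg
  have hdet' : ((c * g * c⁻¹ : Gl p) : Mat p).det = 1 := by rw [det_conj, hdet]
  have hT' := eq_T_of_fix (c * g * c⁻¹) hfix hdet'
  have h1 : c * g * c⁻¹ ∈ H := by rw [hT']; exact hT _
  have h2 : g = c⁻¹ * (c * g * c⁻¹) * c := by group
  rw [h2]
  exact H.mul_mem (H.mul_mem (H.inv_mem (hCH hc)) h1) (hCH hc)

theorem eq_top_of_cartan (H : Subgroup (Gl p)) (h : Cartan C E) (hCH : C ≤ H)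
    (hp : p ∣ Nat.card H) : H = ⊤ := by
  have hT : ∀ b : ZMod p, T b ∈ H := T_mem H h hCH hp
  have hL : ∀ c : ZMod p, L c ∈ H := fun c =>
    mem_of_fix H h hCH hT ![0, 1] e2_ne_zero (L c) (det_L c) (L_mulVec_e2 c)
  rw [eq_top_iff]
  intro g _
  obtain ⟨c, hc, hcdet⟩ := h.det_surjective (Matrix.GeneralLinearGroup.det g)
  have h1 : ((g * c⁻¹ : Gl p) : Mat p).det = 1 := by
    have h2 : Matrix.GeneralLinearGroup.det (g * c⁻¹) = 1 := by
      rw [map_mul, map_inv, hcdet, mul_inv_cancel]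
    have h3 := congrArg (fun y : (ZMod p)ˣ => (y : ZMod p)) h2
    exact h3
  have h2 : g * c⁻¹ ∈ H := mem_of_det_eq_one H hT hL _ h1
  have h3 : g = g * c⁻¹ * c := by group
  rw [h3]
  exact H.mul_mem h2 (hCH hc)

end Groth.Agent.Lib.Helper12.GL2
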