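import Mathlib
import Groth.Agent.Lib.Helper12.GL2B

/-! Existence of a non-split Cartan subgroup in `GL₂(𝔽_p)` and divisibility of the order. -/

namespace Groth.Agent.Lib.Helper12.GL2

open Matrix

variable (p : ℕ) [Fact p.Prime]

theorem exists_cartan : ∃ (C : Subgroup (Gl p)) (E : Subring (Mat p)), Cartan C E := by
  have hfin : Module.finrank (ZMod p) (GaloisField p 2) = 2 := GaloisField.finrank p (by norm_num)
  haveI : Module.Finite (ZMod p) (GaloisField p 2) := Module.finite_of_finrank_eq_succ hfin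
  let b : Module.Basis (Fin 2) (ZMod p) (GaloisField p 2) :=
    Module.finBasisOfFinrankEq (ZMod p) (GaloisField p 2) hfin
  let ρ : GaloisField p 2 →+* Mat p := (Algebra.leftMulMatrix b : GaloisField p 2 →+* Mat p)
  have hρ : Function.Injective ρ := RingHom.injective ρ
  let E : Subring (Mat p) := ρ.range
  let e : GaloisField p 2 ≃+* E :=
    RingEquiv.ofBijective ρ.rangeRestrict
      ⟨fun x y hxy => hρ (congrArg Subtype.val hxy), ρ.rangeRestrict_surjective⟩
  have hEf : IsField E := MulEquiv.isField (Field.toIsField (GaloisField p 2)) e.symm.toMulEquiv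
  have hcard : Nat.card E = p ^ 2 := by
    rw [← Nat.card_congr e.toEquiv, GaloisField.card p 2 (by norm_num)]
  -- inverses
  have hinv : ∀ k : GaloisField p 2, k ≠ 0 → ρ k * ρ k⁻¹ = 1 ∧ ρ k⁻¹ * ρ k = 1 := by
    intro k hk
    constructor
    · rw [← map_mul, mul_inv_cancel₀ hk, map_one]
    · rw [← map_mul, inv_mul_cancel₀ hk, map_one]
  let C : Subgroup (Gl p) :=
    { carrier := {g | (g : Mat p) ∈ E}
      mul_mem' := fun {a b} ha hb => by
        show ((a * b : Gl p) : Mat p) ∈ E
        rw [Units.val_mul]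
        exact E.mul_mem ha hb
      one_mem' := by
        show ((1 : Gl p) : Mat p) ∈ E
        rw [Units.val_one]
        exact E.one_mem
      inv_mem' := fun {g} hg => by
        show ((g⁻¹ : Gl p) : Mat p) ∈ E
        obtain ⟨k, hk⟩ := hg
        have hk0 : k ≠ 0 := by
          intro h0
          rw [h0, map_zero] at hk
          exact Units.ne_zero g hk.symm
        have h1 : (g : Mat p) * ρ k⁻¹ = 1 := by rw [← hk]; exact (hinv k hk0).1
        rw [← Units.eq_inv_of_mul_eq_one_left h1]
        exact ⟨k⁻¹, rfl⟩ }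
  refine ⟨C, E, hEf, hcard, ?_⟩
  ext x
  constructor
  · rintro ⟨k, rfl⟩
    by_cases hk0 : k = 0
    · left
      rw [hk0, map_zero]
    · right
      refine ⟨⟨ρ k, ρ k⁻¹, (hinv k hk0).1, (hinv k hk0).2⟩, ?_, rfl⟩
      show ρ k ∈ E
      exact ⟨k, rfl⟩
  · rintro (h0 | ⟨g, hg, rfl⟩)
    · rw [h0]
      exact E.zero_mem
    · exact hg

theorem dvd_card_top : p ∣ Nat.card (⊤ : Subgroup (Gl p)) := by
  rw [Subgroup.card_top, Matrix.card_GL_field, Fin.prod_univ_two, ZMod.card]
  apply Dvd.dvd.mul_left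
  simp only [Fin.val_one, pow_one]
  have : p ^ 2 - p = p * (p - 1) := by
    rw [Nat.mul_sub, mul_one, sq]
  rw [this]
  exact dvd_mul_right p _

end Groth.Agent.Lib.Helper12.GL2
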