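import Mathlib.RingTheory.Unramified.Basic
import Mathlib.RingTheory.Ideal.IdempotentFG

set_option autoImplicit false

/-!
# Points of unramified algebras are isolated

For an unramified `A`-algebra `S` and an `A`-algebra map `σ : S → A / I`, the kernel `𝔟` of `σ`
satisfies `𝔟 = 𝔟² + I S`.
-/

namespace Groth.Agent.Lib.Helper12

open TensorProduct

theorem exists_idempotent_kaehlerIdeal (A S : Type*) [CommRing A] [CommRing S] [Algebra A S]
    [Algebra.EssFiniteType A S] [Algebra.FormallyUnramified A S] :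
    ∃ e : S ⊗[A] S, IsIdempotentElem e ∧ KaehlerDifferential.ideal A S = Ideal.span {e} :=
  (Ideal.isIdempotentElem_iff_of_fg _ (KaehlerDifferential.ideal_fg A S)).mp <|
    (Ideal.cotangent_subsingleton_iff _).mp <| inferInstanceAs <| Subsingleton Ω[S⁄A]

theorem ker_le_sq_sup_map_of_formallyUnramified {A S : Type*} [CommRing A] [CommRing S]
    [Algebra A S] [Algebra.EssFiniteType A S] [Algebra.FormallyUnramified A S] (I : Ideal A)
    (σ : S →ₐ[A] A ⧸ I) :
    RingHom.ker σ ≤ (RingHom.ker σ) ^ 2 ⊔ I.map (algebraMap A S) := by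
  obtain ⟨e, he, hsp⟩ := exists_idempotent_kaehlerIdeal A S
  have hIσ : I.map (algebraMap A S) ≤ RingHom.ker σ := by
    rw [Ideal.map_le_iff_le_comap]
    intro a ha
    rw [Ideal.mem_comap, RingHom.mem_ker, AlgHom.commutes]
    exact Ideal.Quotient.eq_zero_iff_mem.mpr ha
  let ι : A ⧸ I →ₐ[A] S ⧸ I.map (algebraMap A S) :=
    Ideal.quotientMapₐ (I.map (algebraMap A S)) (Algebra.ofId A S) Ideal.le_comap_map
  let ρ : S ⊗[A] S →ₐ[A] S ⧸ I.map (algebraMap A S) :=
    Algebra.TensorProduct.lift (Ideal.Quotient.mkₐ A _) (ι.comp σ) (fun _ _ => Commute.all _ _)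
  let σ' : S ⧸ I.map (algebraMap A S) →ₐ[A] A ⧸ I := Ideal.Quotient.liftₐ _ σ (fun x hx => hIσ hx)
  have hσ'ι : ∀ r : A ⧸ I, σ' (ι r) = r := by
    intro r
    obtain ⟨a, rfl⟩ := Ideal.Quotient.mk_surjective r
    have : ι (Ideal.Quotient.mk I a) = Ideal.Quotient.mk _ (algebraMap A S a) := rfl
    rw [this]
    show σ (algebraMap A S a) = _
    rw [AlgHom.commutes]
    rfl
  have hcomp : ∀ t : S ⊗[A] S, σ' (ρ t) = σ (Algebra.TensorProduct.lmul' A t) := by
    intro t
    induction t with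
    | zero => simp
    | add x y hx hy => rw [map_add, map_add, map_add, map_add, hx, hy]
    | tmul x y =>
      simp only [ρ, Algebra.TensorProduct.lift_tmul, map_mul, AlgHom.comp_apply,
        Algebra.TensorProduct.lmul'_apply_tmul, hσ'ι]
      rfl
  have heker : Algebra.TensorProduct.lmul' A e = 0 := by
    have : e ∈ KaehlerDifferential.ideal A S := by
      rw [hsp]
      exact Ideal.mem_span_singleton_self e
    exact this
  obtain ⟨y, hy⟩ := Ideal.Quotient.mk_surjective (ρ e)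
  have hyσ : y ∈ RingHom.ker σ := by
    rw [RingHom.mem_ker]
    have := hcomp e
    rw [heker, map_zero, ← hy] at this
    exact this
  intro x hx
  have hxσ : σ x = 0 := hx
  have ht : (1 : S) ⊗ₜ[A] x - x ⊗ₜ[A] (1 : S) ∈ Ideal.span {e} := by
    rw [← hsp]
    exact KaehlerDifferential.one_smul_sub_smul_one_mem_ideal A x
  obtain ⟨z, hz⟩ := Ideal.mem_span_singleton'.mp ht
  have ht2 : ((1 : S) ⊗ₜ[A] x - x ⊗ₜ[A] (1 : S)) * e = (1 : S) ⊗ₜ[A] x - x ⊗ₜ[A] (1 : S) := by
    rw [← hz, mul_assoc, he.eq]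
  have hρt : ρ ((1 : S) ⊗ₜ[A] x - x ⊗ₜ[A] (1 : S)) = -Ideal.Quotient.mk _ x := by
    simp only [ρ, map_sub, Algebra.TensorProduct.lift_tmul, map_one, one_mul, mul_one,
      AlgHom.comp_apply, hxσ, map_zero, zero_sub]
    rfl
  have h1 := congrArg ρ ht2
  rw [map_mul, hρt, ← hy] at h1
  have h2 : x - x * y ∈ I.map (algebraMap A S) := by
    rw [← Ideal.Quotient.eq_zero_iff_mem, map_sub, map_mul]
    linear_combination h1
  have h3 : x = x * y + (x - x * y) := by ring
  rw [h3]
  refine Submodule.add_mem_sup ?_ h2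
  rw [pow_two]
  exact Ideal.mul_mem_mul hx hyσ

end Groth.Agent.Lib.Helper12
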