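import Groth.Agent.Lib.Helper12.GabberPoint
import Groth.Agent.Lib.Helper12.UnramifiedPoint
import Mathlib.RingTheory.Polynomial.UniversalFactorizationRing
import Mathlib.RingTheory.Smooth.Flat
import Mathlib.RingTheory.Etale.Basic

set_option autoImplicit false
universe u

/-!
# Gabber's criterion implies lifting of coprime factorizations
-/

namespace Groth.Agent.Lib.Helper12

open Polynomial

variable {A : Type u} [CommRing A] {I : Ideal A}

section Transfer

variable {B : Type*} [CommRing B] [Algebra A B] {L : Type*} [CommRing L] [Algebra B L]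
  [Algebra A L] [IsScalarTower A B L]

/-- Transfer of the isolatedness of a point from a localization to the algebra itself. -/
theorem ker_le_sq_sup_of_localization (Δ : B) [IsLocalization.Away Δ L]
    (hjac : I ≤ Ideal.jacobson ⊥) (φ : B →ₐ[A] A ⧸ I)
    (φ' : L →ₐ[A] A ⧸ I) (hφ : ∀ x, φ' (algebraMap B L x) = φ x)
    (h : RingHom.ker φ' ≤ (RingHom.ker φ') ^ 2 ⊔ I.map (algebraMap A L)) :
    RingHom.ker φ ≤ (RingHom.ker φ) ^ 2 ⊔ I.map (algebraMap A B) := by
  have hΔ' : IsUnit (algebraMap B L Δ) := IsLocalization.Away.algebraMap_isUnit Δ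
  have hΔ : IsUnit (φ Δ) := by
    rw [← hφ]
    exact hΔ'.map φ'
  -- `ker φ' = (ker φ) L`
  have h1 : RingHom.ker φ' ≤ (RingHom.ker φ).map (algebraMap B L) := by
    intro y hy
    obtain ⟨t, x, hx⟩ := IsLocalization.Away.surj Δ y
    rw [IsLocalization.mem_map_algebraMap_iff (Submonoid.powers Δ) L]
    have hxk : x ∈ RingHom.ker φ := by
      rw [RingHom.mem_ker, ← hφ, ← hx, map_mul, (RingHom.mem_ker).mp hy, zero_mul]
    refine ⟨(⟨x, hxk⟩, ⟨Δ ^ t, t, rfl⟩), ?_⟩
    simp only
    rw [map_pow]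
    exact hx
  have h2 : (RingHom.ker φ').map (RingHom.id L) ≤
      ((RingHom.ker φ) ^ 2 ⊔ I.map (algebraMap A B)).map (algebraMap B L) := by
    rw [Ideal.map_id, Ideal.map_sup, Ideal.map_pow, Ideal.map_map,
      ← IsScalarTower.algebraMap_eq]
    exact h.trans (sup_le_sup_right (Ideal.pow_right_mono h1 2) _)
  rw [Ideal.map_id] at h2
  -- the unit `d`
  obtain ⟨d, hd⟩ := Ideal.Quotient.mk_surjective (φ Δ)
  have hdu : IsUnit d := isUnit_of_isUnit_mk hjac (hd ▸ hΔ)
  obtain ⟨dinv, hdinv⟩ := hdu.exists_right_inv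
  have hΔd : Δ - algebraMap A B d ∈ RingHom.ker φ := by
    rw [RingHom.mem_ker, map_sub, AlgHom.commutes, ← hd]
    exact sub_self _
  intro a ha
  have h3 : algebraMap B L a ∈ RingHom.ker φ' := by
    rw [RingHom.mem_ker, hφ]
    exact ha
  obtain ⟨⟨⟨w, hw⟩, ⟨_, t, rfl⟩⟩, hwt⟩ :=
    (IsLocalization.mem_map_algebraMap_iff (Submonoid.powers Δ) L).mp (h2 h3)
  simp only at hwt
  rw [← map_mul, ← sub_eq_zero, ← map_sub] at hwt
  obtain ⟨⟨_, t', rfl⟩, ht'⟩ := (IsLocalization.map_eq_zero_iff (Submonoid.powers Δ) L _).mp hwt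
  simp only at ht'
  -- `Δ ^ (t + t') * a ∈ 𝔟² ⊔ I B`
  set K := (RingHom.ker φ) ^ 2 ⊔ I.map (algebraMap A B) with hK
  have h4 : Δ ^ (t' + t) * a ∈ K := by
    have : Δ ^ (t' + t) * a = Δ ^ t' * w := by
      rw [pow_add]
      linear_combination ht'
    rw [this]
    exact Ideal.mul_mem_left _ _ hw
  have h5 : (Δ ^ (t' + t) - algebraMap A B d ^ (t' + t)) * a ∈ K := by
    apply Ideal.mem_sup_left
    rw [pow_two]
    exact Ideal.mul_mem_mul (Ideal.mem_of_dvd _ (sub_dvd_pow_sub_pow _ _ _) hΔd) ha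
  have h6 : algebraMap A B d ^ (t' + t) * a ∈ K := by
    have : algebraMap A B d ^ (t' + t) * a =
        Δ ^ (t' + t) * a - (Δ ^ (t' + t) - algebraMap A B d ^ (t' + t)) * a := by ring
    rw [this]
    exact K.sub_mem h4 h5
  have h7 : a = algebraMap A B dinv ^ (t' + t) * (algebraMap A B d ^ (t' + t) * a) := by
    rw [← mul_assoc, ← mul_pow, ← map_mul, mul_comm dinv d, hdinv, map_one, one_pow, one_mul]
  rw [h7]
  exact Ideal.mul_mem_left _ _ h6

end Transfer

/-- **Gabber's criterion implies factorization lifting.** -/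
theorem exists_factor_lift_of_gabber (hjac : I ≤ Ideal.jacobson ⊥) (hG : GabberRoots I)
    (f : A[X]) (hf : f.Monic) (g₀ h₀ : (A ⧸ I)[X]) (hg₀ : g₀.Monic) (hh₀ : h₀.Monic)
    (hcop : IsCoprime g₀ h₀) (hfac : f.map (Ideal.Quotient.mk I) = g₀ * h₀) :
    ∃ g h : A[X], g.Monic ∧ h.Monic ∧ f = g * h ∧ g.map (Ideal.Quotient.mk I) = g₀ ∧
      h.map (Ideal.Quotient.mk I) = h₀ := by
  rcases subsingleton_or_nontrivial A with hA | hA
  · haveI : Subsingleton (A ⧸ I) := (Ideal.Quotient.mk I).codomain_trivial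
    exact ⟨f, 1, hf, monic_one, by simp, Subsingleton.elim _ _, Subsingleton.elim _ _⟩
  have hItop : I ≠ ⊤ := by
    intro h
    rw [h, top_le_iff, Ideal.jacobson_eq_top_iff] at hjac
    exact bot_ne_top hjac
  haveI : Nontrivial (A ⧸ I) := Ideal.Quotient.nontrivial_iff.mpr hItop
  set m := g₀.natDegree with hm
  set k := h₀.natDegree with hk
  have hn : f.natDegree = m + k := by
    rw [← hf.natDegree_map (Ideal.Quotient.mk I), hfac, hg₀.natDegree_mul hh₀]
  let p : MonicDegreeEq A f.natDegree := .mk f hf rfl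
  let q₁ : MonicDegreeEq (A ⧸ I) m := .mk g₀ hg₀ rfl
  let q₂ : MonicDegreeEq (A ⧸ I) k := .mk h₀ hh₀ rfl
  have hq : q₁.1 * q₂.1 = p.1.map (algebraMap A (A ⧸ I)) := hfac.symm
  let φ : UniversalFactorizationRing m k hn p →ₐ[A] A ⧸ I :=
    (UniversalFactorizationRing.homEquiv (A ⧸ I) m k hn p).symm ⟨(q₁, q₂), hq⟩
  let φ' : UniversalCoprimeFactorizationRing m k hn p →ₐ[A] A ⧸ I :=
    (UniversalCoprimeFactorizationRing.homEquiv (A ⧸ I) m k hn p).symm ⟨(q₁, q₂), hq, hcop⟩
  set Δ := (UniversalFactorizationRing.presentation m k hn p).jacobian with hΔdef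
  have hφeq : φ'.comp (IsScalarTower.toAlgHom A (UniversalFactorizationRing m k hn p)
      (UniversalCoprimeFactorizationRing m k hn p)) = φ := by
    apply (UniversalFactorizationRing.homEquiv (A ⧸ I) m k hn p).injective
    have h1 : UniversalCoprimeFactorizationRing.homEquiv (A ⧸ I) m k hn p φ' =
        ⟨(q₁, q₂), hq, hcop⟩ := Equiv.apply_symm_apply _ _
    have h2 : UniversalFactorizationRing.homEquiv (A ⧸ I) m k hn p φ = ⟨(q₁, q₂), hq⟩ :=
      Equiv.apply_symm_apply _ _
    rw [h2]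
    apply Subtype.ext
    have h3 := congrArg Subtype.val h1
    exact h3
  have hφ'φ : ∀ x, φ' (algebraMap _ _ x) = φ x := fun x => AlgHom.congr_fun hφeq x
  have hΔ : IsUnit (φ Δ) := by
    rw [← hφ'φ]
    exact (IsLocalization.Away.algebraMap_isUnit Δ).map φ'
  have hU := ker_le_sq_sup_map_of_formallyUnramified I φ'
  have hker := ker_le_sq_sup_of_localization Δ hjac φ φ' hφ'φ hU
  obtain ⟨c, hc1, hc2⟩ := exists_almost_idempotent_of_ker_le φ hker
  have hφsmul : ∀ (t : A) (x : UniversalFactorizationRing m k hn p),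
      φ (t • x) = Ideal.Quotient.mk I t * φ x := by
    intro t x
    rw [map_smul, Algebra.smul_def]
    rfl
  have hcc : c * c - c ∈ I.map (algebraMap A (UniversalFactorizationRing m k hn p)) := by
    have : c * c - c = c * (c - 1) := by ring
    rw [this]
    apply hc2
    rw [map_sub, hc1, map_one, sub_self]
  have hrank : ∀ x : UniversalFactorizationRing m k hn p, ∃ a : A,
      c * x - a • c ∈ I.map (algebraMap A (UniversalFactorizationRing m k hn p)) := by
    intro x
    obtain ⟨a, ha⟩ := Ideal.Quotient.mk_surjective (φ x)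
    refine ⟨a, ?_⟩
    have : c * x - a • c = c * (x - a • 1) := by
      rw [mul_sub, mul_smul_comm, mul_one]
    rw [this]
    apply hc2
    rw [map_sub, hφsmul, map_one, mul_one, ha, sub_self]
  obtain ⟨e, he, hec⟩ := exists_idempotent_lift_of_gabber hjac hG c hcc hrank
  have hIφ : ∀ w ∈ I.map (algebraMap A (UniversalFactorizationRing m k hn p)), φ w = 0 := by
    intro w hw
    have hle : I.map (algebraMap A (UniversalFactorizationRing m k hn p)) ≤ RingHom.ker φ := by
      rw [Ideal.map_le_iff_le_comap]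
      intro a ha
      rw [Ideal.mem_comap, RingHom.mem_ker, AlgHom.commutes]
      exact Ideal.Quotient.eq_zero_iff_mem.mpr ha
    exact hle hw
  have hφe : φ e = 1 := by
    have := hIφ _ hec
    rw [map_sub, hc1, sub_eq_zero] at this
    exact this
  have hker' : ∀ z, φ z = 0 →
      e * z ∈ I.map (algebraMap A (UniversalFactorizationRing m k hn p)) := by
    intro z hz
    have : e * z = c * z + (e - c) * z := by ring
    rw [this]
    exact Ideal.add_mem _ (hc2 z hz) (Ideal.mul_mem_right _ _ hec)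
  haveI : Module.Flat A (Localization.Away Δ) :=
    inferInstanceAs (Module.Flat A (UniversalCoprimeFactorizationRing m k hn p))
  obtain ⟨χ, hχ⟩ := exists_algHom_of_idempotent φ e hjac he hφe hker' Δ hΔ
  have hcomp : (Ideal.Quotient.mkₐ A I).comp χ = φ := AlgHom.ext hχ
  set Q := UniversalFactorizationRing.homEquiv A m k hn p χ with hQ
  have hQφ : UniversalFactorizationRing.homEquiv (A ⧸ I) m k hn p φ = ⟨(q₁, q₂), hq⟩ :=
    Equiv.apply_symm_apply _ _
  refine ⟨Q.1.1.1, Q.1.2.1, Q.1.1.monic, Q.1.2.monic, ?_, ?_, ?_⟩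
  · have := Q.2
    rw [this]
    simp [p]
  · have h1 : (UniversalFactorizationRing.homEquiv (A ⧸ I) m k hn p φ).1.1.1 = g₀ :=
      congrArg (fun z => z.1.1.1) hQφ
    rw [← h1, ← hcomp]
    show ((UniversalFactorizationRing.factor₁ m k hn p).1.map (χ : _ →+* A)).map
      (Ideal.Quotient.mk I) = (UniversalFactorizationRing.factor₁ m k hn p).1.map
        (((Ideal.Quotient.mkₐ A I).comp χ : _ →ₐ[A] A ⧸ I) : _ →+* A ⧸ I)
    rw [Polynomial.map_map]
    rfl
  · have h1 : (UniversalFactorizationRing.homEquiv (A ⧸ I) m k hn p φ).1.2.1 = h₀ :=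
      congrArg (fun z => z.1.2.1) hQφ
    rw [← h1, ← hcomp]
    show ((UniversalFactorizationRing.factor₂ m k hn p).1.map (χ : _ →+* A)).map
      (Ideal.Quotient.mk I) = (UniversalFactorizationRing.factor₂ m k hn p).1.map
        (((Ideal.Quotient.mkₐ A I).comp χ : _ →ₐ[A] A ⧸ I) : _ →+* A ⧸ I)
    rw [Polynomial.map_map]
    rfl

end Groth.Agent.Lib.Helper12
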