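import Groth.Agent.Lib.Helper12.GabberCrit
import Mathlib.RingTheory.Polynomial.Basic
import Mathlib.Algebra.Polynomial.Div
import Mathlib.LinearAlgebra.Matrix.Charpoly.LinearMap
import Mathlib.RingTheory.Nakayama

set_option autoImplicit false

/-!
# Gabber's trick: lifting rank one idempotents of finite algebras
-/

namespace Groth.Agent.Lib.Helper12

open Polynomial

variable {A : Type*} [CommRing A] {I : Ideal A}

/-- Gabber's root condition including the trivial case `n = 0`. -/
def GabberRoots (I : Ideal A) : Prop :=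
  ∀ (n : ℕ) (p : A[X]), p.natDegree ≤ n → (∀ i, p.coeff i ∈ I) →
    ∃ α : A, α - 1 ∈ I ∧ (X ^ n * (X - 1) + p).IsRoot α

theorem gabberRoots_of_pos
    (hG : ∀ (n : ℕ), 0 < n → ∀ p : A[X], p.natDegree ≤ n → (∀ i, p.coeff i ∈ I) →
      ∃ α : A, α - 1 ∈ I ∧ (X ^ n * (X - 1) + p).IsRoot α) : GabberRoots I := by
  intro n p hp hpI
  rcases Nat.eq_zero_or_pos n with rfl | hn
  · refine ⟨1 - p.coeff 0, ?_, ?_⟩
    · have : 1 - p.coeff 0 - 1 = -p.coeff 0 := by ring
      rw [this]
      exact I.neg_mem (hpI 0)
    · rw [eq_C_of_natDegree_le_zero hp]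
      simp [IsRoot]
  · exact hG n hn p hp hpI

theorem gabberRoots_of_henselianRing [HenselianRing A I] : GabberRoots I :=
  fun n p hp hpI => (existsUnique_root_of_henselianRing n p hp hpI).exists

theorem coeff_mem_of_map_mk_eq_zero {p : A[X]} (h : p.map (Ideal.Quotient.mk I) = 0) (i : ℕ) :
    p.coeff i ∈ I := by
  rw [← Ideal.Quotient.eq_zero_iff_mem, ← coeff_map, h, coeff_zero]

theorem aeval_mem_map_of_coeff_mem {C : Type*} [CommRing C] [Algebra A C] {p : A[X]}
    (h : ∀ i, p.coeff i ∈ I) (c : C) : aeval c p ∈ I.map (algebraMap A C) := by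
  rw [aeval_eq_sum_range]
  apply Submodule.sum_mem
  intro i _
  rw [Algebra.smul_def]
  exact Ideal.mul_mem_right _ _ (Ideal.mem_map_of_mem _ (h i))

theorem natDegree_X_pow_mul_X_sub_one {R : Type*} [CommRing R] [Nontrivial R] (n : ℕ) :
    (X ^ n * (X - 1 : R[X])).natDegree = n + 1 := by
  have : (X - 1 : R[X]) = X - C 1 := by rw [C_1]
  rw [this, (monic_X_pow n).natDegree_mul (monic_X_sub_C 1), natDegree_X_pow, natDegree_X_sub_C]

theorem pow_succ_sub_mem {C : Type*} [CommRing C] {J : Ideal C} {c : C} (hc : c * c - c ∈ J)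
    (k : ℕ) : c ^ (k + 1) - c ∈ J := by
  induction k with
  | zero => simp
  | succ k ih =>
    have : c ^ (k + 1 + 1) - c = c * (c ^ (k + 1) - c) + (c * c - c) := by ring
    rw [this]
    exact J.add_mem (J.mul_mem_left _ ih) hc

/-- From a monic polynomial of Gabber's form killing `c`, construct an idempotent congruent to
`c`. -/
theorem exists_idempotent_of_gabber_poly (hjac : I ≤ Ideal.jacobson ⊥) (hG : GabberRoots I)
    {B : Type*} [CommRing B] [Algebra A B] (c : B)
    (hc : c * c - c ∈ I.map (algebraMap A B)) (n : ℕ) (P : A[X]) (hPm : P.Monic)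
    (hPmap : P.map (Ideal.Quotient.mk I) = X ^ n * (X - 1)) (hPc : aeval c P = 0) :
    ∃ e : B, IsIdempotentElem e ∧ e - c ∈ I.map (algebraMap A B) := by
  rcases subsingleton_or_nontrivial A with hA | hA
  · haveI : Subsingleton B := (algebraMap A B).codomain_trivial
    exact ⟨0, Subsingleton.elim _ _, by rw [Subsingleton.elim (0 - c) 0]; exact zero_mem _⟩
  have hItop : I ≠ ⊤ := by
    intro h
    rw [h, top_le_iff, Ideal.jacobson_eq_top_iff] at hjac
    exact bot_ne_top hjac
  haveI : Nontrivial (A ⧸ I) := Ideal.Quotient.nontrivial_iff.mpr hItop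
  set p : A[X] := P - X ^ n * (X - 1) with hp
  have hpmap : p.map (Ideal.Quotient.mk I) = 0 := by
    rw [hp, Polynomial.map_sub, hPmap]
    simp
  have hpI := coeff_mem_of_map_mk_eq_zero hpmap
  have hPdeg : P.natDegree = n + 1 := by
    rw [← hPm.natDegree_map (Ideal.Quotient.mk I), hPmap, natDegree_X_pow_mul_X_sub_one]
  have hpdeg : p.natDegree ≤ n := by
    by_cases hp0 : p = 0
    · rw [hp0, natDegree_zero]
      exact Nat.zero_le n
    have hQ0m : (X ^ n * (X - 1 : A[X])).Monic := by
      have : (X - 1 : A[X]) = X - C 1 := by rw [C_1]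
      rw [this]
      exact (monic_X_pow n).mul (monic_X_sub_C 1)
    have hd : P.degree = (X ^ n * (X - 1 : A[X])).degree := by
      rw [degree_eq_natDegree hPm.ne_zero, degree_eq_natDegree hQ0m.ne_zero, hPdeg,
        natDegree_X_pow_mul_X_sub_one]
    have := degree_sub_lt_left hd hPm.ne_zero (by rw [hPm.leadingCoeff, hQ0m.leadingCoeff])
    rw [degree_eq_natDegree hPm.ne_zero, hPdeg, ← hp] at this
    have h2 := (natDegree_lt_iff_degree_lt hp0).mpr this
    omega
  obtain ⟨α, hα1, hα⟩ := hG n p hpdeg hpI
  have hPeq : X ^ n * (X - 1) + p = P := by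
    rw [hp]
    ring
  rw [hPeq] at hα
  set Q := P /ₘ (X - C α) with hQdef
  have hQ : (X - C α) * Q = P := mul_divByMonic_eq_iff_isRoot.mpr hα
  have hα' : Ideal.Quotient.mk I α = 1 := by
    rw [← sub_eq_zero, ← map_one (Ideal.Quotient.mk I), ← map_sub, Ideal.Quotient.eq_zero_iff_mem]
    exact hα1
  have hQmap : Q.map (Ideal.Quotient.mk I) = X ^ n := by
    have := congrArg (Polynomial.map (Ideal.Quotient.mk I)) hQ
    rw [Polynomial.map_mul, Polynomial.map_sub, map_X, map_C, hα', hPmap, mul_comm] at this
    exact (monic_X_sub_C (1 : A ⧸ I)).isRegular.right this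
  set q : A[X] := Q - X ^ n with hq
  have hqmap : q.map (Ideal.Quotient.mk I) = 0 := by
    rw [hq, Polynomial.map_sub, hQmap]
    simp
  have hqI := coeff_mem_of_map_mk_eq_zero hqmap
  set u := Q.eval α with hu
  have hu1 : u - 1 ∈ I := by
    rw [← Ideal.Quotient.eq_zero_iff_mem, map_sub, hu, ← eval_map_apply, hQmap, hα']
    simp
  obtain ⟨v, hv⟩ := (isUnit_of_sub_one_mem hjac hu1).exists_right_inv
  have hv1 : v - 1 ∈ I := by
    have : v - 1 = -(v * (u - 1)) := by linear_combination hv
    rw [this]
    exact I.neg_mem (I.mul_mem_left _ hu1)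
  have hroot : (Q - C u).IsRoot α := by
    rw [IsRoot, eval_sub, eval_C, hu, sub_self]
  set Q₂ := (Q - C u) /ₘ (X - C α) with hQ₂def
  have hQ₂ : (X - C α) * Q₂ = Q - C u := mul_divByMonic_eq_iff_isRoot.mpr hroot
  set Qc := aeval c Q with hQc
  have h1 : (c - algebraMap A B α) * Qc = 0 := by
    rw [← hPc, ← hQ, map_mul, map_sub, aeval_X, aeval_C]
  have h2 : Qc - algebraMap A B u = (c - algebraMap A B α) * aeval c Q₂ := by
    have := congrArg (aeval c) hQ₂
    rw [map_mul, map_sub, map_sub, aeval_X, aeval_C, aeval_C] at this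
    exact this.symm
  have h3 : Qc * Qc = algebraMap A B u * Qc := by
    linear_combination (aeval c Q₂) * h1 + Qc * h2
  have huv : algebraMap A B u * algebraMap A B v = 1 := by
    rw [← map_mul, hv, map_one]
  refine ⟨algebraMap A B v * Qc, ?_, ?_⟩
  · show algebraMap A B v * Qc * (algebraMap A B v * Qc) = algebraMap A B v * Qc
    linear_combination (algebraMap A B v ^ 2) * h3 + (algebraMap A B v * Qc) * huv
  · have e1 : algebraMap A B v - 1 ∈ I.map (algebraMap A B) := by
      rw [← map_one (algebraMap A B), ← map_sub]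
      exact Ideal.mem_map_of_mem _ hv1
    have e2 : Qc - c ^ n ∈ I.map (algebraMap A B) := by
      have : Qc - c ^ n = aeval c q := by
        rw [hq, map_sub, map_pow, aeval_X]
      rw [this]
      exact aeval_mem_map_of_coeff_mem hqI c
    have e3 : c ^ (n + 1) - c ^ n ∈ I.map (algebraMap A B) := by
      have h4 : aeval c P = c ^ n * (c - 1) + aeval c p := by
        rw [← hPeq, map_add, map_mul, map_pow, map_sub, aeval_X, map_one]
      have : c ^ (n + 1) - c ^ n = -aeval c p := by
        rw [hPc] at h4
        linear_combination -h4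
      rw [this]
      exact neg_mem (aeval_mem_map_of_coeff_mem hpI c)
    have e4 := pow_succ_sub_mem hc n
    have : algebraMap A B v * Qc - c = (algebraMap A B v - 1) * Qc + (Qc - c ^ n)
        - (c ^ (n + 1) - c ^ n) + (c ^ (n + 1) - c) := by ring
    rw [this]
    exact Ideal.add_mem _ (Ideal.sub_mem _ (Ideal.add_mem _ (Ideal.mul_mem_right _ _ e1) e2) e3) e4

/-- A "rank one" almost idempotent element of a finite algebra is killed by a monic polynomial of
Gabber's form. -/
theorem exists_gabber_poly_of_finite (hjac : I ≤ Ideal.jacobson ⊥)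
    {B : Type*} [CommRing B] [Algebra A B] [Module.Finite A B] (c : B)
    (hc : c * c - c ∈ I.map (algebraMap A B))
    (hrank : ∀ x : B, ∃ a : A, c * x - a • c ∈ I.map (algebraMap A B)) :
    ∃ (n : ℕ) (P : A[X]), P.Monic ∧ P.map (Ideal.Quotient.mk I) = X ^ n * (X - 1) ∧
      aeval c P = 0 := by
  classical
  obtain ⟨n, s, hs⟩ := Module.Finite.exists_fin (R := A) (M := B)
  let b : Option (Fin n) → B := fun k => k.elim c (fun j => (1 - c) * s j)
  have hIB : ∀ x : B, x ∈ I.map (algebraMap A B) ↔ x ∈ I • (⊤ : Submodule A B) := by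
    intro x
    rw [Ideal.smul_top_eq_map]
    rfl
  have hb : Submodule.span A (Set.range b) = ⊤ := by
    rw [eq_top_iff]
    apply Submodule.le_of_le_smul_of_le_jacobson_bot Module.Finite.fg_top hjac
    calc (⊤ : Submodule A B) = Submodule.span A (Set.range s) := hs.symm
      _ ≤ _ := by
        rw [Submodule.span_le]
        rintro _ ⟨j, rfl⟩
        obtain ⟨a, ha⟩ := hrank (s j)
        have e : s j = (a • c + (1 - c) * s j) + (c * s j - a • c) := by ring
        rw [e]
        refine Submodule.add_mem_sup (Submodule.add_mem _ ?_ ?_) ((hIB _).mp ha)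
        · exact Submodule.smul_mem _ _ (Submodule.subset_span ⟨none, rfl⟩)
        · exact Submodule.subset_span ⟨some j, rfl⟩
  have hx : ∀ k : Option (Fin n), c * b k - (if k = none then c else 0) ∈
      I • Submodule.span A (Set.range b) := by
    intro k
    rw [hb, ← hIB]
    cases k with
    | none => simpa [b] using hc
    | some j =>
      have : c * b (some j) - (if (some j : Option (Fin n)) = none then c else 0) =
          -((c * c - c) * s j) := by
        simp only [b, Option.elim, reduceCtorEq, if_false]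
        ring
      rw [this]
      exact neg_mem (Ideal.mul_mem_right _ _ hc)
  choose a ha hsum using fun k =>
    (Submodule.mem_ideal_smul_span_iff_exists_sum I b _).mp (hx k)
  let M : Matrix (Option (Fin n)) (Option (Fin n)) A :=
    fun i k => (if i = none ∧ k = none then 1 else 0) + a k i
  let f : Module.End A B := LinearMap.mulLeft A c
  have hrep : M.Represents b f := by
    rw [Matrix.represents_iff']
    intro k
    show ∑ i, ((if i = none ∧ k = none then (1 : A) else 0) + a k i) • b i = c * b k
    simp only [add_smul, Finset.sum_add_distrib]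
    have h1 : ∑ i : Option (Fin n), (a k i) • b i = c * b k - (if k = none then c else 0) := by
      rw [← hsum k, Finsupp.sum_fintype]
      intro i
      exact zero_smul _ _
    have h2 : ∑ i : Option (Fin n), (if i = none ∧ k = none then (1 : A) else 0) • b i =
        (if k = none then c else 0) := by
      rw [Finset.sum_eq_single none]
      · by_cases hk : k = none <;> simp [hk, b]
      · intro i _ hi
        simp [hi]
      · intro h
        exact absurd (Finset.mem_univ _) h
    rw [h1, h2]
    ring
  refine ⟨n, M.charpoly, M.charpoly_monic, ?_, ?_⟩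
  · rw [← Matrix.charpoly_map]
    have hM : M.map (Ideal.Quotient.mk I) =
        Matrix.diagonal (fun k : Option (Fin n) => if k = none then (1 : A ⧸ I) else 0) := by
      ext i k
      simp only [Matrix.map_apply, M, map_add, Ideal.Quotient.eq_zero_iff_mem.mpr (ha k i),
        add_zero, Matrix.diagonal_apply]
      by_cases hi : i = none <;> by_cases hk : k = none <;> simp [hi, hk]
      · intro h
        exact absurd h.symm hk
    rw [hM, Matrix.charpoly_diagonal, Fintype.prod_option]
    simp [mul_comm]
  · let M' : Matrix.isRepresentation A b := ⟨M, f, hrep⟩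
    have h1 : Matrix.isRepresentation.toEnd A b hb M' = f :=
      Matrix.isRepresentation.eq_toEnd_of_represents A b hb M' hrep
    have h2 : aeval f M.charpoly = 0 := by
      rw [← h1, Polynomial.aeval_algHom_apply,
        ← map_zero (Matrix.isRepresentation.toEnd A b hb)]
      congr 1
      ext1
      rw [Polynomial.aeval_subalgebra_coe, Matrix.aeval_self_charpoly, Subalgebra.coe_zero]
    have h3 : aeval (Algebra.lmul A B c) M.charpoly = Algebra.lmul A B (aeval c M.charpoly) :=
      Polynomial.aeval_algHom_apply _ _ _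
    have h4 : (aeval f M.charpoly) 1 = aeval c M.charpoly := by
      show (aeval (Algebra.lmul A B c) M.charpoly) 1 = _
      rw [h3]
      simp
    rw [← h4, h2]
    rfl

/-- **Gabber's trick**: a "rank one" idempotent of `B / I B`, for `B` a finite `A`-algebra, lifts
to an idempotent of `B` provided Gabber's polynomials have roots. -/
theorem exists_idempotent_lift_of_gabber (hjac : I ≤ Ideal.jacobson ⊥) (hG : GabberRoots I)
    {B : Type*} [CommRing B] [Algebra A B] [Module.Finite A B] (c : B)
    (hc : c * c - c ∈ I.map (algebraMap A B))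
    (hrank : ∀ x : B, ∃ a : A, c * x - a • c ∈ I.map (algebraMap A B)) :
    ∃ e : B, IsIdempotentElem e ∧ e - c ∈ I.map (algebraMap A B) := by
  obtain ⟨n, P, hPm, hPmap, hPc⟩ := exists_gabber_poly_of_finite hjac c hc hrank
  exact exists_idempotent_of_gabber_poly hjac hG c hc n P hPm hPmap hPc

end Groth.Agent.Lib.Helper12
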