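import Groth.Prelude.Def_W4c6eohyperellchar2Gc
import Mathlib

/-!
# Basis formulas for the explicit module `GcMod c k` (helper12)
-/

set_option autoImplicit false
universe u

namespace Groth.Agent.Lib.Helper12.GcMod

open W4c6eohyperellchar2

variable (c : ℕ) (k : Type u) [Field k] [CharP k 2] [PerfectRing k 2]

lemma coefX_X (j n : ℕ) : coefX (X c k j) n = if 1 ≤ n ∧ n ≤ c ∧ n = j then 1 else 0 := by
  unfold coefX X
  by_cases h : 1 ≤ n ∧ n ≤ c
  · rw [dif_pos h]
    simp only
    by_cases hj : n = j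
    · rw [if_pos (by omega), if_pos ⟨h.1, h.2, hj⟩]
    · rw [if_neg (by omega), if_neg (fun h' => hj h'.2.2)]
  · rw [dif_neg h, if_neg (fun h' => h ⟨h'.1, h'.2.1⟩)]

lemma coefY_X (j n : ℕ) : coefY (X c k j) n = 0 := by
  unfold coefY X
  by_cases h : 1 ≤ n ∧ n ≤ c
  · rw [dif_pos h]; rfl
  · rw [dif_neg h]

lemma coefX_Y (j n : ℕ) : coefX (Y c k j) n = 0 := by
  unfold coefX Y
  by_cases h : 1 ≤ n ∧ n ≤ c
  · rw [dif_pos h]; rfl
  · rw [dif_neg h]

lemma coefY_Y (j n : ℕ) : coefY (Y c k j) n = if 1 ≤ n ∧ n ≤ c ∧ n = j then 1 else 0 := by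
  unfold coefY Y
  by_cases h : 1 ≤ n ∧ n ≤ c
  · rw [dif_pos h]
    simp only
    by_cases hj : n = j
    · rw [if_pos (by omega), if_pos ⟨h.1, h.2, hj⟩]
    · rw [if_neg (by omega), if_neg (fun h' => hj h'.2.2)]
  · rw [dif_neg h, if_neg (fun h' => h ⟨h'.1, h'.2.1⟩)]

/-- `F X_j = X_{j/2}` for `j` even, `j ≤ c`. -/
lemma F_X_even (j : ℕ) (hj : j ≤ c) (he : j % 2 = 0) : F c k (X c k j) = X c k (j / 2) := by
  unfold F
  ext i
  · simp only [coefX_X]
    show _ = (X c k (j / 2)).1 i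
    unfold X
    simp only
    by_cases h : i.val + 1 = j / 2
    · rw [if_pos h, if_pos (by omega)]; simp
    · rw [if_neg h, if_neg (by omega)]; simp
  · simp only [coefX_X]
    show _ = (X c k (j / 2)).2 i
    unfold X
    simp only [Pi.zero_apply]
    rw [if_neg (by omega)]; simp

/-- `F X_j = Y_{c-(j-1)/2}` for `j` odd, `j ≤ c`. -/
lemma F_X_odd (j : ℕ) (hj : j ≤ c) (ho : j % 2 = 1) :
    F c k (X c k j) = Y c k (c - (j - 1) / 2) := by
  unfold F
  have hi : ∀ i : Fin c, i.val < c := fun i => i.2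
  ext i
  · simp only [coefX_X]
    show _ = (Y c k _).1 i
    unfold Y
    simp only [Pi.zero_apply]
    rw [if_neg (by omega)]; simp
  · simp only [coefX_X]
    show _ = (Y c k _).2 i
    unfold Y
    simp only
    have := hi i
    by_cases h : i.val + 1 = c - (j - 1) / 2
    · rw [if_pos h, if_pos (by omega)]; simp
    · rw [if_neg h, if_neg (by omega)]; simp

lemma F_Y (j : ℕ) : F c k (Y c k j) = 0 := by
  unfold F
  ext i <;> simp [coefX_Y]

/-- `V Y_j = Y_{2j}` (which is the zero vector when `2j > c`), for `1 ≤ j`. -/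
lemma V_Y (j : ℕ) (hj : 1 ≤ j) : V c k (Y c k j) = Y c k (2 * j) := by
  unfold V
  have hi : ∀ i : Fin c, i.val < c := fun i => i.2
  ext i
  · rfl
  · show _ = (Y c k _).2 i
    simp only [coefY_Y, coefX_Y]
    unfold Y
    simp only
    have := hi i
    by_cases hpar : (i.val + 1) % 2 = 0
    · rw [if_pos hpar]
      by_cases h : i.val + 1 = 2 * j
      · rw [if_pos h, if_pos (by omega)]; simp
      · rw [if_neg h, if_neg (by omega)]; simp
    · rw [if_neg hpar, if_neg (by omega)]; simp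

/-- `V X_j = Y_{2c-2j+1}` for `c < 2j`, `j ≤ c`. -/
lemma V_X_big (j : ℕ) (hj : j ≤ c) (hcj : c < 2 * j) :
    V c k (X c k j) = Y c k (2 * c - 2 * j + 1) := by
  unfold V
  have hi : ∀ i : Fin c, i.val < c := fun i => i.2
  ext i
  · rfl
  · show _ = (Y c k _).2 i
    simp only [coefY_X, coefX_X]
    unfold Y
    simp only
    have := hi i
    by_cases hpar : (i.val + 1) % 2 = 0
    · rw [if_pos hpar, if_neg (by omega)]; simp
    · rw [if_neg hpar]
      by_cases h : i.val + 1 = 2 * c - 2 * j + 1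
      · rw [if_pos h, if_pos (by omega)]; simp
      · rw [if_neg h, if_neg (by omega)]; simp

lemma F_iter (e l : ℕ) (h : 2 ^ e * l ≤ c) : (F c k)^[e] (X c k (2 ^ e * l)) = X c k l := by
  induction e with
  | zero => simp
  | succ e ih =>
    have e0 : 2 ^ (e + 1) * l = 2 * (2 ^ e * l) := by rw [pow_succ]; ring
    rw [e0] at h ⊢
    rw [Function.iterate_succ_apply, F_X_even c k _ h (by omega)]
    have e1 : 2 * (2 ^ e * l) / 2 = 2 ^ e * l := by omega
    rw [e1]
    exact ih (by omega)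

lemma V_iter (n m : ℕ) (hm : 1 ≤ m) : (V c k)^[n] (Y c k m) = Y c k (2 ^ n * m) := by
  induction n with
  | zero => simp
  | succ n ih =>
    rw [Function.iterate_succ_apply', ih, V_Y c k _ (Nat.one_le_iff_ne_zero.mpr (by positivity))]
    congr 1
    rw [pow_succ]; ring

lemma add_self (v : GcMod c k) : v + v = 0 := by
  ext i
  · exact CharTwo.add_self_eq_zero _
  · exact CharTwo.add_self_eq_zero _

end Groth.Agent.Lib.Helper12.GcMod
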