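import Groth.Agent.Lib.Helper12.GcMod

/-!
# More on `GcMod c k` (helper12): basis expansion, membership of basis vectors in `F,V`-stable subspaces
-/

set_option autoImplicit false
universe u

namespace Groth.Agent.Lib.Helper12.GcMod

open W4c6eohyperellchar2

variable (c : ℕ) (k : Type u) [Field k] [CharP k 2] [PerfectRing k 2]

lemma eq_sum (v : GcMod c k) :
    v = ∑ i : Fin c, (v.1 i • X c k (i.val + 1) + v.2 i • Y c k (i.val + 1)) := by
  ext i
  · rw [Prod.fst_sum, Finset.sum_apply, Finset.sum_eq_single i]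
    · simp [X, Y]
    · intro b _ hb
      have : ¬ (i.val = b.val) := fun h => hb (Fin.ext (by omega))
      simp [X, Y, this]
    · simp
  · rw [Prod.snd_sum, Finset.sum_apply, Finset.sum_eq_single i]
    · simp [X, Y]
    · intro b _ hb
      have : ¬ (i.val = b.val) := fun h => hb (Fin.ext (by omega))
      simp [X, Y, this]
    · simp

/-- `F,V`-stable subspace containing the `X_j`, `c < 2j ≤ 2c`, contains all `X_j`. -/
lemma X_mem (N : Submodule k (GcMod c k)) (hF : ∀ v ∈ N, F c k v ∈ N)
    (hX : ∀ j : ℕ, c < 2 * j → j ≤ c → X c k j ∈ N) :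
    ∀ j : ℕ, 1 ≤ j → j ≤ c → X c k j ∈ N := by
  intro j
  induction' h : c - j using Nat.strong_induction_on with d ih generalizing j
  intro h1 hjc
  by_cases hcj : c < 2 * j
  · exact hX j hcj hjc
  · have h2 : 2 * j ≤ c := by omega
    have hmem := ih (c - 2 * j) (by omega) (2 * j) rfl (by omega) h2
    have := hF _ hmem
    rw [F_X_even c k (2 * j) h2 (by omega)] at this
    have e : 2 * j / 2 = j := by omega
    rwa [e] at this

/-- `F,V`-stable subspace containing the `X_j`, `c < 2j ≤ 2c`, contains all `Y_m`. -/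
lemma Y_mem (N : Submodule k (GcMod c k)) (hV : ∀ v ∈ N, V c k v ∈ N)
    (hX : ∀ j : ℕ, c < 2 * j → j ≤ c → X c k j ∈ N) :
    ∀ m : ℕ, 1 ≤ m → m ≤ c → Y c k m ∈ N := by
  intro m
  induction' m using Nat.strong_induction_on with m ih
  intro h1 hmc
  by_cases hodd : m % 2 = 1
  · have hj : c - (m - 1) / 2 ≤ c := by omega
    have hcj : c < 2 * (c - (m - 1) / 2) := by omega
    have := hV _ (hX _ hcj hj)
    rw [V_X_big c k _ hj hcj] at this
    have e : 2 * c - 2 * (c - (m - 1) / 2) + 1 = m := by omega
    rwa [e] at this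
  · have hm' := ih (m / 2) (by omega) (by omega) (by omega)
    have := hV _ hm'
    rw [V_Y c k _ (by omega)] at this
    have e : 2 * (m / 2) = m := by omega
    rwa [e] at this

end Groth.Agent.Lib.Helper12.GcMod
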