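import Mathlib.AlgebraicGeometry.Geometrically.Basic
import Mathlib.AlgebraicGeometry.PullbackCarrier
import Mathlib.AlgebraicGeometry.ResidueField

namespace Groth.Agent.Lib.Helper12

open AlgebraicGeometry CategoryTheory Limits

universe u

/-- If `P` descends along surjective morphisms of schemes, then "geometrically `P`" descends
along surjective base change. -/
theorem geometrically_of_pullback_snd_of_surjective {P : ObjectProperty Scheme.{u}}
    (hP : ∀ {Z' Z : Scheme.{u}} (h : Z' ⟶ Z), Surjective h → P Z' → P Z)
    {X Y Y' : Scheme.{u}} (f : X ⟶ Y) (g : Y' ⟶ Y) [Surjective g]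
    (h : geometrically P (pullback.snd f g)) : geometrically P f := by
  intro K _ y Z fst snd hpb
  have hsurj : Surjective (pullback.fst y g) := inferInstance
  obtain ⟨w, -⟩ := (pullback.fst y g).surjective (default : Spec (.of K))
  let ι : Spec ((pullback y g).residueField w) ⟶ pullback y g :=
    (pullback y g).fromSpecResidueField w
  let a : Spec ((pullback y g).residueField w) ⟶ Spec (.of K) := ι ≫ pullback.fst y g
  let b : Spec ((pullback y g).residueField w) ⟶ Y' := ι ≫ pullback.snd y g
  have hab : a ≫ y = b ≫ g := by simp [a, b, pullback.condition]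
  have h1 : IsPullback (pullback.fst snd a) (pullback.snd snd a) snd a := .of_hasPullback _ _
  have h2 : IsPullback (pullback.fst snd a ≫ fst) (pullback.snd snd a) f (b ≫ g) :=
    hab ▸ h1.paste_horiz hpb
  have h3 := h2.of_right' (IsPullback.of_hasPullback f g)
  have hPL : P (pullback snd a) := h b _ _ h3
  have ha : Surjective a := ⟨fun x => ⟨default, Subsingleton.elim _ _⟩⟩
  exact hP (pullback.fst snd a) inferInstance hPL

end Groth.Agent.Lib.Helper12
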