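import Groth.Agent.Lib.Helper12.TriFlatC

/-!
# Gonflement, algebraic case: the triangular system attached to generators of `K/k`

`A` local ring with residue field `k`, `K/k` algebraic, `θ : σ → K` a family indexed by a well-order.
We construct a triangular family `F : σ → A[X_σ]` such that `F t` lifts the minimal polynomial of
`θ t` over `k(θ s : s < t)`.
-/

set_option autoImplicit false
universe u v

namespace Groth.Agent.Lib.Helper12.Gonf

open MvPolynomial IsLocalRing

section Basic

variable {A : Type u} [CommRing A] [IsLocalRing A] {K : Type u} [Field K] [Algebra A K]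
  [Algebra (ResidueField A) K] [IsScalarTower A (ResidueField A) K]

/-- every element of `Algebra.adjoin k (range θ)` is a polynomial over `A` in the `θ i` -/
theorem exists_aeval_eq_of_mem_adjoin {ι : Type*} (θ : ι → K) (y : K)
    (hy : y ∈ Algebra.adjoin (ResidueField A) (Set.range θ)) :
    ∃ p : MvPolynomial ι A, aeval θ p = y := by
  let T : Subalgebra (ResidueField A) K :=
    { toSubsemiring := (aeval θ : MvPolynomial ι A →ₐ[A] K).range.toSubsemiring
      algebraMap_mem' := by
        intro r
        obtain ⟨a, rfl⟩ := residue_surjective r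
        refine ⟨C a, ?_⟩
        change aeval θ (C a) = _
        rw [aeval_C, IsScalarTower.algebraMap_apply A (ResidueField A) K]
        rfl }
  have hle : Algebra.adjoin (ResidueField A) (Set.range θ) ≤ T := by
    apply Algebra.adjoin_le
    rintro _ ⟨i, rfl⟩
    exact ⟨X i, aeval_X θ i⟩
  exact hle hy

end Basic

section Construction

variable (A : Type u) [CommRing A] [IsLocalRing A] {K : Type u} [Field K] [Algebra A K]
  [Algebra (ResidueField A) K] [IsScalarTower A (ResidueField A) K]
  [Algebra.IsAlgebraic (ResidueField A) K]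
  {σ : Type u} [LinearOrder σ] (θ : σ → K)

/-- The field generated by the earlier elements. -/
noncomputable def L (t : σ) : IntermediateField (ResidueField A) K :=
  IntermediateField.adjoin (ResidueField A) (θ '' Set.Iio t)

/-- evaluation of polynomials in the earlier variables -/
noncomputable def ev (t : σ) : MvPolynomial (Set.Iio t) A →ₐ[A] K :=
  aeval (fun s => θ s.1)

theorem exists_ev_eq (t : σ) (y : K) (hy : y ∈ L A θ t) :
    ∃ c' : MvPolynomial (Set.Iio t) A, ev A θ t c' = y := by
  apply exists_aeval_eq_of_mem_adjoin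
  have h1 : y ∈ (L A θ t).toSubalgebra := hy
  rw [L, IntermediateField.adjoin_toSubalgebra, Set.image_eq_range] at h1
  exact h1

theorem ev_mem (t : σ) (c' : MvPolynomial (Set.Iio t) A) : ev A θ t c' ∈ L A θ t := by
  have h1 : ev A θ t c' ∈ Algebra.adjoin A (Set.range (fun s : Set.Iio t => θ s.1)) := by
    rw [Algebra.adjoin_range_eq_range_aeval]
    exact ⟨c', rfl⟩
  have h2 : Algebra.adjoin A (Set.range (fun s : Set.Iio t => θ s.1)) ≤
      (L A θ t).toSubalgebra.restrictScalars A := by
    apply Algebra.adjoin_le
    rintro _ ⟨s, rfl⟩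
    exact IntermediateField.subset_adjoin _ _ ⟨s.1, s.2, rfl⟩
  exact h2 h1

/-- the minimal polynomial of `θ t` over the field generated by the earlier ones -/
noncomputable def g (t : σ) : Polynomial (L A θ t) := minpoly (L A θ t) (θ t)

theorem g_monic (t : σ) : (g A θ t).Monic :=
  minpoly.monic (Algebra.IsIntegral.isIntegral (R := L A θ t) (θ t))

/-- the degree of the `t`-th relation -/
noncomputable def deg (t : σ) : ℕ := (g A θ t).natDegree

/-- lifts of the coefficients of the minimal polynomial -/
noncomputable def cf' (t : σ) (i : ℕ) : MvPolynomial (Set.Iio t) A :=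
  (exists_ev_eq A θ t _ ((g A θ t).coeff i).2).choose

theorem ev_cf' (t : σ) (i : ℕ) : ev A θ t (cf' A θ t i) = ((g A θ t).coeff i : K) :=
  (exists_ev_eq A θ t _ ((g A θ t).coeff i).2).choose_spec

/-- the lifted relation, as a one-variable polynomial over the earlier variables -/
noncomputable def F₀ (t : σ) : Polynomial (MvPolynomial (Set.Iio t) A) :=
  Polynomial.X ^ deg A θ t +
    ∑ i ∈ Finset.range (deg A θ t), Polynomial.C (cf' A θ t i) * Polynomial.X ^ i

theorem F₀_monic (t : σ) : (F₀ A θ t).Monic := TriFlat.monic_X_pow_add_sum _ _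

/-- the `t`-th relation -/
noncomputable def F (t : σ) : MvPolynomial σ A :=
  X t ^ deg A θ t +
    ∑ i ∈ Finset.range (deg A θ t), rename Subtype.val (cf' A θ t i) * X t ^ i

/-- reinterpret a polynomial in `X t` over the earlier variables -/
noncomputable def ε (t : σ) : Polynomial (MvPolynomial (Set.Iio t) A) →ₐ[A] MvPolynomial σ A :=
  Polynomial.aevalTower (rename Subtype.val) (X t)

theorem ε_F₀ (t : σ) : ε A t (F₀ A θ t) = F A θ t := by
  simp only [F₀, F, ε, map_add, map_pow, map_sum, map_mul, Polynomial.aevalTower_X,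
    Polynomial.aevalTower_C]

theorem isTri_F : TriFlat.IsTri (F A θ) := by
  classical
  intro t
  refine ⟨deg A θ t, fun i => rename Subtype.val (cf' A θ t i), ?_, rfl⟩
  intro i s hs
  have := vars_rename (Subtype.val : Set.Iio t → σ) (cf' A θ t i) hs
  rw [Finset.mem_image] at this
  obtain ⟨u, -, rfl⟩ := this
  exact u.2

/-- the evaluation `A[X_σ] → K` -/
noncomputable def Ψ : MvPolynomial σ A →ₐ[A] K := aeval θ

theorem Ψ_rename (t : σ) (c' : MvPolynomial (Set.Iio t) A) :
    Ψ A θ (rename Subtype.val c') = ev A θ t c' := by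
  rw [Ψ, aeval_rename]
  rfl

theorem Ψ_ε (t : σ) (p₀ : Polynomial (MvPolynomial (Set.Iio t) A)) :
    Ψ A θ (ε A t p₀) = Polynomial.eval₂ (ev A θ t : MvPolynomial (Set.Iio t) A →+* K) (θ t) p₀ := by
  induction p₀ using Polynomial.induction_on' with
  | add p q hp hq => rw [map_add, map_add, hp, hq, Polynomial.eval₂_add]
  | monomial n a =>
    rw [← Polynomial.C_mul_X_pow_eq_monomial, map_mul, map_pow, map_mul, map_pow,
      Polynomial.eval₂_mul, Polynomial.eval₂_pow, Polynomial.eval₂_C, Polynomial.eval₂_X]
    simp only [ε, Polynomial.aevalTower_C, Polynomial.aevalTower_X, Ψ_rename]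
    rw [Ψ, aeval_X]
    rfl

theorem Ψ_F (t : σ) : Ψ A θ (F A θ t) = 0 := by
  have h := minpoly.aeval (L A θ t) (θ t)
  have hm := (g_monic A θ t).as_sum
  change Polynomial.aeval (θ t) (g A θ t) = 0 at h
  rw [hm] at h
  simp only [map_add, map_pow, map_sum, map_mul, Polynomial.aeval_X, Polynomial.aeval_C] at h
  rw [F, map_add, map_pow, map_sum]
  simp only [map_mul, map_pow, Ψ_rename, ev_cf']
  rw [Ψ, aeval_X]
  exact h

end Construction

end Groth.Agent.Lib.Helper12.Gonf
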