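import Groth.Agent.Lib.Helper12.GonfA

/-!
# Gonflement, algebraic case: the kernel of the evaluation map

`ker (A[X_σ] → K) = 𝔪 A[X_σ] + (F t : t)`.
-/

set_option autoImplicit false
universe u v

namespace Groth.Agent.Lib.Helper12.Gonf

open MvPolynomial IsLocalRing

section Kernel

variable (A : Type u) [CommRing A] [IsLocalRing A] {K : Type u} [Field K] [Algebra A K]
  [Algebra (ResidueField A) K] [IsScalarTower A (ResidueField A) K]
  [Algebra.IsAlgebraic (ResidueField A) K]
  {σ : Type u} [LinearOrder σ] (θ : σ → K)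

theorem degree_sum_lt {R : Type*} [CommRing R] (d : ℕ) (a : ℕ → R) :
    (∑ i ∈ Finset.range d, Polynomial.C (a i) * Polynomial.X ^ i).degree < (d : WithBot ℕ) := by
  refine lt_of_le_of_lt (Polynomial.degree_sum_le _ _) ?_
  rw [Finset.sup_lt_iff (by exact WithBot.bot_lt_coe d)]
  intro i hi
  refine lt_of_le_of_lt (Polynomial.degree_C_mul_X_pow_le i (a i)) ?_
  exact_mod_cast Finset.mem_range.mp hi

theorem F₀_degree (t : σ) : (F₀ A θ t).degree = deg A θ t := by
  rw [F₀, Polynomial.degree_add_eq_left_of_degree_lt, Polynomial.degree_X_pow]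
  rw [Polynomial.degree_X_pow]
  exact degree_sum_lt _ _

theorem g_degree (t : σ) : (g A θ t).degree = deg A θ t :=
  Polynomial.degree_eq_natDegree (g_monic A θ t).ne_zero

/-- `ev` with values in the intermediate field -/
noncomputable def evL (t : σ) : MvPolynomial (Set.Iio t) A →+* L A θ t :=
  (ev A θ t : MvPolynomial (Set.Iio t) A →+* K).codRestrict (L A θ t) (ev_mem A θ t)

theorem algebraMap_evL (t : σ) (c' : MvPolynomial (Set.Iio t) A) :
    algebraMap (L A θ t) K (evL A θ t c') = ev A θ t c' := rfl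

/-- minimality of the degree: a polynomial of smaller degree killing `θ t` has zero coefficients -/
theorem ev_coeff_eq_zero (t : σ) (r₀ : Polynomial (MvPolynomial (Set.Iio t) A))
    (hdeg : r₀.degree < deg A θ t) (h : Ψ A θ (ε A t r₀) = 0) (j : ℕ) :
    ev A θ t (r₀.coeff j) = 0 := by
  set q : Polynomial (L A θ t) := r₀.map (evL A θ t) with hq
  have haeval : Polynomial.aeval (θ t) q = 0 := by
    rw [Polynomial.aeval_def, hq, Polynomial.eval₂_map, ← h, Ψ_ε]
    rfl
  have hq0 : q = 0 := by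
    by_contra hne
    have h1 := minpoly.degree_le_of_ne_zero (L A θ t) (θ t) hne haeval
    have h2 : q.degree ≤ r₀.degree := Polynomial.degree_map_le
    have h3 : (g A θ t).degree ≤ q.degree := h1
    rw [g_degree] at h3
    exact absurd (lt_of_le_of_lt (h3.trans h2) hdeg) (lt_irrefl _)
  have h4 : q.coeff j = 0 := by rw [hq0, Polynomial.coeff_zero]
  rw [hq, Polynomial.coeff_map] at h4
  rw [← algebraMap_evL, h4, map_zero]

/-- the expected kernel of `Ψ` -/
noncomputable def 𝔎 : Ideal (MvPolynomial σ A) :=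
  (maximalIdeal A).map (C : A →+* MvPolynomial σ A) ⊔ Ideal.span (Set.range (F A θ))

omit [Algebra.IsAlgebraic (ResidueField A) K] in
theorem algebraMap_eq_zero_iff (a : A) : algebraMap A K a = 0 ↔ a ∈ maximalIdeal A := by
  rw [IsScalarTower.algebraMap_apply A (ResidueField A) K, map_eq_zero_iff _
    (algebraMap (ResidueField A) K).injective]
  exact residue_eq_zero_iff a

theorem 𝔎_le_ker : 𝔎 A θ ≤ RingHom.ker (Ψ A θ : MvPolynomial σ A →+* K) := by
  rw [𝔎]
  apply sup_le
  · rw [Ideal.map_le_iff_le_comap]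
    intro a ha
    rw [Ideal.mem_comap, RingHom.mem_ker]
    change Ψ A θ (C a) = 0
    rw [Ψ, aeval_C]
    exact (algebraMap_eq_zero_iff A a).mpr ha
  · rw [Ideal.span_le]
    rintro _ ⟨t, rfl⟩
    exact Ψ_F A θ t

theorem exists_ε_eq (t : σ) (p : MvPolynomial σ A) (hp : p ∈ supported A (Set.Iic t)) :
    ∃ p₀, ε A t p₀ = p := by
  have hle : supported A (Set.Iic t) ≤ (ε A t).range := by
    rw [supported_eq_adjoin_X]
    apply Algebra.adjoin_le
    rintro _ ⟨u, hu, rfl⟩
    rcases eq_or_lt_of_le (Set.mem_Iic.mp hu) with h | h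
    · refine ⟨Polynomial.X, ?_⟩
      change ε A t Polynomial.X = X u
      rw [ε, Polynomial.aevalTower_X, h]
    · refine ⟨Polynomial.C (X ⟨u, Set.mem_Iio.mpr h⟩), ?_⟩
      change ε A t (Polynomial.C (X ⟨u, Set.mem_Iio.mpr h⟩)) = X u
      rw [ε, Polynomial.aevalTower_C, rename_X]
  exact hle hp

theorem mem_𝔎_of_vars_lt (t : σ)
    (ih : ∀ s, s < t → ∀ p ∈ supported A (Set.Iic s), Ψ A θ p = 0 → p ∈ 𝔎 A θ)
    (r : MvPolynomial σ A) (hr : ∀ s ∈ r.vars, s < t) (h0 : Ψ A θ r = 0) : r ∈ 𝔎 A θ := by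
  by_cases hne : r.vars.Nonempty
  · have hs := hr _ (Finset.max'_mem r.vars hne)
    refine ih _ hs r ?_ h0
    rw [mem_supported]
    intro u hu
    exact Finset.le_max' r.vars u hu
  · rw [Finset.not_nonempty_iff_eq_empty, vars_eq_empty_iff_eq_C] at hne
    rw [hne] at h0 ⊢
    rw [Ψ, aeval_C, algebraMap_eq_zero_iff] at h0
    exact Ideal.mem_sup_left (Ideal.mem_map_of_mem _ h0)

variable [WellFoundedLT σ]

theorem mem_𝔎_of_supported (t : σ) :
    ∀ p ∈ supported A (Set.Iic t), Ψ A θ p = 0 → p ∈ 𝔎 A θ := by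
  classical
  induction t using WellFoundedLT.induction with
  | ind t ih =>
    intro p hp h0
    obtain ⟨p₀, rfl⟩ := exists_ε_eq A t p hp
    have hdiv := Polynomial.modByMonic_add_div p₀ (F₀ A θ t)
    have hdeg : (p₀ %ₘ F₀ A θ t).degree < deg A θ t := by
      rw [← F₀_degree]
      exact Polynomial.degree_modByMonic_lt _ (F₀_monic A θ t)
    have hsplit : ε A t p₀ = ε A t (p₀ %ₘ F₀ A θ t) + F A θ t * ε A t (p₀ /ₘ F₀ A θ t) := by
      rw [← ε_F₀, ← map_mul, ← map_add, hdiv]
    have hr0 : Ψ A θ (ε A t (p₀ %ₘ F₀ A θ t)) = 0 := by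
      rw [hsplit, map_add, map_mul, Ψ_F, zero_mul, add_zero] at h0
      exact h0
    have hcoeff := ev_coeff_eq_zero A θ t _ hdeg hr0
    have hcmem : ∀ j, rename Subtype.val ((p₀ %ₘ F₀ A θ t).coeff j) ∈ 𝔎 A θ := by
      intro j
      refine mem_𝔎_of_vars_lt A θ t ih _ ?_ (by rw [Ψ_rename]; exact hcoeff j)
      intro s hs
      have := vars_rename (Subtype.val : Set.Iio t → σ) _ hs
      rw [Finset.mem_image] at this
      obtain ⟨u, -, rfl⟩ := this
      exact u.2
    rw [hsplit]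
    refine Ideal.add_mem _ ?_ ?_
    · rw [Polynomial.as_sum_range_C_mul_X_pow (p₀ %ₘ F₀ A θ t), map_sum]
      refine Ideal.sum_mem _ fun j _ => ?_
      rw [map_mul, map_pow, ε, Polynomial.aevalTower_C, Polynomial.aevalTower_X]
      exact Ideal.mul_mem_right _ _ (hcmem j)
    · exact Ideal.mul_mem_right _ _ (Ideal.mem_sup_right (Ideal.subset_span ⟨t, rfl⟩))

/-- **The kernel of the evaluation map.** -/
theorem ker_Ψ : RingHom.ker (Ψ A θ : MvPolynomial σ A →+* K) = 𝔎 A θ := by
  apply le_antisymm _ (𝔎_le_ker A θ)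
  intro p hp
  rw [RingHom.mem_ker] at hp
  change Ψ A θ p = 0 at hp
  by_cases hne : p.vars.Nonempty
  · refine mem_𝔎_of_supported A θ (p.vars.max' hne) p ?_ hp
    rw [mem_supported]
    intro u hu
    exact Finset.le_max' p.vars u hu
  · rw [Finset.not_nonempty_iff_eq_empty, vars_eq_empty_iff_eq_C] at hne
    rw [hne] at hp ⊢
    rw [Ψ, aeval_C, algebraMap_eq_zero_iff] at hp
    exact Ideal.mem_sup_left (Ideal.mem_map_of_mem _ hp)

end Kernel

end Groth.Agent.Lib.Helper12.Gonf
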