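import Groth.Agent.Lib.Helper12.TriFlatC

/-!
# Triangular presentations are integral
-/

set_option autoImplicit false
universe u v

namespace Groth.Agent.Lib.Helper12.TriFlat

open MvPolynomial

section Integral

variable {A : Type u} [CommRing A] {σ : Type u} [LinearOrder σ] [WellFoundedLT σ]

theorem isIntegral_mk_X {F : σ → MvPolynomial σ A} (hF : IsTri F) (t : σ) :
    IsIntegral A (Ideal.Quotient.mk (Ideal.span (Set.range F)) (X t)) := by
  classical
  induction t using WellFoundedLT.induction with
  | ind t ih =>
    obtain ⟨d, c, hc, hFt⟩ := hF t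
    set B := MvPolynomial σ A ⧸ Ideal.span (Set.range F) with hB
    let C₀ : Subalgebra A B := integralClosure A B
    have claim : ∀ p : MvPolynomial σ A, (∀ s ∈ p.vars, s < t) →
        Ideal.Quotient.mk (Ideal.span (Set.range F)) p ∈ C₀ := by
      intro p hp
      have h1 : p ∈ supported A (Set.Iio t) := by
        rw [mem_supported]
        intro s hs
        exact hp s hs
      have h2 : Ideal.Quotient.mkₐ A (Ideal.span (Set.range F)) p ∈
          (supported A (Set.Iio t)).map (Ideal.Quotient.mkₐ A (Ideal.span (Set.range F))) :=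
        ⟨p, h1, rfl⟩
      rw [supported_eq_adjoin_X, AlgHom.map_adjoin] at h2
      have h3 : Algebra.adjoin A ((Ideal.Quotient.mkₐ A (Ideal.span (Set.range F))) ''
          (X '' Set.Iio t)) ≤ C₀ := by
        apply Algebra.adjoin_le
        rintro _ ⟨_, ⟨s, hs, rfl⟩, rfl⟩
        exact ih s hs
      exact h3 h2
    let q : Polynomial C₀ := Polynomial.X ^ d +
      ∑ i ∈ Finset.range d, Polynomial.C (⟨_, claim (c i) (hc i)⟩ : C₀) * Polynomial.X ^ i
    have hq : q.Monic := monic_X_pow_add_sum d _
    have hq0 : Polynomial.aeval (Ideal.Quotient.mk (Ideal.span (Set.range F)) (X t)) q = 0 := by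
      have h0 : Ideal.Quotient.mk (Ideal.span (Set.range F)) (F t) = 0 :=
        Ideal.Quotient.eq_zero_iff_mem.mpr (Ideal.subset_span ⟨t, rfl⟩)
      rw [hFt] at h0
      simp only [q, map_add, map_pow, map_sum, map_mul, Polynomial.aeval_X, Polynomial.aeval_C]
      simp only [map_add, map_pow, map_sum, map_mul] at h0
      exact h0
    rw [Polynomial.aeval_def] at hq0
    exact isIntegral_trans (R := A) (A := C₀) _ ⟨q, hq, hq0⟩

theorem isIntegral_of_isTri {F : σ → MvPolynomial σ A} (hF : IsTri F) :
    Algebra.IsIntegral A (MvPolynomial σ A ⧸ Ideal.span (Set.range F)) := by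
  refine ⟨fun b => ?_⟩
  obtain ⟨p, rfl⟩ := Ideal.Quotient.mk_surjective b
  induction p using MvPolynomial.induction_on with
  | C a => exact isIntegral_algebraMap (R := A) (x := a)
  | add p q hp hq => rw [map_add]; exact hp.add hq
  | mul_X p s hp => rw [map_mul]; exact hp.mul (isIntegral_mk_X hF s)

end Integral

end Groth.Agent.Lib.Helper12.TriFlat
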