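import Groth.Agent.Lib.Helper12.GonfB
import Groth.Agent.Lib.Helper12.TriFlatD

/-!
# Gonflement, algebraic case: the ring `B`
-/

set_option autoImplicit false
universe u v

namespace Groth.Agent.Lib.Helper12.Gonf

open MvPolynomial IsLocalRing

section Ring

variable (A : Type u) [CommRing A] [IsLocalRing A] {K : Type u} [Field K] [Algebra A K]
  [Algebra (ResidueField A) K] [IsScalarTower A (ResidueField A) K]
  [Algebra.IsAlgebraic (ResidueField A) K]
  {σ : Type u} [LinearOrder σ] [WellFoundedLT σ] (θ : σ → K)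

/-- The gonflement ring. -/
abbrev B : Type u := MvPolynomial σ A ⧸ Ideal.span (Set.range (F A θ))

theorem flat_B : Module.Flat A (B A θ) := TriFlat.flat_of_isTri (isTri_F A θ)

theorem isIntegral_B : Algebra.IsIntegral A (B A θ) := TriFlat.isIntegral_of_isTri (isTri_F A θ)

/-- the map to `K` -/
noncomputable def Ψbar : B A θ →ₐ[A] K :=
  Ideal.Quotient.liftₐ _ (Ψ A θ) (fun p hp => by
    have := 𝔎_le_ker A θ (Ideal.mem_sup_right hp : p ∈ 𝔎 A θ)
    exact this)

theorem Ψbar_mk (p : MvPolynomial σ A) :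
    Ψbar A θ (Ideal.Quotient.mk (Ideal.span (Set.range (F A θ))) p) = Ψ A θ p := rfl

theorem ker_Ψbar : RingHom.ker (Ψbar A θ : B A θ →+* K) =
    (maximalIdeal A).map (algebraMap A (B A θ)) := by
  ext x
  obtain ⟨p, rfl⟩ := Ideal.Quotient.mk_surjective x
  rw [RingHom.mem_ker]
  change Ψ A θ p = 0 ↔ _
  have h1 : Ψ A θ p = 0 ↔ p ∈ 𝔎 A θ := by
    rw [← ker_Ψ]
    rfl
  rw [h1]
  have h2 : (maximalIdeal A).map (algebraMap A (B A θ)) =
      ((maximalIdeal A).map (C : A →+* MvPolynomial σ A)).map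
        (Ideal.Quotient.mk (Ideal.span (Set.range (F A θ)))) := by
    rw [Ideal.map_map]
    rfl
  rw [h2, ← Ideal.mem_comap, Ideal.comap_map_of_surjective _ Ideal.Quotient.mk_surjective,
    ← RingHom.ker_eq_comap_bot, Ideal.mk_ker, 𝔎]

theorem Ψbar_surjective (hθ : Algebra.adjoin (ResidueField A) (Set.range θ) = ⊤) :
    Function.Surjective (Ψbar A θ) := by
  intro y
  obtain ⟨p, hp⟩ := exists_aeval_eq_of_mem_adjoin (A := A) θ y (hθ ▸ Algebra.mem_top)
  exact ⟨Ideal.Quotient.mk _ p, hp⟩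

theorem isMaximal_map (hθ : Algebra.adjoin (ResidueField A) (Set.range θ) = ⊤) :
    ((maximalIdeal A).map (algebraMap A (B A θ))).IsMaximal := by
  rw [← ker_Ψbar]
  exact RingHom.ker_isMaximal_of_surjective _ (Ψbar_surjective A θ hθ)

theorem isLocalRing_B (hθ : Algebra.adjoin (ResidueField A) (Set.range θ) = ⊤) :
    IsLocalRing (B A θ) := by
  have hmax := isMaximal_map A θ hθ
  have hint := isIntegral_B A θ
  refine IsLocalRing.of_unique_max_ideal ⟨_, hmax, fun 𝔫 h𝔫 => ?_⟩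
  have h1 : (𝔫.comap (algebraMap A (B A θ))).IsMaximal :=
    Ideal.isMaximal_comap_of_isIntegral_of_isMaximal 𝔫
  have h2 := IsLocalRing.eq_maximalIdeal h1
  have h3 : (maximalIdeal A).map (algebraMap A (B A θ)) ≤ 𝔫 := by
    rw [Ideal.map_le_iff_le_comap, h2]
  exact (hmax.eq_of_le h𝔫.ne_top h3).symm

/-- **Gonflement, algebraic case.** -/
theorem exists_gonflement_algebraic (hθ : Algebra.adjoin (ResidueField A) (Set.range θ) = ⊤) :
    ∃ (B : Type u) (_ : CommRing B) (_ : IsLocalRing B) (_ : Algebra A B),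
      Module.Flat A B ∧ Algebra.IsIntegral A B ∧
      (maximalIdeal A).map (algebraMap A B) = maximalIdeal B ∧
      ∃ ψ : B →ₐ[A] K, Function.Surjective ψ ∧ RingHom.ker (ψ : B →+* K) = maximalIdeal B := by
  have hloc := isLocalRing_B A θ hθ
  have hmax := isMaximal_map A θ hθ
  have hmeq : (maximalIdeal A).map (algebraMap A (B A θ)) = maximalIdeal (B A θ) :=
    (IsLocalRing.eq_maximalIdeal hmax)
  refine ⟨B A θ, inferInstance, hloc, inferInstance, flat_B A θ, isIntegral_B A θ, hmeq,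
    Ψbar A θ, Ψbar_surjective A θ hθ, ?_⟩
  rw [ker_Ψbar, hmeq]

end Ring

end Groth.Agent.Lib.Helper12.Gonf
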