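import Groth.Agent.Lib.Helper12.GonfA

/-!
# Gonflement, transcendental case

`A` local with residue field `k`, `K/k` any field extension with transcendence basis `s`.
`A₁ = A[X_s]_{𝔪 A[X_s]}` is a flat local `A`-algebra with `𝔪 A₁` maximal and a map to `K`
making `K` algebraic over its residue field.
-/

set_option autoImplicit false
universe u v

namespace Groth.Agent.Lib.Helper12.Gonf

open MvPolynomial IsLocalRing

section Trans

variable (A : Type u) [CommRing A] [IsLocalRing A] {K : Type u} [Field K] [Algebra A K]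
  [Algebra (ResidueField A) K] [IsScalarTower A (ResidueField A) K]
  (s : Set K)

/-- evaluation at the transcendence basis -/
noncomputable def Φ₁ : MvPolynomial s A →ₐ[A] K := aeval (fun i : s => (i : K))

variable {s}

theorem ker_Φ₁ (hs : AlgebraicIndependent (ResidueField A) ((↑) : s → K)) :
    RingHom.ker (Φ₁ A s : MvPolynomial s A →+* K) =
      (maximalIdeal A).map (C : A →+* MvPolynomial s A) := by
  ext p
  rw [RingHom.mem_ker]
  change Φ₁ A s p = 0 ↔ _
  have h1 : Φ₁ A s p = aeval (fun i : s => (i : K)) (map (algebraMap A (ResidueField A)) p) := by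
    rw [Φ₁, aeval_map_algebraMap]
  rw [h1, map_eq_zero_iff _ hs, ← RingHom.mem_ker, MvPolynomial.ker_map]
  have h2 : RingHom.ker (algebraMap A (ResidueField A)) = maximalIdeal A := ker_residue
  rw [h2]

variable (s)

/-- the prime `𝔪 A[X_s]`, as the kernel of `Φ₁` -/
noncomputable def 𝔭₁ : Ideal (MvPolynomial s A) := RingHom.ker (Φ₁ A s : MvPolynomial s A →+* K)

instance : (𝔭₁ A s).IsPrime := RingHom.ker_isPrime _

/-- the ring `A(X_s)` -/
abbrev A₁ : Type u := Localization.AtPrime (𝔭₁ A s)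

theorem flat_A₁ : Module.Flat A (A₁ A s) :=
  Module.Flat.trans A (MvPolynomial s A) (A₁ A s)

theorem isUnit_Φ₁ (y : (𝔭₁ A s).primeCompl) : IsUnit ((Φ₁ A s : MvPolynomial s A →+* K) y) := by
  rw [isUnit_iff_ne_zero]
  intro h
  exact y.2 ((RingHom.mem_ker).mpr h)

/-- the map `A₁ → K` -/
noncomputable def φ₁ : A₁ A s →+* K :=
  IsLocalization.lift (M := (𝔭₁ A s).primeCompl) (g := (Φ₁ A s : MvPolynomial s A →+* K))
    (isUnit_Φ₁ A s)

theorem φ₁_algebraMap (p : MvPolynomial s A) :
    φ₁ A s (algebraMap (MvPolynomial s A) (A₁ A s) p) = Φ₁ A s p :=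
  IsLocalization.lift_eq _ _

theorem φ₁_algebraMap' (a : A) : φ₁ A s (algebraMap A (A₁ A s) a) = algebraMap A K a := by
  rw [IsScalarTower.algebraMap_apply A (MvPolynomial s A) (A₁ A s), φ₁_algebraMap,
    AlgHom.commutes]

theorem ker_φ₁ : RingHom.ker (φ₁ A s) = maximalIdeal (A₁ A s) := by
  apply le_antisymm
  · apply IsLocalRing.le_maximalIdeal
    rw [Ne, Ideal.eq_top_iff_one, RingHom.mem_ker, map_one]
    exact one_ne_zero
  · rw [← IsLocalization.AtPrime.map_eq_maximalIdeal (𝔭₁ A s) (A₁ A s), Ideal.map_le_iff_le_comap]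
    intro p hp
    rw [Ideal.mem_comap, RingHom.mem_ker, φ₁_algebraMap]
    exact hp

variable {s}

theorem map_maximalIdeal_A₁ (hs : AlgebraicIndependent (ResidueField A) ((↑) : s → K)) :
    (maximalIdeal A).map (algebraMap A (A₁ A s)) = maximalIdeal (A₁ A s) := by
  have h𝔭 : 𝔭₁ A s = (maximalIdeal A).map (C : A →+* MvPolynomial s A) := ker_Φ₁ A hs
  calc (maximalIdeal A).map (algebraMap A (A₁ A s))
      = ((maximalIdeal A).map (C : A →+* MvPolynomial s A)).map
          (algebraMap (MvPolynomial s A) (A₁ A s)) := by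
        rw [Ideal.map_map]
        rfl
    _ = (𝔭₁ A s).map (algebraMap (MvPolynomial s A) (A₁ A s)) :=
        congrArg (Ideal.map (algebraMap (MvPolynomial s A) (A₁ A s))) h𝔭.symm
    _ = maximalIdeal (A₁ A s) := IsLocalization.AtPrime.map_eq_maximalIdeal (𝔭₁ A s) (A₁ A s)

theorem exists_polynomial_A₁ (hs : IsTranscendenceBasis (ResidueField A) ((↑) : s → K)) (y : K) :
    ∃ q : Polynomial (A₁ A s), q.map (φ₁ A s) ≠ 0 ∧ Polynomial.eval₂ (φ₁ A s) y q = 0 := by
  have halg := hs.isAlgebraic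
  obtain ⟨q₀, hq₀, hy⟩ := Algebra.IsAlgebraic.isAlgebraic
    (R := Algebra.adjoin (ResidueField A) (Set.range ((↑) : s → K))) y
  have hlift : q₀.map (algebraMap (Algebra.adjoin (ResidueField A)
      (Set.range ((↑) : s → K))) K) ∈ Polynomial.lifts (φ₁ A s) := by
    rw [Polynomial.lifts_iff_coeff_lifts]
    intro n
    rw [Polynomial.coeff_map]
    obtain ⟨p, hp⟩ := exists_aeval_eq_of_mem_adjoin (A := A) ((↑) : s → K) _ (q₀.coeff n).2
    exact ⟨algebraMap _ _ p, by rw [φ₁_algebraMap]; exact hp⟩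
  rw [Polynomial.mem_lifts] at hlift
  obtain ⟨q, hq⟩ := hlift
  refine ⟨q, ?_, ?_⟩
  · rw [hq]
    intro h0
    apply hq₀
    exact (Polynomial.map_eq_zero_iff (FaithfulSMul.algebraMap_injective _ K)).mp h0
  · rw [Polynomial.eval₂_eq_eval_map, hq, ← Polynomial.eval₂_eq_eval_map, ← Polynomial.aeval_def]
    exact hy

end Trans

end Groth.Agent.Lib.Helper12.Gonf
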