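import Groth.Agent.Lib.Helper12.GonfC
import Groth.Agent.Lib.Helper12.GonfD

/-!
# Gonflement: assembling the transcendental and the algebraic case
-/

set_option autoImplicit false
universe u v

namespace Groth.Agent.Lib.Helper12.Gonf

open MvPolynomial IsLocalRing

/-- **Gonflement, algebraic case, ring hom form.** -/
theorem exists_gonflement_of_ringHom (A₁ : Type u) [CommRing A₁] [IsLocalRing A₁]
    (K : Type u) [Field K] (φ : A₁ →+* K) (hker : RingHom.ker φ = maximalIdeal A₁)
    (halg : ∀ y : K, ∃ q : Polynomial A₁, q.map φ ≠ 0 ∧ Polynomial.eval₂ φ y q = 0) :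
    ∃ (B : Type u) (_ : CommRing B) (_ : IsLocalRing B) (_ : Algebra A₁ B),
      Module.Flat A₁ B ∧ Algebra.IsIntegral A₁ B ∧
      (maximalIdeal A₁).map (algebraMap A₁ B) = maximalIdeal B ∧
      ∃ ψ : B →+* K, Function.Surjective ψ ∧ RingHom.ker ψ = maximalIdeal B ∧
        ∀ a, ψ (algebraMap A₁ B a) = φ a := by
  letI : Algebra A₁ K := φ.toAlgebra
  haveI : IsLocalHom φ := by
    refine ⟨fun a ha => ?_⟩
    rw [← IsLocalRing.notMem_maximalIdeal, ← hker, RingHom.mem_ker]
    exact ha.ne_zero
  letI : Algebra (ResidueField A₁) K := (ResidueField.lift φ).toAlgebra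
  haveI : IsScalarTower A₁ (ResidueField A₁) K :=
    IsScalarTower.of_algebraMap_eq (fun a => (ResidueField.lift_residue_apply φ a).symm)
  have hcomp : (algebraMap (ResidueField A₁) K).comp (residue A₁) = φ := by
    ext a
    exact ResidueField.lift_residue_apply φ a
  haveI : Algebra.IsAlgebraic (ResidueField A₁) K := by
    refine ⟨fun y => ?_⟩
    obtain ⟨q, hq, hy⟩ := halg y
    refine ⟨q.map (residue A₁), ?_, ?_⟩
    · intro h0
      apply hq
      rw [← hcomp, ← Polynomial.map_map, h0, Polynomial.map_zero]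
    · rw [Polynomial.aeval_def, Polynomial.eval₂_map, hcomp]
      exact hy
  obtain ⟨inst, hwf⟩ := exists_wellFoundedLT (α := K)
  letI := inst
  have hθ : Algebra.adjoin (ResidueField A₁) (Set.range (id : K → K)) = ⊤ := by
    rw [Set.range_id, Algebra.adjoin_univ]
  obtain ⟨B, i1, i2, i3, hflat, hint, hm, ψ, hψs, hψk⟩ :=
    exists_gonflement_algebraic A₁ (id : K → K) hθ
  refine ⟨B, i1, i2, i3, hflat, hint, hm, (ψ : B →+* K), hψs, hψk, fun a => ?_⟩
  exact ψ.commutes a

/-- **Gonflement.** -/
theorem exists_flat_local_extension (R : Type u) [CommRing R] [IsLocalRing R] (K : Type u) [Field K]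
    [Algebra (ResidueField R) K] :
    ∃ (R' : Type u) (_ : CommRing R') (_ : IsLocalRing R') (_ : Algebra R R')
      (_ : IsLocalHom (algebraMap R R')),
      Module.Flat R R' ∧ (maximalIdeal R).map (algebraMap R R') = maximalIdeal R' ∧
      Nonempty (ResidueField R' ≃ₐ[ResidueField R] K) := by
  letI : Algebra R K := ((algebraMap (ResidueField R) K).comp (residue R)).toAlgebra
  haveI : IsScalarTower R (ResidueField R) K := IsScalarTower.of_algebraMap_eq (fun _ => rfl)
  obtain ⟨s, hs⟩ := exists_isTranscendenceBasis (ResidueField R) K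
  obtain ⟨B, i1, i2, i3, hflat, hint, hm, ψ, hψs, hψk, hψc⟩ :=
    exists_gonflement_of_ringHom (A₁ R s) K (φ₁ R s) (ker_φ₁ R s) (exists_polynomial_A₁ R hs)
  letI : Algebra R B := ((algebraMap (A₁ R s) B).comp (algebraMap R (A₁ R s))).toAlgebra
  haveI : IsScalarTower R (A₁ R s) B := IsScalarTower.of_algebraMap_eq (fun _ => rfl)
  have hflat1 : Module.Flat R (A₁ R s) := flat_A₁ R s
  have hflatB : Module.Flat R B := Module.Flat.trans R (A₁ R s) B
  have hmB : (maximalIdeal R).map (algebraMap R B) = maximalIdeal B := by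
    rw [IsScalarTower.algebraMap_eq R (A₁ R s) B, ← Ideal.map_map, map_maximalIdeal_A₁ R hs.1, hm]
  have hloc : IsLocalHom (algebraMap R B) :=
    ((IsLocalRing.local_hom_TFAE (algebraMap R B)).out 0 2).mpr hmB.le
  refine ⟨B, i1, i2, inferInstance, hloc, hflatB, hmB, ?_⟩
  haveI : IsLocalHom ψ := by
    refine ⟨fun b hb => ?_⟩
    rw [← IsLocalRing.notMem_maximalIdeal, ← hψk, RingHom.mem_ker]
    exact hb.ne_zero
  let f : ResidueField B →ₐ[ResidueField R] K :=
    { ResidueField.lift ψ with
      commutes' := by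
        intro r
        obtain ⟨r, rfl⟩ := residue_surjective r
        change ResidueField.lift ψ (algebraMap (ResidueField R) (ResidueField B) (residue R r)) = _
        rw [ResidueField.algebraMap_residue, ResidueField.lift_residue_apply]
        change ψ (algebraMap (A₁ R s) B (algebraMap R (A₁ R s) r)) = _
        rw [hψc, φ₁_algebraMap']
        rfl }
  have hbij : Function.Bijective f := by
    refine ⟨(ResidueField.lift ψ).injective, fun y => ?_⟩
    obtain ⟨b, rfl⟩ := hψs y
    exact ⟨residue B b, ResidueField.lift_residue_apply ψ b⟩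
  exact ⟨AlgEquiv.ofBijective f hbij⟩

end Groth.Agent.Lib.Helper12.Gonf
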