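import Mathlib
import Groth.Agent.Lib.Helper12.NoetherianAux
import Groth.Agent.Lib.Helper12.NoethCrit

/-!
# A local ring covered by noetherian local rings along flat maps is noetherian

Let `B` be a local ring such that every finite subset of `B` lies in the image of a flat local
homomorphism `g : G → B` from a noetherian local ring with `𝔪_G B = 𝔪_B`. Then `B` is noetherian.
(A choice-free form of EGA 0_III 10.3.1.3.)
-/

set_option autoImplicit false
universe u

namespace Groth.Agent.Lib.Helper12

open IsLocalRing

theorem isNoetherianRing_of_forall_finset {B : Type u} [CommRing B] [IsLocalRing B]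
    (h : ∀ T : Finset B, ∃ (G : Type u) (_ : CommRing G) (_ : IsLocalRing G)
      (_ : IsNoetherianRing G) (g : G →+* B), g.Flat ∧ IsLocalHom g ∧
      (maximalIdeal G).map g = maximalIdeal B ∧ ∀ x ∈ T, x ∈ Set.range g) :
    IsNoetherianRing B := by
  classical
  haveI : IsNoetherianRing (B ⧸ maximalIdeal B) :=
    inferInstanceAs (IsNoetherianRing (ResidueField B))
  apply isNoetherianRing_of_fg_of_closed (maximalIdeal B)
  · obtain ⟨G, _, _, _, g, -, -, hm, -⟩ := h ∅
    rw [← hm]
    exact Ideal.FG.map (IsNoetherian.noetherian _) _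
  · intro J hJ x hx
    obtain ⟨s, rfl⟩ := hJ
    obtain ⟨G, _, _, _, g, hflat, hloc, hm, hT⟩ := h (insert x s)
    obtain ⟨x', rfl⟩ := hT x (Finset.mem_insert_self x s)
    let J' : Ideal G := Ideal.span {y | g y ∈ (s : Set B)}
    have hJ' : J'.map g = Ideal.span (s : Set B) := by
      rw [Ideal.map_span]
      apply le_antisymm
      · rw [Ideal.span_le]
        rintro _ ⟨y, hy, rfl⟩
        exact Ideal.subset_span hy
      · rw [Ideal.span_le]
        intro b hb
        obtain ⟨y, rfl⟩ := hT b (Finset.mem_insert_of_mem hb)
        exact Ideal.subset_span ⟨y, hb, rfl⟩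
    have hcm : ∀ I : Ideal G, (I.map g).comap g = I := by
      intro I
      letI : Algebra G B := g.toAlgebra
      haveI : Module.Flat G B := hflat
      haveI : IsLocalHom (algebraMap G B) := hloc
      haveI : Module.FaithfullyFlat G B := Module.FaithfullyFlat.of_flat_of_isLocalHom
      exact Ideal.comap_map_eq_self_of_faithfullyFlat (B := B) I
    change g x' ∈ Ideal.span (s : Set B)
    rw [← hJ']
    apply Ideal.mem_map_of_mem
    apply mem_of_forall_mem_sup_pow
    intro n
    have h1 := hx n
    change g x' ∈ Ideal.span (s : Set B) ⊔ maximalIdeal B ^ n at h1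
    rw [← hJ', ← hm, ← Ideal.map_pow, ← Ideal.map_sup] at h1
    rw [← hcm (J' ⊔ maximalIdeal G ^ n)]
    exact h1

end Groth.Agent.Lib.Helper12
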