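import Groth.Agent.Lib.Helper12.TriFlatI
import Groth.Agent.Lib.Helper12.NoethCover

/-!
# Triangular presentations over a noetherian local ring: noetherianity

If `A` is a noetherian local ring, `D` triangular data over `A` such that `D.Quot` is local with
maximal ideal generated by that of `A`, then `D.Quot` is noetherian.
-/

set_option autoImplicit false
universe u v

namespace Groth.Agent.Lib.Helper12.TriFlat

open MvPolynomial IsLocalRing

namespace TriData

variable {A : Type u} [CommRing A] {σ : Type u} [LinearOrder σ] [WellFoundedLT σ]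
  (D : TriData A σ)

theorem γ_algebraMap (S : Set σ) (hS : D.Closed S) (a : A) :
    D.γ S hS (algebraMap A (D.G S hS) a) = algebraMap A D.Quot a := by
  change D.γ S hS (Ideal.Quotient.mk _ (C a)) = _
  rw [γ_mk, rename_C]
  rfl

theorem exists_γ_eq (S : Set σ) (hS : D.Closed S) (p : MvPolynomial σ A)
    (hp : ∀ s ∈ p.vars, s ∈ S) :
    ∃ y, D.γ S hS y = Ideal.Quotient.mk _ p := by
  obtain ⟨q, hq⟩ := exists_rename_eq_of_vars_subset_range p (Subtype.val : S → σ)
    Subtype.val_injective (fun s hs => ⟨⟨s, hp s hs⟩, rfl⟩)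
  exact ⟨Ideal.Quotient.mk _ q, by rw [γ_mk, hq]⟩

theorem isNoetherianRing_quot [IsLocalRing A] [IsNoetherianRing A] [IsLocalRing D.Quot]
    (hm : (maximalIdeal A).map (algebraMap A D.Quot) = maximalIdeal D.Quot) :
    IsNoetherianRing D.Quot := by
  classical
  apply isNoetherianRing_of_forall_finset
  intro T
  -- choose representatives
  have hrep : ∀ x : D.Quot, ∃ p : MvPolynomial σ A, Ideal.Quotient.mk _ p = x :=
    fun x => Ideal.Quotient.mk_surjective x
  choose p hp using hrep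
  obtain ⟨S, hTS, hS⟩ := D.exists_finite_closed (T.biUnion fun x => (p x).vars)
  let g := D.γ S (hS : D.Closed (S : Set σ))
  have hginj : Function.Injective g := D.γ_injective _ hS
  have hgflat : g.Flat := D.γ_flat _ hS
  -- algebra structures
  letI : Algebra (D.G (S : Set σ) hS) D.Quot := g.toAlgebra
  haveI : IsScalarTower A (D.G (S : Set σ) hS) D.Quot :=
    IsScalarTower.of_algebraMap_eq (fun a => (D.γ_algebraMap _ hS a).symm)
  haveI : Algebra.IsIntegral A D.Quot := isIntegral_of_isTri D.isTriPos.isTri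
  haveI : Algebra.IsIntegral (D.G (S : Set σ) hS) D.Quot := Algebra.IsIntegral.tower_top A
  haveI : Nontrivial (D.G (S : Set σ) hS) := g.domain_nontrivial
  have hker : RingHom.ker (algebraMap (D.G (S : Set σ) hS) D.Quot) = ⊥ :=
    (RingHom.injective_iff_ker_eq_bot _).mp hginj
  have huniq : ∀ 𝔫 : Ideal (D.G (S : Set σ) hS), 𝔫.IsMaximal →
      𝔫 = (maximalIdeal D.Quot).comap g := by
    intro 𝔫 h𝔫
    obtain ⟨𝔐, h𝔐, h𝔐c⟩ := Ideal.exists_ideal_over_maximal_of_isIntegral (S := D.Quot) 𝔫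
      (by rw [hker]; exact bot_le)
    rw [IsLocalRing.eq_maximalIdeal h𝔐] at h𝔐c
    exact h𝔐c.symm
  obtain ⟨𝔫₀, h𝔫₀⟩ := Ideal.exists_maximal (D.G (S : Set σ) hS)
  have hloc : IsLocalRing (D.G (S : Set σ) hS) := by
    refine IsLocalRing.of_unique_max_ideal ⟨𝔫₀, h𝔫₀, fun 𝔫 h𝔫 => ?_⟩
    rw [huniq 𝔫 h𝔫, huniq 𝔫₀ h𝔫₀]
  have hcomap : (maximalIdeal D.Quot).comap g = maximalIdeal (D.G (S : Set σ) hS) := by
    rw [← huniq 𝔫₀ h𝔫₀]
    exact IsLocalRing.eq_maximalIdeal h𝔫₀
  have hlochom : IsLocalHom g := ((IsLocalRing.local_hom_TFAE g).out 0 4).mpr hcomap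
  have hmG : (maximalIdeal (D.G (S : Set σ) hS)).map g = maximalIdeal D.Quot := by
    apply le_antisymm
    · exact ((IsLocalRing.local_hom_TFAE g).out 0 2).mp hlochom
    · rw [← hm, IsScalarTower.algebraMap_eq A (D.G (S : Set σ) hS) D.Quot, ← Ideal.map_map]
      apply Ideal.map_mono
      rw [Ideal.map_le_iff_le_comap, ← hcomap, Ideal.comap_comap]
      rw [← Ideal.map_le_iff_le_comap]
      change (maximalIdeal A).map ((algebraMap (D.G (S : Set σ) hS) D.Quot).comp
        (algebraMap A (D.G (S : Set σ) hS))) ≤ _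
      rw [← IsScalarTower.algebraMap_eq, hm]
  have hfin : Finite (S : Set σ) := Finset.finite_toSet S |>.to_subtype
  refine ⟨D.G (S : Set σ) hS, inferInstance, hloc, inferInstance, g, hgflat, hlochom, hmG, ?_⟩
  intro x hx
  rw [← hp x]
  refine D.exists_γ_eq _ hS (p x) (fun s hs => ?_)
  exact hTS (Finset.mem_biUnion.mpr ⟨x, hx, hs⟩)

end TriData

end Groth.Agent.Lib.Helper12.TriFlat
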