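import Groth.Agent.Lib.Helper12.GonfE
import Groth.Agent.Lib.Helper12.TriFlatJ

/-!
# Gonflement, algebraic case: noetherianity
-/

set_option autoImplicit false
universe u v

namespace Groth.Agent.Lib.Helper12.Gonf

open MvPolynomial IsLocalRing

section Noeth

variable (A : Type u) [CommRing A] [IsLocalRing A] {K : Type u} [Field K] [Algebra A K]
  [Algebra (ResidueField A) K] [IsScalarTower A (ResidueField A) K]
  [Algebra.IsAlgebraic (ResidueField A) K]
  {σ : Type u} [LinearOrder σ] [WellFoundedLT σ] (θ : σ → K)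

theorem deg_pos (t : σ) : 0 < deg A θ t :=
  minpoly.natDegree_pos (Algebra.IsIntegral.isIntegral (R := L A θ t) (θ t))

/-- the triangular data of the gonflement -/
noncomputable def gonfData : TriFlat.TriData A σ where
  d := deg A θ
  c t i := rename Subtype.val (cf' A θ t i)
  d_pos := deg_pos A θ
  vars_c t i s hs := by
    classical
    have := vars_rename (Subtype.val : Set.Iio t → σ) (cf' A θ t i) hs
    rw [Finset.mem_image] at this
    obtain ⟨u, -, rfl⟩ := this
    exact u.2

theorem gonfData_F : (gonfData A θ).F = F A θ := rfl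

theorem isNoetherianRing_B [IsNoetherianRing A]
    (hθ : Algebra.adjoin (ResidueField A) (Set.range θ) = ⊤) : IsNoetherianRing (B A θ) := by
  have hloc : IsLocalRing (B A θ) := isLocalRing_B A θ hθ
  have hmeq : (maximalIdeal A).map (algebraMap A (B A θ)) = maximalIdeal (B A θ) :=
    IsLocalRing.eq_maximalIdeal (isMaximal_map A θ hθ)
  have hloc' : IsLocalRing (gonfData A θ).Quot := hloc
  exact @TriFlat.TriData.isNoetherianRing_quot A _ σ _ _ (gonfData A θ) _ _ hloc' hmeq

end Noeth

/-- **Gonflement, algebraic case, ring hom form, with noetherianity.** -/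
theorem exists_gonflement_of_ringHom' (A₁ : Type u) [CommRing A₁] [IsLocalRing A₁]
    (K : Type u) [Field K] (φ : A₁ →+* K) (hker : RingHom.ker φ = maximalIdeal A₁)
    (halg : ∀ y : K, ∃ q : Polynomial A₁, q.map φ ≠ 0 ∧ Polynomial.eval₂ φ y q = 0) :
    ∃ (B : Type u) (_ : CommRing B) (_ : IsLocalRing B) (_ : Algebra A₁ B),
      Module.Flat A₁ B ∧ Algebra.IsIntegral A₁ B ∧
      (maximalIdeal A₁).map (algebraMap A₁ B) = maximalIdeal B ∧
      (IsNoetherianRing A₁ → IsNoetherianRing B) ∧
      ∃ ψ : B →+* K, Function.Surjective ψ ∧ RingHom.ker ψ = maximalIdeal B ∧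
        ∀ a, ψ (algebraMap A₁ B a) = φ a := by
  letI : Algebra A₁ K := φ.toAlgebra
  haveI : IsLocalHom φ := by
    refine ⟨fun a ha => ?_⟩
    rw [← IsLocalRing.notMem_maximalIdeal, ← hker, RingHom.mem_ker]
    exact ha.ne_zero
  letI : Algebra (ResidueField A₁) K := (ResidueField.lift φ).toAlgebra
  haveI : IsScalarTower A₁ (ResidueField A₁) K :=
    IsScalarTower.of_algebraMap_eq (fun a => (ResidueField.lift_residue_apply φ a).symm)
  have hcomp : (algebraMap (ResidueField A₁) K).comp (residue A₁) = φ := by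
    ext a
    exact ResidueField.lift_residue_apply φ a
  haveI : Algebra.IsAlgebraic (ResidueField A₁) K := by
    refine ⟨fun y => ?_⟩
    obtain ⟨q, hq, hy⟩ := halg y
    refine ⟨q.map (residue A₁), ?_, ?_⟩
    · intro h0
      apply hq
      rw [← hcomp, ← Polynomial.map_map, h0, Polynomial.map_zero]
    · rw [Polynomial.aeval_def, Polynomial.eval₂_map, hcomp]
      exact hy
  obtain ⟨inst, hwf⟩ := exists_wellFoundedLT (α := K)
  letI := inst
  have hθ : Algebra.adjoin (ResidueField A₁) (Set.range (id : K → K)) = ⊤ := by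
    rw [Set.range_id, Algebra.adjoin_univ]
  have hloc := isLocalRing_B A₁ (id : K → K) hθ
  have hmax := isMaximal_map A₁ (id : K → K) hθ
  have hmeq : (maximalIdeal A₁).map (algebraMap A₁ (B A₁ (id : K → K))) =
      maximalIdeal (B A₁ (id : K → K)) := IsLocalRing.eq_maximalIdeal hmax
  refine ⟨B A₁ (id : K → K), inferInstance, hloc, inferInstance, flat_B A₁ _, isIntegral_B A₁ _,
    hmeq, fun hN => isNoetherianRing_B A₁ _ hθ, (Ψbar A₁ (id : K → K) : _ →+* K),
    Ψbar_surjective A₁ _ hθ, ?_, fun a => (Ψbar A₁ (id : K → K)).commutes a⟩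
  rw [ker_Ψbar, hmeq]

end Groth.Agent.Lib.Helper12.Gonf
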