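import Groth.Agent.Lib.Helper12.GonfF

/-!
# Gonflement, transcendental case: noetherianity

For a noetherian local ring `A` and any index type `ι`, the localization of `A[X_ι]` at the prime
`𝔪 A[X_ι]` is noetherian.
-/

set_option autoImplicit false
universe u v

namespace Groth.Agent.Lib.Helper12.Gonf

open MvPolynomial IsLocalRing

section FlatRename

variable (A : Type u) [CommRing A] {ι : Type u} (J : Set ι)

theorem flat_rename_subtype :
    (rename (Subtype.val : J → ι) : MvPolynomial J A →ₐ[A] MvPolynomial ι A).toRingHom.Flat := by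
  classical
  let e : ((Jᶜ : Set ι) ⊕ J) ≃ ι := (Equiv.sumComm _ _).trans (Equiv.Set.sumCompl J)
  have key : (rename (Subtype.val : J → ι) : MvPolynomial J A →ₐ[A] MvPolynomial ι A).toRingHom =
      (((renameEquiv A e).toRingEquiv.toRingHom).comp
        ((sumAlgEquiv A (Jᶜ : Set ι) J).symm.toRingEquiv.toRingHom)).comp
        (algebraMap (MvPolynomial J A) (MvPolynomial (Jᶜ : Set ι) (MvPolynomial J A))) := by
    refine RingHom.ext fun q => ?_
    have h1 : (sumAlgEquiv A (Jᶜ : Set ι) J).symm
        (algebraMap (MvPolynomial J A) (MvPolynomial (Jᶜ : Set ι) (MvPolynomial J A)) q) =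
        rename Sum.inr q := by
      rw [AlgEquiv.symm_apply_eq]
      exact (DFunLike.congr_fun (sumAlgEquiv_comp_rename_inr A (Jᶜ : Set ι) J) q).symm
    change rename Subtype.val q = renameEquiv A e ((sumAlgEquiv A (Jᶜ : Set ι) J).symm
      (algebraMap (MvPolynomial J A) (MvPolynomial (Jᶜ : Set ι) (MvPolynomial J A)) q))
    rw [h1, renameEquiv_apply, rename_rename]
    rfl
  rw [key]
  refine RingHom.Flat.comp ?_ (RingHom.Flat.of_bijective ?_)
  · exact (RingHom.flat_algebraMap_iff).mpr inferInstance
  · exact ((renameEquiv A e).bijective).comp (sumAlgEquiv A (Jᶜ : Set ι) J).symm.bijective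

end FlatRename

section LocNoeth

variable (A : Type u) [CommRing A] [IsLocalRing A] [IsNoetherianRing A] {ι : Type u}

theorem isNoetherianRing_localization_map_C (𝔭 : Ideal (MvPolynomial ι A)) [𝔭.IsPrime]
    (h𝔭 : 𝔭 = (maximalIdeal A).map (C : A →+* MvPolynomial ι A)) :
    IsNoetherianRing (Localization.AtPrime 𝔭) := by
  classical
  apply isNoetherianRing_of_forall_finset
  intro T
  have hrep : ∀ x : Localization.AtPrime 𝔭, ∃ (p : MvPolynomial ι A) (q : 𝔭.primeCompl),
      IsLocalization.mk' (Localization.AtPrime 𝔭) p q = x :=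
    fun x => IsLocalization.exists_mk'_eq 𝔭.primeCompl x
  choose p q hpq using hrep
  let J : Set ι := ↑(T.biUnion fun x => (p x).vars ∪ (q x).1.vars)
  have hJfin : Finite J := (Finset.finite_toSet _).to_subtype
  let ρ : MvPolynomial J A →+* MvPolynomial ι A :=
    (rename (Subtype.val : J → ι) : MvPolynomial J A →ₐ[A] MvPolynomial ι A).toRingHom
  let 𝔮 : Ideal (MvPolynomial J A) := 𝔭.comap ρ
  haveI : 𝔮.IsPrime := Ideal.comap_isPrime ρ 𝔭
  let g : Localization.AtPrime 𝔮 →+* Localization.AtPrime 𝔭 :=
    Localization.localRingHom 𝔮 𝔭 ρ rfl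
  have hloc : IsLocalHom g := Localization.isLocalHom_localRingHom 𝔮 𝔭 ρ rfl
  have hNoeth : IsNoetherianRing (Localization.AtPrime 𝔮) :=
    IsLocalization.isNoetherianRing 𝔮.primeCompl _ inferInstance
  -- flatness
  have hflat : g.Flat := by
    letI : Algebra (MvPolynomial J A) (MvPolynomial ι A) := ρ.toAlgebra
    letI : Algebra (Localization.AtPrime 𝔮) (Localization.AtPrime 𝔭) := g.toAlgebra
    haveI : IsScalarTower (MvPolynomial J A) (Localization.AtPrime 𝔮) (Localization.AtPrime 𝔭) :=
      IsScalarTower.of_algebraMap_eq (fun x => by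
        rw [IsScalarTower.algebraMap_apply (MvPolynomial J A) (MvPolynomial ι A)
          (Localization.AtPrime 𝔭)]
        exact (Localization.localRingHom_to_map 𝔮 𝔭 ρ rfl x).symm)
    haveI : Module.Flat (MvPolynomial J A) (MvPolynomial ι A) := flat_rename_subtype A J
    haveI : Module.Flat (MvPolynomial J A) (Localization.AtPrime 𝔭) :=
      Module.Flat.trans (MvPolynomial J A) (MvPolynomial ι A) (Localization.AtPrime 𝔭)
    exact (Module.flat_iff_of_isLocalization (Localization.AtPrime 𝔮) 𝔮.primeCompl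
      (Localization.AtPrime 𝔭)).mpr inferInstance
  have hmG : (maximalIdeal (Localization.AtPrime 𝔮)).map g =
      maximalIdeal (Localization.AtPrime 𝔭) := by
    apply le_antisymm
    · exact ((IsLocalRing.local_hom_TFAE g).out 0 2).mp hloc
    · have h1 : (maximalIdeal A).map (C : A →+* MvPolynomial J A) ≤ 𝔮 := by
        rw [Ideal.map_le_iff_le_comap]
        intro a ha
        rw [Ideal.mem_comap, Ideal.mem_comap]
        change rename Subtype.val (C a) ∈ 𝔭
        rw [rename_C, h𝔭]
        exact Ideal.mem_map_of_mem _ ha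
      have h2 : 𝔭 = (((maximalIdeal A).map (C : A →+* MvPolynomial J A))).map ρ := by
        rw [Ideal.map_map, h𝔭]
        congr 1
        refine RingHom.ext fun a => ?_
        change C a = rename Subtype.val (C a)
        rw [rename_C]
      calc maximalIdeal (Localization.AtPrime 𝔭)
          = 𝔭.map (algebraMap (MvPolynomial ι A) (Localization.AtPrime 𝔭)) :=
            (IsLocalization.AtPrime.map_eq_maximalIdeal 𝔭 (Localization.AtPrime 𝔭)).symm
        _ = ((((maximalIdeal A).map (C : A →+* MvPolynomial J A))).map ρ).map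
              (algebraMap (MvPolynomial ι A) (Localization.AtPrime 𝔭)) :=
            congrArg (Ideal.map (algebraMap (MvPolynomial ι A) (Localization.AtPrime 𝔭))) h2
        _ = ((((maximalIdeal A).map (C : A →+* MvPolynomial J A))).map
              (algebraMap (MvPolynomial J A) (Localization.AtPrime 𝔮))).map g := by
            have hcomp : (algebraMap (MvPolynomial ι A) (Localization.AtPrime 𝔭)).comp ρ =
                g.comp (algebraMap (MvPolynomial J A) (Localization.AtPrime 𝔮)) :=
              RingHom.ext fun x => (Localization.localRingHom_to_map 𝔮 𝔭 ρ rfl x).symm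
            rw [Ideal.map_map (f := ρ), hcomp, ← Ideal.map_map (f :=
              algebraMap (MvPolynomial J A) (Localization.AtPrime 𝔮))]
        _ ≤ (maximalIdeal (Localization.AtPrime 𝔮)).map g := by
            apply Ideal.map_mono
            rw [← IsLocalization.AtPrime.map_eq_maximalIdeal 𝔮 (Localization.AtPrime 𝔮)]
            exact Ideal.map_mono h1
  refine ⟨Localization.AtPrime 𝔮, inferInstance, inferInstance, hNoeth, g, hflat, hloc, hmG, ?_⟩
  intro x hx
  have hpJ : ∀ s ∈ (p x).vars, s ∈ J := by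
    intro s hs
    exact Finset.mem_coe.mpr (Finset.mem_biUnion.mpr ⟨x, hx, Finset.mem_union_left _ hs⟩)
  have hqJ : ∀ s ∈ (q x).1.vars, s ∈ J := by
    intro s hs
    exact Finset.mem_coe.mpr (Finset.mem_biUnion.mpr ⟨x, hx, Finset.mem_union_right _ hs⟩)
  obtain ⟨p₀, hp₀⟩ := exists_rename_eq_of_vars_subset_range (p x) (Subtype.val : J → ι)
    Subtype.val_injective (fun s hs => ⟨⟨s, hpJ s hs⟩, rfl⟩)
  obtain ⟨q₀, hq₀⟩ := exists_rename_eq_of_vars_subset_range (q x).1 (Subtype.val : J → ι)
    Subtype.val_injective (fun s hs => ⟨⟨s, hqJ s hs⟩, rfl⟩)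
  have hq₀mem : q₀ ∈ 𝔮.primeCompl := by
    intro h
    have : ρ q₀ ∈ 𝔭 := h
    change rename Subtype.val q₀ ∈ 𝔭 at this
    rw [hq₀] at this
    exact (q x).2 this
  refine ⟨IsLocalization.mk' (Localization.AtPrime 𝔮) p₀ ⟨q₀, hq₀mem⟩, ?_⟩
  rw [← hpq x]
  change Localization.localRingHom 𝔮 𝔭 ρ rfl _ = _
  rw [Localization.localRingHom_mk']
  congr 1
  exact Subtype.ext hq₀

end LocNoeth

end Groth.Agent.Lib.Helper12.Gonf
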