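import Mathlib
import Groth.Prelude.Def_EGA4b
import Groth.Agent.Lib.Helper21.CatKit
import Groth.Agent.Lib.Helper12.UniqueMinPrime

/-!
# Hironaka's lemma (EGA IV 5.12.8): general lemmas
-/

set_option autoImplicit false
universe u

namespace Groth.Agent.Lib.Helper12.Hironaka

open IsLocalRing Order

section general

variable {A : Type u} [CommRing A]

/-- A Noetherian local ring whose maximal ideal is generated by a nonzerodivisor is a domain. -/
theorem isDomain_of_maximalIdeal_eq_span [IsLocalRing A] [IsNoetherianRing A] (t : A)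
    (ht : t ∈ nonZeroDivisors A) (hm : maximalIdeal A = Ideal.span {t}) : IsDomain A := by
  obtain ⟨⟨Q, hQ⟩⟩ := Ideal.nonempty_minimalPrimes (I := (⊥ : Ideal A)) bot_ne_top
  have hQ' : Q ∈ minimalPrimes A := hQ
  haveI : Q.IsPrime := hQ.1.1
  have htQ : t ∉ Q := fun h =>
    Set.disjoint_left.mp (Ideal.disjoint_nonZeroDivisors_of_mem_minimalPrimes hQ') h ht
  have hQm : Q ≤ Ideal.span {t} := hm ▸ IsLocalRing.le_maximalIdeal (Ideal.IsPrime.ne_top ‹_›)
  have hle : Q ≤ Ideal.span {t} • Q := by
    intro x hx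
    obtain ⟨y, rfl⟩ := Ideal.mem_span_singleton'.1 (hQm hx)
    have hy : y ∈ Q := by
      rcases Ideal.IsPrime.mem_or_mem ‹Q.IsPrime› hx with h | h
      · exact h
      · exact absurd h htQ
    rw [mul_comm]
    exact Submodule.smul_mem_smul (Ideal.mem_span_singleton_self t) hy
  have hQbot : Q = ⊥ := by
    refine Submodule.eq_bot_of_le_smul_of_le_jacobson_bot (Ideal.span {t}) Q
      (IsNoetherian.noetherian Q) hle ?_
    rw [← hm, IsLocalRing.jacobson_eq_maximalIdeal ⊥ bot_ne_top]
  haveI : (⊥ : Ideal A).IsPrime := hQbot ▸ ‹Q.IsPrime›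
  exact IsDomain.of_bot_isPrime A

/-- If `P` is minimal over `q + (x)` with `q` prime and `x ∉ q`, then `P` covers `q` in the
spectrum (Krull's principal ideal theorem in `A/q`). -/
theorem covBy_of_mem_minimalPrimes [IsNoetherianRing A] {q P : Ideal A} [hq : q.IsPrime]
    [hPp : P.IsPrime] {x : A} (hx : x ∉ q) (hP : P ∈ (q ⊔ Ideal.span {x}).minimalPrimes) :
    (⟨q, hq⟩ : PrimeSpectrum A) ⋖ ⟨P, hPp⟩ := by
  have hqP : q ≤ P := le_sup_left.trans hP.1.2
  have hxP : x ∈ P := hP.1.2 (le_sup_right (a := q) (Ideal.mem_span_singleton_self x))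
  have hlt : q < P := lt_of_le_of_ne hqP (fun h => hx (h ▸ hxP))
  refine ⟨hlt, ?_⟩
  rintro ⟨c, hc⟩ hqc hcP
  have hqc' : q < c := hqc
  have hcP' : c < P := hcP
  let f := Ideal.Quotient.mk q
  have hf : Function.Surjective f := Ideal.Quotient.mk_surjective
  have h1 : (P.map f).height ≤ 1 := Ideal.map_height_le_one_of_mem_minimalPrimes hP
  haveI : (P.map f).IsPrime := Ideal.map_isPrime_of_surjective hf (by rwa [Ideal.mk_ker])
  haveI : (c.map f).IsPrime := Ideal.map_isPrime_of_surjective hf (by rw [Ideal.mk_ker]; exact hqc'.le)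
  have h_lt : c.map f < P.map f := (Ideal.map_mono hcP'.le).lt_of_not_ge fun e ↦ hcP'.not_ge <| by
    simpa only [Ideal.comap_map_of_surjective f hf, ← RingHom.ker_eq_comap_bot, f, Ideal.mk_ker,
      sup_eq_left.mpr hqc'.le, sup_eq_left.mpr hqP] using Ideal.comap_mono (f := f) e
  haveI : (P.map f).FiniteHeight := ⟨Or.inr (h1.trans_lt (WithTop.coe_lt_top 1)).ne⟩
  have h0 := (Ideal.height_strict_mono_of_isPrime_of_isPrime h_lt).trans_le h1
  rw [Order.lt_one_iff, Ideal.height_eq_zero_iff] at h0
  have h2 := Ideal.minimalPrimes_comap_of_surjective hf h0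
  rw [Ideal.comap_map_of_surjective f hf, ← RingHom.ker_eq_comap_bot, Ideal.mk_ker,
    sup_eq_left.mpr hqc'.le] at h2
  exact hqc'.not_ge (h2.2 ⟨hq, le_rfl⟩ hqc'.le)

/-- `coheight` drops by at least two along a chain of length two. -/
theorem coheight_add_two_le {α : Type*} [Preorder α] {a b c : α} (hab : a < b) (hbc : b < c) :
    coheight c + 2 ≤ coheight a := by
  have h1 := Order.coheight_add_one_le hbc
  have h2 := Order.coheight_add_one_le hab
  calc coheight c + 2 = coheight c + 1 + 1 := by rw [add_assoc]; rfl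
    _ ≤ coheight b + 1 := by gcongr
    _ ≤ coheight a := h2

end general

section stepZero

variable {A : Type u} [CommRing A] [IsNoetherianRing A] [IsLocalRing A]

/-- Every minimal prime of an equidimensional catenary local ring is contained in the unique
minimal prime `p` of `tA`. -/
theorem minimalPrime_le (hcat : CAlg.IsCatenary A) (heq : EGA4.IsEquidim A)
    (t : A) (ht : t ∈ maximalIdeal A) (hreg : t ∈ nonZeroDivisors A)
    (p : Ideal A) [p.IsPrime] (hp : (Ideal.span {t}).minimalPrimes = {p})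
    (q : Ideal A) (hq : q ∈ minimalPrimes A) : q ≤ p := by
  haveI hqp : q.IsPrime := hq.1.1
  have htq : t ∉ q := fun h =>
    Set.disjoint_left.mp (Ideal.disjoint_nonZeroDivisors_of_mem_minimalPrimes hq) h hreg
  have hne : q ⊔ Ideal.span {t} ≠ ⊤ := by
    intro h
    have : q ⊔ Ideal.span {t} ≤ maximalIdeal A :=
      sup_le (IsLocalRing.le_maximalIdeal hqp.ne_top)
        ((Ideal.span_singleton_le_iff_mem _).2 ht)
    rw [h] at this
    exact (IsLocalRing.maximalIdeal.isMaximal A).ne_top (top_le_iff.1 this)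
  obtain ⟨⟨P, hP⟩⟩ := Ideal.nonempty_minimalPrimes hne
  haveI hPp : P.IsPrime := hP.1.1
  have hcov := covBy_of_mem_minimalPrimes htq hP
  have htP : t ∈ P := hP.1.2 (le_sup_right (a := q) (Ideal.mem_span_singleton_self t))
  have hqP : q ≤ P := le_sup_left.trans hP.1.2
  obtain ⟨p', hp', hp'P⟩ := Ideal.exists_minimalPrimes_le
    (show Ideal.span {t} ≤ P from (Ideal.span_singleton_le_iff_mem _).2 htP)
  rw [hp] at hp'
  have hp'eq : p' = p := hp'
  subst hp'eq
  rcases eq_or_lt_of_le hp'P with h | h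
  · rw [h]; exact hqP
  · exfalso
    obtain ⟨q'', hq'', hq''p⟩ := Ideal.exists_minimalPrimes_le (bot_le : (⊥ : Ideal A) ≤ p')
    have hq''m : q'' ∈ minimalPrimes A := hq''
    haveI hq''p' : q''.IsPrime := hq''.1.1
    have htp : t ∈ p' := by
      have : p' ∈ (Ideal.span {t}).minimalPrimes := by rw [hp]; rfl
      exact this.1.2 (Ideal.mem_span_singleton_self t)
    have htq'' : t ∉ q'' := fun h' =>
      Set.disjoint_left.mp (Ideal.disjoint_nonZeroDivisors_of_mem_minimalPrimes hq''m) h' hreg
    have hlt1 : q'' < p' := lt_of_le_of_ne hq''p (fun h' => htq'' (h' ▸ htp))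
    have hc1 : coheight (⟨P, hPp⟩ : PrimeSpectrum A) + 2 ≤
        coheight (⟨q'', hq''p'⟩ : PrimeSpectrum A) :=
      coheight_add_two_le (b := (⟨p', inferInstance⟩ : PrimeSpectrum A)) hlt1 h
    have hc2 := Groth.Agent.Lib.Helper21.CatKit.coheight_eq_of_covBy hcat.2
      Groth.Agent.Lib.Helper21.CatKit.isMax_eq hcov (coheight_lt_top _)
    have e1 := heq q hq
    have e2 := heq q'' hq''m
    have e3 := Groth.Agent.Lib.Helper21.CatKit.ringKrullDim_quotient_eq_coheight
      (⟨q, hqp⟩ : PrimeSpectrum A)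
    have e4 := Groth.Agent.Lib.Helper21.CatKit.ringKrullDim_quotient_eq_coheight
      (⟨q'', hq''p'⟩ : PrimeSpectrum A)
    have e5 : ((coheight (⟨q, hqp⟩ : PrimeSpectrum A) : ℕ∞) : WithBot ℕ∞) =
        ((coheight (⟨q'', hq''p'⟩ : PrimeSpectrum A) : ℕ∞) : WithBot ℕ∞) := by
      rw [← e3, ← e4]
      exact e1.trans e2.symm
    have e6 : coheight (⟨q, hqp⟩ : PrimeSpectrum A) =
        coheight (⟨q'', hq''p'⟩ : PrimeSpectrum A) := WithBot.coe_injective e5
    rw [← e6, hc2] at hc1
    have hfin : coheight (⟨P, hPp⟩ : PrimeSpectrum A) ≠ ⊤ := (coheight_lt_top _).ne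
    obtain ⟨n, hn⟩ := ENat.ne_top_iff_exists.1 hfin
    rw [← hn] at hc1
    have : (n : ℕ∞) + 2 ≤ n + 1 := hc1
    have h' : n + 2 ≤ n + 1 := by exact_mod_cast this
    omega

/-- Step 0 of Hironaka's lemma: the ring is a domain. -/
theorem isDomain_of_hyp (hcat : CAlg.IsCatenary A) [IsReduced A] (heq : EGA4.IsEquidim A)
    (t : A) (ht : t ∈ maximalIdeal A) (hreg : t ∈ nonZeroDivisors A)
    (p : Ideal A) [p.IsPrime] (hp : (Ideal.span {t}).minimalPrimes = {p})
    (hgen : maximalIdeal (Localization.AtPrime p) =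
      Ideal.span {algebraMap A (Localization.AtPrime p) t}) : IsDomain A := by
  haveI : IsDomain (Localization.AtPrime p) := by
    refine isDomain_of_maximalIdeal_eq_span (algebraMap A (Localization.AtPrime p) t) ?_ hgen
    exact IsLocalization.map_nonZeroDivisors_le p.primeCompl (Localization.AtPrime p)
      (Submonoid.mem_map_of_mem _ hreg)
  let K : Ideal A := (⊥ : Ideal (Localization.AtPrime p)).comap (algebraMap A _)
  haveI hK : K.IsPrime := Ideal.IsPrime.comap _
  have hKle : ∀ q : Ideal A, q.IsPrime → q ≤ p → K ≤ q := by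
    intro q hq hqp x hx
    have hx0 : algebraMap A (Localization.AtPrime p) x = 0 := by simpa [K] using hx
    obtain ⟨s, hs⟩ := (IsLocalization.map_eq_zero_iff p.primeCompl _ x).1 hx0
    have hsx : (s : A) * x ∈ q := by rw [hs]; exact q.zero_mem
    rcases hq.mem_or_mem hsx with h | h
    · exact absurd (hqp h) s.2
    · exact h
  have hall : ∀ q ∈ minimalPrimes A, q = K := by
    intro q hq
    have hqp := minimalPrime_le hcat heq t ht hreg p hp q hq
    exact le_antisymm (hq.2 ⟨hK, bot_le⟩ (hKle q hq.1.1 hqp)) (hKle q hq.1.1 hqp)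
  obtain ⟨⟨Q, hQ⟩⟩ := Ideal.nonempty_minimalPrimes (I := (⊥ : Ideal A)) bot_ne_top
  have hQ' : Q ∈ minimalPrimes A := hQ
  have h1 := Groth.Agent.Lib.Helper12.UniqueMinPrime.nilradical_eq_of_unique hQ'
    (fun q hq => (hall q hq).trans (hall Q hQ').symm)
  rw [nilradical_eq_zero A] at h1
  haveI : (⊥ : Ideal A).IsPrime := by
    rw [← Ideal.zero_eq_bot, h1]; exact hQ.1.1
  exact IsDomain.of_bot_isPrime A

end stepZero

section hull

/-- Finite generation of the height-one hull, in a transport-friendly form. -/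
def HullFG (A : Type u) [CommRing A] [IsDomain A] : Prop :=
  ∃ S : Finset (FractionRing A),
    EGA4.heightOneHull A ⊆ (Submodule.span A (S : Set (FractionRing A)) : Set (FractionRing A))

theorem hullFG_of_finite {A : Type u} [CommRing A] [IsDomain A]
    (h : EGA4.HeightOneHullFinite A) : HullFG A := by
  obtain ⟨B, hB, hfin⟩ := h
  have hfg : (Subalgebra.toSubmodule B).FG := (Module.Finite.iff_fg (N := Subalgebra.toSubmodule B)).1 hfin
  obtain ⟨S, hS⟩ := hfg
  refine ⟨S, ?_⟩
  rw [hS, ← hB]
  rfl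

theorem hullFG_of_ringEquiv {A A' : Type u} [CommRing A] [IsDomain A] [CommRing A'] [IsDomain A']
    (e : A ≃+* A') (h : HullFG A') : HullFG A := by
  classical
  obtain ⟨S', hS'⟩ := h
  let E : FractionRing A ≃+* FractionRing A' := IsFractionRing.ringEquivOfRingEquiv e
  have hE : ∀ a : A, E (algebraMap A (FractionRing A) a) = algebraMap A' (FractionRing A') (e a) :=
    fun a => IsFractionRing.ringEquivOfRingEquiv_algebraMap e a
  refine ⟨S'.image E.symm, ?_⟩
  intro x hx
  -- E x lies in the hull of A'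
  have hEx : E x ∈ EGA4.heightOneHull A' := by
    intro P' hP' hht
    haveI : (P'.comap (e : A →+* A')).IsPrime := Ideal.IsPrime.comap _
    have hht' : (P'.comap (e : A →+* A')).height = 1 := by
      rw [← hht]; exact RingEquiv.height_comap e P'
    obtain ⟨s, hs, a, ha⟩ := hx (P'.comap (e : A →+* A')) hht'
    refine ⟨e s, hs, e a, ?_⟩
    rw [← hE, ← hE, ha, map_mul]
  have hmem := hS' hEx
  -- transport the span membership back
  have key : ∀ y ∈ Submodule.span A' (S' : Set (FractionRing A')),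
      E.symm y ∈ Submodule.span A ((S'.image E.symm : Finset (FractionRing A)) : Set (FractionRing A)) := by
    intro y hy
    induction hy using Submodule.span_induction with
    | mem z hz =>
      apply Submodule.subset_span
      simp only [Finset.coe_image, Set.mem_image, Finset.mem_coe]
      exact ⟨z, hz, rfl⟩
    | zero => rw [map_zero]; exact Submodule.zero_mem _
    | add y z _ _ hy hz => rw [map_add]; exact Submodule.add_mem _ hy hz
    | smul a y _ hy =>
      have : E.symm (a • y) = e.symm a • E.symm y := by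
        rw [Algebra.smul_def, Algebra.smul_def, map_mul]
        congr 1
        apply E.injective
        rw [hE]
        simp
      rw [this]
      exact Submodule.smul_mem _ _ hy
  have := key (E x) hmem
  simpa using this

end hull

end Groth.Agent.Lib.Helper12.Hironaka
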