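import Groth.Agent.Lib.Helper12.TriFlatJ

/-!
# Sub-presentations on closed subsets of a local triangular presentation
-/

set_option autoImplicit false
universe u v

namespace Groth.Agent.Lib.Helper12.TriFlat

open MvPolynomial IsLocalRing

namespace TriData

variable {A : Type u} [CommRing A] {σ : Type u} [LinearOrder σ] [WellFoundedLT σ]
  (D : TriData A σ)

/-- The ring of a closed subset of a local triangular presentation is local, and the transition
map is local with the expected behaviour on maximal ideals. -/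
theorem sub_props [IsLocalRing A] [IsLocalRing D.Quot]
    (hm : (maximalIdeal A).map (algebraMap A D.Quot) = maximalIdeal D.Quot)
    (S : Set σ) (hS : D.Closed S) :
    ∃ (_ : IsLocalRing (D.G S hS)), IsLocalHom (D.γ S hS) ∧
      (maximalIdeal (D.G S hS)).map (D.γ S hS) = maximalIdeal D.Quot ∧
      (maximalIdeal A).map (algebraMap A (D.G S hS)) = maximalIdeal (D.G S hS) := by
  classical
  let g := D.γ S hS
  have hginj : Function.Injective g := D.γ_injective _ hS
  have hgflat : g.Flat := D.γ_flat _ hS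
  letI : Algebra (D.G S hS) D.Quot := g.toAlgebra
  haveI : IsScalarTower A (D.G S hS) D.Quot :=
    IsScalarTower.of_algebraMap_eq (fun a => (D.γ_algebraMap _ hS a).symm)
  haveI : Algebra.IsIntegral A D.Quot := isIntegral_of_isTri D.isTriPos.isTri
  haveI : Algebra.IsIntegral (D.G S hS) D.Quot := Algebra.IsIntegral.tower_top A
  haveI : Nontrivial (D.G S hS) := g.domain_nontrivial
  have hker : RingHom.ker (algebraMap (D.G S hS) D.Quot) = ⊥ :=
    (RingHom.injective_iff_ker_eq_bot _).mp hginj
  have huniq : ∀ 𝔫 : Ideal (D.G S hS), 𝔫.IsMaximal →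
      𝔫 = (maximalIdeal D.Quot).comap g := by
    intro 𝔫 h𝔫
    obtain ⟨𝔐, h𝔐, h𝔐c⟩ := Ideal.exists_ideal_over_maximal_of_isIntegral (S := D.Quot) 𝔫
      (by rw [hker]; exact bot_le)
    rw [IsLocalRing.eq_maximalIdeal h𝔐] at h𝔐c
    exact h𝔐c.symm
  obtain ⟨𝔫₀, h𝔫₀⟩ := Ideal.exists_maximal (D.G S hS)
  have hloc : IsLocalRing (D.G S hS) := by
    refine IsLocalRing.of_unique_max_ideal ⟨𝔫₀, h𝔫₀, fun 𝔫 h𝔫 => ?_⟩
    rw [huniq 𝔫 h𝔫, huniq 𝔫₀ h𝔫₀]
  have hcomap : (maximalIdeal D.Quot).comap g = maximalIdeal (D.G S hS) := by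
    rw [← huniq 𝔫₀ h𝔫₀]
    exact IsLocalRing.eq_maximalIdeal h𝔫₀
  have hlochom : IsLocalHom g := ((IsLocalRing.local_hom_TFAE g).out 0 4).mpr hcomap
  have hAG : (maximalIdeal A).map (algebraMap A (D.G S hS)) ≤ maximalIdeal (D.G S hS) := by
    rw [Ideal.map_le_iff_le_comap, ← hcomap, Ideal.comap_comap]
    rw [← Ideal.map_le_iff_le_comap]
    change (maximalIdeal A).map ((algebraMap (D.G S hS) D.Quot).comp
      (algebraMap A (D.G S hS))) ≤ _
    rw [← IsScalarTower.algebraMap_eq, hm]
  have hmG : (maximalIdeal (D.G S hS)).map g = maximalIdeal D.Quot := by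
    apply le_antisymm
    · exact ((IsLocalRing.local_hom_TFAE g).out 0 2).mp hlochom
    · rw [← hm, IsScalarTower.algebraMap_eq A (D.G S hS) D.Quot, ← Ideal.map_map]
      exact Ideal.map_mono hAG
  refine ⟨hloc, hlochom, hmG, ?_⟩
  -- faithful flatness: ideals are determined by their extensions
  haveI : Module.Flat (D.G S hS) D.Quot := hgflat
  haveI : IsLocalHom (algebraMap (D.G S hS) D.Quot) := hlochom
  haveI : Module.FaithfullyFlat (D.G S hS) D.Quot := Module.FaithfullyFlat.of_flat_of_isLocalHom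
  have h1 := Ideal.comap_map_eq_self_of_faithfullyFlat (B := D.Quot)
    ((maximalIdeal A).map (algebraMap A (D.G S hS)))
  have h2 := Ideal.comap_map_eq_self_of_faithfullyFlat (B := D.Quot) (maximalIdeal (D.G S hS))
  rw [← h1, ← h2]
  congr 1
  rw [Ideal.map_map, ← IsScalarTower.algebraMap_eq, hm]
  exact hmG.symm

end TriData

end Groth.Agent.Lib.Helper12.TriFlat
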