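import Groth.Agent.Lib.Helper12.GonfH
import Groth.Agent.Lib.Helper12.TriFlatK
import Groth.Agent.Lib.Helper12.HironakaA

/-!
# Gonflement of discrete valuation rings; ranks of finite free local algebras
-/

set_option autoImplicit false
universe u v

namespace Groth.Agent.Lib.Helper12.Gonf

open IsLocalRing

/-- A noetherian local ring flat over a DVR whose maximal ideal is generated by that of the DVR is
itself a DVR. -/
theorem isDVR_of_flat_local (R : Type u) [CommRing R] [IsDomain R] [IsDiscreteValuationRing R]
    (B : Type u) [CommRing B] [IsLocalRing B] [IsNoetherianRing B] [Algebra R B] [Module.Flat R B]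
    (hm : (maximalIdeal R).map (algebraMap R B) = maximalIdeal B) :
    ∃ (_ : IsDomain B), IsDiscreteValuationRing B := by
  obtain ⟨ϖ, hϖ⟩ := IsDiscreteValuationRing.exists_irreducible R
  have hmR : maximalIdeal R = Ideal.span {ϖ} := hϖ.maximalIdeal_eq
  have hmB : maximalIdeal B = Ideal.span {algebraMap R B ϖ} := by
    rw [← hm, hmR, Ideal.map_span, Set.image_singleton]
  have hreg : algebraMap R B ϖ ∈ nonZeroDivisors B := by
    have h1 : IsSMulRegular R ϖ := (IsRegular.of_ne_zero hϖ.ne_zero).left.isSMulRegular
    have h2 : IsSMulRegular B (algebraMap R B ϖ) := h1.of_flat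
    rw [mem_nonZeroDivisors_iff_right]
    intro x hx
    apply h2
    change algebraMap R B ϖ • x = algebraMap R B ϖ • (0 : B)
    rw [smul_eq_mul, smul_zero, mul_comm]
    exact hx
  have hdom := Groth.Agent.Lib.Helper12.Hironaka.isDomain_of_maximalIdeal_eq_span (algebraMap R B ϖ) hreg hmB
  refine ⟨hdom, ?_⟩
  have hnf : ¬ IsField B := by
    rw [IsLocalRing.isField_iff_maximalIdeal_eq, hmB, Ideal.span_singleton_eq_bot]
    exact nonZeroDivisors.ne_zero hreg
  have hprin : (maximalIdeal B).IsPrincipal := ⟨⟨algebraMap R B ϖ, hmB⟩⟩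
  exact ((IsDiscreteValuationRing.TFAE B hnf).out 0 4).mpr hprin

/-- The rank of a finite free local algebra with purely inseparable residue field extension and
`𝔪_R G = 𝔪_G` is a power of the characteristic exponent. -/
theorem exists_finrank_eq_pow (R : Type u) [CommRing R] [IsLocalRing R] (G : Type u) [CommRing G]
    [IsLocalRing G] [Algebra R G] [IsLocalHom (algebraMap R G)] [Module.Finite R G]
    [Module.Free R G] (hm : (maximalIdeal R).map (algebraMap R G) = maximalIdeal G)
    (q : ℕ) [ExpChar (ResidueField R) q] [IsPurelyInseparable (ResidueField R) (ResidueField G)] :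
    ∃ n, Module.finrank R G = q ^ n := by
  have h1 := IsLocalRing.finrank_quotient_map (R := R) (S := G)
  let inst : Module (R ⧸ maximalIdeal R) (ResidueField G) :=
    inferInstanceAs (Module (ResidueField R) (ResidueField G))
  let e : (G ⧸ (maximalIdeal R).map (algebraMap R G)) ≃ₗ[R ⧸ maximalIdeal R] ResidueField G :=
    { (Ideal.quotEquivOfEq hm : (G ⧸ (maximalIdeal R).map (algebraMap R G)) ≃+* ResidueField G) with
      map_smul' := by
        intro c x
        obtain ⟨r, rfl⟩ := Ideal.Quotient.mk_surjective c
        obtain ⟨g, rfl⟩ := Ideal.Quotient.mk_surjective x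
        rfl }
  have h2 : Module.finrank (R ⧸ maximalIdeal R) (G ⧸ (maximalIdeal R).map (algebraMap R G)) =
      Module.finrank (R ⧸ maximalIdeal R) (ResidueField G) := e.finrank_eq
  obtain ⟨n, hn⟩ := IsPurelyInseparable.finrank_eq_pow (F := ResidueField R) (ResidueField G) q
  refine ⟨n, ?_⟩
  rw [← h1, h2]
  exact hn

end Groth.Agent.Lib.Helper12.Gonf
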