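import Groth.Agent.Lib.Helper12.GonfI
import Groth.Agent.Lib.Helper12.HenselIntegralLocal

/-!
# A henselian DVR extension with perfect residue field
-/

set_option autoImplicit false
universe u v

namespace Groth.Agent.Lib.Helper12.Gonf

open IsLocalRing MvPolynomial

theorem exists_henselian_dvr_perfectClosure (R : Type u) [CommRing R] [IsDomain R]
    [IsDiscreteValuationRing R] [HenselianLocalRing R] :
    ∃ (R' : Type u) (_ : CommRing R') (_ : IsDomain R') (_ : IsDiscreteValuationRing R')
      (_ : HenselianLocalRing R') (_ : Algebra R R'),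
      Function.Injective (algebraMap R R') ∧
      Ideal.map (algebraMap R R') (maximalIdeal R) = maximalIdeal R' ∧
      (∀ s : Finset R', ∃ S : Subalgebra R R', (↑s : Set R') ⊆ ↑S ∧ Module.Finite R S ∧
        Module.Free R S ∧
        ∃ m : ℕ, Module.finrank R S = ringExpChar (ResidueField R) ^ m) ∧
      (∀ y : R', ∃ z : R', z ^ ringExpChar (ResidueField R) - y ∈ maximalIdeal R') ∧
      (∀ y : R', ∃ (m : ℕ) (z : R),
        algebraMap R R' z - y ^ (ringExpChar (ResidueField R) ^ m) ∈ maximalIdeal R') := by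
  classical
  let Kf : IntermediateField (ResidueField R) (AlgebraicClosure (ResidueField R)) :=
    perfectClosure (ResidueField R) (AlgebraicClosure (ResidueField R))
  letI : Algebra R Kf := ((algebraMap (ResidueField R) Kf).comp (residue R)).toAlgebra
  haveI : IsScalarTower R (ResidueField R) Kf := IsScalarTower.of_algebraMap_eq (fun _ => rfl)
  haveI : Algebra.IsAlgebraic (ResidueField R) Kf := perfectClosure.isAlgebraic _ _
  haveI : IsPurelyInseparable (ResidueField R) Kf := perfectClosure.isPurelyInseparable _ _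
  haveI : ExpChar Kf (ringExpChar (ResidueField R)) :=
    expChar_of_injective_algebraMap (algebraMap (ResidueField R) Kf).injective _
  haveI : PerfectField Kf := perfectClosure.perfectField _ _
  obtain ⟨inst, hwf⟩ := exists_wellFoundedLT (α := Kf)
  letI := inst
  have hθ : Algebra.adjoin (ResidueField R) (Set.range (id : Kf → Kf)) = ⊤ := by
    rw [Set.range_id, Algebra.adjoin_univ]
  have hloc : IsLocalRing (B R (id : Kf → Kf)) := isLocalRing_B R _ hθ
  have hmeq : (maximalIdeal R).map (algebraMap R (B R (id : Kf → Kf))) =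
      maximalIdeal (B R (id : Kf → Kf)) := IsLocalRing.eq_maximalIdeal (isMaximal_map R _ hθ)
  haveI hN : IsNoetherianRing (B R (id : Kf → Kf)) := isNoetherianRing_B R _ hθ
  haveI hflat : Module.Flat R (B R (id : Kf → Kf)) := flat_B R _
  haveI hint : Algebra.IsIntegral R (B R (id : Kf → Kf)) := isIntegral_B R _
  obtain ⟨hdom, hdvr⟩ := isDVR_of_flat_local R (B R (id : Kf → Kf)) hmeq
  have hhens : HenselianLocalRing (B R (id : Kf → Kf)) := henselianLocalRing_of_isIntegral R _
  have hker := ker_Ψbar R (id : Kf → Kf)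
  have hsurj := Ψbar_surjective R (id : Kf → Kf) hθ
  have hmemker : ∀ b : B R (id : Kf → Kf), Ψbar R (id : Kf → Kf) b = 0 →
      b ∈ maximalIdeal (B R (id : Kf → Kf)) := by
    intro b hb
    rw [← hmeq, ← hker]
    exact hb
  refine ⟨B R (id : Kf → Kf), inferInstance, hdom, hdvr, hhens, inferInstance, ?_, hmeq, ?_, ?_, ?_⟩
  · exact TriFlat.algebraMap_injective_of_isTriPos (gonfData R (id : Kf → Kf)).isTriPos
  · -- finite free subalgebras
    intro s
    let D := gonfData R (id : Kf → Kf)
    have hrep : ∀ x : B R (id : Kf → Kf), ∃ q : MvPolynomial Kf R, Ideal.Quotient.mk _ q = x :=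
      fun x => Ideal.Quotient.mk_surjective x
    choose q hq using hrep
    obtain ⟨S, hTS, hS⟩ := D.exists_finite_closed (s.biUnion fun x => (q x).vars)
    haveI hlocD : IsLocalRing D.Quot := hloc
    obtain ⟨hGloc, hγloc, hmG, hmAG⟩ := D.sub_props hmeq (S : Set Kf) hS
    have hfin : Finite (S : Set Kf) := (Finset.finite_toSet S).to_subtype
    haveI : Algebra.IsIntegral R (D.G (S : Set Kf) hS) :=
      TriFlat.isIntegral_of_isTri (D.restrict (S : Set Kf) hS).isTriPos.isTri
    haveI : Module.Finite R (D.G (S : Set Kf) hS) := Algebra.IsIntegral.finite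
    haveI : Module.Flat R (D.G (S : Set Kf) hS) :=
      TriFlat.flat_of_isTri (D.restrict (S : Set Kf) hS).isTriPos.isTri
    haveI : Module.Free R (D.G (S : Set Kf) hS) := Module.free_of_flat_of_isLocalRing
    haveI : IsLocalHom (algebraMap R (D.G (S : Set Kf) hS)) :=
      ((IsLocalRing.local_hom_TFAE (algebraMap R (D.G (S : Set Kf) hS))).out 0 2).mpr hmAG.le
    -- the residue field of `G` embeds into `Kf`
    let ψG : D.G (S : Set Kf) hS →+* Kf :=
      (Ψbar R (id : Kf → Kf) : B R (id : Kf → Kf) →+* Kf).comp (D.γ (S : Set Kf) hS)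
    haveI : IsLocalHom ψG := by
      refine ⟨fun g hg => ?_⟩
      by_contra hng
      have h1 : g ∈ maximalIdeal (D.G (S : Set Kf) hS) := hng
      have h2 : D.γ (S : Set Kf) hS g ∈ maximalIdeal D.Quot := by
        rw [← hmG]
        exact Ideal.mem_map_of_mem _ h1
      have h3 : Ψbar R (id : Kf → Kf) (D.γ (S : Set Kf) hS g) = 0 := by
        have : D.γ (S : Set Kf) hS g ∈ RingHom.ker (Ψbar R (id : Kf → Kf) :
            B R (id : Kf → Kf) →+* Kf) := by
          rw [hker, hmeq]
          exact h2
        exact this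
      exact hg.ne_zero h3
    letI : Algebra (ResidueField (D.G (S : Set Kf) hS)) Kf := (ResidueField.lift ψG).toAlgebra
    haveI : IsScalarTower (ResidueField R) (ResidueField (D.G (S : Set Kf) hS)) Kf := by
      refine IsScalarTower.of_algebraMap_eq (fun x => ?_)
      obtain ⟨r, rfl⟩ := residue_surjective x
      change _ = ResidueField.lift ψG (algebraMap (ResidueField R)
        (ResidueField (D.G (S : Set Kf) hS)) (residue R r))
      rw [ResidueField.algebraMap_residue, ResidueField.lift_residue_apply]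
      change _ = Ψbar R (id : Kf → Kf) (D.γ (S : Set Kf) hS (algebraMap R _ r))
      rw [D.γ_algebraMap]
      exact ((Ψbar R (id : Kf → Kf)).commutes r).symm
    haveI : IsPurelyInseparable (ResidueField R) (ResidueField (D.G (S : Set Kf) hS)) :=
      IsPurelyInseparable.tower_bot (ResidueField R) (ResidueField (D.G (S : Set Kf) hS)) Kf
    obtain ⟨m, hm⟩ := exists_finrank_eq_pow R (D.G (S : Set Kf) hS) hmAG
      (ringExpChar (ResidueField R))
    -- the subalgebra
    let γₐ : D.G (S : Set Kf) hS →ₐ[R] B R (id : Kf → Kf) :=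
      { D.γ (S : Set Kf) hS with commutes' := D.γ_algebraMap (S : Set Kf) hS }
    have hγinj : Function.Injective γₐ := D.γ_injective (S : Set Kf) hS
    let e : D.G (S : Set Kf) hS ≃ₐ[R] γₐ.range := AlgEquiv.ofInjective γₐ hγinj
    refine ⟨γₐ.range, ?_, Module.Finite.equiv e.toLinearEquiv,
      Module.Free.of_equiv e.toLinearEquiv, m, ?_⟩
    · intro x hx
      have hx' : x ∈ s := hx
      obtain ⟨y, hy⟩ := D.exists_γ_eq (S : Set Kf) hS (q x)
        (fun t ht => hTS (Finset.mem_biUnion.mpr ⟨x, hx', ht⟩))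
      exact ⟨y, hy.trans (hq x)⟩
    · rw [← hm]
      exact e.toLinearEquiv.finrank_eq.symm
  · intro y
    obtain ⟨w, hw⟩ := surjective_frobenius Kf (ringExpChar (ResidueField R))
      (Ψbar R (id : Kf → Kf) y)
    obtain ⟨z, rfl⟩ := hsurj w
    refine ⟨z, hmemker _ ?_⟩
    rw [map_sub, map_pow, sub_eq_zero]
    exact hw
  · intro y
    obtain ⟨n, c, hc⟩ := (mem_perfectClosure_iff (F := ResidueField R)).mp
      (Ψbar R (id : Kf → Kf) y).2
    obtain ⟨z, rfl⟩ := residue_surjective c
    refine ⟨n, z, hmemker _ ?_⟩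
    rw [map_sub, map_pow, AlgHom.commutes, sub_eq_zero]
    apply Subtype.ext
    rw [SubmonoidClass.coe_pow]
    rw [← hc]
    rfl

end Groth.Agent.Lib.Helper12.Gonf
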