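import Mathlib

/-!
# Clopen subsets of a scheme and idempotent global sections
-/

set_option autoImplicit false
set_option linter.unusedSectionVars false
set_option linter.style.haveILetI false
universe u

open CategoryTheory AlgebraicGeometry TopologicalSpace Opposite

namespace Groth.Agent.Lib.Helper12.HCoup

variable (Y : Scheme.{u})

/-- A scheme whose ring of global sections is trivial is empty. -/
theorem isEmpty_of_subsingleton (h : Subsingleton Γ(Y, ⊤)) : IsEmpty Y := by
  refine ⟨fun y => ?_⟩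
  have h1 : (1 : Γ(Y, ⊤)) = 0 := Subsingleton.elim _ _
  have h2 := congrArg (Y.presheaf.Γgerm y).hom h1
  rw [map_one, map_zero] at h2
  exact one_ne_zero h2

/-- The family of two opens. -/
def twoOpens (U V : Y.Opens) : Bool → Y.Opens
  | true => U
  | false => V

/-- Every clopen subset of a scheme is the basic open of an idempotent global section. -/
theorem exists_idempotent_basicOpen_eq (U : Y.Opens) (hU : IsClosed (U : Set Y)) :
    ∃ e : Γ(Y, ⊤), IsIdempotentElem e ∧ Y.basicOpen e = U := by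
  let V : Y.Opens := ⟨(U : Set Y)ᶜ, hU.isOpen_compl⟩
  have hUV : U ⊓ V = ⊥ := by
    ext x
    simp [V]
  have hcover : (⊤ : Y.Opens) ≤ ⨆ b, twoOpens Y U V b := by
    intro x _
    rw [Opens.mem_iSup]
    by_cases hx : x ∈ U
    · exact ⟨true, hx⟩
    · exact ⟨false, hx⟩
  let sf : ∀ b : Bool, Γ(Y, twoOpens Y U V b) := fun b =>
    match b with
    | true => (1 : Γ(Y, U))
    | false => (0 : Γ(Y, V))
  have hsub : ∀ b b' : Bool, b ≠ b' →
      Subsingleton Γ(Y, twoOpens Y U V b ⊓ twoOpens Y U V b') := by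
    intro b b' hbb'
    have hbot : twoOpens Y U V b ⊓ twoOpens Y U V b' = ⊥ := by
      cases b <;> cases b'
      · exact absurd rfl hbb'
      · show V ⊓ U = ⊥
        rw [inf_comm]; exact hUV
      · exact hUV
      · exact absurd rfl hbb'
    rw [hbot]
    infer_instance
  have hcompat : TopCat.Presheaf.IsCompatible Y.presheaf (twoOpens Y U V) sf := by
    intro b b'
    by_cases hbb' : b = b'
    · subst hbb'
      rfl
    · haveI := hsub b b' hbb'
      exact Subsingleton.elim _ _
  have hglue : ∃ e : Γ(Y, ⊤), (Y.presheaf.map (homOfLE (le_top : U ≤ ⊤)).op).hom e = 1 ∧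
      (Y.presheaf.map (homOfLE (le_top : V ≤ ⊤)).op).hom e = 0 := by
    obtain ⟨e, he, -⟩ := Y.sheaf.existsUnique_gluing' (twoOpens Y U V) ⊤
      (fun b => homOfLE le_top) hcover sf hcompat
    exact ⟨e, he true, he false⟩
  obtain ⟨e, heU, heV⟩ := hglue
  refine ⟨e, ?_, ?_⟩
  · refine Y.sheaf.eq_of_locally_eq' (twoOpens Y U V) ⊤ (fun b => homOfLE le_top) hcover
      (e * e) e ?_
    intro b
    cases b
    · show (Y.presheaf.map (homOfLE (le_top : V ≤ ⊤)).op).hom (e * e) =
        (Y.presheaf.map (homOfLE (le_top : V ≤ ⊤)).op).hom e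
      rw [map_mul, heV, mul_zero]
    · show (Y.presheaf.map (homOfLE (le_top : U ≤ ⊤)).op).hom (e * e) =
        (Y.presheaf.map (homOfLE (le_top : U ≤ ⊤)).op).hom e
      rw [map_mul, heU, mul_one]
  · have h1 : U ⊓ Y.basicOpen e = U := by
      rw [← Y.basicOpen_res e (homOfLE (le_top : U ≤ ⊤)).op, heU, Y.basicOpen_one]
    have h2 : V ⊓ Y.basicOpen e = ⊥ := by
      rw [← Y.basicOpen_res e (homOfLE (le_top : V ≤ ⊤)).op, heV, Y.basicOpen_zero]
    apply le_antisymm
    · intro x hx
      by_contra hxU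
      have : x ∈ V ⊓ Y.basicOpen e := ⟨hxU, hx⟩
      rw [h2] at this
      exact this
    · rw [← h1]
      exact inf_le_right

/-- The basic open of an idempotent is closed. -/
theorem isClosed_basicOpen_of_isIdempotentElem (e : Γ(Y, ⊤)) (he : IsIdempotentElem e) :
    IsClosed (Y.basicOpen e : Set Y) := by
  have h1 : Y.basicOpen e ⊓ Y.basicOpen (1 - e) = ⊥ := by
    rw [← Y.basicOpen_mul, mul_sub, mul_one, he.eq, sub_self, Y.basicOpen_zero]
  have h2 : (⊤ : Y.Opens) ≤ Y.basicOpen e ⊔ Y.basicOpen (1 - e) := by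
    intro x _
    by_contra hx
    have hx1 : x ∉ Y.basicOpen e := fun h => hx (Or.inl h)
    have hx2 : x ∉ Y.basicOpen (1 - e) := fun h => hx (Or.inr h)
    rw [Y.mem_basicOpen_top] at hx1 hx2
    have h3 : Y.presheaf.Γgerm x e ∈ IsLocalRing.maximalIdeal _ := hx1
    have h4 : Y.presheaf.Γgerm x (1 - e) ∈ IsLocalRing.maximalIdeal _ := hx2
    have h5 := add_mem h3 h4
    rw [← map_add, add_sub_cancel, map_one] at h5
    exact (Ideal.ne_top_iff_one _).mp (IsLocalRing.maximalIdeal.isMaximal _).ne_top h5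
  have h3 : (Y.basicOpen e : Set Y) = (Y.basicOpen (1 - e) : Set Y)ᶜ := by
    ext x
    constructor
    · intro hx hx'
      have : x ∈ Y.basicOpen e ⊓ Y.basicOpen (1 - e) := ⟨hx, hx'⟩
      rw [h1] at this
      exact this
    · intro hx
      rcases h2 (show x ∈ (⊤ : Y.Opens) from trivial) with h | h
      · exact h
      · exact absurd h hx
  rw [h3]
  exact (Y.basicOpen (1 - e)).isOpen.isClosed_compl

/-- On a quasi-compact scheme an idempotent is determined by its basic open. -/
theorem idempotent_eq_of_basicOpen_eq [CompactSpace Y] (e e' : Γ(Y, ⊤))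
    (he : IsIdempotentElem e) (he' : IsIdempotentElem e')
    (h : Y.basicOpen e = Y.basicOpen e') : e = e' := by
  have key : ∀ a b : Γ(Y, ⊤), IsIdempotentElem a → IsIdempotentElem b →
      Y.basicOpen a = Y.basicOpen b → a * (1 - b) = 0 := by
    intro a b ha hb hab
    have hidem : IsIdempotentElem (a * (1 - b)) := ha.mul hb.one_sub
    have hbot : Y.basicOpen (a * (1 - b)) = ⊥ := by
      rw [Y.basicOpen_mul, hab, ← Y.basicOpen_mul, mul_sub, mul_one, hb.eq, sub_self,
        Y.basicOpen_zero]
    have hnil : IsNilpotent (a * (1 - b)) := (Scheme.isNilpotent_iff_basicOpen_eq_bot _).mpr hbot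
    obtain ⟨n, hn⟩ := hnil
    rcases Nat.eq_zero_or_pos n with hn0 | hn0
    · subst hn0
      rw [pow_zero] at hn
      have : Subsingleton Γ(Y, ⊤) := subsingleton_of_zero_eq_one hn.symm
      exact Subsingleton.elim _ _
    · rw [hidem.pow_eq hn0.ne'] at hn
      exact hn
  have h1 := key e e' he he' h
  have h2 := key e' e he' he h.symm
  rw [mul_sub, mul_one, sub_eq_zero] at h1 h2
  calc e = e * e' := h1
    _ = e' * e := mul_comm _ _
    _ = e' := h2.symm

end Groth.Agent.Lib.Helper12.HCoup
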