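import Mathlib
import Groth.Agent.Lib.Helper12.HCoupA

/-!
# Henselian couples: the kernel ideal is contained in the Jacobson radical
-/

set_option autoImplicit false
set_option linter.unusedSectionVars false
set_option linter.style.haveILetI false
universe u

open CategoryTheory CategoryTheory.Limits AlgebraicGeometry TopologicalSpace Opposite

namespace Groth.Agent.Lib.Helper12.HCoup

variable {X X₀ : Scheme.{u}} (i : X₀ ⟶ X)

/-- The range of `Spec (A/I) ⟶ Spec A`. -/
theorem range_SpecMap_quotient (A : Type u) [CommRing A] (I : Ideal A) :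
    Set.range (Spec.map (CommRingCat.ofHom (Ideal.Quotient.mk I))) =
      (PrimeSpectrum.zeroLocus (I : Set A) : Set (PrimeSpectrum A)) := by
  have := _root_.range_comap_of_surjective _ (Ideal.Quotient.mk I)
    Ideal.Quotient.mk_surjective
  rw [Ideal.mk_ker] at this
  exact this

/-- A global section whose basic open is everything is a unit. -/
theorem isUnit_of_basicOpen_eq_top (Y : Scheme.{u}) (s : Γ(Y, ⊤)) (h : Y.basicOpen s = ⊤) :
    IsUnit s := by
  apply Y.toRingedSpace.isUnit_of_isUnit_germ ⊤ s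
  intro x hx
  have hx' : x ∈ Y.basicOpen s := by rw [h]; trivial
  exact (Y.mem_basicOpen_top s x).mp hx'

/-- The section `s` vanishes on the pullback of `Spec (B/s)`. -/
theorem fst_appTop_eq_zero (s : Γ(X, ⊤)) :
    (pullback.fst X.toSpecΓ
      (Spec.map (CommRingCat.ofHom (Ideal.Quotient.mk (Ideal.span {s}))))).appTop.hom s = 0 := by
  set f := Spec.map (CommRingCat.ofHom (Ideal.Quotient.mk (Ideal.span {s}))) with hf
  have h1 : s = X.toSpecΓ.appTop.hom ((Scheme.ΓSpecIso Γ(X, ⊤)).inv.hom s) := by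
    rw [Scheme.toSpecΓ_appTop]
    exact (Iso.inv_hom_id_apply (C := CommRingCat) _ _).symm
  have h2 : (pullback.fst X.toSpecΓ f).appTop.hom (X.toSpecΓ.appTop.hom
      ((Scheme.ΓSpecIso Γ(X, ⊤)).inv.hom s)) =
      (pullback.snd X.toSpecΓ f).appTop.hom (f.appTop.hom
        ((Scheme.ΓSpecIso Γ(X, ⊤)).inv.hom s)) := by
    have := congrArg (fun φ => φ.appTop.hom ((Scheme.ΓSpecIso Γ(X, ⊤)).inv.hom s))
      (pullback.condition (f := X.toSpecΓ) (g := f))
    simpa [Scheme.Hom.comp_appTop] using this
  have h3 : f.appTop.hom ((Scheme.ΓSpecIso Γ(X, ⊤)).inv.hom s) = 0 := by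
    have := congrArg (fun φ => φ.hom s) (Scheme.ΓSpecIso_inv_naturality
      (CommRingCat.ofHom (Ideal.Quotient.mk (Ideal.span {s}))))
    simp only [CommRingCat.hom_comp, RingHom.coe_comp, Function.comp_apply,
      CommRingCat.hom_ofHom] at this
    rw [hf]
    refine Eq.trans this.symm ?_
    have h4 : Ideal.Quotient.mk (Ideal.span {s}) s = 0 :=
      Ideal.Quotient.eq_zero_iff_mem.mpr (Ideal.subset_span rfl)
    rw [h4, map_zero]
  have h0 : (pullback.fst X.toSpecΓ f).appTop.hom s =
      (pullback.fst X.toSpecΓ f).appTop.hom (X.toSpecΓ.appTop.hom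
        ((Scheme.ΓSpecIso Γ(X, ⊤)).inv.hom s)) := congrArg _ h1
  rw [h0, h2, h3, map_zero]

/-- If clopen subsets of `Y` are determined by their preimage in `Y ×_X X₀` for all finite
`Y ⟶ X`, then `1 + b` is a unit for every `b` in the kernel of `Γ(X) → Γ(X₀)`. -/
theorem isUnit_one_add_of_unique
    (hX : ∀ (Y : Scheme.{u}) (g : Y ⟶ X), IsFinite g →
      ∀ U U' : Set ↥Y, IsClopen U → IsClopen U' →
        (pullback.fst g i).base ⁻¹' U = (pullback.fst g i).base ⁻¹' U' → U = U')
    (b : Γ(X, ⊤)) (hb : i.appTop.hom b = 0) : IsUnit (1 + b) := by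
  set s : Γ(X, ⊤) := 1 + b with hs
  set f := Spec.map (CommRingCat.ofHom (Ideal.Quotient.mk (Ideal.span {s}))) with hf
  haveI : IsClosedImmersion f :=
    IsClosedImmersion.spec_of_surjective _ Ideal.Quotient.mk_surjective
  set g := pullback.fst X.toSpecΓ f with hg
  have hgs : g.appTop.hom s = 0 := fst_appTop_eq_zero s
  -- the pullback `Y ×_X X₀` is empty
  have hW : IsEmpty ↥(pullback g i) := by
    apply isEmpty_of_subsingleton
    have h1 : (pullback.fst g i).appTop.hom (g.appTop.hom s) =
        (pullback.snd g i).appTop.hom (i.appTop.hom s) := by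
      have := congrArg (fun φ => φ.appTop.hom s) (pullback.condition (f := g) (g := i))
      simpa [Scheme.Hom.comp_appTop] using this
    have h2 : i.appTop.hom s = 1 := by
      rw [hs, map_add, map_one, hb, add_zero]
    rw [hgs, h2, map_zero, map_one] at h1
    exact subsingleton_of_zero_eq_one h1
  -- hence `Y` is empty
  have hY : IsEmpty ↥(pullback X.toSpecΓ f) := by
    have h := hX _ g inferInstance ∅ Set.univ isClopen_empty isClopen_univ
      (Set.eq_of_subset_of_subset (fun x _ => (hW.false x).elim) (fun x _ => (hW.false x).elim))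
    refine ⟨fun y => ?_⟩
    have : y ∈ (∅ : Set ↥(pullback X.toSpecΓ f)) := by rw [h]; trivial
    exact this
  -- hence the basic open of `s` is everything
  apply isUnit_of_basicOpen_eq_top
  rw [← Scheme.toSpecΓ_preimage_basicOpen]
  ext x
  simp only [Opens.coe_top, Set.mem_univ, iff_true]
  show X.toSpecΓ x ∈ (PrimeSpectrum.basicOpen s : Set (PrimeSpectrum Γ(X, ⊤)))
  by_contra hx
  have hx' : X.toSpecΓ x ∈ Set.range f := by
    rw [hf, range_SpecMap_quotient]
    have hx2 : ¬ (s ∉ (X.toSpecΓ x).asIdeal) := hx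
    have key : ∀ P : PrimeSpectrum Γ(X, ⊤), s ∈ P.asIdeal →
        P ∈ PrimeSpectrum.zeroLocus ((Ideal.span {s} : Ideal Γ(X, ⊤)) : Set Γ(X, ⊤)) := by
      intro P hP
      rw [PrimeSpectrum.mem_zeroLocus]
      intro a ha
      obtain ⟨c, rfl⟩ := Ideal.mem_span_singleton'.mp ha
      exact Ideal.mul_mem_left _ _ hP
    exact key _ (not_not.mp hx2)
  have hx'' : x ∈ Set.range (pullback.fst X.toSpecΓ f) := by
    rw [AlgebraicGeometry.Scheme.Pullback.range_fst]
    exact hx'
  obtain ⟨y, -⟩ := hx''
  exact hY.false y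

end Groth.Agent.Lib.Helper12.HCoup
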