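import Mathlib
import Groth.Agent.Lib.Helper12.HCoupA
import Groth.Agent.Lib.Helper12.HCoupD
import Groth.Agent.Lib.Helper4.AffineDescent

/-!
# Henselian couples: finite flat algebras over the ring of global sections
-/

set_option autoImplicit false
set_option linter.unusedSectionVars false
set_option linter.style.haveILetI false
universe u

open CategoryTheory CategoryTheory.Limits AlgebraicGeometry TopologicalSpace Opposite

namespace Groth.Agent.Lib.Helper12.HCoup

/-- `Spec C ⟶ Spec Γ(X)` for a `Γ(X)`-algebra `C`. -/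
noncomputable abbrev fC (X : Scheme.{u}) (C : Type u) [CommRing C] [Algebra Γ(X, ⊤) C] :
    Spec (CommRingCat.of C) ⟶ Spec Γ(X, ⊤) :=
  Spec.map (CommRingCat.ofHom (algebraMap Γ(X, ⊤) C))

/-- The base change `X ×_{Spec Γ(X)} Spec C ⟶ X`. -/
noncomputable abbrev gC (X : Scheme.{u}) (C : Type u) [CommRing C] [Algebra Γ(X, ⊤) C] :
    pullback X.toSpecΓ (fC X C) ⟶ X :=
  pullback.fst _ _

/-- The projection `X ×_{Spec Γ(X)} Spec C ⟶ Spec C`. -/
noncomputable abbrev sC (X : Scheme.{u}) (C : Type u) [CommRing C] [Algebra Γ(X, ⊤) C] :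
    pullback X.toSpecΓ (fC X C) ⟶ Spec (CommRingCat.of C) :=
  pullback.snd _ _

variable {X X₀ : Scheme.{u}} (i : X₀ ⟶ X)
variable (C : Type u) [CommRing C] [Algebra Γ(X, ⊤) C]

theorem flat_fC [Module.Flat Γ(X, ⊤) C] : Flat (fC X C) := by
  rw [Flat.SpecMap_iff]
  exact RingHom.flat_algebraMap_iff.mpr inferInstance

theorem isFinite_fC [Module.Finite Γ(X, ⊤) C] : IsFinite (fC X C) := by
  rw [IsFinite.SpecMap_iff]
  exact RingHom.finite_algebraMap.mpr inferInstance

theorem isIso_sC_appTop [Module.Flat Γ(X, ⊤) C] [CompactSpace X] [QuasiSeparatedSpace X] :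
    IsIso (sC X C).appTop := by
  haveI := flat_fC (X := X) C
  have H : IsPullback (gC X C) (sC X C) X.toSpecΓ (fC X C) := IsPullback.of_hasPullback _ _
  have h1 := Groth.Agent.Lib.Helper4.AffineDescent.isPushout_appTop H
  haveI : IsIso X.toSpecΓ.appTop := by
    rw [Scheme.toSpecΓ_appTop]
    infer_instance
  exact h1.isIso_inr_of_isIso

theorem compactSpace_of_isClosedImmersion [IsClosedImmersion i] [CompactSpace X] :
    CompactSpace X₀ :=
  QuasiCompact.compactSpace_of_compactSpace i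

theorem quasiSeparatedSpace_of_isClosedImmersion [IsClosedImmersion i] [QuasiSeparatedSpace X] :
    QuasiSeparatedSpace X₀ :=
  quasiSeparatedSpace_of_quasiSeparated i

/-- The kernel of `C → Γ(Y ×_X X₀)` is `J C`. -/
theorem mem_map_ker_of_appTop_eq_zero [Module.Flat Γ(X, ⊤) C] [CompactSpace X]
    [QuasiSeparatedSpace X] [IsClosedImmersion i] (c : C)
    (hc : (pullback.fst (gC X C) i).appTop.hom ((sC X C).appTop.hom
      ((Scheme.ΓSpecIso (CommRingCat.of C)).inv.hom c)) = 0) :
    c ∈ (RingHom.ker i.appTop.hom).map (algebraMap Γ(X, ⊤) C) := by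
  haveI := flat_fC (X := X) C
  haveI := compactSpace_of_isClosedImmersion i
  haveI := quasiSeparatedSpace_of_isClosedImmersion i
  have H : IsPullback (sC X C) (gC X C) (fC X C) X.toSpecΓ :=
    (IsPullback.of_hasPullback _ _).flip
  have H₀ : IsPullback (pullback.fst (gC X C) i) (pullback.snd (gC X C) i) (gC X C) i :=
    IsPullback.of_hasPullback _ _
  have H₁ := (H₀.paste_horiz H).flip
  have h1 := Groth.Agent.Lib.Helper4.AffineDescent.isPushout_appTop H₁
  have hflat : (fC X C).appTop.hom.Flat := Scheme.Hom.flat_appTop (fC X C)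
  have h2 := ker_le_map_of_isPushout_commRingCat _ _ _ _ h1 hflat
  set c' := (Scheme.ΓSpecIso (CommRingCat.of C)).inv.hom c with hc'
  have h3 : c' ∈ RingHom.ker (pullback.fst (gC X C) i ≫ sC X C).appTop.hom := by
    rw [RingHom.mem_ker, Scheme.Hom.comp_appTop]
    exact hc
  have h4 := h2 h3
  have h5 : c = (Scheme.ΓSpecIso (CommRingCat.of C)).hom.hom c' :=
    (Iso.inv_hom_id_apply (C := CommRingCat) (Scheme.ΓSpecIso (CommRingCat.of C)) c).symm
  rw [h5]
  have h6 := Ideal.mem_map_of_mem (Scheme.ΓSpecIso (CommRingCat.of C)).hom.hom h4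
  rw [Ideal.map_map] at h6
  have h7 : (Scheme.ΓSpecIso (CommRingCat.of C)).hom.hom.comp (fC X C).appTop.hom =
      (algebraMap Γ(X, ⊤) C).comp (Scheme.ΓSpecIso Γ(X, ⊤)).hom.hom := by
    have := congrArg CommRingCat.Hom.hom (Scheme.ΓSpecIso_naturality
      (CommRingCat.ofHom (algebraMap Γ(X, ⊤) C)))
    exact this
  rw [h7, ← Ideal.map_map] at h6
  refine Ideal.map_mono ?_ h6
  rw [Ideal.map_le_iff_le_comap]
  intro x hx
  rw [RingHom.mem_ker, Scheme.Hom.comp_appTop, Scheme.toSpecΓ_appTop] at hx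
  exact hx

end Groth.Agent.Lib.Helper12.HCoup
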