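import Mathlib
import Groth.Agent.Lib.Helper12.HCoupE

/-!
# Henselian couples: lifting idempotents in finite flat algebras
-/

set_option autoImplicit false
set_option linter.unusedSectionVars false
set_option linter.style.haveILetI false
universe u

open CategoryTheory CategoryTheory.Limits AlgebraicGeometry TopologicalSpace Opposite

namespace Groth.Agent.Lib.Helper12.HCoup

variable {X X₀ : Scheme.{u}} (i : X₀ ⟶ X)
variable (C : Type u) [CommRing C] [Algebra Γ(X, ⊤) C]

/-- The iso `C ≅ Γ(Y, ⊤)` as a morphism. -/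
noncomputable abbrev phiC (X : Scheme.{u}) (C : Type u) [CommRing C] [Algebra Γ(X, ⊤) C] :
    CommRingCat.of C ⟶ Γ(pullback X.toSpecΓ (fC X C), ⊤) :=
  (Scheme.ΓSpecIso (CommRingCat.of C)).inv ≫ (sC X C).appTop

theorem phiC_algebraMap (b : Γ(X, ⊤)) :
    (phiC X C).hom (algebraMap Γ(X, ⊤) C b) = (gC X C).appTop.hom b := by
  have h1 : b = X.toSpecΓ.appTop.hom ((Scheme.ΓSpecIso Γ(X, ⊤)).inv.hom b) := by
    rw [Scheme.toSpecΓ_appTop]
    exact (Iso.inv_hom_id_apply (C := CommRingCat) (Scheme.ΓSpecIso Γ(X, ⊤)) b).symm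
  have h2 : (gC X C).appTop.hom (X.toSpecΓ.appTop.hom
      ((Scheme.ΓSpecIso Γ(X, ⊤)).inv.hom b)) =
      (sC X C).appTop.hom ((fC X C).appTop.hom
        ((Scheme.ΓSpecIso Γ(X, ⊤)).inv.hom b)) := by
    have := congrArg (fun φ => φ.appTop.hom ((Scheme.ΓSpecIso Γ(X, ⊤)).inv.hom b))
      (pullback.condition (f := X.toSpecΓ) (g := fC X C))
    simpa [Scheme.Hom.comp_appTop] using this
  have h3 : (fC X C).appTop.hom ((Scheme.ΓSpecIso Γ(X, ⊤)).inv.hom b) =
      (Scheme.ΓSpecIso (CommRingCat.of C)).inv.hom (algebraMap Γ(X, ⊤) C b) := by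
    have := congrArg (fun φ => φ.hom b) (Scheme.ΓSpecIso_inv_naturality
      (CommRingCat.ofHom (algebraMap Γ(X, ⊤) C)))
    simp only [CommRingCat.hom_comp, RingHom.coe_comp, Function.comp_apply,
      CommRingCat.hom_ofHom] at this
    exact this.symm
  have h0 : (gC X C).appTop.hom b = (gC X C).appTop.hom (X.toSpecΓ.appTop.hom
      ((Scheme.ΓSpecIso Γ(X, ⊤)).inv.hom b)) := congrArg _ h1
  rw [h0, h2, h3]
  rfl

theorem bijective_phiC [Module.Flat Γ(X, ⊤) C] [CompactSpace X] [QuasiSeparatedSpace X] :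
    Function.Bijective (phiC X C).hom := by
  haveI := isIso_sC_appTop (X := X) C
  exact ConcreteCategory.bijective_of_isIso (phiC X C)

/-- Idempotents of `C / J C` lift to `C` when clopens lift. -/
theorem exists_idempotent_lift [Module.Finite Γ(X, ⊤) C] [Module.Flat Γ(X, ⊤) C]
    [CompactSpace X] [QuasiSeparatedSpace X] [IsClosedImmersion i]
    (hX : ∀ (Y : Scheme.{u}) (g : Y ⟶ X), IsFinite g →
      ∀ V : Set ↥(pullback g i), IsClopen V →
        ∃ U : Set ↥Y, IsClopen U ∧ (pullback.fst g i).base ⁻¹' U = V)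
    (c₀ : C) (hc₀ : c₀ * c₀ - c₀ ∈ (RingHom.ker i.appTop.hom).map (algebraMap Γ(X, ⊤) C)) :
    ∃ e : C, IsIdempotentElem e ∧
      e - c₀ ∈ (RingHom.ker i.appTop.hom).map (algebraMap Γ(X, ⊤) C) := by
  haveI := isFinite_fC (X := X) C
  haveI := compactSpace_of_isClosedImmersion i
  haveI : CompactSpace ↥(pullback (gC X C) i) :=
    QuasiCompact.compactSpace_of_compactSpace (pullback.snd (gC X C) i)
  obtain ⟨hinj, hsurj⟩ := bijective_phiC (X := X) C
  set φ := (phiC X C).hom with hφ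
  set F := (pullback.fst (gC X C) i).appTop.hom with hF
  -- `ψ` kills `J C`
  have hψJ : ∀ c ∈ (RingHom.ker i.appTop.hom).map (algebraMap Γ(X, ⊤) C), F (φ c) = 0 := by
    intro c hc
    have hle : (RingHom.ker i.appTop.hom).map (algebraMap Γ(X, ⊤) C) ≤
        RingHom.ker (F.comp φ) := by
      rw [Ideal.map_le_iff_le_comap]
      intro b hb
      rw [Ideal.mem_comap, RingHom.mem_ker, RingHom.comp_apply, hφ, phiC_algebraMap]
      have := congrArg (fun ρ => ρ.appTop.hom b) (pullback.condition (f := gC X C) (g := i))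
      simp only [Scheme.Hom.comp_appTop, CommRingCat.hom_comp, RingHom.coe_comp,
        Function.comp_apply] at this
      rw [hF, this, (RingHom.mem_ker).mp hb, map_zero]
    exact hle hc
  -- the idempotent of `Γ(Y₀)`
  have hε₀ : IsIdempotentElem (F (φ c₀)) := by
    have := hψJ _ hc₀
    rw [map_sub, map_sub, map_mul, map_mul, sub_eq_zero] at this
    exact this
  have hV : IsClopen ((pullback (gC X C) i).basicOpen (F (φ c₀)) : Set ↥(pullback (gC X C) i)) :=
    ⟨isClosed_basicOpen_of_isIdempotentElem _ _ hε₀, ((pullback (gC X C) i).basicOpen _).isOpen⟩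
  obtain ⟨U, hU, hUV⟩ := hX _ (gC X C) inferInstance _ hV
  obtain ⟨ε, hε, hεU⟩ := exists_idempotent_basicOpen_eq _ ⟨U, hU.isOpen⟩ hU.isClosed
  obtain ⟨e, he⟩ := hsurj ε
  have hee : IsIdempotentElem e := by
    apply hinj
    rw [map_mul, he, hε.eq]
  refine ⟨e, hee, ?_⟩
  have hε' : IsIdempotentElem (F (φ e)) := hee.map (F.comp φ)
  have hbo : (pullback (gC X C) i).basicOpen (F (φ e)) =
      (pullback (gC X C) i).basicOpen (F (φ c₀)) := by
    rw [he, hF]
    have h1 := Scheme.preimage_basicOpen_top (pullback.fst (gC X C) i) ε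
    rw [← h1, hεU]
    ext x
    have := congrArg (fun S => x ∈ S) hUV
    exact Iff.of_eq this
  have heq := idempotent_eq_of_basicOpen_eq _ _ _ hε' hε₀ hbo
  apply mem_map_ker_of_appTop_eq_zero i C
  have : F (φ (e - c₀)) = 0 := by
    rw [map_sub, map_sub, heq, sub_self]
  exact this

end Groth.Agent.Lib.Helper12.HCoup
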