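import Mathlib
import Groth.Agent.Lib.lead.HensClopenA

/-!
# Finite schemes over a henselian pair are henselian couples (no Noetherian hypothesis)
-/

set_option autoImplicit false
set_option linter.unusedSectionVars false
set_option linter.style.haveILetI false
universe u

open CategoryTheory CategoryTheory.Limits AlgebraicGeometry TopologicalSpace Opposite PrimeSpectrum

namespace Groth.Agent.Lib.Helper12.HCoup

/-- From traces on a closed subset to preimages under a closed embedding onto it.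
(Copied from the lead's `HensClopenC` to avoid its heavy imports.) -/
theorem existsUnique_of_isClosedEmbedding' {Y' Y : Type*} [TopologicalSpace Y']
    [TopologicalSpace Y] (j : Y' → Y) (hj : Topology.IsClosedEmbedding j) (Z : Set Y)
    (hZ : Set.range j = Z)
    (H : ∀ V' : Set Y, V' ⊆ Z → IsClosed V' → IsClosed (Z \ V') →
      ∃! U : Set Y, IsClopen U ∧ U ∩ Z = V')
    (V : Set Y') (hV : IsClopen V) : ∃! U : Set Y, IsClopen U ∧ j ⁻¹' U = V := by
  have hsub : j '' V ⊆ Z := by rw [← hZ]; exact Set.image_subset_range j V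
  have hcompl : Z \ j '' V = j '' Vᶜ := by
    rw [← hZ, ← Set.image_univ, ← Set.image_sdiff hj.injective, Set.compl_eq_univ_sdiff]
  obtain ⟨U, ⟨hU, hUZ⟩, huniq⟩ := H (j '' V) hsub (hj.isClosedMap _ hV.1)
    (by rw [hcompl]; exact hj.isClosedMap _ hV.2.isClosed_compl)
  have hpre : ∀ U' : Set Y, j ⁻¹' U' = j ⁻¹' (U' ∩ Z) := by
    intro U'
    ext y
    simp only [Set.mem_preimage, Set.mem_inter_iff, iff_self_and]
    intro _
    rw [← hZ]
    exact Set.mem_range_self y
  refine ⟨U, ⟨hU, ?_⟩, ?_⟩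
  · rw [hpre, hUZ, Set.preimage_image_eq _ hj.injective]
  · rintro U₂ ⟨hU₂, h₂⟩
    apply huniq U₂ ⟨hU₂, ?_⟩
    rw [← hZ, Set.inter_comm, ← Set.image_preimage_eq_range_inter, h₂]

open Groth.Agent.Lib.lead.HensClopen in
/-- Finite schemes over a henselian pair: clopen subsets of the closed fibre lift uniquely. -/
theorem finite_main (R : Type u) [CommRing R] (K : Ideal R) [HenselianRing R K]
    {Y : Scheme.{u}} (h : Y ⟶ Spec (CommRingCat.of R)) [IsFinite h]
    (V' : Set Y) (hV'Z : V' ⊆ h ⁻¹' (zeroLocus (K : Set R)))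
    (hV' : IsClosed V') (hV'' : IsClosed (h ⁻¹' (zeroLocus (K : Set R)) \ V')) :
    ∃! U : Set Y, IsClopen U ∧ U ∩ h ⁻¹' (zeroLocus (K : Set R)) = V' := by
  let ψ : CommRingCat.of R ⟶ Γ(Y, ⊤) := (Scheme.ΓSpecIso (CommRingCat.of R)).inv ≫ h.appTop
  haveI hYaff : IsAffine Y := isAffine_of_isAffineHom h
  have hfin : h.appTop.hom.Finite :=
    ((HasAffineProperty.iff_of_isAffine (P := @IsFinite)).mp (inferInstance : IsFinite h)).2
  have hψfin : ψ.hom.Finite := by
    have : ψ.hom = h.appTop.hom.comp (Scheme.ΓSpecIso (CommRingCat.of R)).inv.hom := rfl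
    rw [this]
    refine RingHom.Finite.comp hfin (RingHom.Finite.of_surjective _ ?_)
    exact (ConcreteCategory.bijective_of_isIso (Scheme.ΓSpecIso (CommRingCat.of R)).inv).2
  letI : Algebra R Γ(Y, ⊤) := ψ.hom.toAlgebra
  haveI : Module.Finite R Γ(Y, ⊤) := hψfin
  have hfac : Y.toSpecΓ ≫ Spec.map ψ = h := by
    rw [Spec.map_comp, ← Category.assoc, ← Scheme.toSpecΓ_naturality, Category.assoc,
      toSpecΓ_SpecMap_ΓSpecIso_inv, Category.comp_id]
  haveI : IsIso Y.toSpecΓ := IsAffine.affine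
  have hinj : Function.Injective Y.toSpecΓ := Y.toSpecΓ.isOpenEmbedding.injective
  have hsurj : Function.Surjective Y.toSpecΓ := Y.toSpecΓ.surjective
  have hcl : IsClosedMap Y.toSpecΓ := Y.toSpecΓ.isClosedMap
  set KB : Ideal Γ(Y, ⊤) := K.map (algebraMap R Γ(Y, ⊤)) with hKB
  have hZ : h ⁻¹' (zeroLocus (K : Set R)) = Y.toSpecΓ ⁻¹' (zeroLocus (KB : Set Γ(Y, ⊤))) := by
    have h1 : (Spec.map ψ) ⁻¹' (zeroLocus (K : Set R)) = zeroLocus (KB : Set Γ(Y, ⊤)) := by
      have : (zeroLocus (KB : Set Γ(Y, ⊤)) : Set (PrimeSpectrum Γ(Y, ⊤))) =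
          zeroLocus (ψ.hom '' (K : Set R)) := by
        rw [hKB, Ideal.map, zeroLocus_span]; rfl
      rw [this, ← PrimeSpectrum.preimage_comap_zeroLocus]
      rfl
    rw [← h1, ← hfac]
    rfl
  refine existsUnique_of_exists_of_unique ?_ ?_
  · rw [hZ] at hV'Z hV'' ⊢
    exact exists_isClopen_inter_eq (fun y => Y.toSpecΓ y) Y.toSpecΓ.continuous hcl hsurj
      (fun p => (Set.Subsingleton.isPreconnected
        (Set.subsingleton_singleton.preimage hinj)))
      (zeroLocus (KB : Set Γ(Y, ⊤)))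
      (fun W₀ hW₀ h1 h2 => exists_isClopen_inter_zeroLocus K Γ(Y, ⊤) W₀ hW₀ h1 h2)
      V' hV'Z hV' hV''
  · rintro U₁ U₂ ⟨hU₁, h₁⟩ ⟨hU₂, h₂⟩
    exact eq_of_inter_eq K HenselianRing.jac (fun y => h y) h.isClosedMap U₁ U₂ hU₁ hU₂
      (h₁.trans h₂.symm)

/-- The range of `Spec (A/I) ⟶ Spec A`. -/
theorem range_SpecMap_quotient' (A : Type u) [CommRing A] (I : Ideal A) :
    Set.range (Spec.map (CommRingCat.ofHom (Ideal.Quotient.mk I))) =
      (zeroLocus (I : Set A) : Set (PrimeSpectrum A)) := by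
  have := range_comap_of_surjective _ (Ideal.Quotient.mk I) Ideal.Quotient.mk_surjective
  rw [Ideal.mk_ker] at this
  exact this

/-- `(Spec A, Spec A/I)` is a henselian couple when `(A, I)` is a henselian pair. -/
theorem couple_spec (A : Type u) [CommRing A] (I : Ideal A) [HenselianRing A I]
    (Y : Scheme.{u}) (g : Y ⟶ Spec (CommRingCat.of A)) [IsFinite g]
    (V : Set ↥(pullback g (Spec.map (CommRingCat.ofHom (Ideal.Quotient.mk I)))))
    (hV : IsClopen V) :
    ∃! U : Set ↥Y, IsClopen U ∧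
      (pullback.fst g (Spec.map (CommRingCat.ofHom (Ideal.Quotient.mk I)))).base ⁻¹' U = V := by
  haveI : IsClosedImmersion (Spec.map (CommRingCat.ofHom (Ideal.Quotient.mk I))) :=
    IsClosedImmersion.spec_of_surjective _ Ideal.Quotient.mk_surjective
  have hrange : Set.range (pullback.fst g
      (Spec.map (CommRingCat.ofHom (Ideal.Quotient.mk I)))) =
      g ⁻¹' (zeroLocus (I : Set A)) := by
    rw [Scheme.Pullback.range_fst, range_SpecMap_quotient']
  exact existsUnique_of_isClosedEmbedding'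
    (fun y => (pullback.fst g (Spec.map (CommRingCat.ofHom (Ideal.Quotient.mk I)))) y)
    (pullback.fst g (Spec.map (CommRingCat.ofHom (Ideal.Quotient.mk I)))).isClosedEmbedding _
    hrange (fun V' h1 h2 h3 => finite_main A I g V' h1 h2 h3) V hV

end Groth.Agent.Lib.Helper12.HCoup
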