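import Mathlib
import Groth.Agent.Lib.Helper12.HCoupH

/-!
# Changing the base of a closed fibre
-/

set_option autoImplicit false
set_option linter.unusedSectionVars false
set_option linter.style.haveILetI false
universe u

open CategoryTheory CategoryTheory.Limits AlgebraicGeometry TensorProduct

namespace Groth.Agent.Lib.Helper12.HCoup

/-- If `f : X ⟶ Spec A` factors through `Spec A'`, then the closed fibre `X ×_{Spec A} Spec (A/I)`
is also the closed fibre `X ×_{Spec A'} Spec (A'/IA')`. -/
theorem exists_isPullback_of_factor (A : Type u) [CommRing A] (I : Ideal A) {X : Scheme.{u}}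
    (f : X ⟶ Spec (CommRingCat.of A)) (A' : Type u) [CommRing A'] [Algebra A A']
    (f' : X ⟶ Spec (CommRingCat.of A'))
    (hf' : f' ≫ Spec.map (CommRingCat.ofHom (algebraMap A A')) = f) :
    ∃ t : pullback f (Spec.map (CommRingCat.ofHom (Ideal.Quotient.mk I))) ⟶
        Spec (CommRingCat.of (A' ⧸ I.map (algebraMap A A'))),
      IsPullback (pullback.fst f (Spec.map (CommRingCat.ofHom (Ideal.Quotient.mk I)))) t f'
        (Spec.map (CommRingCat.ofHom (Ideal.Quotient.mk (I.map (algebraMap A A'))))) := by
  have hbot := isPullback_Spec_quotient (A := A) (B := A') I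
  have hcond : (pullback.fst f (Spec.map (CommRingCat.ofHom (Ideal.Quotient.mk I))) ≫ f') ≫
      Spec.map (CommRingCat.ofHom (algebraMap A A')) =
      pullback.snd f (Spec.map (CommRingCat.ofHom (Ideal.Quotient.mk I))) ≫
        Spec.map (CommRingCat.ofHom (Ideal.Quotient.mk I)) := by
    rw [Category.assoc, hf', pullback.condition]
  refine ⟨hbot.lift _ _ hcond, ?_⟩
  refine IsPullback.of_bot ?_ (hbot.lift_fst _ _ hcond).symm hbot
  rw [hbot.lift_snd, hf']
  exact IsPullback.of_hasPullback _ _

end Groth.Agent.Lib.Helper12.HCoup
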