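import Mathlib
import Groth.Agent.Lib.Helper12.PairTrunc

/-!
# h-formally étale / smooth maps and truncations
-/

set_option autoImplicit false
universe u

namespace Groth.Agent.Lib.Helper12.HFormal

open PairUnique

section Trunc

variable {A : Type u} [CommRing A] (K : Ideal A) {B : Type u} [CommRing B] [Algebra A B]
  {E : Type u} [CommRing E] [Algebra A E] [Algebra (A ⧸ K) E] [IsScalarTower A (A ⧸ K) E]

theorem algebraMap_eq_zero_of_mem {a : A} (ha : a ∈ K) : algebraMap A E a = 0 := by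
  rw [IsScalarTower.algebraMap_apply A (A ⧸ K) E, Ideal.Quotient.algebraMap_eq,
    Ideal.Quotient.eq_zero_iff_mem.mpr ha, map_zero]

theorem map_eq_bot : K.map (algebraMap A E) = ⊥ := by
  rw [Ideal.map_eq_bot_iff_le_ker]
  intro a ha
  exact algebraMap_eq_zero_of_mem K ha

theorem map_le_ker (v : B →ₐ[A] E) : K.map (algebraMap A B) ≤ RingHom.ker (v : B →+* E) := by
  rw [Ideal.map_le_iff_le_comap]
  intro a ha
  rw [Ideal.mem_comap, RingHom.mem_ker]
  show v (algebraMap A B a) = 0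
  rw [v.commutes]
  exact algebraMap_eq_zero_of_mem K ha

/-- Descend an algebra map to the truncations. -/
noncomputable def down (v : B →ₐ[A] E) : (B ⧸ K.map (algebraMap A B)) →ₐ[A ⧸ K] E :=
  { Ideal.Quotient.lift (K.map (algebraMap A B)) (v : B →+* E)
      (fun x hx => map_le_ker K v hx) with
    commutes' := by
      intro x
      obtain ⟨a, rfl⟩ := Ideal.Quotient.mk_surjective x
      show Ideal.Quotient.lift (K.map (algebraMap A B)) (v : B →+* E) _
        (algebraMap (A ⧸ K) (B ⧸ K.map (algebraMap A B)) (Ideal.Quotient.mk K a)) =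
        algebraMap (A ⧸ K) E (Ideal.Quotient.mk K a)
      rw [Ideal.Quotient.algebraMap_quotient_map_quotient, Ideal.Quotient.lift_mk]
      show v (algebraMap A B a) = _
      rw [v.commutes, IsScalarTower.algebraMap_apply A (A ⧸ K) E]
      rfl }

@[simp] theorem down_mk (v : B →ₐ[A] E) (b : B) :
    down K v (Ideal.Quotient.mk _ b) = v b := rfl

/-- Restrict an algebra map on truncations. -/
noncomputable def up (w : (B ⧸ K.map (algebraMap A B)) →ₐ[A ⧸ K] E) : B →ₐ[A] E :=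
  (w.restrictScalars A).comp (Ideal.Quotient.mkₐ A _)

@[simp] theorem up_apply (w : (B ⧸ K.map (algebraMap A B)) →ₐ[A ⧸ K] E) (b : B) :
    up K w b = w (Ideal.Quotient.mk _ b) := rfl

theorem down_up (w : (B ⧸ K.map (algebraMap A B)) →ₐ[A ⧸ K] E) : down K (up K w) = w := by
  ext x
  obtain ⟨b, rfl⟩ := Ideal.Quotient.mk_surjective x
  rfl

theorem up_down (v : B →ₐ[A] E) : up K (down K v) = v := by
  ext b
  rfl

end Trunc

section Fwd

variable (A : Type u) [CommRing A] (I : Ideal A) (B : Type u) [CommRing B] [Algebra A B]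

/-- h-formally étale maps have formally étale truncations. -/
theorem formallyEtale_truncation
    (H : ∀ (E C : Type u) [CommRing E] [CommRing C] [Algebra A E] [Algebra A C] (N : ℕ), 1 ≤ N →
        (I ^ N).map (algebraMap A E) = ⊥ → (I ^ N).map (algebraMap A C) = ⊥ →
        ∀ (p : E →ₐ[A] C), Function.Surjective p → (∃ M : ℕ, 1 ≤ M ∧ RingHom.ker p ^ M = ⊥) →
        ∀ u : B →ₐ[A] C, ∃! v : B →ₐ[A] E, p.comp v = u) (r : ℕ) (hr : 1 ≤ r) :
    Algebra.FormallyEtale (A ⧸ I ^ r) (B ⧸ (I ^ r).map (algebraMap A B)) := by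
  rw [Algebra.FormallyEtale.iff_comp_bijective]
  intro T _ _ J hJ
  letI : Algebra A T := ((algebraMap (A ⧸ I ^ r) T).comp (Ideal.Quotient.mk (I ^ r))).toAlgebra
  haveI : IsScalarTower A (A ⧸ I ^ r) T := IsScalarTower.of_algebraMap_eq fun _ => rfl
  have key : ∀ u : B →ₐ[A] T ⧸ J, ∃! v : B →ₐ[A] T, (Ideal.Quotient.mkₐ A J).comp v = u :=
    H T (T ⧸ J) r hr (map_eq_bot (I ^ r)) (map_eq_bot (I ^ r)) (Ideal.Quotient.mkₐ A J)
      (Ideal.Quotient.mkₐ_surjective A J) ⟨2, by norm_num, by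
        have : RingHom.ker (Ideal.Quotient.mkₐ A J) = J := Ideal.mk_ker
        rw [this]
        exact hJ⟩
  constructor
  · intro w₁ w₂ h
    have h' : (Ideal.Quotient.mkₐ (A ⧸ I ^ r) J).comp w₁ =
        (Ideal.Quotient.mkₐ (A ⧸ I ^ r) J).comp w₂ := h
    obtain ⟨v, -, hv⟩ := key (up (I ^ r) ((Ideal.Quotient.mkₐ (A ⧸ I ^ r) J).comp w₁))
    have e1 : up (I ^ r) w₁ = v := hv _ (by
      ext b
      rfl)
    have e2 : up (I ^ r) w₂ = v := hv _ (by
      ext b
      exact (AlgHom.congr_fun h' (Ideal.Quotient.mk _ b)).symm)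
    rw [← down_up (I ^ r) w₁, ← down_up (I ^ r) w₂, e1, e2]
  · intro w
    obtain ⟨v, hv, -⟩ := key (up (I ^ r) w)
    refine ⟨down (I ^ r) v, ?_⟩
    ext x
    obtain ⟨b, rfl⟩ := Ideal.Quotient.mk_surjective x
    exact AlgHom.congr_fun hv b

/-- h-formally smooth maps have formally smooth truncations. -/
theorem formallySmooth_truncation
    (H : ∀ (E C : Type u) [CommRing E] [CommRing C] [Algebra A E] [Algebra A C] (N : ℕ), 1 ≤ N →
        (I ^ N).map (algebraMap A E) = ⊥ → (I ^ N).map (algebraMap A C) = ⊥ →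
        ∀ (p : E →ₐ[A] C), Function.Surjective p → (∃ M : ℕ, 1 ≤ M ∧ RingHom.ker p ^ M = ⊥) →
        ∀ u : B →ₐ[A] C, ∃ v : B →ₐ[A] E, p.comp v = u) (r : ℕ) (hr : 1 ≤ r) :
    Algebra.FormallySmooth (A ⧸ I ^ r) (B ⧸ (I ^ r).map (algebraMap A B)) := by
  rw [Algebra.FormallySmooth.iff_comp_surjective]
  intro T _ _ J hJ
  letI : Algebra A T := ((algebraMap (A ⧸ I ^ r) T).comp (Ideal.Quotient.mk (I ^ r))).toAlgebra
  haveI : IsScalarTower A (A ⧸ I ^ r) T := IsScalarTower.of_algebraMap_eq fun _ => rfl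
  have key : ∀ u : B →ₐ[A] T ⧸ J, ∃ v : B →ₐ[A] T, (Ideal.Quotient.mkₐ A J).comp v = u :=
    H T (T ⧸ J) r hr (map_eq_bot (I ^ r)) (map_eq_bot (I ^ r)) (Ideal.Quotient.mkₐ A J)
      (Ideal.Quotient.mkₐ_surjective A J) ⟨2, by norm_num, by
        have : RingHom.ker (Ideal.Quotient.mkₐ A J) = J := Ideal.mk_ker
        rw [this]
        exact hJ⟩
  intro w
  obtain ⟨v, hv⟩ := key (up (I ^ r) w)
  refine ⟨down (I ^ r) v, ?_⟩
  ext x
  obtain ⟨b, rfl⟩ := Ideal.Quotient.mk_surjective x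
  exact AlgHom.congr_fun hv b

end Fwd

section Bwd

variable (A : Type u) [CommRing A] (I : Ideal A) (B : Type u) [CommRing B] [Algebra A B]

theorem exists_lift_of_formallySmooth (N : ℕ)
    [Algebra.FormallySmooth (A ⧸ I ^ N) (B ⧸ (I ^ N).map (algebraMap A B))]
    (E C : Type u) [CommRing E] [CommRing C] [Algebra A E] [Algebra A C]
    (hE : (I ^ N).map (algebraMap A E) = ⊥) (hC : (I ^ N).map (algebraMap A C) = ⊥)
    (p : E →ₐ[A] C) (hp : Function.Surjective p) (hnil : IsNilpotent (RingHom.ker (p : E →+* C)))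
    (u : B →ₐ[A] C) : ∃ v : B →ₐ[A] E, p.comp v = u := by
  have hE' : ∀ a ∈ I ^ N, algebraMap A E a = 0 :=
    fun a ha => (Ideal.map_eq_bot_iff_le_ker _).mp hE ha
  have hC' : ∀ a ∈ I ^ N, algebraMap A C a = 0 :=
    fun a ha => (Ideal.map_eq_bot_iff_le_ker _).mp hC ha
  letI : Algebra (A ⧸ I ^ N) E := (Ideal.Quotient.lift (I ^ N) (algebraMap A E) hE').toAlgebra
  haveI : IsScalarTower A (A ⧸ I ^ N) E :=
    IsScalarTower.of_algebraMap_eq fun a => (Ideal.Quotient.lift_mk _ _ _).symm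
  letI : Algebra (A ⧸ I ^ N) C := (Ideal.Quotient.lift (I ^ N) (algebraMap A C) hC').toAlgebra
  haveI : IsScalarTower A (A ⧸ I ^ N) C :=
    IsScalarTower.of_algebraMap_eq fun a => (Ideal.Quotient.lift_mk _ _ _).symm
  let p₀ : E →ₐ[A ⧸ I ^ N] C :=
    { (p : E →+* C) with
      commutes' := by
        intro x
        obtain ⟨a, rfl⟩ := Ideal.Quotient.mk_surjective x
        show p (algebraMap (A ⧸ I ^ N) E (Ideal.Quotient.mk _ a)) =
          algebraMap (A ⧸ I ^ N) C (Ideal.Quotient.mk _ a)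
        have h1 : algebraMap (A ⧸ I ^ N) E (Ideal.Quotient.mk _ a) = algebraMap A E a :=
          Ideal.Quotient.lift_mk _ _ _
        have h2 : algebraMap (A ⧸ I ^ N) C (Ideal.Quotient.mk _ a) = algebraMap A C a :=
          Ideal.Quotient.lift_mk _ _ _
        rw [h1, h2, p.commutes] }
  have hp₀ : Function.Surjective p₀ := hp
  have hnil₀ : IsNilpotent (RingHom.ker (p₀ : E →+* C)) := hnil
  refine ⟨up (I ^ N) (Algebra.FormallySmooth.liftOfSurjective (down (I ^ N) u) p₀ hp₀ hnil₀), ?_⟩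
  ext b
  exact Algebra.FormallySmooth.liftOfSurjective_apply (down (I ^ N) u) p₀ hp₀ hnil₀
    (Ideal.Quotient.mk _ b)

theorem lift_unique_of_formallyUnramified (N : ℕ)
    [Algebra.FormallyUnramified (A ⧸ I ^ N) (B ⧸ (I ^ N).map (algebraMap A B))]
    (E C : Type u) [CommRing E] [CommRing C] [Algebra A E] [Algebra A C]
    (hE : (I ^ N).map (algebraMap A E) = ⊥)
    (p : E →ₐ[A] C) (hnil : IsNilpotent (RingHom.ker (p : E →+* C)))
    (v₁ v₂ : B →ₐ[A] E) (h : p.comp v₁ = p.comp v₂) : v₁ = v₂ := by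
  have hE' : ∀ a ∈ I ^ N, algebraMap A E a = 0 :=
    fun a ha => (Ideal.map_eq_bot_iff_le_ker _).mp hE ha
  letI : Algebra (A ⧸ I ^ N) E := (Ideal.Quotient.lift (I ^ N) (algebraMap A E) hE').toAlgebra
  haveI : IsScalarTower A (A ⧸ I ^ N) E :=
    IsScalarTower.of_algebraMap_eq fun a => (Ideal.Quotient.lift_mk _ _ _).symm
  have : down (I ^ N) v₁ = down (I ^ N) v₂ :=
    Algebra.FormallyUnramified.ext' (p : E →+* C) hnil _ _ (fun x => by
      obtain ⟨b, rfl⟩ := Ideal.Quotient.mk_surjective x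
      exact AlgHom.congr_fun h b)
  rw [← up_down (I ^ N) v₁, ← up_down (I ^ N) v₂, this]

end Bwd

section Main

open PairUnique

variable (A : Type u) [CommRing A] (I : Ideal A) (R₀ : Type u) [CommRing R₀] [Algebra A R₀]
  [Algebra.FinitePresentation A R₀] (B : Type u) [CommRing B] [Algebra R₀ B] [Algebra A B]
  [IsScalarTower A R₀ B]

theorem finitePresentation_truncation
    (hB : Hens2.IsPairHenselization R₀ (I.map (algebraMap A R₀)) B) (r : ℕ) :
    Algebra.FinitePresentation (A ⧸ I ^ r) (B ⧸ (I ^ r).map (algebraMap A B)) := by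
  obtain ⟨e⟩ := nonempty_truncation_algEquiv A I R₀ B hB r
  haveI : Algebra.FinitePresentation (A ⧸ I ^ r) (R₀ ⧸ (I ^ r).map (algebraMap A R₀)) :=
    Algebra.FinitePresentation.equiv
      (Algebra.TensorProduct.quotIdealMapEquivQuotTensor R₀ (I ^ r)).symm
  exact Algebra.FinitePresentation.equiv e

theorem hFormallyEtale_iff
    (hB : Hens2.IsPairHenselization R₀ (I.map (algebraMap A R₀)) B) :
    (∀ (E C : Type u) [CommRing E] [CommRing C] [Algebra A E] [Algebra A C] (N : ℕ), 1 ≤ N →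
        (I ^ N).map (algebraMap A E) = ⊥ → (I ^ N).map (algebraMap A C) = ⊥ →
        ∀ (p : E →ₐ[A] C), Function.Surjective p → (∃ M : ℕ, 1 ≤ M ∧ RingHom.ker p ^ M = ⊥) →
        ∀ u : B →ₐ[A] C, ∃! v : B →ₐ[A] E, p.comp v = u) ↔
    ∀ r : ℕ, 1 ≤ r → Algebra.Etale (A ⧸ I ^ r) (B ⧸ (I ^ r).map (algebraMap A B)) := by
  constructor
  · intro H r hr
    exact ⟨formallyEtale_truncation A I B H r hr, finitePresentation_truncation A I R₀ B hB r⟩
  · intro het E C _ _ _ _ N hN hE hC p hp ⟨M, _, hM⟩ u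
    haveI := het N hN
    have hnil : IsNilpotent (RingHom.ker (p : E →+* C)) := ⟨M, hM⟩
    obtain ⟨v, hv⟩ := exists_lift_of_formallySmooth A I B N E C hE hC p hp hnil u
    refine ⟨v, hv, fun v' hv' => ?_⟩
    exact lift_unique_of_formallyUnramified A I B N E C hE p hnil v' v (hv'.trans hv.symm)

theorem hFormallySmooth_iff
    (hB : Hens2.IsPairHenselization R₀ (I.map (algebraMap A R₀)) B) :
    (∀ (E C : Type u) [CommRing E] [CommRing C] [Algebra A E] [Algebra A C] (N : ℕ), 1 ≤ N →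
        (I ^ N).map (algebraMap A E) = ⊥ → (I ^ N).map (algebraMap A C) = ⊥ →
        ∀ (p : E →ₐ[A] C), Function.Surjective p → (∃ M : ℕ, 1 ≤ M ∧ RingHom.ker p ^ M = ⊥) →
        ∀ u : B →ₐ[A] C, ∃ v : B →ₐ[A] E, p.comp v = u) ↔
    ∀ r : ℕ, 1 ≤ r → Algebra.Smooth (A ⧸ I ^ r) (B ⧸ (I ^ r).map (algebraMap A B)) := by
  constructor
  · intro H r hr
    exact ⟨formallySmooth_truncation A I B H r hr, finitePresentation_truncation A I R₀ B hB r⟩
  · intro hsm E C _ _ _ _ N hN hE hC p hp ⟨M, _, hM⟩ u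
    haveI := hsm N hN
    have hnil : IsNilpotent (RingHom.ker (p : E →+* C)) := ⟨M, hM⟩
    exact exists_lift_of_formallySmooth A I B N E C hE hC p hp hnil u

end Main

end Groth.Agent.Lib.Helper12.HFormal
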