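import Mathlib
import Groth.Agent.Lib.Helper12.PairUnique
import Groth.Agent.Lib.Helper5.ComplIso

/-!
# The `t`-adic completion of the henselization `R{t}` of `R[t]` along `(t)` is `R⟦t⟧`
-/

set_option autoImplicit false
set_option linter.unusedSectionVars false
set_option linter.style.haveILetI false
universe u

namespace Groth.Agent.Lib.Helper12.HLaurIdem

open Polynomial

variable {R : Type u} [CommRing R] {B : Type u} [CommRing B] [Algebra R[X] B]

theorem map_span_pow (n : ℕ) :
    (Ideal.span {(X : R[X])} ^ n).map (algebraMap R[X] B) =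
      Ideal.span {algebraMap R[X] B X} ^ n := by
  rw [Ideal.map_pow, Ideal.map_span, Set.image_singleton]

theorem nonempty_equiv₁ (hB : Hens2.IsPairHenselization R[X] (Ideal.span {(X : R[X])}) B) :
    Nonempty (AdicCompletion (Ideal.span {(X : R[X])}) R[X] ≃ₐ[R[X]]
      AdicCompletion (Ideal.span {algebraMap R[X] B X}) B) := by
  refine Groth.Agent.Lib.Helper5.ComplIso.complEquiv (R := R[X]) (Algebra.ofId R[X] B)
    (Ideal.span {(X : R[X])}) (Ideal.span {algebraMap R[X] B X}) ?_ ?_ ?_
  · intro n
    rw [← map_span_pow]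
    exact Ideal.le_comap_map
  · intro n p hp
    have hbij := PairUnique.quotientMap_pow_bijective hB n
    have h1 : Ideal.quotientMap ((Ideal.span {(X : R[X])} ^ n).map (algebraMap R[X] B))
        (algebraMap R[X] B) Ideal.le_comap_map (Ideal.Quotient.mk _ p) = 0 := by
      rw [Ideal.quotientMap_mk, Ideal.Quotient.eq_zero_iff_mem, map_span_pow]
      exact hp
    have h2 := hbij.1 (h1.trans (map_zero _).symm)
    exact Ideal.Quotient.eq_zero_iff_mem.mp h2
  · intro n s
    have hbij := PairUnique.quotientMap_pow_bijective hB n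
    obtain ⟨x, hx⟩ := hbij.2 (Ideal.Quotient.mk _ s)
    obtain ⟨p, rfl⟩ := Ideal.Quotient.mk_surjective x
    refine ⟨p, ?_⟩
    rw [Ideal.quotientMap_mk, Ideal.Quotient.eq, map_span_pow] at hx
    have := Ideal.neg_mem_iff _ |>.mpr hx
    rwa [neg_sub] at this

theorem nonempty_equiv₂ :
    Nonempty (AdicCompletion (Ideal.span {(X : R[X])}) R[X] ≃ₐ[R[X]]
      AdicCompletion (Ideal.span {(PowerSeries.X : PowerSeries R)}) (PowerSeries R)) := by
  have hcoe : ∀ p : R[X], Algebra.ofId R[X] (PowerSeries R) p = (p : PowerSeries R) := by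
    intro p
    show algebraMap R[X] (PowerSeries R) p = _
    rw [PowerSeries.algebraMap_apply', Algebra.algebraMap_self, PowerSeries.map_id]
    rfl
  refine Groth.Agent.Lib.Helper5.ComplIso.complEquiv (R := R[X])
    (Algebra.ofId R[X] (PowerSeries R))
    (Ideal.span {(X : R[X])}) (Ideal.span {(PowerSeries.X : PowerSeries R)}) ?_ ?_ ?_
  · intro n p hp
    rw [Ideal.span_singleton_pow, Ideal.mem_span_singleton] at hp
    obtain ⟨q, rfl⟩ := hp
    rw [Ideal.mem_comap, Ideal.span_singleton_pow, Ideal.mem_span_singleton]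
    show PowerSeries.X ^ n ∣ Algebra.ofId R[X] (PowerSeries R) (X ^ n * q)
    rw [hcoe, Polynomial.coe_mul, Polynomial.coe_pow, Polynomial.coe_X]
    exact Dvd.intro _ rfl
  · intro n p hp
    rw [hcoe, Ideal.span_singleton_pow, Ideal.mem_span_singleton, PowerSeries.X_pow_dvd_iff] at hp
    rw [Ideal.span_singleton_pow, Ideal.mem_span_singleton, Polynomial.X_pow_dvd_iff]
    intro m hm
    have := hp m hm
    rwa [Polynomial.coeff_coe] at this
  · intro n s
    refine ⟨PowerSeries.trunc n s, ?_⟩
    rw [hcoe, Ideal.span_singleton_pow, Ideal.mem_span_singleton, PowerSeries.X_pow_dvd_iff]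
    intro m hm
    rw [map_sub, Polynomial.coeff_coe, PowerSeries.coeff_trunc, if_pos hm, sub_self]

/-- The completion of `B = R{t}` along `t` is the power series ring. -/
theorem exists_ringEquiv (hB : Hens2.IsPairHenselization R[X] (Ideal.span {(X : R[X])}) B) :
    ∃ Ψ : AdicCompletion (Ideal.span {algebraMap R[X] B X}) B ≃+* PowerSeries R,
      ∀ p : R[X], Ψ (algebraMap B (AdicCompletion (Ideal.span {algebraMap R[X] B X}) B)
        (algebraMap R[X] B p)) = (p : PowerSeries R) := by
  obtain ⟨e₁⟩ := nonempty_equiv₁ hB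
  obtain ⟨e₂⟩ := nonempty_equiv₂ (R := R)
  let e₃ : PowerSeries R ≃ₐ[R[X]]
      AdicCompletion (Ideal.span {(PowerSeries.X : PowerSeries R)}) (PowerSeries R) :=
    (AdicCompletion.ofAlgEquiv (Ideal.span {(PowerSeries.X : PowerSeries R)})).restrictScalars R[X]
  let Ψ := (e₁.symm.trans e₂).trans e₃.symm
  refine ⟨Ψ.toRingEquiv, fun p => ?_⟩
  have h1 : algebraMap B (AdicCompletion (Ideal.span {algebraMap R[X] B X}) B)
      (algebraMap R[X] B p) =
      algebraMap R[X] (AdicCompletion (Ideal.span {algebraMap R[X] B X}) B) p :=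
    (IsScalarTower.algebraMap_apply R[X] B _ p).symm
  rw [h1]
  show Ψ (algebraMap R[X] _ p) = _
  rw [Ψ.commutes]
  show algebraMap R[X] (PowerSeries R) p = _
  rw [PowerSeries.algebraMap_apply', Algebra.algebraMap_self, PowerSeries.map_id]
  rfl

end Groth.Agent.Lib.Helper12.HLaurIdem
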