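import Mathlib
import Groth.Agent.Lib.Helper12.PairColimFin

/-!
# Lemmas on henselizations of pairs: étale neighbourhoods and quotients
-/

set_option autoImplicit false
universe u

namespace Groth.Agent.Lib.Helper12.Hfp

open PairNbhd PairUnique

/-- Finite families in a henselization come from a common étale neighbourhood. -/
theorem exists_etale_of_fin {A : Type u} [CommRing A] {I : Ideal A} {B : Type u} [CommRing B]
    [Algebra A B] (hB : Hens2.IsPairHenselization A I B) {m : ℕ} (x : Fin m → B) :
    ∃ (A' : Type u) (_ : CommRing A') (_ : Algebra A A') (_ : Algebra.Etale A A'),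
      Function.Bijective (Ideal.quotientMap (I.map (algebraMap A A')) (algebraMap A A')
        Ideal.le_comap_map) ∧ ∃ (φ : A' →ₐ[A] B), ∀ j, ∃ s : A', φ s = x j := by
  obtain ⟨e⟩ := nonempty_algEquiv (Lim.isPairHenselization A I) hB
  obtain ⟨A', i1, i2, i3, hbij, φ, hφ⟩ := Lim.exists_etale_of_fin (fun j => e.symm (x j))
  refine ⟨A', i1, i2, i3, hbij, (e : Lim A I →ₐ[A] B).comp φ, fun j => ?_⟩
  obtain ⟨s, hs⟩ := hφ j
  refine ⟨s, ?_⟩
  show e (φ s) = x j
  rw [hs, AlgEquiv.apply_symm_apply]

/-- A henselization of `(Q, J)` is also a henselization of any étale neighbourhood `(Q', J Q')`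
with trivial quotient mapping to it. -/
theorem isPairHenselization_of_etale_nbhd {Q : Type u} [CommRing Q] {J : Ideal Q}
    {P : Type u} [CommRing P] [Algebra Q P] (hP : Hens2.IsPairHenselization Q J P)
    {Q' : Type u} [CommRing Q'] [Algebra Q Q'] [Algebra.Etale Q Q']
    (hbij : Function.Bijective (Ideal.quotientMap (J.map (algebraMap Q Q')) (algebraMap Q Q')
      Ideal.le_comap_map))
    [Algebra Q' P] [IsScalarTower Q Q' P] :
    Hens2.IsPairHenselization Q' (J.map (algebraMap Q Q')) P := by
  have hJP : (J.map (algebraMap Q Q')).map (algebraMap Q' P) = J.map (algebraMap Q P) := by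
    rw [Ideal.map_map, ← IsScalarTower.algebraMap_eq]
  refine ⟨by rw [hJP]; exact hP.1, ?_⟩
  intro C _ J' f hC hle
  haveI := hC
  have hle' : J.map (f.comp (algebraMap Q Q')) ≤ J' := by
    rw [← Ideal.map_map]
    exact hle
  obtain ⟨g, hg, huniq⟩ := hP.2 C J' (f.comp (algebraMap Q Q')) hC hle'
  refine ⟨g, ?_, ?_⟩
  · letI : Algebra Q C := (f.comp (algebraMap Q Q')).toAlgebra
    let φ₁ : Q' →ₐ[Q] C :=
      { g.comp (algebraMap Q' P) with
        commutes' := fun q => by
          show g (algebraMap Q' P (algebraMap Q Q' q)) = f (algebraMap Q Q' q)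
          rw [← IsScalarTower.algebraMap_apply]
          exact RingHom.congr_fun hg q }
    let φ₂ : Q' →ₐ[Q] C := { f with commutes' := fun q => rfl }
    have h12 : φ₁ = φ₂ := by
      apply algHom_eq_of_henselianRing J' φ₁ φ₂
      intro x
      exact hle' (sub_mem_of_bijective hbij φ₁ φ₂ x)
    refine RingHom.ext fun x => ?_
    exact AlgHom.congr_fun h12 x
  · intro g' hg'
    apply huniq
    rw [IsScalarTower.algebraMap_eq Q Q' P, ← RingHom.comp_assoc, hg']

/-- Quotients of henselizations are henselizations of quotients. -/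
theorem isPairHenselization_quotient {R : Type u} [CommRing R] {J : Ideal R}
    {P : Type u} [CommRing P] [Algebra R P] (hP : Hens2.IsPairHenselization R J P)
    (K : Ideal R)
    {R' : Type u} [CommRing R'] [Algebra R R'] (hR' : Function.Surjective (algebraMap R R'))
    (hK : RingHom.ker (algebraMap R R') = K)
    {B : Type u} [CommRing B] [Algebra P B] (hB : Function.Surjective (algebraMap P B))
    (hKB : RingHom.ker (algebraMap P B) = K.map (algebraMap R P))
    [Algebra R B] [Algebra R' B] [IsScalarTower R P B] [IsScalarTower R R' B] :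
    Hens2.IsPairHenselization R' (J.map (algebraMap R R')) B := by
  haveI := hP.1
  have hJB : (J.map (algebraMap R R')).map (algebraMap R' B) =
      (J.map (algebraMap R P)).map (algebraMap P B) := by
    rw [Ideal.map_map, Ideal.map_map, ← IsScalarTower.algebraMap_eq,
      ← IsScalarTower.algebraMap_eq]
  constructor
  · rw [hJB]
    haveI : Algebra.IsIntegral P B := Algebra.isIntegral_of_surjective hB
    exact henselianRing_map_of_isIntegral P (J.map (algebraMap R P)) B
  · intro C _ J' f hC hle
    have hle' : J.map (f.comp (algebraMap R R')) ≤ J' := by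
      rw [← Ideal.map_map]
      exact hle
    obtain ⟨g, hg, huniq⟩ := hP.2 C J' (f.comp (algebraMap R R')) hC hle'
    have hgker : RingHom.ker (algebraMap P B) ≤ RingHom.ker g := by
      rw [hKB, Ideal.map_le_iff_le_comap]
      intro k hk
      rw [Ideal.mem_comap, RingHom.mem_ker]
      have h1 := RingHom.congr_fun hg k
      rw [RingHom.comp_apply] at h1
      rw [h1, RingHom.comp_apply]
      have : algebraMap R R' k = 0 := by
        rw [← RingHom.mem_ker, hK]
        exact hk
      rw [this, map_zero]
    let gbar : B →+* C := RingHom.liftOfSurjective (algebraMap P B) hB ⟨g, hgker⟩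
    have hgbar : gbar.comp (algebraMap P B) = g :=
      RingHom.liftOfSurjective_comp (algebraMap P B) hB ⟨g, hgker⟩
    refine ⟨gbar, ?_, ?_⟩
    · refine RingHom.ext fun r' => ?_
      obtain ⟨r, rfl⟩ := hR' r'
      show gbar (algebraMap R' B (algebraMap R R' r)) = f (algebraMap R R' r)
      rw [← IsScalarTower.algebraMap_apply, IsScalarTower.algebraMap_apply R P B]
      have h1 := RingHom.congr_fun hgbar (algebraMap R P r)
      rw [RingHom.comp_apply] at h1
      rw [h1]
      exact RingHom.congr_fun hg r
    · intro g' hg'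
      have h1 : g'.comp (algebraMap P B) = g := by
        apply huniq
        rw [RingHom.comp_assoc, ← IsScalarTower.algebraMap_eq,
          IsScalarTower.algebraMap_eq R R' B, ← RingHom.comp_assoc, hg']
      refine RingHom.ext fun b => ?_
      obtain ⟨p, rfl⟩ := hB b
      have h2 := RingHom.congr_fun h1 p
      have h3 := RingHom.congr_fun hgbar p
      rw [RingHom.comp_apply] at h2 h3
      rw [h2, h3]

end Groth.Agent.Lib.Helper12.Hfp
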