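import Groth.Agent.Lib.Helper12.RFPoint
import Groth.Agent.Lib.Helper12.EtaleHomLift
import Groth.Prelude.Def_Hensel

set_option autoImplicit false
universe u

/-!
# The henselization of `R_p` and pairs `(S, q)` with trivial residue field extension, part (a)
-/

namespace Groth.Agent.Lib.Helper12.HensColim

open IsLocalRing

variable (R : Type u) [CommRing R] (p : Ideal R) [p.IsPrime] (Rh : Type u) [CommRing Rh]
  [IsLocalRing Rh] [Algebra (Localization.AtPrime p) Rh]
  [IsLocalHom (algebraMap (Localization.AtPrime p) Rh)]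
  [Hensel.IsHenselization (Localization.AtPrime p) Rh] [Algebra R Rh]
  [IsScalarTower R (Localization.AtPrime p) Rh]

theorem exists_rho : ∃ ρ : Rh →ₐ[R] p.ResidueField,
    Function.Surjective ρ ∧ RingHom.ker ρ = maximalIdeal Rh := by
  obtain ⟨g, hg, -⟩ := Hensel.IsHenselization.universal (R := Localization.AtPrime p) (S := Rh)
    p.ResidueField (IsLocalRing.residue (Localization.AtPrime p)) inferInstance
  have hgs : Function.Surjective g := by
    intro y
    obtain ⟨a, rfl⟩ := IsLocalRing.residue_surjective y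
    exact ⟨algebraMap _ Rh a, congrArg (fun f : Localization.AtPrime p →+* p.ResidueField => f a) hg⟩
  refine ⟨{ g with commutes' := fun r => ?_ }, hgs, ?_⟩
  · show g (algebraMap R Rh r) = _
    rw [IsScalarTower.algebraMap_apply R (Localization.AtPrime p) Rh]
    exact congrArg (fun f : Localization.AtPrime p →+* p.ResidueField =>
      f (algebraMap R (Localization.AtPrime p) r)) hg
  · haveI : (RingHom.ker g).IsMaximal := RingHom.ker_isMaximal_of_surjective g hgs
    exact IsLocalRing.eq_maximalIdeal ‹(RingHom.ker g).IsMaximal›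

/-- the residue field point of the henselization -/
noncomputable def rho : Rh →ₐ[R] p.ResidueField := (exists_rho R p Rh).choose

theorem rho_surjective : Function.Surjective (rho R p Rh) := (exists_rho R p Rh).choose_spec.1

theorem ker_rho : RingHom.ker (rho R p Rh) = maximalIdeal Rh := (exists_rho R p Rh).choose_spec.2

theorem rho_eq_zero_iff (x : Rh) : rho R p Rh x = 0 ↔ x ∈ maximalIdeal Rh := by
  rw [← ker_rho R p Rh, RingHom.mem_ker]

variable {R Rh}

theorem ker_rho_comp {S : Type u} [CommRing S] [Algebra R S] (f : S →ₐ[R] Rh) :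
    RingHom.ker ((rho R p Rh).comp f) = (maximalIdeal Rh).comap f.toRingHom := by
  ext x
  rw [RingHom.mem_ker, Ideal.mem_comap, AlgHom.comp_apply, rho_eq_zero_iff]
  rfl

include p in
/-- uniqueness in (a) -/
theorem algHom_unique {S : Type u} [CommRing S] [Algebra R S] [Algebra.Etale R S]
    (f f' : S →ₐ[R] Rh)
    (h : (maximalIdeal Rh).comap f.toRingHom = (maximalIdeal Rh).comap f'.toRingHom) : f = f' := by
  haveI : HenselianLocalRing Rh := Hensel.IsHenselization.henselian (Localization.AtPrime p)
  have h1 : (rho R p Rh).comp f = (rho R p Rh).comp f' :=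
    RFPoint.point_unique p _ _ (by rw [ker_rho_comp p, ker_rho_comp p, h])
  refine algHom_eq_of_henselianRing (maximalIdeal Rh) f f' fun x => ?_
  rw [← rho_eq_zero_iff R p Rh, map_sub, sub_eq_zero]
  exact congrArg (fun g : S →ₐ[R] p.ResidueField => g x) h1

/-- existence in (a), from a point -/
theorem exists_algHom_of_point {S : Type u} [CommRing S] [Algebra R S] [Algebra.Etale R S]
    (σ : S →ₐ[R] p.ResidueField) :
    ∃ f : S →ₐ[R] Rh, (rho R p Rh).comp f = σ := by
  haveI : HenselianLocalRing Rh := Hensel.IsHenselization.henselian (Localization.AtPrime p)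
  have hker : ∀ a ∈ maximalIdeal Rh, rho R p Rh a = 0 := fun a ha =>
    (rho_eq_zero_iff R p Rh a).2 ha
  let ρ' : (Rh ⧸ maximalIdeal Rh) →ₐ[R] p.ResidueField :=
    Ideal.Quotient.liftₐ (maximalIdeal Rh) (rho R p Rh) hker
  have hbij : Function.Bijective ρ' := by
    refine ⟨?_, ?_⟩
    · rw [injective_iff_map_eq_zero]
      intro y hy
      obtain ⟨y, rfl⟩ := Ideal.Quotient.mk_surjective y
      rw [Ideal.Quotient.eq_zero_iff_mem, ← rho_eq_zero_iff R p Rh]
      exact hy
    · intro y
      obtain ⟨x, rfl⟩ := rho_surjective R p Rh y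
      exact ⟨Ideal.Quotient.mk _ x, rfl⟩
  let e : (Rh ⧸ maximalIdeal Rh) ≃ₐ[R] p.ResidueField := AlgEquiv.ofBijective ρ' hbij
  obtain ⟨φ, hφ⟩ := exists_algHom_lift_of_etale_of_henselianRing (maximalIdeal Rh)
    ((e.symm : p.ResidueField →ₐ[R] Rh ⧸ maximalIdeal Rh).comp σ)
  refine ⟨φ, AlgHom.ext fun x => ?_⟩
  have h1 := hφ x
  have h2 : e (Ideal.Quotient.mk (maximalIdeal Rh) (φ x)) = rho R p Rh (φ x) := rfl
  rw [AlgHom.comp_apply, ← h2, h1]
  simp

end Groth.Agent.Lib.Helper12.HensColim
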