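import Groth.Agent.Lib.Helper12.SpreadOutC

set_option autoImplicit false
universe u

namespace Groth.Agent.Lib.Helper12.SpreadOut

open IsLocalization TensorProduct

variable {A : Type u} [CommRing A] (B : Type u) [CommRing B] [Algebra A B] (M : Submonoid A)
  [IsLocalization M B]

/-- **Spreading out.** An étale algebra `C` over the localization `B = M⁻¹A` comes from an étale
`A`-algebra `C'`: there is an `A`-algebra map `φ : C' → C` such that every element of `C` is in
the image up to a denominator from `M`, and every `A`-algebra map from `C'` to a `B`-algebra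
extends along `φ` to a `B`-algebra map from `C`. -/
theorem exists_etale_model (C : Type u) [CommRing C] [Algebra B C] [Algebra.Etale B C]
    [Algebra A C] [IsScalarTower A B C] :
    ∃ (C' : Type u) (_ : CommRing C') (_ : Algebra A C') (_ : Algebra.Etale A C')
      (φ : C' →ₐ[A] C),
      (∀ x : C, ∃ m ∈ M, ∃ c' : C', φ c' = m • x) ∧
      (∀ (T : Type u) [CommRing T] [Algebra A T] [Algebra B T] [IsScalarTower A B T]
        (ψ : C' →ₐ[A] T), ∃ ψ' : C →ₐ[B] T, ∀ c', ψ' (φ c') = ψ c') := by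
  obtain ⟨B₀, C₀, _, _, hfg, hét, ⟨e⟩⟩ := Algebra.Etale.exists_subalgebra_fg ℤ B C
  haveI : Algebra.FiniteType ℤ B₀ := (Subalgebra.fg_iff_finiteType B₀).1 hfg
  haveI : Algebra.FinitePresentation ℤ B₀ := Algebra.FinitePresentation.of_finiteType.1 inferInstance
  obtain ⟨s, hs, h, hh⟩ := exists_lift_away B M (B₀.val : B₀ →+* B)
  obtain ⟨C', _, _, _, φ, hsurj, hlift⟩ := model_aux B M B₀ C₀ hs h hh
  haveI : SMulCommClass B₀ A B :=
    ⟨fun b a x => by simp only [Algebra.smul_def]; ring⟩
  let e' : B ⊗[B₀] C₀ →ₐ[A] C := (e.symm : B ⊗[B₀] C₀ →ₐ[B] C).restrictScalars A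
  refine ⟨C', inferInstance, inferInstance, inferInstance, e'.comp φ, ?_, ?_⟩
  · intro x
    obtain ⟨m, hm, c', hc'⟩ := hsurj (e x)
    refine ⟨m, hm, c', ?_⟩
    show e.symm (φ c') = _
    rw [hc']
    have : (m • e x : B ⊗[B₀] C₀) = e (m • x) := by
      rw [← algebraMap_smul B m x, map_smul, algebraMap_smul]
    rw [this, e.symm_apply_apply]
  · intro T _ _ _ _ ψ
    obtain ⟨ψ', hψ'⟩ := hlift T ψ
    refine ⟨ψ'.comp (e : C →ₐ[B] B ⊗[B₀] C₀), fun c' => ?_⟩
    show ψ' (e (e.symm (φ c'))) = _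
    rw [e.apply_symm_apply, hψ']

end Groth.Agent.Lib.Helper12.SpreadOut
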