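import Groth.Agent.Lib.Helper12.HensColimA
import Groth.Agent.Lib.Helper12.HensStruct
import Groth.Agent.Lib.Helper12.SpreadOutD

set_option autoImplicit false
universe u

/-!
# The henselization of `R_p` and pairs `(S, q)` with trivial residue field extension, part (b)
-/

namespace Groth.Agent.Lib.Helper12.HensColim

open IsLocalRing

variable (R : Type u) [CommRing R] (p : Ideal R) [p.IsPrime] (Rh : Type u) [CommRing Rh]
  [IsLocalRing Rh] [Algebra (Localization.AtPrime p) Rh]
  [IsLocalHom (algebraMap (Localization.AtPrime p) Rh)]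
  [Hensel.IsHenselization (Localization.AtPrime p) Rh] [Algebra R Rh]
  [IsScalarTower R (Localization.AtPrime p) Rh]

theorem isUnit_algebraMap_of_notMem {t : R} (ht : t ∈ p.primeCompl) :
    IsUnit (algebraMap R Rh t) := by
  rw [IsScalarTower.algebraMap_apply R (Localization.AtPrime p) Rh]
  exact (IsLocalization.map_units (Localization.AtPrime p) (⟨t, ht⟩ : p.primeCompl)).map _

include p in
/-- every element of the henselization comes from an étale `R`-algebra -/
theorem exists_etale_algHom (x : Rh) :
    ∃ (S : Type u) (_ : CommRing S) (_ : Algebra R S) (_ : Algebra.Etale R S)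
      (f : S →ₐ[R] Rh) (s : S), f s = x := by
  classical
  obtain ⟨i, ψ, -, -, hr⟩ := HensStruct.exists_nbhd_range (Localization.AtPrime p) Rh {x}
  obtain ⟨y, hy⟩ := hr x (Finset.mem_singleton_self x)
  obtain ⟨c, u, rfl⟩ := IsLocalization.exists_mk'_eq (RingHom.ker i.π).primeCompl y
  -- the étale algebra `C₁ = i.Ring[1/u]`
  let κ : Localization.Away (u : i.Ring) →ₐ[Localization.AtPrime p] i.G :=
    IsLocalization.liftAlgHom (M := Submonoid.powers (u : i.Ring))
      (f := IsScalarTower.toAlgHom (Localization.AtPrime p) i.Ring i.G) (by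
        rintro ⟨_, e, rfl⟩
        show IsUnit (algebraMap i.Ring i.G ((u : i.Ring) ^ e))
        rw [map_pow]
        exact (IsLocalization.map_units i.G u).pow e)
  let f₁ : Localization.Away (u : i.Ring) →ₐ[Localization.AtPrime p] Rh := ψ.comp κ
  let y₁ : Localization.Away (u : i.Ring) :=
    IsLocalization.mk' _ c (⟨u, Submonoid.mem_powers _⟩ : Submonoid.powers (u : i.Ring))
  have hy' : ψ (IsLocalization.mk' i.G c u) = x := hy
  have hy₁ : f₁ y₁ = x := by
    rw [← hy']
    show ψ (κ y₁) = _
    congr 1
    show IsLocalization.lift _ (IsLocalization.mk' _ c _) = _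
    rw [IsLocalization.lift_mk'_spec]
    show algebraMap i.Ring i.G c = algebraMap i.Ring i.G u * IsLocalization.mk' i.G c u
    rw [mul_comm, IsLocalization.mk'_spec]
  haveI : IsScalarTower R (Localization.AtPrime p) (Localization.Away (u : i.Ring)) :=
    inferInstance
  obtain ⟨C', _, _, _, φ, hsurj, -⟩ :=
    SpreadOut.exists_etale_model (A := R) (Localization.AtPrime p) p.primeCompl
      (Localization.Away (u : i.Ring))
  obtain ⟨t, ht, c', hc'⟩ := hsurj y₁
  let f₀ : C' →ₐ[R] Rh := (f₁.restrictScalars R).comp φ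
  have hf₀t : f₀ (algebraMap R C' t) = algebraMap R Rh t := f₀.commutes t
  let f : Localization.Away (algebraMap R C' t) →ₐ[R] Rh :=
    IsLocalization.liftAlgHom (M := Submonoid.powers (algebraMap R C' t)) (f := f₀) (by
      rintro ⟨_, e, rfl⟩
      show IsUnit (f₀ ((algebraMap R C' t) ^ e))
      rw [map_pow, hf₀t]
      exact (isUnit_algebraMap_of_notMem R p Rh ht).pow e)
  refine ⟨Localization.Away (algebraMap R C' t), inferInstance, inferInstance, inferInstance, f,
    IsLocalization.mk' _ c' (⟨algebraMap R C' t, Submonoid.mem_powers _⟩ :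
      Submonoid.powers (algebraMap R C' t)), ?_⟩
  show IsLocalization.lift _ (IsLocalization.mk' _ c' _) = _
  rw [IsLocalization.lift_mk'_spec]
  show f₀ c' = f₀ (algebraMap R C' t) * x
  rw [hf₀t]
  show f₁ (φ c') = _
  rw [hc', ← algebraMap_smul (Localization.AtPrime p) t y₁, map_smul, hy₁, algebraMap_smul,
    Algebra.smul_def]

/-- (b) -/
theorem exists_pair (x : Rh) :
    ∃ (S : Type u) (_ : CommRing S) (_ : Algebra R S) (_ : Algebra.Etale R S) (q : Ideal S)
      (_ : q.IsPrime) (hq : p = q.comap (algebraMap R S)),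
      Function.Bijective (Ideal.ResidueField.map p q (algebraMap R S) hq) ∧
        ∃ (f : S →ₐ[R] Rh) (s : S),
          (maximalIdeal Rh).comap f.toRingHom = q ∧ f s = x := by
  obtain ⟨S, _, _, _, f, s, hfs⟩ := exists_etale_algHom R p Rh x
  exact ⟨S, inferInstance, inferInstance, inferInstance, RingHom.ker ((rho R p Rh).comp f),
    inferInstance, RFPoint.comap_ker_eq p _, RFPoint.bijective_of_point p _, f, s,
    (ker_rho_comp p f).symm, hfs⟩

end Groth.Agent.Lib.Helper12.HensColim
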