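import Groth.Agent.Lib.Helper12.HensColimA
import Groth.Agent.Lib.Helper12.HensStruct
import Mathlib.RingTheory.Localization.BaseChange

set_option autoImplicit false
universe u

/-!
# The henselization of `R_p` and pairs `(S, q)` with trivial residue field extension, part (c)
-/

namespace Groth.Agent.Lib.Helper12.HensColim

open IsLocalRing TensorProduct

section Descend

attribute [local instance] Algebra.TensorProduct.rightAlgebra

/-- an element of `R_p ⊗ S` killing `1 ⊗ s` gives an element of `S` killing `s` -/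
theorem exists_descend {R : Type u} [CommRing R] (p : Ideal R) [p.IsPrime] {S : Type u}
    [CommRing S] [Algebra R S] (v : Localization.AtPrime p ⊗[R] S) (s : S)
    (hv : v * (1 ⊗ₜ[R] s) = 0) :
    ∃ (u' : S) (t t' : R), t ∈ p.primeCompl ∧ t' ∈ p.primeCompl ∧
      (1 : Localization.AtPrime p) ⊗ₜ[R] u' = v * (1 ⊗ₜ[R] algebraMap R S t) ∧
      algebraMap R S t' * (u' * s) = 0 := by
  haveI : IsLocalization (Algebra.algebraMapSubmonoid S p.primeCompl)
      (Localization.AtPrime p ⊗[R] S) := IsLocalization.tensorRight (Localization.AtPrime p) p.primeCompl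
  obtain ⟨⟨u', ⟨_, t, ht, rfl⟩⟩, hu'⟩ :=
    IsLocalization.surj (Algebra.algebraMapSubmonoid S p.primeCompl) v
  have hu'' : v * ((1 : Localization.AtPrime p) ⊗ₜ[R] algebraMap R S t) = 1 ⊗ₜ[R] u' := hu'
  have h0 : algebraMap S (Localization.AtPrime p ⊗[R] S) (u' * s) = 0 := by
    show (1 : Localization.AtPrime p) ⊗ₜ[R] (u' * s) = 0
    have : (1 : Localization.AtPrime p) ⊗ₜ[R] (u' * s) = (1 ⊗ₜ[R] u') * (1 ⊗ₜ[R] s) := by
      rw [Algebra.TensorProduct.tmul_mul_tmul, one_mul]
    rw [this, ← hu'', mul_right_comm, hv, zero_mul]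
  obtain ⟨⟨_, t', ht', rfl⟩, hm⟩ :=
    (IsLocalization.map_eq_zero_iff (Algebra.algebraMapSubmonoid S p.primeCompl)
      (Localization.AtPrime p ⊗[R] S) (u' * s)).1 h0
  exact ⟨u', t, t', ht, ht', hu''.symm, hm⟩

end Descend

variable (R : Type u) [CommRing R] (p : Ideal R) [p.IsPrime] (Rh : Type u) [CommRing Rh]
  [IsLocalRing Rh] [Algebra (Localization.AtPrime p) Rh]
  [IsLocalHom (algebraMap (Localization.AtPrime p) Rh)]
  [Hensel.IsHenselization (Localization.AtPrime p) Rh] [Algebra R Rh]
  [IsScalarTower R (Localization.AtPrime p) Rh]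

variable {R Rh}

theorem isUnit_iff_rho_ne_zero (x : Rh) : IsUnit x ↔ rho R p Rh x ≠ 0 := by
  rw [Ne, rho_eq_zero_iff, mem_maximalIdeal, mem_nonunits_iff, not_not]

include p in
/-- the core of (c): an element killed in the henselization is killed by an element outside `q` -/
theorem exists_mul_eq_zero {S : Type u} [CommRing S] [Algebra R S] [Algebra.Etale R S]
    (f : S →ₐ[R] Rh) (s : S) (hs : f s = 0) : ∃ u : S, IsUnit (f u) ∧ u * s = 0 := by
  let σ : S →ₐ[R] p.ResidueField := (rho R p Rh).comp f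
  let π : Localization.AtPrime p ⊗[R] S →ₐ[Localization.AtPrime p] p.ResidueField :=
    Algebra.TensorProduct.lift (Algebra.ofId _ _) σ (fun _ _ => Commute.all _ _)
  have hπ : ∀ x : S, π (1 ⊗ₜ[R] x) = σ x := fun x => by
    simp [π]
  obtain ⟨i, ⟨e₁⟩⟩ := Nbhd.exists_loc_equiv (Localization.AtPrime p ⊗[R] S) π
  obtain ⟨e₂⟩ := Henselization.nonempty_algEquiv (A := Localization.AtPrime p) Rh
  let F : Localization.AtPrime p ⊗[R] S →ₐ[Localization.AtPrime p] Rh :=
    (e₂.symm : Henselization (Localization.AtPrime p) →ₐ[Localization.AtPrime p] Rh).comp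
      ((Henselization.ofₐ (Localization.AtPrime p) i).comp
        ((e₁ : _ →ₐ[Localization.AtPrime p] i.G).comp
          (IsScalarTower.toAlgHom (Localization.AtPrime p) (Localization.AtPrime p ⊗[R] S)
            (EtaleNbhd.Loc (Localization.AtPrime p) (Localization.AtPrime p ⊗[R] S) π))))
  have hF : ∀ z, F z = e₂.symm (Henselization.of _ i (e₁ (algebraMap _
      (EtaleNbhd.Loc (Localization.AtPrime p) (Localization.AtPrime p ⊗[R] S) π) z))) :=
    fun z => rfl
  have hFunit : ∀ z, IsUnit (F z) ↔ π z ≠ 0 := by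
    intro z
    rw [hF]
    have h1 : IsUnit (e₂.symm (Henselization.of _ i (e₁ (algebraMap _
        (EtaleNbhd.Loc (Localization.AtPrime p) (Localization.AtPrime p ⊗[R] S) π) z)))) ↔
        IsUnit (algebraMap _
          (EtaleNbhd.Loc (Localization.AtPrime p) (Localization.AtPrime p ⊗[R] S) π) z) := by
      constructor
      · intro h
        have h2 := h.map e₂
        rw [e₂.apply_symm_apply] at h2
        have h3 := (Henselization.isLocalHom_of (Localization.AtPrime p) i).map_nonunit _ h2
        have h4 := h3.map e₁.symm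
        rwa [e₁.symm_apply_apply] at h4
      · intro h
        exact ((h.map e₁).map (Henselization.of _ i)).map e₂.symm
    rw [h1, IsLocalization.AtPrime.isUnit_to_map_iff _ (RingHom.ker π)]
    show z ∉ RingHom.ker π ↔ _
    rw [RingHom.mem_ker]
  let f' : S →ₐ[R] Rh := (F.restrictScalars R).comp Algebra.TensorProduct.includeRight
  have hf' : ∀ x, f' x = F (1 ⊗ₜ[R] x) := fun x => rfl
  have hff' : f' = f := by
    apply algHom_unique p
    ext x
    simp only [Ideal.mem_comap, mem_maximalIdeal, mem_nonunits_iff]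
    rw [show f'.toRingHom x = f' x from rfl, show f.toRingHom x = f x from rfl, hf', hFunit, hπ,
      isUnit_iff_rho_ne_zero p]
    rfl
  have h0 : algebraMap _
      (EtaleNbhd.Loc (Localization.AtPrime p) (Localization.AtPrime p ⊗[R] S) π)
      ((1 : Localization.AtPrime p) ⊗ₜ[R] s) = 0 := by
    have h1 : f' s = 0 := by rw [hff', hs]
    rw [hf', hF] at h1
    have h2 := (EmbeddingLike.map_eq_zero_iff (f := e₂.symm)).1 h1
    have h3 := (injective_iff_map_eq_zero (Henselization.of (Localization.AtPrime p) i)).1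
      (HensStruct.of_injective i) _ h2
    exact (EmbeddingLike.map_eq_zero_iff (f := e₁)).1 h3
  obtain ⟨v, hv⟩ := (IsLocalization.map_eq_zero_iff (RingHom.ker π).primeCompl _ _).1 h0
  obtain ⟨u', t, t', ht, ht', h1, h2⟩ := exists_descend p (v : Localization.AtPrime p ⊗[R] S) s hv
  have hne : ∀ t ∈ p.primeCompl, σ (algebraMap R S t) ≠ 0 := by
    intro t ht
    rw [AlgHom.commutes, Ne, Ideal.algebraMap_residueField_eq_zero]
    exact ht
  refine ⟨algebraMap R S t' * u', ?_, by rw [mul_assoc, h2]⟩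
  rw [map_mul]
  refine IsUnit.mul ?_ ?_
  · rw [isUnit_iff_rho_ne_zero p]
    exact hne t' ht'
  · rw [isUnit_iff_rho_ne_zero p]
    show σ u' ≠ 0
    rw [← hπ, h1, map_mul, hπ]
    exact mul_ne_zero (fun h => v.2 (RingHom.mem_ker.2 h)) (hne t ht)

end Groth.Agent.Lib.Helper12.HensColim
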