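import Groth.Agent.Lib.Helper12.EtaleNbhd
import Mathlib.Algebra.Colimit.Ring
import Mathlib.RingTheory.FinitePresentation

set_option autoImplicit false
universe u

/-!
# The henselization of a local ring: index system

The index type `Nbhd A` is a small skeleton of the étale neighbourhoods `(C, π)` of the local
ring `A` with trivial residue field extension.  The local rings `G i` form a directed system
indexed by the preorder `i ≤ j ↔ Nonempty (G i →ₐ[A] G j)`.
-/

namespace Groth.Agent.Lib.Helper12

open IsLocalRing TensorProduct EtaleNbhd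

/-- A small skeleton of étale neighbourhoods of `A` with trivial residue extension. -/
structure Nbhd (A : Type u) [CommRing A] [IsLocalRing A] : Type u where
  n : ℕ
  I : Ideal (MvPolynomial (Fin n) A)
  etale : Algebra.Etale A (MvPolynomial (Fin n) A ⧸ I)
  π : (MvPolynomial (Fin n) A ⧸ I) →ₐ[A] ResidueField A

namespace Nbhd

variable {A : Type u} [CommRing A] [IsLocalRing A]

/-- The étale algebra of the neighbourhood. -/
abbrev Ring (i : Nbhd A) : Type u := MvPolynomial (Fin i.n) A ⧸ i.I

instance (i : Nbhd A) : Algebra.Etale A i.Ring := i.etale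

/-- The local ring of the neighbourhood. -/
abbrev G (i : Nbhd A) : Type u := Loc A i.Ring i.π

theorem isStrictlyEssentiallyEtale (i : Nbhd A) : EGA4loc.IsStrictlyEssentiallyEtale A i.G :=
  EtaleNbhd.isStrictlyEssentiallyEtale A i.Ring i.π

instance (i : Nbhd A) (B : Type*) [CommRing B] [IsLocalRing B] [Algebra A B]
    [IsLocalHom (algebraMap A B)] : Subsingleton (i.G →ₐ[A] B) :=
  algHom_subsingleton_of_isStrictlyEssentiallyEtale A i.G i.isStrictlyEssentiallyEtale B

instance : Preorder (Nbhd A) where
  le i j := Nonempty (i.G →ₐ[A] j.G)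
  le_refl i := ⟨AlgHom.id A _⟩
  le_trans _ _ _ := fun ⟨f⟩ ⟨g⟩ => ⟨g.comp f⟩

/-- The transition maps. -/
noncomputable def trans (i j : Nbhd A) (h : i ≤ j) : i.G →ₐ[A] j.G := Classical.choice h

/-- The transition maps as ring homomorphisms. -/
noncomputable def transR (i j : Nbhd A) (h : i ≤ j) : i.G →+* j.G := (trans i j h).toRingHom

instance : DirectedSystem (fun i : Nbhd A => i.G) (fun i j h => transR i j h) where
  map_self i x := by
    have : trans i i le_rfl = AlgHom.id A _ := Subsingleton.elim _ _
    show trans i i le_rfl x = x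
    rw [this]; rfl
  map_map k j i hij hjk x := by
    have : (trans j k hjk).comp (trans i j hij) = trans i k (hij.trans hjk) :=
      Subsingleton.elim _ _
    show trans j k hjk (trans i j hij x) = trans i k (hij.trans hjk) x
    rw [← this]; rfl

/-- Every étale neighbourhood (in the same universe) is isomorphic to one in the skeleton. -/
theorem exists_equiv (C : Type u) [CommRing C] [Algebra A C] [Algebra.Etale A C]
    (π : C →ₐ[A] ResidueField A) :
    ∃ (i : Nbhd A) (e : C ≃ₐ[A] i.Ring), i.π.comp (e : C →ₐ[A] i.Ring) = π := by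
  obtain ⟨n, f, hf, -⟩ := (Algebra.FinitePresentation.out : ∃ n, ∃ f : MvPolynomial (Fin n) A →ₐ[A] C, _)
  let e : (MvPolynomial (Fin n) A ⧸ RingHom.ker f.toRingHom) ≃ₐ[A] C :=
    Ideal.quotientKerAlgEquivOfSurjective hf
  refine ⟨⟨n, RingHom.ker f.toRingHom, Algebra.Etale.of_equiv e.symm,
    π.comp (e : _ →ₐ[A] C)⟩, e.symm, ?_⟩
  ext c
  simp

end Nbhd

end Groth.Agent.Lib.Helper12

namespace Groth.Agent.Lib.Helper12

open IsLocalRing TensorProduct EtaleNbhd

namespace Nbhd

variable {A : Type u} [CommRing A] [IsLocalRing A]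

/-- The local ring of any étale neighbourhood is isomorphic to one in the skeleton. -/
theorem exists_loc_equiv (C : Type u) [CommRing C] [Algebra A C] [Algebra.Etale A C]
    (π : C →ₐ[A] ResidueField A) : ∃ i : Nbhd A, Nonempty (Loc A C π ≃ₐ[A] i.G) := by
  obtain ⟨i, e, he⟩ := exists_equiv C π
  refine ⟨i, ⟨Localization.localAlgEquiv (RingHom.ker π) (RingHom.ker i.π) e ?_⟩⟩
  ext c
  rw [Ideal.mem_comap, RingHom.mem_ker, RingHom.mem_ker, ← he]
  rfl

instance : Nonempty (Nbhd A) := by
  obtain ⟨i, -⟩ := exists_loc_equiv (A := A) A (Algebra.ofId A (ResidueField A))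
  exact ⟨i⟩

instance : IsDirectedOrder (Nbhd A) where
  directed i j := by
    haveI : Algebra.Etale A (i.Ring ⊗[A] j.Ring) := etale_tensorProduct A i.Ring j.Ring
    obtain ⟨k, ⟨e⟩⟩ := exists_loc_equiv (i.Ring ⊗[A] j.Ring) (prodPi A i.Ring i.π j.Ring j.π)
    refine ⟨k, ⟨?_⟩, ⟨?_⟩⟩
    · exact (e : _ →ₐ[A] k.G).comp
        (locMap (π' := prodPi A i.Ring i.π j.Ring j.π) Algebra.TensorProduct.includeLeft
          (prodPi_comp_includeLeft A i.Ring i.π j.Ring j.π))
    · exact (e : _ →ₐ[A] k.G).comp
        (locMap (π' := prodPi A i.Ring i.π j.Ring j.π) Algebra.TensorProduct.includeRight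
          (prodPi_comp_includeRight A i.Ring i.π j.Ring j.π))

/-- Any map of local rings from an étale neighbourhood to a skeleton neighbourhood. -/
theorem le_of_algHom {i j : Nbhd A} (f : i.G →ₐ[A] j.G) : i ≤ j := ⟨f⟩

end Nbhd

end Groth.Agent.Lib.Helper12
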