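import Groth.Agent.Lib.Helper5.ComplIso
import Groth.Agent.Lib.Helper21.DepthKit12
import Groth.Agent.S3866
import Mathlib.RingTheory.AdicCompletion.LocalRing

/-!
# The completion of a quotient of a Noetherian local ring
-/

set_option autoImplicit false
universe u

namespace Groth.Agent.Lib.Helper12.HensFC

open IsLocalRing

section

variable {B C : Type u} [CommRing B] [CommRing C] [IsLocalRing B] [IsLocalRing C]
  (φ : B →+* C)

/-- Elements of the extension `J C` are approximated by images of elements of `J`. -/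
theorem exists_sub_mem_of_mem_map (N : Ideal C)
    (hsurj : ∀ c : C, ∃ b : B, c - φ b ∈ N) (J : Ideal B) (y : C) (hy : y ∈ J.map φ) :
    ∃ j ∈ J, y - φ j ∈ N := by
  refine Submodule.span_induction (p := fun y _ => ∃ j ∈ J, y - φ j ∈ N) ?_ ?_ ?_ ?_ hy
  · rintro _ ⟨j, hj, rfl⟩
    exact ⟨j, hj, by simp⟩
  · exact ⟨0, J.zero_mem, by simp⟩
  · rintro y y' - - ⟨j, hj, h⟩ ⟨j', hj', h'⟩
    refine ⟨j + j', J.add_mem hj hj', ?_⟩
    have := N.add_mem h h'
    rw [map_add]
    convert this using 1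
    ring
  · rintro r y - ⟨j, hj, h⟩
    obtain ⟨b, hb⟩ := hsurj r
    refine ⟨b * j, J.mul_mem_left _ hj, ?_⟩
    have e : r • y - φ (b * j) = φ b * (y - φ j) + (r - φ b) * y := by
      rw [map_mul, smul_eq_mul]
      ring
    rw [e]
    exact N.add_mem (N.mul_mem_left _ h) (N.mul_mem_right _ hb)

end

/-- If `C` "is" the completion of the Noetherian local ring `B` (complete, with `B/m^n ≅ C/m^n`
for all `n`), then the completion of `B/J` is `C/JC`. -/
theorem nonempty_complEquiv_quotient (B C : Type u) [CommRing B] [CommRing C] [IsLocalRing B]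
    [IsLocalRing C] [IsNoetherianRing C] [IsAdicComplete (maximalIdeal C) C]
    (φ : B →+* C) (hm : (maximalIdeal B).map φ = maximalIdeal C)
    (hinj : ∀ (n : ℕ) (b : B), φ b ∈ maximalIdeal C ^ n → b ∈ maximalIdeal B ^ n)
    (hsurj : ∀ (n : ℕ) (c : C), ∃ b : B, c - φ b ∈ maximalIdeal C ^ n)
    (J : Ideal B) [IsLocalRing (B ⧸ J)] :
    ∃ (_ : IsLocalRing (C ⧸ J.map φ)),
      Nonempty (AdicCompletion (maximalIdeal (B ⧸ J)) (B ⧸ J) ≃+* (C ⧸ J.map φ)) := by
  have hJtop : J ≠ ⊤ := by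
    intro h
    have : Nontrivial (B ⧸ J) := inferInstance
    rw [Ideal.Quotient.nontrivial_iff] at this
    exact this h
  have hJm : J ≤ maximalIdeal B := le_maximalIdeal hJtop
  have hJC : J.map φ ≤ maximalIdeal C := by
    rw [← hm]; exact Ideal.map_mono hJm
  haveI : Nontrivial (C ⧸ J.map φ) := Ideal.Quotient.nontrivial_iff.2 (fun h => by
    rw [h] at hJC
    exact (maximalIdeal.isMaximal C).ne_top (top_le_iff.1 hJC))
  haveI hQloc : IsLocalRing (C ⧸ J.map φ) :=
    IsLocalRing.of_surjective' (Ideal.Quotient.mk _) Ideal.Quotient.mk_surjective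
  refine ⟨hQloc, ?_⟩
  -- maximal ideals of the quotients
  have hmQ : (maximalIdeal C).map (algebraMap C (C ⧸ J.map φ)) = maximalIdeal (C ⧸ J.map φ) :=
    Groth.Agent.Lib.Helper21.DepthKit.map_maximalIdeal_of_surjective Ideal.Quotient.mk_surjective
  have hmBJ : (maximalIdeal B).map (algebraMap B (B ⧸ J)) = maximalIdeal (B ⧸ J) :=
    Groth.Agent.Lib.Helper21.DepthKit.map_maximalIdeal_of_surjective Ideal.Quotient.mk_surjective
  -- completeness of the quotient
  haveI hcompl : IsAdicComplete (maximalIdeal (C ⧸ J.map φ)) (C ⧸ J.map φ) := by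
    have h1 : IsAdicComplete (maximalIdeal C) (C ⧸ J.map φ) :=
      Groth.Agent.S3866.result C (maximalIdeal C) (C ⧸ J.map φ)
    rw [← hmQ]
    haveI : IsHausdorff ((maximalIdeal C).map (algebraMap C (C ⧸ J.map φ))) (C ⧸ J.map φ) :=
      (IsHausdorff.map_algebraMap_iff (I := maximalIdeal C) (S := C ⧸ J.map φ)
        (M := C ⧸ J.map φ)).2 h1.toIsHausdorff
    haveI : IsPrecomplete ((maximalIdeal C).map (algebraMap C (C ⧸ J.map φ))) (C ⧸ J.map φ) :=
      (IsPrecomplete.map_algebraMap_iff (I := maximalIdeal C) (S := C ⧸ J.map φ)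
        (M := C ⧸ J.map φ)).2 h1.toIsPrecomplete
    exact {}
  let φbar : B ⧸ J →+* C ⧸ J.map φ := Ideal.quotientMap (J.map φ) φ Ideal.le_comap_map
  letI : Algebra (B ⧸ J) (C ⧸ J.map φ) := φbar.toAlgebra
  have hφbar : ∀ b : B, algebraMap (B ⧸ J) (C ⧸ J.map φ) (Ideal.Quotient.mk J b) =
      Ideal.Quotient.mk (J.map φ) (φ b) := fun b => rfl
  have hpowQ : ∀ n : ℕ, maximalIdeal (C ⧸ J.map φ) ^ n =
      (maximalIdeal C ^ n).map (Ideal.Quotient.mk (J.map φ)) := by
    intro n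
    rw [Ideal.map_pow]
    congr 1
    exact hmQ.symm
  have hpowBJ : ∀ n : ℕ, maximalIdeal (B ⧸ J) ^ n =
      (maximalIdeal B ^ n).map (Ideal.Quotient.mk J) := by
    intro n
    rw [Ideal.map_pow]
    congr 1
    exact hmBJ.symm
  have hφpow : ∀ (n : ℕ) (b : B), b ∈ maximalIdeal B ^ n → φ b ∈ maximalIdeal C ^ n := by
    intro n b hb
    have := Ideal.mem_map_of_mem φ hb
    rwa [Ideal.map_pow, hm] at this
  suffices hE : Nonempty (AdicCompletion (maximalIdeal (B ⧸ J)) (B ⧸ J) ≃ₐ[B ⧸ J]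
      AdicCompletion (maximalIdeal (C ⧸ J.map φ)) (C ⧸ J.map φ)) by
    obtain ⟨e⟩ := hE
    exact ⟨(e : _ ≃+* _).trans
      (AdicCompletion.ofAlgEquiv (maximalIdeal (C ⧸ J.map φ))).symm.toRingEquiv⟩
  refine Groth.Agent.Lib.Helper5.ComplIso.complEquiv (R := B ⧸ J)
    (Algebra.ofId (B ⧸ J) (C ⧸ J.map φ)) (maximalIdeal (B ⧸ J)) (maximalIdeal (C ⧸ J.map φ))
    ?_ ?_ ?_
  · intro n x hx
    rw [hpowBJ] at hx
    obtain ⟨b, hb, rfl⟩ := (Ideal.mem_map_iff_of_surjective _ Ideal.Quotient.mk_surjective).1 hx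
    rw [Ideal.mem_comap, hpowQ]
    show algebraMap (B ⧸ J) (C ⧸ J.map φ) (Ideal.Quotient.mk J b) ∈ _
    rw [hφbar]
    exact Ideal.mem_map_of_mem _ (hφpow n b hb)
  · intro n x hx
    obtain ⟨b, rfl⟩ := Ideal.Quotient.mk_surjective x
    have hx' : Ideal.Quotient.mk (J.map φ) (φ b) ∈ maximalIdeal (C ⧸ J.map φ) ^ n := hx
    rw [hpowQ] at hx'
    obtain ⟨c, hc, hcb⟩ := (Ideal.mem_map_iff_of_surjective _ Ideal.Quotient.mk_surjective).1 hx'
    have h1 : φ b - c ∈ J.map φ := by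
      rw [← Ideal.Quotient.eq]; exact hcb.symm
    obtain ⟨j, hj, hjN⟩ := exists_sub_mem_of_mem_map φ (maximalIdeal C ^ n) (hsurj n) J _ h1
    have h2 : φ (b - j) ∈ maximalIdeal C ^ n := by
      have := (maximalIdeal C ^ n).add_mem hjN hc
      rw [map_sub]
      convert this using 1
      ring
    have h3 := hinj n _ h2
    rw [hpowBJ]
    have h4 : Ideal.Quotient.mk J b = Ideal.Quotient.mk J (b - j) := by
      rw [map_sub, Ideal.Quotient.eq_zero_iff_mem.2 hj, sub_zero]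
    rw [h4]
    exact Ideal.mem_map_of_mem _ h3
  · intro n s
    obtain ⟨c, rfl⟩ := Ideal.Quotient.mk_surjective s
    obtain ⟨b, hb⟩ := hsurj n c
    refine ⟨Ideal.Quotient.mk J b, ?_⟩
    show Ideal.Quotient.mk (J.map φ) c -
      algebraMap (B ⧸ J) (C ⧸ J.map φ) (Ideal.Quotient.mk J b) ∈ _
    rw [hφbar, ← map_sub, hpowQ]
    exact Ideal.mem_map_of_mem _ hb

end Groth.Agent.Lib.Helper12.HensFC
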