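import Mathlib
import Groth.Agent.Lib.Helper12.HensFFB
import Groth.Agent.Lib.Helper22.FormalFibQuot

/-!
# Formal fibres of the henselization (EGA IV 18.7.x): geometric normality
-/

set_option autoImplicit false
set_option linter.style.haveILetI false
universe u
open IsLocalRing TensorProduct

namespace Groth.Agent.Lib.Helper12.HensFF

open Groth.Agent.Lib.Helper22

/-- the formal fibres of the henselization are geometrically normal when those of `A` are -/
theorem hasGeomNormalFormalFibres_henselization (A : Type u) [CommRing A] [IsLocalRing A]
    [IsNoetherianRing A] (h : EGA4.HasGeomNormalFormalFibres A) :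
    EGA4.HasGeomNormalFormalFibres (Henselization A) := by
  obtain ⟨e⟩ := HensCompl.nonempty_complEquiv A
  haveI : Module.Flat A (EGA4.Cpl A) := AdicCompletion.flat_of_isNoetherian _
  have h0 : EGA4.IsNormalHom A (EGA4.Cpl A) := ⟨inferInstance, h⟩
  have h1 : EGA4.IsNormalHom A (EGA4.Cpl (Henselization A)) :=
    FormalFibQuot.isNormalHom_of_algEquiv e h0
  exact (isNormalHom_henselization A (EGA4.Cpl (Henselization A)) h1).2

end Groth.Agent.Lib.Helper12.HensFF
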