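import Mathlib.RingTheory.Henselian
import Mathlib.Algebra.Polynomial.Taylor

set_option autoImplicit false

namespace Groth.Agent.Lib.Helper12

open Polynomial IsLocalRing

/-- To check that a local ring is henselian, it suffices to lift the simple root `0`. -/
theorem henselianLocalRing_of_root_zero (R : Type*) [CommRing R] [IsLocalRing R]
    (h : ∀ p : R[X], p.Monic → p.coeff 0 ∈ maximalIdeal R → IsUnit (p.coeff 1) →
      ∃ a ∈ maximalIdeal R, p.IsRoot a) : HenselianLocalRing R where
  is_henselian f hf a₀ h₁ h₂ := by
    have hm : (taylor a₀ f).Monic := by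
      rw [Monic, leadingCoeff_taylor]; exact hf
    obtain ⟨c, hc, hroot⟩ := h (taylor a₀ f) hm (by rwa [taylor_coeff_zero])
      (by rwa [taylor_coeff_one])
    refine ⟨c + a₀, ?_, by simpa using hc⟩
    rw [IsRoot.def, taylor_eval] at hroot
    exact hroot

end Groth.Agent.Lib.Helper12
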