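import Groth.Agent.Lib.Helper12.Henselization
import Groth.Agent.Lib.Helper12.EtaleNbhdRoot2
import Groth.Agent.Lib.Helper12.HenselZero

set_option autoImplicit false
universe u

namespace Groth.Agent.Lib.Helper12

open IsLocalRing TensorProduct EtaleNbhd Polynomial

variable (A : Type u) [CommRing A] [IsLocalRing A]

namespace Henselization

instance henselian : HenselianLocalRing (Henselization A) := by
  apply henselianLocalRing_of_root_zero
  intro p hp h0 h1
  obtain ⟨i, p₀, hp₀⟩ := Ring.DirectLimit.Polynomial.exists_of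
    (G := fun i : Nbhd A => i.G) (f' := fun i j h => Nbhd.transR i j h) p
  have hlift : p ∈ lifts (of A i) := ⟨p₀, hp₀⟩
  obtain ⟨pi, hpi, -, hpim⟩ := lifts_and_natDegree_eq_and_monic hlift hp
  have h0' : pi.coeff 0 ∈ maximalIdeal i.G := by
    by_contra hu
    rw [mem_maximalIdeal, mem_nonunits_iff, not_not] at hu
    have := hu.map (of A i)
    rw [← coeff_map, hpi] at this
    exact h0 this
  have h1' : IsUnit (pi.coeff 1) := by
    apply (isLocalHom_of A i).map_nonunit
    rw [← coeff_map, hpi]
    exact h1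
  obtain ⟨C', _, _, _, π', φ, hφ, a, ha, hroot⟩ :=
    exists_nbhd_root_loc i.Ring i.π pi hpim h0' h1'
  obtain ⟨j, ⟨e⟩⟩ := Nbhd.exists_loc_equiv C' π'
  let ψ : i.G →ₐ[A] j.G := (e : _ →ₐ[A] j.G).comp (locMap φ hφ)
  refine ⟨of A j (e a), ?_, ?_⟩
  · rw [mem_maximalIdeal, mem_nonunits_iff]
    intro hu
    have h2 : IsUnit (e a) := (isLocalHom_of A j).map_nonunit _ hu
    have h3 : IsUnit (e.symm (e a)) := h2.map e.symm
    rw [e.symm_apply_apply] at h3
    exact ha h3
  · rw [IsRoot.def, ← hpi]
    have h4 : of A i = (of A j).comp ψ.toRingHom := by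
      ext x
      exact (of_algHom ψ x).symm
    rw [h4, ← Polynomial.map_map, eval_map_apply]
    have h5 : pi.map ψ.toRingHom =
        (pi.map (locMap φ hφ).toRingHom).map (e : _ →ₐ[A] j.G).toRingHom := by
      rw [Polynomial.map_map]
      rfl
    have h6 : (pi.map ψ.toRingHom).eval (e a) = 0 := by
      rw [h5]
      have := eval_map_apply (p := pi.map (locMap φ hφ).toRingHom)
        (e : _ →ₐ[A] j.G).toRingHom a
      rw [hroot, map_zero] at this
      exact this
    rw [h6, map_zero]

end Henselization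

end Groth.Agent.Lib.Helper12
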