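import Mathlib
import Groth.Agent.Lib.Helper12.HensFFC
import Groth.Agent.Lib.Helper12.FEquiM
import Groth.Agent.Lib.Helper12.HenselizationHens
import Groth.Agent.Lib.Helper22.HensCplDomain
import Groth.Agent.Lib.Helper29.HenselUniv
import Groth.Agent.Lib.lead.DimFormulaEq

/-!
# The henselization of a local ring with geometrically normal formal fibres is universally
catenary (EGA IV 18.9.x)
-/

set_option autoImplicit false
set_option linter.style.haveILetI false
universe u
open IsLocalRing TensorProduct

namespace Groth.Agent.Lib.Helper12.HensFF

open Groth.Agent.Lib.Helper22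

/-- a henselian Noetherian local ring with geometrically normal formal fibres is universally
catenary -/
theorem isUniversallyCatenary_of_henselian (H : Type u) [CommRing H] [HenselianLocalRing H]
    [IsNoetherianRing H] (h : EGA4.HasGeomNormalFormalFibres H) :
    CAlg.IsUniversallyCatenary H := by
  apply FEqui.isUniversallyCatenary_of_isFormallyCatenary
  apply FEqui.isFormallyCatenary_of_minimalPrimes
  intro q₀ _ _ _
  haveI : IsDomain (H ⧸ q₀) := Ideal.Quotient.isDomain q₀
  haveI : HenselianLocalRing (H ⧸ q₀) := Groth.Agent.Lib.Helper29.henselian_quotient H q₀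
  have hq := FormalFibQuot.hasGeomNormalFormalFibres_quotient H h q₀
  haveI := HensCplDomain.isDomain_cpl (H ⧸ q₀) hq
  exact FEqui.isEquidim_of_isDomain _

/-- **S9230** -/
theorem henselization_isUniversallyCatenary (A S : Type u) [CommRing A]
    [IsLocalRing A] [IsNoetherianRing A] [CommRing S] [IsLocalRing S] [Algebra A S]
    [IsLocalHom (algebraMap A S)] [Hensel.IsHenselization A S]
    (hA : EGA4.HasGeomNormalFormalFibres A) : CAlg.IsUniversallyCatenary S := by
  obtain ⟨ε⟩ := Henselization.nonempty_algEquiv (A := A) S
  have hH : CAlg.IsUniversallyCatenary (Henselization A) :=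
    isUniversallyCatenary_of_henselian (Henselization A)
      (hasGeomNormalFormalFibres_henselization A hA)
  letI : Algebra (Henselization A) S := (ε.symm : Henselization A →+* S).toAlgebra
  haveI : Algebra.FiniteType (Henselization A) S :=
    Algebra.FiniteType.of_surjective (Algebra.ofId (Henselization A) S) ε.symm.surjective
  exact Groth.Agent.Lib.lead.DimFormulaEq.univCat_of_finiteType (Henselization A) hH S

end Groth.Agent.Lib.Helper12.HensFF
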