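import Mathlib
import Groth.Agent.Lib.Helper12.HenselIntegralLocal2

/-!
# A normal local domain whose integral closure in a separable closure is local is henselian
-/

set_option autoImplicit false
universe u

namespace Groth.Agent.Lib.Helper12.HensGalois

open Polynomial IsLocalRing

section H

variable (A L Ks : Type u) [CommRing A] [IsDomain A] [IsLocalRing A] [IsIntegrallyClosed A]
  [Field L] [Algebra A L] [IsFractionRing A L] [Field Ks] [Algebra L Ks] [Algebra A Ks]
  [IsScalarTower A L Ks] [Normal L Ks] [IsSepClosed Ks]
  [IsLocalRing (integralClosure A Ks)]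

/-- Galois conjugation preserves the maximal ideal of the (local) integral closure. -/
theorem mem_maximalIdeal_of_conj (σ : Ks ≃ₐ[L] Ks) (x y : integralClosure A Ks)
    (hxy : (y : Ks) = σ (x : Ks)) (hx : x ∈ maximalIdeal (integralClosure A Ks)) :
    y ∈ maximalIdeal (integralClosure A Ks) := by
  by_contra hy
  have hu : IsUnit y := by
    by_contra h
    exact hy ((mem_maximalIdeal y).mpr h)
  obtain ⟨w, hw⟩ := hu.exists_right_inv
  let τ : Ks →ₐ[A] Ks := (σ.symm : Ks →ₐ[L] Ks).restrictScalars A
  have hw' : IsIntegral A (τ (w : Ks)) := w.2.map τ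
  have hx1 : x * ⟨τ (w : Ks), hw'⟩ = 1 := by
    apply Subtype.ext
    show (x : Ks) * σ.symm (w : Ks) = 1
    have h1 : (y : Ks) * (w : Ks) = 1 := congrArg Subtype.val hw
    rw [hxy] at h1
    have h2 := congrArg σ.symm h1
    rw [map_mul, σ.symm_apply_apply, map_one] at h2
    exact h2
  exact (mem_maximalIdeal x).mp hx (IsUnit.of_mul_eq_one _ hx1)

include Ks in
theorem exists_root_of_irreducible (f : A[X]) (hf : f.Monic)
    (hirr : Irreducible (f.map (algebraMap A L)))
    (a₀ : A) (h₁ : f.eval a₀ ∈ maximalIdeal A) (h₂ : IsUnit (f.derivative.eval a₀)) :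
    ∃ a : A, f.IsRoot a ∧ a - a₀ ∈ maximalIdeal A := by
  classical
  let B := integralClosure A Ks
  haveI : IsLocalHom (algebraMap A B) := HensInt.isLocalHom_of_isIntegral A B
  have hinjAL : Function.Injective (algebraMap A L) := IsFractionRing.injective A L
  have hinjBK : Function.Injective (algebraMap B Ks) := Subtype.val_injective
  -- separability
  have hder : (f.map (algebraMap A L)).derivative ≠ 0 := by
    rw [derivative_map]
    intro h0
    have : f.derivative = 0 := Polynomial.map_injective _ hinjAL (by rw [h0, Polynomial.map_zero])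
    rw [this, eval_zero] at h₂
    exact not_isUnit_zero h₂
  have hsep : (f.map (algebraMap A L)).Separable :=
    (separable_iff_derivative_ne_zero hirr).mpr hder
  have hmapK : (f.map (algebraMap A L)).map (algebraMap L Ks) = f.map (algebraMap A Ks) := by
    rw [Polynomial.map_map, ← IsScalarTower.algebraMap_eq]
  have hsplit : (f.map (algebraMap A Ks)).Splits := by
    rw [← hmapK]
    exact IsSepClosed.splits_codomain _ hsep
  have hmonK : (f.map (algebraMap A Ks)).Monic := hf.map _
  set s := (f.map (algebraMap A Ks)).roots with hs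
  have hprod : f.map (algebraMap A Ks) = (s.map (X - C ·)).prod :=
    hsplit.eq_prod_roots_of_monic hmonK
  have hroot : ∀ α ∈ s, (f.map (algebraMap A Ks)).eval α = 0 := fun α hα =>
    (Polynomial.mem_roots hmonK.ne_zero).mp hα
  have hint : ∀ α ∈ s, IsIntegral A α := fun α hα =>
    ⟨f, hf, by rw [← eval_map]; exact hroot α hα⟩
  -- the roots in `B`
  obtain ⟨s', hs'⟩ : ∃ s' : Multiset B, s'.map (algebraMap B Ks) = s := by
    refine ⟨s.attach.map (fun α => (⟨α.1, hint α.1 α.2⟩ : B)), ?_⟩
    rw [Multiset.map_map]
    exact Multiset.attach_map_val s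
  have hprodB : f.map (algebraMap A B) = (s'.map (X - C ·)).prod := by
    apply Polynomial.map_injective _ hinjBK
    rw [Polynomial.map_map, ← IsScalarTower.algebraMap_eq, hprod, Polynomial.map_multiset_prod,
      Multiset.map_map, ← hs', Multiset.map_map]
    congr 1
    apply Multiset.map_congr rfl
    intro b _
    simp
  -- reduce modulo the maximal ideal of `B`
  let ρ : B →+* ResidueField B := residue B
  set c : ResidueField B := ρ (algebraMap A B a₀) with hc
  have hprodκ : (f.map (algebraMap A B)).map ρ = ((s'.map ρ).map (X - C ·)).prod := by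
    rw [hprodB, Polynomial.map_multiset_prod, Multiset.map_map, Multiset.map_map]
    congr 1
    apply Multiset.map_congr rfl
    intro b _
    simp
  have hmonκ : ((f.map (algebraMap A B)).map ρ).Monic := (hf.map _).map _
  have hrootsκ : ((f.map (algebraMap A B)).map ρ).roots = s'.map ρ := by
    rw [hprodκ, roots_multiset_prod_X_sub_C]
  have hc_root : c ∈ s'.map ρ := by
    rw [← hrootsκ, Polynomial.mem_roots hmonκ.ne_zero, IsRoot.def, Polynomial.map_map, eval_map,
      hc, ← RingHom.comp_apply, eval₂_at_apply]
    have hmem : algebraMap A B (f.eval a₀) ∈ maximalIdeal B := by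
      rw [mem_maximalIdeal, mem_nonunits_iff]
      intro hu
      exact (mem_maximalIdeal _).mp h₁ (isUnit_of_map_unit (algebraMap A B) _ hu)
    exact (residue_eq_zero_iff _).mpr hmem
  obtain ⟨α₀, hα₀, hα₀c⟩ := Multiset.mem_map.mp hc_root
  have hmin : ∀ γ ∈ s, minpoly L γ = f.map (algebraMap A L) := by
    intro γ hγ
    refine (minpoly.eq_of_irreducible_of_monic hirr ?_ (hf.map _)).symm
    rw [aeval_def, eval₂_eq_eval_map, hmapK]
    exact hroot γ hγ
  have hall : ∀ β ∈ s', ρ β = c := by
    intro β hβ
    have hα₀s : (α₀ : Ks) ∈ s := by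
      rw [← hs']; exact Multiset.mem_map_of_mem _ hα₀
    have hβs : (β : Ks) ∈ s := by
      rw [← hs']; exact Multiset.mem_map_of_mem _ hβ
    have hconj : IsConjRoot L (β : Ks) (α₀ : Ks) := by
      rw [IsConjRoot, hmin _ hα₀s, hmin _ hβs]
    obtain ⟨σ, hσ⟩ := isConjRoot_iff_exists_algEquiv.mp hconj
    have hx : α₀ - algebraMap A B a₀ ∈ maximalIdeal B := by
      rw [← residue_eq_zero_iff, map_sub, sub_eq_zero]; exact hα₀c
    have hy := mem_maximalIdeal_of_conj A L Ks σ (α₀ - algebraMap A B a₀)
      (β - algebraMap A B a₀) ?_ hx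
    · rw [← residue_eq_zero_iff, map_sub, sub_eq_zero] at hy; exact hy
    · show (β : Ks) - algebraMap A Ks a₀ = σ ((α₀ : Ks) - algebraMap A Ks a₀)
      rw [map_sub, hσ, IsScalarTower.algebraMap_apply A L Ks, σ.commutes]
  have hrep : s'.map ρ = Multiset.replicate (Multiset.card s') c := by
    rw [Multiset.eq_replicate]
    refine ⟨Multiset.card_map _ _, fun b hb => ?_⟩
    obtain ⟨β, hβ, rfl⟩ := Multiset.mem_map.mp hb
    exact hall β hβ
  set n := Multiset.card s' with hn
  have hpow : (f.map (algebraMap A B)).map ρ = (X - C c) ^ n := by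
    rw [hprodκ, hrep, Multiset.map_replicate, Multiset.prod_replicate]
  have hderκ : ((f.map (algebraMap A B)).map ρ).derivative.eval c ≠ 0 := by
    rw [derivative_map, derivative_map, Polynomial.map_map, eval_map, hc, ← RingHom.comp_apply,
      eval₂_at_apply]
    have hu : IsUnit ((ρ.comp (algebraMap A B)) (f.derivative.eval a₀)) := h₂.map _
    exact hu.ne_zero
  have hn1 : n = 1 := by
    rcases Nat.lt_or_ge n 2 with h | h
    · have : n ≠ 0 := by
        intro h0
        rw [hrep, h0, Multiset.replicate_zero] at hc_root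
        exact Multiset.notMem_zero _ hc_root
      omega
    · exfalso
      apply hderκ
      rw [hpow, derivative_X_sub_C_pow, eval_mul, eval_pow, eval_sub, eval_X, eval_C, eval_C,
        sub_self, zero_pow (by omega), mul_zero]
  have hdeg : f.natDegree = 1 := by
    have h1 : (f.map (algebraMap A Ks)).natDegree = Multiset.card s :=
      hsplit.natDegree_eq_card_roots
    rw [hf.natDegree_map] at h1
    have h2 : Multiset.card s' = Multiset.card s := by rw [← hs', Multiset.card_map]
    rw [h1, ← h2]; exact hn1
  have hfX := hf.eq_X_add_C hdeg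
  have key : ∀ x, f.eval x = x + f.coeff 0 := fun x => by
    conv_lhs => rw [hfX]
    simp
  refine ⟨-f.coeff 0, ?_, ?_⟩
  · rw [IsRoot.def, key]; ring
  · have h3 : -f.coeff 0 - a₀ = -(f.eval a₀) := by rw [key]; ring
    rw [h3]
    exact (Ideal.neg_mem_iff _).mpr h₁

include L Ks in
theorem exists_root (n : ℕ) : ∀ (f : A[X]), f.natDegree = n → f.Monic → ∀ a₀ : A,
    f.eval a₀ ∈ maximalIdeal A → IsUnit (f.derivative.eval a₀) →
    ∃ a : A, f.IsRoot a ∧ a - a₀ ∈ maximalIdeal A := by
  induction n using Nat.strong_induction_on with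
  | _ n ih =>
    intro f hn hf a₀ h₁ h₂
    by_cases hirr : Irreducible f
    · exact exists_root_of_irreducible A L Ks f hf
        ((hf.irreducible_iff_irreducible_map_fraction_map (K := L)).mp hirr) a₀ h₁ h₂
    · have hnu : ¬ IsUnit f := by
        intro hu
        have : f = 1 := hf.eq_one_of_isUnit hu
        rw [this, eval_one] at h₁
        exact (mem_maximalIdeal _).mp h₁ isUnit_one
      -- the inductive step for a monic factorization
      have step : ∀ g h : A[X], g.Monic → h.Monic → f = g * h → g.natDegree < n →
          g.eval a₀ ∈ maximalIdeal A → ∃ a : A, f.IsRoot a ∧ a - a₀ ∈ maximalIdeal A := by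
        intro g h hg hh hfgh hdeg hga
        have hder : f.derivative.eval a₀ =
            g.derivative.eval a₀ * h.eval a₀ + g.eval a₀ * h.derivative.eval a₀ := by
          rw [hfgh, derivative_mul, eval_add, eval_mul, eval_mul]
        have hgu : IsUnit (g.derivative.eval a₀) := by
          by_contra hnot
          have h1 : g.derivative.eval a₀ ∈ maximalIdeal A := (mem_maximalIdeal _).mpr hnot
          have h2 : f.derivative.eval a₀ ∈ maximalIdeal A := by
            rw [hder]
            exact Ideal.add_mem _ (Ideal.mul_mem_right _ _ h1) (Ideal.mul_mem_right _ _ hga)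
          exact (mem_maximalIdeal _).mp h2 h₂
        obtain ⟨a, ha, haa⟩ := ih g.natDegree hdeg g rfl hg a₀ hga hgu
        refine ⟨a, ?_, haa⟩
        rw [IsRoot.def, hfgh, eval_mul, ha, zero_mul]
      rw [irreducible_iff] at hirr
      push Not at hirr
      obtain ⟨g, h, hfgh, hg, hh⟩ := hirr hnu
      have hlc : g.leadingCoeff * h.leadingCoeff = 1 := by
        rw [← leadingCoeff_mul, ← hfgh, hf.leadingCoeff]
      have hlcg : g.leadingCoeff ≠ 0 := left_ne_zero_of_mul_eq_one hlc
      have hlch : h.leadingCoeff ≠ 0 := right_ne_zero_of_mul_eq_one hlc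
      set g' := C h.leadingCoeff * g with hg'
      set h' := C g.leadingCoeff * h with hh'
      have hg'm : g'.Monic := by
        rw [Monic, hg', leadingCoeff_mul, leadingCoeff_C, mul_comm, hlc]
      have hh'm : h'.Monic := by
        rw [Monic, hh', leadingCoeff_mul, leadingCoeff_C, hlc]
      have hf' : f = g' * h' := by
        rw [hg', hh']
        calc f = C (g.leadingCoeff * h.leadingCoeff) * (g * h) := by
              rw [hlc, C_1, one_mul, hfgh]
          _ = C h.leadingCoeff * g * (C g.leadingCoeff * h) := by
              rw [C_mul]; ring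
      have hg'nu : ¬ IsUnit g' := by
        intro hu
        apply hg
        have : IsUnit (C g.leadingCoeff * g') := (isUnit_C.mpr (IsUnit.of_mul_eq_one _ hlc)).mul hu
        have h2 : C g.leadingCoeff * g' = g := by
          rw [hg', ← mul_assoc, ← C_mul, hlc, C_1, one_mul]
        rwa [h2] at this
      have hh'nu : ¬ IsUnit h' := by
        intro hu
        apply hh
        have : IsUnit (C h.leadingCoeff * h') :=
          (isUnit_C.mpr (IsUnit.of_mul_eq_one _ (by rw [mul_comm]; exact hlc))).mul hu
        have h2 : C h.leadingCoeff * h' = h := by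
          rw [hh', ← mul_assoc, ← C_mul, mul_comm h.leadingCoeff, hlc, C_1, one_mul]
        rwa [h2] at this
      have hg'deg : g'.natDegree ≠ 0 := fun h0 =>
        hg'nu (by rw [hg'm.natDegree_eq_zero.mp h0]; exact isUnit_one)
      have hh'deg : h'.natDegree ≠ 0 := fun h0 =>
        hh'nu (by rw [hh'm.natDegree_eq_zero.mp h0]; exact isUnit_one)
      have hdegsum : n = g'.natDegree + h'.natDegree := by
        rw [← hn, hf', hg'm.natDegree_mul hh'm]
      have hprodm : g'.eval a₀ * h'.eval a₀ ∈ maximalIdeal A := by
        rw [← eval_mul, ← hf']; exact h₁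
      rcases (Ideal.IsPrime.mem_or_mem inferInstance hprodm) with hga | hha
      · exact step g' h' hg'm hh'm hf' (by omega) hga
      · exact step h' g' hh'm hg'm (by rw [hf', mul_comm]) (by omega) hha

include L Ks in
/-- A normal local domain whose integral closure in a separable closure of its fraction field
is local is henselian. -/
theorem henselianLocalRing_of_isLocalRing_integralClosure : HenselianLocalRing A where
  is_henselian f hf a₀ h₁ h₂ := exists_root A L Ks f.natDegree f rfl hf a₀ h₁ h₂

end H

end Groth.Agent.Lib.Helper12.HensGalois
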