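import Mathlib

/-!
# Orbit polynomials for group actions with finite orbits
-/

set_option autoImplicit false
universe u

namespace Groth.Agent.Lib.Helper12.HensGalois

open Polynomial

section Orbit

variable {B : Type*} [CommRing B] {G : Type*} [Group G] [MulSemiringAction G B]

/-- If a subgroup `H` preserves an ideal `P` and `x ∈ P` has finite `H`-orbit, then `x`
satisfies a monic equation whose lower coefficients are `H`-invariant elements of `P`. -/
theorem exists_invariant_equation (H : Subgroup G) (P : Ideal B)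
    (hP : ∀ σ ∈ H, ∀ x ∈ P, σ • x ∈ P) (x : B) (hx : x ∈ P)
    (hfin : (Set.range (fun σ : H => (σ : G) • x)).Finite) :
    ∃ (r : ℕ) (c : ℕ → B), (∀ n, ∀ σ ∈ H, σ • c n = c n) ∧ (∀ n, c n ∈ P) ∧
      x ^ r = ∑ n ∈ Finset.range r, c n * x ^ n := by
  classical
  rcases subsingleton_or_nontrivial B with hB | hB
  · exact ⟨0, fun _ => 0, fun n σ _ => smul_zero _, fun n => zero_mem _, Subsingleton.elim _ _⟩
  set O : Finset B := hfin.toFinset with hO
  have hmemO : ∀ y, y ∈ O ↔ ∃ σ ∈ H, σ • x = y := by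
    intro y
    rw [hO, Set.Finite.mem_toFinset, Set.mem_range]
    constructor
    · rintro ⟨σ, rfl⟩; exact ⟨σ, σ.2, rfl⟩
    · rintro ⟨σ, hσ, rfl⟩; exact ⟨⟨σ, hσ⟩, rfl⟩
  have hxO : x ∈ O := (hmemO x).mpr ⟨1, H.one_mem, one_smul _ _⟩
  have hOP : ∀ y ∈ O, y ∈ P := by
    intro y hy
    obtain ⟨σ, hσ, rfl⟩ := (hmemO y).mp hy
    exact hP σ hσ x hx
  set p : B[X] := ∏ y ∈ O, (X - C y) with hp
  have hmonic : p.Monic := monic_prod_of_monic _ _ fun y _ => monic_X_sub_C y
  have hdeg : p.natDegree = O.card := by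
    rw [hp, natDegree_prod_of_monic _ _ fun y _ => monic_X_sub_C y]
    simp
  have heval : p.eval x = 0 := by
    rw [hp, eval_prod]
    exact Finset.prod_eq_zero hxO (by simp)
  have hinv : ∀ σ ∈ H, σ • p = p := by
    intro σ hσ
    rw [hp, Finset.smul_prod']
    refine Finset.prod_bij (fun y _ => σ • y) ?_ ?_ ?_ ?_
    · intro y hy
      obtain ⟨τ, hτ, rfl⟩ := (hmemO y).mp hy
      exact (hmemO _).mpr ⟨σ * τ, H.mul_mem hσ hτ, mul_smul _ _ _⟩
    · intro y _ z _ hyz
      exact smul_left_cancel σ hyz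
    · intro z hz
      obtain ⟨τ, hτ, rfl⟩ := (hmemO z).mp hz
      refine ⟨σ⁻¹ • τ • x, (hmemO _).mpr ⟨σ⁻¹ * τ, H.mul_mem (H.inv_mem hσ) hτ, mul_smul _ _ _⟩, ?_⟩
      rw [smul_inv_smul]
    · intro y _
      rw [smul_sub, Polynomial.smul_X, Polynomial.smul_C]
  have hcoeffinv : ∀ n, ∀ σ ∈ H, σ • p.coeff n = p.coeff n := by
    intro n σ hσ
    rw [← Polynomial.coeff_smul, hinv σ hσ]
  have hmap : p.map (Ideal.Quotient.mk P) = X ^ O.card := by
    rw [hp, Polynomial.map_prod]
    rw [Finset.prod_congr rfl (g := fun _ => (X : (B ⧸ P)[X]))]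
    · rw [Finset.prod_const]
    · intro y hy
      rw [Polynomial.map_sub, Polynomial.map_X, Polynomial.map_C,
        Ideal.Quotient.eq_zero_iff_mem.mpr (hOP y hy), C_0, sub_zero]
  have hcoeffP : ∀ n, n ≠ O.card → p.coeff n ∈ P := by
    intro n hn
    rw [← Ideal.Quotient.eq_zero_iff_mem, ← Polynomial.coeff_map, hmap, coeff_X_pow, if_neg hn]
  refine ⟨O.card, fun n => if n < O.card then - p.coeff n else 0, ?_, ?_, ?_⟩
  · intro n σ hσ
    by_cases hn : n < O.card
    · simp only [if_pos hn]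
      rw [smul_neg, hcoeffinv n σ hσ]
    · simp only [if_neg hn, smul_zero]
  · intro n
    by_cases hn : n < O.card
    · simp only [if_pos hn]
      exact (Ideal.neg_mem_iff _).mpr (hcoeffP n (Nat.ne_of_lt hn))
    · simp only [if_neg hn]
      exact zero_mem _
  · have h1 : p.eval x = ∑ n ∈ Finset.range (O.card + 1), p.coeff n * x ^ n := by
      rw [eval_eq_sum_range, hdeg]
    rw [heval, Finset.sum_range_succ, ← hdeg, hmonic.coeff_natDegree, one_mul, hdeg] at h1
    have h2 : x ^ O.card = - ∑ n ∈ Finset.range O.card, p.coeff n * x ^ n := by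
      rw [eq_neg_iff_add_eq_zero, add_comm]; exact h1.symm
    rw [h2, ← Finset.sum_neg_distrib]
    refine Finset.sum_congr rfl fun n hn => ?_
    dsimp only
    rw [if_pos (Finset.mem_range.mp hn), neg_mul]

end Orbit

end Groth.Agent.Lib.Helper12.HensGalois
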