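import Mathlib
import Groth.Agent.Lib.Helper12.HensGaloisA

/-!
# Henselian localizations of integral closures in infinite separable extensions
-/

set_option autoImplicit false
universe u

namespace Groth.Agent.Lib.Helper12.HensGalois

open IsLocalRing

section G

variable (R K Ks L : Type u) [CommRing R] [IsDomain R] [Field K] [Algebra R K] [IsFractionRing R K]
  [Field Ks] [Algebra K Ks] [Algebra R Ks] [IsScalarTower R K Ks] [IsSepClosed Ks]
  [Field L] [Algebra K L] [Algebra L Ks] [IsScalarTower K L Ks] [Algebra R L] [IsScalarTower R K L]
  [IsScalarTower R L Ks] [Algebra.IsAlgebraic K L] [Normal L Ks]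

/-- The inclusion of integral closures. -/
noncomputable def iota : integralClosure R L →ₐ[R] integralClosure R Ks :=
  ((IsScalarTower.toAlgHom R L Ks).comp (integralClosure R L).val).codRestrict
    (integralClosure R Ks) (fun y => y.2.map (IsScalarTower.toAlgHom R L Ks))

theorem iota_coe (y : integralClosure R L) :
    ((iota R Ks L y : integralClosure R Ks) : Ks) = algebraMap L Ks (y : L) := rfl

include K in
theorem henselianLocalRing_atPrime (Ps : Ideal (integralClosure R Ks)) [Ps.IsMaximal]
    (Q : Ideal (integralClosure R L)) [Q.IsPrime]
    (hU : ∀ x ∈ Ps, ∃ n : ℕ, x ^ n ∈ Q.map (iota R Ks L)) :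
    HenselianLocalRing (Localization.AtPrime Q) := by
  classical
  have hinjRL : ∀ x : R, algebraMap R L x = 0 → x = 0 := by
    intro x hx
    rw [IsScalarTower.algebraMap_apply R K L, map_eq_zero_iff _ (algebraMap K L).injective] at hx
    exact (IsFractionRing.to_map_eq_zero_iff).mp hx
  haveI : Algebra.IsAlgebraic R L :=
    IsFractionRing.comap_isAlgebraic_iff.mpr (inferInstance : Algebra.IsAlgebraic K L)
  haveI hfracRL : IsFractionRing (integralClosure R L) L :=
    integralClosure.isFractionRing_of_algebraic hinjRL
  haveI : IsIntegrallyClosed (integralClosure R L) := by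
    rw [isIntegrallyClosed_iff L]
    intro x hx
    have : IsIntegral R x := isIntegral_trans x hx
    exact ⟨⟨x, this⟩, rfl⟩
  -- the algebra structure `A → L`
  have hunits : ∀ y : Q.primeCompl, IsUnit (algebraMap (integralClosure R L) L y) := by
    intro y
    apply IsUnit.mk0
    intro h0
    have : (y : integralClosure R L) = 0 :=
      (IsFractionRing.injective (integralClosure R L) L) (by rw [h0, map_zero])
    exact y.2 (by rw [this]; exact zero_mem _)
  letI algAL : Algebra (Localization.AtPrime Q) L :=
    (IsLocalization.lift (M := Q.primeCompl) (g := algebraMap (integralClosure R L) L)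
      hunits).toAlgebra
  haveI : IsScalarTower (integralClosure R L) (Localization.AtPrime Q) L :=
    IsScalarTower.of_algebraMap_eq (fun y => (IsLocalization.lift_eq hunits y).symm)
  haveI : IsFractionRing (Localization.AtPrime Q) L :=
    IsFractionRing.isFractionRing_of_isDomain_of_isLocalization Q.primeCompl
      (Localization.AtPrime Q) L
  haveI : IsIntegrallyClosed (Localization.AtPrime Q) :=
    isIntegrallyClosed_of_isLocalization _ Q.primeCompl Q.primeCompl_le_nonZeroDivisors
  letI algAKs : Algebra (Localization.AtPrime Q) Ks :=
    ((algebraMap L Ks).comp (algebraMap (Localization.AtPrime Q) L)).toAlgebra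
  haveI : IsScalarTower (Localization.AtPrime Q) L Ks :=
    IsScalarTower.of_algebraMap_eq (fun _ => rfl)
  haveI : IsScalarTower (integralClosure R L) (Localization.AtPrime Q) Ks := by
    refine IsScalarTower.of_algebraMap_eq (fun y => ?_)
    rw [IsScalarTower.algebraMap_apply (Localization.AtPrime Q) L Ks,
      ← IsScalarTower.algebraMap_apply (integralClosure R L) (Localization.AtPrime Q) L]
    rfl
  haveI : IsScalarTower R (Localization.AtPrime Q) Ks := by
    refine IsScalarTower.of_algebraMap_eq (fun r => ?_)
    rw [IsScalarTower.algebraMap_apply R (integralClosure R L) (Localization.AtPrime Q),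
      ← IsScalarTower.algebraMap_apply (integralClosure R L) (Localization.AtPrime Q) Ks,
      IsScalarTower.algebraMap_apply R L Ks]
    rfl
  -- the integral closure of `A` is local
  haveI : IsLocalRing (integralClosure (Localization.AtPrime Q) Ks) := by
    let j : integralClosure R Ks →+* integralClosure (Localization.AtPrime Q) Ks :=
      { toFun := fun x => ⟨(x : Ks), IsIntegral.tower_top x.2⟩
        map_one' := rfl
        map_mul' := fun _ _ => rfl
        map_zero' := rfl
        map_add' := fun _ _ => rfl }
    have hcomap : ∀ M : Ideal (integralClosure (Localization.AtPrime Q) Ks), M.IsMaximal →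
        M.comap j = Ps := by
      intro M hM
      have hQM : Q.map (iota R Ks L) ≤ M.comap j := by
        rw [Ideal.map_le_iff_le_comap]
        intro q hq
        rw [Ideal.mem_comap, Ideal.mem_comap]
        have h1 : j (iota R Ks L q) =
            algebraMap (Localization.AtPrime Q) (integralClosure (Localization.AtPrime Q) Ks)
              (algebraMap (integralClosure R L) (Localization.AtPrime Q) q) := by
          apply Subtype.ext
          show algebraMap L Ks (q : L) =
            algebraMap (Localization.AtPrime Q) Ks
              (algebraMap (integralClosure R L) (Localization.AtPrime Q) q)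
          rw [← IsScalarTower.algebraMap_apply (integralClosure R L) (Localization.AtPrime Q) Ks]
          rfl
        rw [h1]
        have h2 : algebraMap (integralClosure R L) (Localization.AtPrime Q) q ∈
            maximalIdeal (Localization.AtPrime Q) := by
          rw [← Localization.AtPrime.map_eq_maximalIdeal]
          exact Ideal.mem_map_of_mem _ hq
        exact HensInt.map_maximalIdeal_le_of_isMaximal (Localization.AtPrime Q)
          (integralClosure (Localization.AtPrime Q) Ks) M (Ideal.mem_map_of_mem _ h2)
      have hle : Ps ≤ M.comap j := by
        intro x hx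
        obtain ⟨n, hn⟩ := hU x hx
        have : x ^ n ∈ M.comap j := hQM hn
        exact Ideal.IsPrime.mem_of_pow_mem (Ideal.comap_isPrime j M) n this
      exact (Ideal.IsMaximal.eq_of_le ‹Ps.IsMaximal› (Ideal.comap_isPrime j M).ne_top hle).symm
    have huniq : ∀ M1 M2 : Ideal (integralClosure (Localization.AtPrime Q) Ks),
        M1.IsMaximal → M2.IsMaximal → M1 ≤ M2 := by
      intro M1 M2 hM1 hM2 y hy
      obtain ⟨m, hm⟩ := IsIntegral.exists_multiple_integral_of_isLocalization Q.primeCompl
        (y : Ks) y.2
      have hmR : IsIntegral R (m • (y : Ks)) := isIntegral_trans _ hm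
      let z : integralClosure R Ks := ⟨m • (y : Ks), hmR⟩
      have hz : j z =
          algebraMap (Localization.AtPrime Q) (integralClosure (Localization.AtPrime Q) Ks)
            (algebraMap (integralClosure R L) (Localization.AtPrime Q) m) * y := by
        apply Subtype.ext
        show m • (y : Ks) = algebraMap (Localization.AtPrime Q) Ks
          (algebraMap (integralClosure R L) (Localization.AtPrime Q) m) * (y : Ks)
        rw [← IsScalarTower.algebraMap_apply (integralClosure R L) (Localization.AtPrime Q) Ks,
          Submonoid.smul_def, Algebra.smul_def]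
      have h1 : z ∈ M1.comap j := by
        rw [Ideal.mem_comap, hz]; exact Ideal.mul_mem_left _ _ hy
      rw [hcomap M1 hM1, ← hcomap M2 hM2, Ideal.mem_comap, hz] at h1
      have hu : IsUnit (algebraMap (Localization.AtPrime Q)
          (integralClosure (Localization.AtPrime Q) Ks)
            (algebraMap (integralClosure R L) (Localization.AtPrime Q) m)) :=
        (IsLocalization.map_units (Localization.AtPrime Q) m).map _
      exact (Ideal.unit_mul_mem_iff_mem _ hu).mp h1
    obtain ⟨M, hM⟩ := Ideal.exists_maximal (integralClosure (Localization.AtPrime Q) Ks)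
    exact IsLocalRing.of_unique_max_ideal ⟨M, hM, fun M' hM' =>
      le_antisymm (huniq M' M hM' hM) (huniq M M' hM hM')⟩
  exact henselianLocalRing_of_isLocalRing_integralClosure (Localization.AtPrime Q) L Ks

end G

end Groth.Agent.Lib.Helper12.HensGalois
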