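import Mathlib
import Groth.Agent.Lib.Helper12.HensGaloisB
import Groth.Agent.Lib.Helper12.HensGaloisC

/-!
# Fixed fields of groups preserving a maximal ideal of the integral closure in a separable closure
-/

set_option autoImplicit false
universe u

namespace Groth.Agent.Lib.Helper12.HensGalois

open IsLocalRing Polynomial

section D

variable (R K Ks : Type u) [CommRing R] [IsDomain R] [Field K] [Algebra R K] [IsFractionRing R K]
  [Field Ks] [Algebra K Ks] [IsSepClosure K Ks] [Algebra R Ks] [IsScalarTower R K Ks]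

/-- The Galois group commutes with the action of the base ring. -/
instance smulCommClass_aux : SMulCommClass (Ks ≃ₐ[K] Ks) R Ks := ⟨fun σ r x => by
  show σ (r • x) = r • σ x
  rw [Algebra.smul_def, Algebra.smul_def, map_mul, IsScalarTower.algebraMap_apply R K Ks,
    σ.commutes]⟩

theorem coe_smul_integralClosure (σ : Ks ≃ₐ[K] Ks) (x : integralClosure R Ks) :
    ((σ • x : integralClosure R Ks) : Ks) = σ (x : Ks) := rfl

/-- The decomposition group of an ideal of the integral closure. -/
def decomp (Ps : Ideal (integralClosure R Ks)) : Subgroup (Ks ≃ₐ[K] Ks) where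
  carrier := {σ | ∀ x : integralClosure R Ks, σ • x ∈ Ps ↔ x ∈ Ps}
  mul_mem' := by
    intro σ τ hσ hτ x
    rw [mul_smul, hσ (τ • x), hτ x]
  one_mem' := by
    intro x
    rw [one_smul]
  inv_mem' := by
    intro σ hσ x
    rw [← hσ (σ⁻¹ • x), smul_inv_smul]

theorem mem_decomp_of_forall (Ps : Ideal (integralClosure R Ks)) [Ps.IsMaximal]
    (σ : Ks ≃ₐ[K] Ks) (h : ∀ x ∈ Ps, σ • x ∈ Ps) : σ ∈ decomp R K Ks Ps := by
  intro x
  let φ : integralClosure R Ks →+* integralClosure R Ks :=
    MulSemiringAction.toRingHom (Ks ≃ₐ[K] Ks) (integralClosure R Ks) σ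
  have hle : Ps ≤ Ps.comap φ := fun y hy => h y hy
  have hne : Ps.comap φ ≠ ⊤ := (Ideal.comap_isPrime φ Ps).ne_top
  have heq : Ps = Ps.comap φ := Ideal.IsMaximal.eq_of_le ‹Ps.IsMaximal› hne hle
  constructor
  · intro hx
    rw [heq]
    exact hx
  · intro hx
    exact h x hx

theorem finite_orbit (H : Subgroup (Ks ≃ₐ[K] Ks)) (x : integralClosure R Ks) :
    (Set.range (fun σ : H => ((σ : Ks ≃ₐ[K] Ks)) • x)).Finite := by
  have hintK : IsIntegral K (x : Ks) := IsIntegral.tower_top x.2
  have hfin : ((minpoly K (x : Ks)).rootSet Ks).Finite := rootSet_finite _ _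
  have hfin2 : ((fun y : integralClosure R Ks => (y : Ks)) ⁻¹'
      ((minpoly K (x : Ks)).rootSet Ks)).Finite :=
    hfin.preimage (Subtype.val_injective.injOn)
  refine hfin2.subset ?_
  rintro _ ⟨σ, rfl⟩
  rw [Set.mem_preimage, mem_rootSet]
  refine ⟨minpoly.ne_zero hintK, ?_⟩
  show aeval ((σ : Ks ≃ₐ[K] Ks) (x : Ks)) (minpoly K (x : Ks)) = 0
  have h := Polynomial.aeval_algHom_apply (((σ : Ks ≃ₐ[K] Ks)) : Ks →ₐ[K] Ks) (x : Ks)
    (minpoly K (x : Ks))
  rw [minpoly.aeval, map_zero] at h
  exact h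

/-- The main theorem: the local ring of the integral closure in the fixed field of a set of
automorphisms preserving `Ps`, at the prime below `Ps`, is henselian. -/
theorem henselianLocalRing_of_fixedField (Ps : Ideal (integralClosure R Ks)) [Ps.IsMaximal]
    (S : Set (Ks ≃ₐ[K] Ks))
    (hS : ∀ σ ∈ S, ∀ x : integralClosure R Ks, x ∈ Ps →
      ∃ h : σ (x : Ks) ∈ integralClosure R Ks, (⟨σ (x : Ks), h⟩ : integralClosure R Ks) ∈ Ps)
    (L : IntermediateField K Ks) (hL : L = IntermediateField.fixedField (Subgroup.closure S))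
    (Q : Ideal (integralClosure R L)) [Q.IsPrime]
    (hQ : ∀ y : integralClosure R L, y ∈ Q ↔
      ∃ x : integralClosure R Ks, x ∈ Ps ∧ (x : Ks) = ((y : L) : Ks)) :
    HenselianLocalRing (Localization.AtPrime Q) := by
  haveI : IsSepClosed Ks := IsSepClosure.sep_closed K
  haveI : IsGalois K Ks := inferInstance
  haveI : IsGalois L Ks := inferInstance
  haveI : Normal L Ks := inferInstance
  haveI : Algebra.IsAlgebraic K Ks := inferInstance
  haveI : Algebra.IsAlgebraic K L := inferInstance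
  haveI : IsScalarTower R L Ks := IsScalarTower.of_algebraMap_eq (fun r => rfl)
  apply henselianLocalRing_atPrime R K Ks L Ps Q
  intro x hx
  -- `S` lies in the decomposition group
  have hSD : S ⊆ (decomp R K Ks Ps : Set (Ks ≃ₐ[K] Ks)) := by
    intro σ hσ
    apply mem_decomp_of_forall
    intro y hy
    obtain ⟨h, hmem⟩ := hS σ hσ y hy
    exact hmem
  have hclD : Subgroup.closure S ≤ decomp R K Ks Ps := (Subgroup.closure_le _).mpr hSD
  obtain ⟨r, c, hcinv, hcP, hxr⟩ := exists_invariant_equation (decomp R K Ks Ps) Ps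
    (fun σ hσ y hy => (hσ y).mpr hy) x hx (finite_orbit R K Ks _ x)
  have hcL : ∀ n, (c n : Ks) ∈ L := by
    intro n
    rw [hL, IntermediateField.mem_fixedField_iff]
    intro σ hσ
    have := hcinv n σ (hclD hσ)
    exact congrArg Subtype.val this
  have hcint : ∀ n, IsIntegral R (⟨(c n : Ks), hcL n⟩ : L) := by
    intro n
    refine (isIntegral_algHom_iff (IsScalarTower.toAlgHom R L Ks)
      (algebraMap L Ks).injective).mp ?_
    exact (c n).2
  let q : ℕ → integralClosure R L := fun n => ⟨⟨(c n : Ks), hcL n⟩, hcint n⟩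
  have hqQ : ∀ n, q n ∈ Q := fun n => (hQ (q n)).mpr ⟨c n, hcP n, rfl⟩
  have hiq : ∀ n, iota R Ks L (q n) = c n := fun n => Subtype.ext rfl
  refine ⟨r, ?_⟩
  rw [hxr]
  refine Ideal.sum_mem _ fun n _ => ?_
  rw [← hiq n]
  exact Ideal.mul_mem_right _ _ (Ideal.mem_map_of_mem _ (hqQ n))

end D

end Groth.Agent.Lib.Helper12.HensGalois
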