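import Groth.Agent.Lib.Helper12.HenselSection
import Mathlib.RingTheory.Idempotents

set_option autoImplicit false
universe u

namespace Groth.Agent.Lib.Helper12

open IsLocalRing TensorProduct

/-- Local splitting: over a henselian local ring, a finite type algebra quasi-finite at a prime
`q` over the closed point has an idempotent cutting out a finite piece whose only prime over the
closed point is `q`. -/
theorem exists_idem_finite_of_quasiFiniteAt (R : Type u) [CommRing R]
    [HenselianLocalRing R] (S : Type u) [CommRing S] [Algebra R S] [Algebra.FiniteType R S]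
    (q : Ideal S) [q.IsPrime] [q.LiesOver (maximalIdeal R)] [Algebra.QuasiFiniteAt R q] :
    ∃ e : S, IsIdempotentElem e ∧ e ∉ q ∧ Module.Finite R (S ⧸ Ideal.span {1 - e}) ∧
      ∀ q' : Ideal S, q'.IsPrime → q'.LiesOver (maximalIdeal R) → e ∉ q' → q' = q := by
  classical
  obtain ⟨R', _, _, _, P, _, _, e, he, P', _, _, hP'q, heP', hP, hfin, H⟩ :=
    Algebra.exists_etale_isIdempotentElem_forall_liesOver_eq (R := R) (S := S)
      (maximalIdeal R) q
  obtain ⟨s, hs⟩ := exists_section_of_etale R R' P hP
  let π : R' ⊗[R] S →ₐ[R] S :=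
    Algebra.TensorProduct.lift ((Algebra.ofId R S).comp s) (AlgHom.id R S)
      (fun _ _ => Commute.all _ _)
  have hπ : Function.Surjective π := fun x => ⟨1 ⊗ₜ x, by simp [π]⟩
  have hπincl : ∀ x : S, π (Algebra.TensorProduct.includeRight x) = x := fun x => by simp [π]
  have key : ∀ Q : Ideal S, Q.IsPrime → Q.LiesOver (maximalIdeal R) →
      (Ideal.comap π.toRingHom Q).IsPrime ∧ (Ideal.comap π.toRingHom Q).LiesOver P ∧
      (Ideal.comap π.toRingHom Q).comap Algebra.TensorProduct.includeRight.toRingHom = Q := by
    intro Q hQ hQm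
    refine ⟨Ideal.comap_isPrime _ _, ⟨?_⟩, ?_⟩
    · have hQm : Ideal.comap (algebraMap R S) Q = maximalIdeal R := (hQm.over).symm
      rw [Ideal.under, Ideal.comap_comap, ← hs, ← hQm, Ideal.comap_comap]
      congr 1
      ext x
      simp [π, Algebra.TensorProduct.algebraMap_apply, Algebra.ofId_apply]
    · ext x
      simp only [Ideal.mem_comap]
      show π (Algebra.TensorProduct.includeRight x) ∈ Q ↔ _
      rw [hπincl]
  obtain ⟨hq1, hq2, hq3⟩ := key q inferInstance inferInstance
  have hPq : Ideal.comap π.toRingHom q = P' :=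
    Ideal.eq_of_comap_eq_comap_of_bijective_residueFieldMap hP _ _ (hq3.trans hP'q.symm)
  refine ⟨π e, he.map π, ?_, ?_, ?_⟩
  · intro hmem
    apply heP'
    rw [← hPq]
    exact hmem
  · -- finiteness
    let g : R' ⊗[R] S →+* S ⧸ Ideal.span {1 - π e} :=
      (Ideal.Quotient.mk _).comp π.toRingHom
    have hge : g e = 1 := by
      show Ideal.Quotient.mk _ (π e) = 1
      rw [← map_one (Ideal.Quotient.mk _), Ideal.Quotient.eq, ← Ideal.neg_mem_iff, neg_sub]
      exact Ideal.mem_span_singleton_self _
    let ψ : Localization.Away e →+* S ⧸ Ideal.span {1 - π e} :=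
      IsLocalization.Away.lift e (g := g) (by rw [hge]; exact isUnit_one)
    have hψ : ∀ t, ψ (algebraMap _ _ t) = g t := fun t => IsLocalization.Away.lift_eq _ _ _
    have hssurj : Function.Surjective s.toRingHom := fun r => ⟨algebraMap R R' r, by simp⟩
    have : RingHomSurjective s.toRingHom := ⟨hssurj⟩
    let ψ' : Localization.Away e →ₛₗ[s.toRingHom] S ⧸ Ideal.span {1 - π e} :=
      { toFun := ψ
        map_add' := map_add ψ
        map_smul' := fun r' w => by
          simp only [Algebra.smul_def, map_mul]
          congr 1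
          rw [IsScalarTower.algebraMap_apply R' (R' ⊗[R] S) (Localization.Away e), hψ]
          show Ideal.Quotient.mk _ (π (algebraMap R' (R' ⊗[R] S) r')) = _
          simp [π, Algebra.TensorProduct.algebraMap_apply, Algebra.ofId_apply] }
    refine Module.Finite.of_surjective ψ' ?_
    intro z
    obtain ⟨x, rfl⟩ := Ideal.Quotient.mk_surjective z
    obtain ⟨t, rfl⟩ := hπ x
    exact ⟨algebraMap _ _ t, hψ t⟩
  · intro q' hq' hq'm heq'
    obtain ⟨h1, h2, h3⟩ := key q' hq' hq'm
    have := H _ h1 h2 heq'
    rw [← h3, this, hP'q]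

end Groth.Agent.Lib.Helper12
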