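import Mathlib
import Groth.Agent.Lib.Helper12.HenselQuasiFinite
import Groth.Agent.Lib.Helper12.PairLocal

/-!
# The finite local factor of a quasi-finite algebra over a henselian local ring
-/

set_option autoImplicit false
universe u

namespace Groth.Agent.Lib.Helper12

open IsLocalRing

theorem exists_finite_local_factor (R : Type u) [CommRing R] [HenselianLocalRing R]
    (T : Type u) [CommRing T] [Algebra R T] [Algebra.FiniteType R T]
    (Q : Ideal T) [Q.IsPrime] [Q.LiesOver (maximalIdeal R)] [Algebra.QuasiFiniteAt R Q] :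
    ∃ e : T, IsIdempotentElem e ∧ e ∉ Q ∧ Module.Finite R (T ⧸ Ideal.span {1 - e}) ∧
      HenselianLocalRing (T ⧸ Ideal.span {1 - e}) ∧
      ∀ t : T, IsUnit (Ideal.Quotient.mk (Ideal.span {1 - e}) t) ↔ t ∉ Q := by
  obtain ⟨e, he, heQ, hfin, huniq⟩ := exists_idem_finite_of_quasiFiniteAt R T Q
  refine ⟨e, he, heQ, hfin, ?_⟩
  set K : Ideal T := Ideal.span {1 - e} with hK
  haveI := hfin
  haveI : Algebra.IsIntegral R (T ⧸ K) := Algebra.IsIntegral.of_finite R (T ⧸ K)
  have hKQ : K ≤ Q := by
    rw [hK, Ideal.span_le, Set.singleton_subset_iff]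
    have : e * (1 - e) ∈ Q := by
      rw [mul_sub, mul_one, he.eq, sub_self]
      exact Q.zero_mem
    exact (Ideal.IsPrime.mem_or_mem inferInstance this).resolve_left heQ
  have hmke : Ideal.Quotient.mk K e = 1 := by
    rw [← map_one (Ideal.Quotient.mk K), Ideal.Quotient.eq, ← Ideal.neg_mem_iff, neg_sub]
    exact Ideal.mem_span_singleton_self _
  have hprime : ∀ P : Ideal (T ⧸ K), P.IsPrime →
      (maximalIdeal R).map (algebraMap R (T ⧸ K)) ≤ P → P = Q.map (Ideal.Quotient.mk K) := by
    intro P hP hle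
    have h1 : (P.comap (Ideal.Quotient.mk K)).IsPrime := Ideal.comap_isPrime _ _
    have h2 : (P.comap (Ideal.Quotient.mk K)).LiesOver (maximalIdeal R) := ⟨by
      have hle' : maximalIdeal R ≤ (P.comap (Ideal.Quotient.mk K)).comap (algebraMap R T) := by
        intro r hr
        rw [Ideal.mem_comap, Ideal.mem_comap]
        exact hle (Ideal.mem_map_of_mem _ hr)
      have hne : (P.comap (Ideal.Quotient.mk K)).comap (algebraMap R T) ≠ ⊤ :=
        (Ideal.comap_isPrime (algebraMap R T) _).ne_top
      exact ((maximalIdeal.isMaximal R).eq_of_le hne hle')⟩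
    have h3 : e ∉ P.comap (Ideal.Quotient.mk K) := by
      intro hmem
      rw [Ideal.mem_comap, hmke] at hmem
      exact hP.ne_top ((Ideal.eq_top_iff_one _).mpr hmem)
    have := huniq _ h1 h2 h3
    rw [← this, Ideal.map_comap_of_surjective _ Ideal.Quotient.mk_surjective]
  have hcomap : (Q.map (Ideal.Quotient.mk K)).comap (Ideal.Quotient.mk K) = Q := by
    rw [Ideal.comap_map_of_surjective _ Ideal.Quotient.mk_surjective, ← RingHom.ker_eq_comap_bot,
      Ideal.mk_ker]
    exact sup_eq_left.mpr hKQ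
  haveI : Nontrivial (T ⧸ K) := by
    apply Ideal.Quotient.nontrivial_iff.mpr
    intro htop
    exact (inferInstance : Q.IsPrime).ne_top (top_le_iff.mp (htop ▸ hKQ))
  have hmaxle : ∀ M : Ideal (T ⧸ K), M.IsMaximal →
      (maximalIdeal R).map (algebraMap R (T ⧸ K)) ≤ M := by
    intro M hM
    haveI := hM
    have : (M.comap (algebraMap R (T ⧸ K))).IsMaximal :=
      Ideal.isMaximal_comap_of_isIntegral_of_isMaximal M
    rw [Ideal.map_le_iff_le_comap, IsLocalRing.eq_maximalIdeal this]
  haveI hloc : IsLocalRing (T ⧸ K) := by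
    obtain ⟨M, hM⟩ := Ideal.exists_maximal (T ⧸ K)
    have hMQ : M = Q.map (Ideal.Quotient.mk K) := hprime M hM.isPrime (hmaxle M hM)
    refine IsLocalRing.of_unique_max_ideal ⟨M, hM, fun M' hM' => ?_⟩
    rw [hMQ]
    exact hprime M' hM'.isPrime (hmaxle M' hM')
  have hmC : maximalIdeal (T ⧸ K) = Q.map (Ideal.Quotient.mk K) :=
    hprime _ (maximalIdeal.isMaximal _).isPrime (hmaxle _ (maximalIdeal.isMaximal _))
  refine ⟨?_, ?_⟩
  · apply PairUnique.henselianLocalRing_of_henselianRing
    haveI : HenselianRing (T ⧸ K) ((maximalIdeal R).map (algebraMap R (T ⧸ K))) :=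
      henselianRing_map_of_isIntegral R (maximalIdeal R) (T ⧸ K)
    apply henselianRing_of_le_radical ((maximalIdeal R).map (algebraMap R (T ⧸ K)))
      (maximalIdeal (T ⧸ K)) (hmaxle _ (maximalIdeal.isMaximal _))
    intro x hx
    have : x ∈ ((maximalIdeal R).map (algebraMap R (T ⧸ K))).radical := by
      rw [Ideal.radical_eq_sInf, Ideal.mem_sInf]
      rintro P ⟨hle, hP⟩
      rw [hprime P hP hle, ← hmC]
      exact hx
    exact this
  · intro t
    rw [← IsLocalRing.notMem_maximalIdeal, hmC]
    constructor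
    · intro h ht
      exact h (Ideal.mem_map_of_mem _ ht)
    · intro ht hmem
      apply ht
      rw [← hcomap]
      exact hmem

end Groth.Agent.Lib.Helper12
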