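import Mathlib
import Groth.Agent.Lib.Helper12.QFLocalFactor
import Groth.Agent.Lib.Helper12.EssEtale2
import Groth.Agent.Lib.Helper12.HenselIntegralLocal

/-!
# Essentially étale local algebras over a henselian local ring are finite
-/

set_option autoImplicit false
universe u

namespace Groth.Agent.Lib.Helper12.HensInter

open IsLocalRing

theorem finite_of_isEssentiallyEtale (A : Type u) [CommRing A] [HenselianLocalRing A]
    (E : Type u) [CommRing E] [Algebra A E] (hE : EGA4loc.IsEssentiallyEtale A E) :
    Module.Finite A E := by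
  obtain ⟨C, _, _, q, _, hC, hq, ⟨e⟩⟩ := hE
  haveI : q.LiesOver (maximalIdeal A) := ⟨hq.symm⟩
  haveI : Algebra.QuasiFiniteAt A q :=
    quasiFinite_of_isEssentiallyEtale (A := A) (A₁ := Localization.AtPrime q)
      ⟨C, inferInstance, inferInstance, q, inferInstance, hC, hq, ⟨AlgEquiv.refl⟩⟩
  obtain ⟨e₀, he₀, he₀q, hfin, -, hunit⟩ := exists_finite_local_factor A C q
  have he1 : algebraMap C (Localization.AtPrime q) e₀ = 1 := by
    have hu : IsUnit (algebraMap C (Localization.AtPrime q) e₀) :=
      IsLocalization.map_units _ (⟨e₀, he₀q⟩ : q.primeCompl)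
    have hid : algebraMap C (Localization.AtPrime q) e₀ * algebraMap C (Localization.AtPrime q) e₀ =
        algebraMap C (Localization.AtPrime q) e₀ * 1 := by
      rw [← map_mul, he₀.eq, mul_one]
    exact hu.mul_left_cancel hid
  have hker : ∀ c ∈ Ideal.span {1 - e₀},
      (IsScalarTower.toAlgHom A C (Localization.AtPrime q)) c = 0 := by
    intro c hc
    obtain ⟨a, rfl⟩ := Ideal.mem_span_singleton'.mp hc
    show algebraMap C (Localization.AtPrime q) (a * (1 - e₀)) = 0
    rw [map_mul, map_sub, map_one, he1, sub_self, mul_zero]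
  let ρ : C ⧸ Ideal.span {1 - e₀} →ₐ[A] Localization.AtPrime q :=
    Ideal.Quotient.liftₐ (Ideal.span {1 - e₀}) (IsScalarTower.toAlgHom A C _) hker
  have hρ : ∀ c : C, ρ (Ideal.Quotient.mk _ c) = algebraMap C (Localization.AtPrime q) c :=
    fun c => rfl
  have hsurj : Function.Surjective ρ := by
    intro x
    obtain ⟨c, u, rfl⟩ := IsLocalization.exists_mk'_eq q.primeCompl x
    obtain ⟨v', hv'⟩ := ((hunit (u : C)).mpr u.2).exists_right_inv
    refine ⟨Ideal.Quotient.mk _ c * v', ?_⟩
    have hu : IsUnit (algebraMap C (Localization.AtPrime q) (u : C)) :=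
      IsLocalization.map_units _ u
    apply hu.mul_left_injective
    show ρ (Ideal.Quotient.mk _ c * v') * algebraMap C (Localization.AtPrime q) (u : C) =
      IsLocalization.mk' (Localization.AtPrime q) c u * algebraMap C (Localization.AtPrime q) (u : C)
    rw [IsLocalization.mk'_spec, ← hρ (u : C), ← map_mul, mul_assoc, mul_comm v', hv', mul_one, hρ]
  haveI := hfin
  haveI : Module.Finite A (Localization.AtPrime q) :=
    Module.Finite.of_surjective ρ.toLinearMap hsurj
  exact Module.Finite.equiv e.symm.toLinearEquiv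

end Groth.Agent.Lib.Helper12.HensInter
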