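import Mathlib
import Groth.Agent.Lib.Helper12.HenselIntegralLocal

/-!
# Primitive elements of finite unramified local algebras over henselian local rings, and
splitting of polynomials with separable reduction over strictly henselian local domains
-/

set_option autoImplicit false
universe u

namespace Groth.Agent.Lib.Helper12.HensInter

open IsLocalRing Polynomial

theorem exists_root_residue (S : Type u) [CommRing S] [HenselianLocalRing S] (F : S[X])
    (hF : F.Monic) (a₀ : ResidueField S) (h0 : aeval a₀ F = 0)
    (h1 : aeval a₀ (derivative F) ≠ 0) : ∃ a : S, F.IsRoot a ∧ residue S a = a₀ := by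
  have h := (HenselianLocalRing.TFAE S).out 0 1
  exact h.mp inferInstance F hF a₀ h0 h1

/-- A monic polynomial with separable reduction over a strictly henselian local domain has
`natDegree` distinct roots. -/
theorem exists_roots_of_separable (S : Type u) [CommRing S] [HenselianLocalRing S]
    [IsSepClosed (ResidueField S)] (F : S[X]) (hF : F.Monic)
    (hsep : (F.map (residue S)).Separable) :
    ∃ s : Finset S, s.card = F.natDegree ∧ ∀ a ∈ s, F.IsRoot a := by
  classical
  have hsplit : (F.map (residue S)).Splits := IsSepClosed.splits_of_separable _ hsep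
  have hcard : (F.map (residue S)).roots.card = F.natDegree := by
    rw [splits_iff_card_roots.mp hsplit, hF.natDegree_map]
  have hnodup : (F.map (residue S)).roots.Nodup := nodup_roots hsep
  have hlift : ∀ a₀ ∈ (F.map (residue S)).roots, ∃ a : S, F.IsRoot a ∧ residue S a = a₀ := by
    intro a₀ ha₀
    have hroot : (F.map (residue S)).IsRoot a₀ := (mem_roots'.mp ha₀).2
    have h0 : aeval a₀ F = 0 := by
      rw [aeval_def, eval₂_eq_eval_map, ResidueField.algebraMap_eq]
      exact hroot
    have h1 : aeval a₀ (derivative F) ≠ 0 := by
      have := hsep.eval₂_derivative_ne_zero (RingHom.id _) (x := a₀) (by rw [eval₂_id]; exact hroot)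
      rw [eval₂_id, derivative_map] at this
      rw [aeval_def, eval₂_eq_eval_map, ResidueField.algebraMap_eq]
      exact this
    exact exists_root_residue S F hF a₀ h0 h1
  choose! lift hlift1 hlift2 using hlift
  refine ⟨(F.map (residue S)).roots.toFinset.image lift, ?_, ?_⟩
  · rw [Finset.card_image_of_injOn, Multiset.toFinset_card_of_nodup hnodup, hcard]
    intro x hx y hy hxy
    rw [← hlift2 x (Multiset.mem_toFinset.mp hx), ← hlift2 y (Multiset.mem_toFinset.mp hy), hxy]
  · intro a ha
    obtain ⟨a₀, ha₀, rfl⟩ := Finset.mem_image.mp ha
    exact hlift1 a₀ (Multiset.mem_toFinset.mp ha₀)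

/-- Over a strictly henselian local domain, a monic polynomial with separable reduction splits
in the fraction field, with all roots in the ring. -/
theorem splits_map_of_separable (S : Type u) [CommRing S] [HenselianLocalRing S] [IsDomain S]
    [IsSepClosed (ResidueField S)] (K : Type u) [Field K] [Algebra S K]
    (hinj : Function.Injective (algebraMap S K)) (F : S[X]) (hF : F.Monic)
    (hsep : (F.map (residue S)).Separable) :
    (F.map (algebraMap S K)).Splits ∧
      ∀ r ∈ (F.map (algebraMap S K)).roots, r ∈ (algebraMap S K).range := by
  classical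
  obtain ⟨s, hs, hroot⟩ := exists_roots_of_separable S F hF hsep
  have hne : F.map (algebraMap S K) ≠ 0 := (hF.map _).ne_zero
  have hsub : (s.image (algebraMap S K)).val ≤ (F.map (algebraMap S K)).roots := by
    rw [Multiset.le_iff_subset (Finset.nodup _)]
    intro r hr
    obtain ⟨a, ha, rfl⟩ := Finset.mem_image.mp (Finset.mem_val.mp hr)
    rw [mem_roots hne, IsRoot.def, eval_map, eval₂_at_apply, (hroot a ha).eq_zero, map_zero]
  have hcard1 : (s.image (algebraMap S K)).val.card = F.natDegree := by
    rw [Finset.card_val, Finset.card_image_of_injective _ hinj, hs]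
  have hcard2 : (F.map (algebraMap S K)).roots.card ≤ F.natDegree := by
    have := card_roots' (F.map (algebraMap S K))
    rwa [hF.natDegree_map] at this
  have heq : (s.image (algebraMap S K)).val = (F.map (algebraMap S K)).roots :=
    Multiset.eq_of_le_of_card_le hsub (by rw [hcard1]; exact hcard2)
  constructor
  · rw [splits_iff_card_roots, ← heq, hcard1, hF.natDegree_map]
  · intro r hr
    rw [← heq] at hr
    obtain ⟨a, -, rfl⟩ := Finset.mem_image.mp (Finset.mem_val.mp hr)
    exact ⟨a, rfl⟩

/-- A finite unramified local algebra over a henselian local ring is generated by one element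
satisfying a monic polynomial with separable reduction. -/
theorem exists_primitive (A : Type u) [CommRing A] [HenselianLocalRing A]
    (E : Type u) [CommRing E] [IsLocalRing E] [Algebra A E] [Module.Finite A E]
    [Algebra.FormallyUnramified A E] [IsLocalHom (algebraMap A E)] :
    ∃ (θ : E) (F : A[X]), F.Monic ∧ aeval θ F = 0 ∧ (F.map (residue A)).Separable ∧
      Algebra.adjoin A {θ} = ⊤ := by
  haveI : Algebra.IsIntegral A E := Algebra.IsIntegral.of_finite A E
  haveI : HenselianLocalRing E := henselianLocalRing_of_isIntegral A E
  haveI : Module.Finite (ResidueField A) (ResidueField E) := inferInstance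
  haveI : Algebra.IsSeparable (ResidueField A) (ResidueField E) := inferInstance
  obtain ⟨α, hα⟩ := Field.exists_primitive_element (ResidueField A) (ResidueField E)
  have hαint : IsIntegral (ResidueField A) α := Algebra.IsIntegral.isIntegral α
  have hpsep : (minpoly (ResidueField A) α).Separable := Algebra.IsSeparable.isSeparable _ α
  obtain ⟨F, hFmap, -, hFmonic⟩ := lifts_and_natDegree_eq_and_monic
    (f := residue A) (p := minpoly (ResidueField A) α)
    ((mem_lifts _).mpr (map_surjective (residue A) residue_surjective _)) (minpoly.monic hαint)
  -- residue compatibility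
  have hcompat : (residue E).comp (algebraMap A E) =
      (algebraMap (ResidueField A) (ResidueField E)).comp (residue A) := by
    ext a; rfl
  have hGmap : ((F.map (algebraMap A E)).map (residue E)) =
      (minpoly (ResidueField A) α).map (algebraMap (ResidueField A) (ResidueField E)) := by
    rw [map_map, hcompat, ← map_map, hFmap]
  have h0 : aeval α (F.map (algebraMap A E)) = 0 := by
    rw [aeval_def, eval₂_eq_eval_map, ResidueField.algebraMap_eq, hGmap, eval_map, ← aeval_def,
      minpoly.aeval]
  have h1 : aeval α (derivative (F.map (algebraMap A E))) ≠ 0 := by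
    rw [aeval_def, eval₂_eq_eval_map, ResidueField.algebraMap_eq, ← derivative_map, hGmap,
      derivative_map, eval_map, ← aeval_def]
    exact hpsep.aeval_derivative_ne_zero (minpoly.aeval _ α)
  obtain ⟨θ, hθroot, hθres⟩ :=
    exists_root_residue E (F.map (algebraMap A E)) (hFmonic.map _) α h0 h1
  refine ⟨θ, F, hFmonic, ?_, ?_, ?_⟩
  · rw [aeval_def, eval₂_eq_eval_map]; exact hθroot
  · rw [hFmap]; exact hpsep
  · -- Nakayama
    have hmE : (maximalIdeal A).map (algebraMap A E) = maximalIdeal E :=
      Algebra.FormallyUnramified.map_maximalIdeal
    have hres_aeval : ∀ P : A[X], residue E (aeval θ P) = aeval α (P.map (residue A)) := by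
      intro P
      rw [aeval_def, aeval_def, hom_eval₂, hcompat, hθres, eval₂_map]
    have key : (⊤ : Submodule A E) ≤
        Subalgebra.toSubmodule (Algebra.adjoin A {θ}) ⊔ (maximalIdeal A) • ⊤ := by
      intro x _
      have hx : residue E x ∈ (⊤ : IntermediateField (ResidueField A) (ResidueField E)) := trivial
      rw [← hα] at hx
      have hx' : residue E x ∈ Algebra.adjoin (ResidueField A) {α} := by
        rw [← IntermediateField.adjoin_simple_toSubalgebra_of_isAlgebraic hαint.isAlgebraic]
        exact hx
      rw [Algebra.adjoin_singleton_eq_range_aeval] at hx'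
      obtain ⟨pbar, hpbar⟩ := hx'
      obtain ⟨P, rfl⟩ := map_surjective (residue A) residue_surjective pbar
      have hpbar' : aeval α (P.map (residue A)) = residue E x := hpbar
      have hdiff : x - aeval θ P ∈ maximalIdeal E := by
        rw [← residue_eq_zero_iff, map_sub, hres_aeval, hpbar', sub_self]
      rw [← hmE] at hdiff
      have hdiff' : x - aeval θ P ∈ (maximalIdeal A) • (⊤ : Submodule A E) := by
        rw [Ideal.smul_top_eq_map]
        exact hdiff
      have : x = aeval θ P + (x - aeval θ P) := by ring
      rw [this]
      refine Submodule.add_mem_sup ?_ hdiff'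
      show aeval θ P ∈ Algebra.adjoin A {θ}
      rw [Algebra.adjoin_singleton_eq_range_aeval]
      exact ⟨P, rfl⟩
    have h2 := Submodule.le_of_le_smul_of_le_jacobson_bot (Module.Finite.fg_top)
      (IsLocalRing.maximalIdeal_le_jacobson ⊥) key
    rw [eq_top_iff]
    intro x _
    exact h2 trivial

end Groth.Agent.Lib.Helper12.HensInter
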