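import Mathlib

/-!
# Freeness over an intermediate ring cut out by a subfield

`E = A[θ]` with `θ` a root of a monic `F` which splits in `K` with roots in a subring `Sr`.
If `D ⊆ E` contains every element of `Sr` lying in the subfield `L`, then the minimal polynomial of
`θ` over `L` has coefficients in `D` and `E` is a free `D`-module.
-/

set_option autoImplicit false
universe u

namespace Groth.Agent.Lib.Helper12.HensInter

open Polynomial

theorem free_of_minpoly_coeffs
    (A D E K : Type u) [CommRing A] [CommRing D] [CommRing E] [Field K]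
    [Algebra A D] [Algebra D E] [Algebra A E] [IsScalarTower A D E]
    [Algebra E K] [Algebra D K] [IsScalarTower D E K] [Algebra A K] [IsScalarTower A D K]
    (hEK : Function.Injective (algebraMap E K)) (hDE : Function.Injective (algebraMap D E))
    (L : Subfield K) (hDL : ∀ d : D, algebraMap D K d ∈ L)
    (Sr : Subring K) (hD : ∀ y ∈ Sr, y ∈ L → y ∈ (algebraMap D K).range)
    (θ : E) (hθ : Algebra.adjoin A {θ} = ⊤)
    (F : A[X]) (hF : F.Monic) (hFθ : aeval θ F = 0)
    (hsplit : (F.map (algebraMap A K)).Splits)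
    (hroots : ∀ r ∈ (F.map (algebraMap A K)).roots, r ∈ Sr) :
    Module.Free D E := by
  classical
  have hDK : Function.Injective (algebraMap D K) := by
    rw [IsScalarTower.algebraMap_eq D E K]
    exact hEK.comp hDE
  haveI : Nontrivial D := RingHom.domain_nontrivial (algebraMap D K)
  have hAEK : ∀ a : A, algebraMap A K a = algebraMap E K (algebraMap A E a) := by
    intro a
    rw [IsScalarTower.algebraMap_apply A D K, IsScalarTower.algebraMap_apply D E K,
      ← IsScalarTower.algebraMap_apply A D E]
  -- ring homs into `L`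
  let ιD : D →+* L := (algebraMap D K).codRestrict L hDL
  have hιD : ∀ d, ((ιD d : L) : K) = algebraMap D K d := fun d => rfl
  have hιDinj : Function.Injective ιD := by
    intro x y hxy
    apply hDK
    rw [← hιD, ← hιD, hxy]
  let ιA : A →+* L := ιD.comp (algebraMap A D)
  have hιA : (algebraMap L K).comp ιA = algebraMap A K := by
    ext a
    show ((ιD (algebraMap A D a) : L) : K) = _
    rw [hιD, ← IsScalarTower.algebraMap_apply]
  have hιDK : (algebraMap L K).comp ιD = algebraMap D K := by
    ext d; rfl
  set θ' : K := algebraMap E K θ with hθ'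
  -- `θ'` is a root of `F` over `L`
  have hFK : eval θ' (F.map (algebraMap A K)) = 0 := by
    have h1 : algebraMap E K (aeval θ F) = 0 := by rw [hFθ, map_zero]
    rw [aeval_def, hom_eval₂] at h1
    rw [eval_map]
    have h2 : (algebraMap E K).comp (algebraMap A E) = algebraMap A K := by
      ext a; exact (hAEK a).symm
    rw [h2] at h1
    exact h1
  have hFL : aeval θ' (F.map ιA) = 0 := by
    rw [aeval_def, eval₂_map, hιA, ← eval_map]
    exact hFK
  have hint : IsIntegral L θ' := ⟨F.map ιA, hF.map ιA, by rw [← aeval_def]; exact hFL⟩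
  set g : L[X] := minpoly L θ' with hg
  have hgmonic : g.Monic := minpoly.monic hint
  have hgdvd : g ∣ F.map ιA := minpoly.dvd L θ' hFL
  have hgK : g.map (algebraMap L K) ∣ F.map (algebraMap A K) := by
    have := Polynomial.map_dvd (algebraMap L K) hgdvd
    rwa [map_map, hιA] at this
  have hFK0 : F.map (algebraMap A K) ≠ 0 := (hF.map _).ne_zero
  have hgsplit : (g.map (algebraMap L K)).Splits := hsplit.of_dvd hFK0 hgK
  have hgroots : ∀ r ∈ (g.map (algebraMap L K)).roots, r ∈ Sr.subtype.range := by
    intro r hr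
    have := Multiset.mem_of_le (roots.le_of_dvd hFK0 hgK) hr
    exact ⟨⟨r, hroots r this⟩, rfl⟩
  have hglift : g.map (algebraMap L K) ∈ lifts Sr.subtype :=
    hgsplit.mem_lift_of_roots_mem_range (hgmonic.map _) Sr.subtype hgroots
  -- coefficients of `g` come from `D`
  have hcoeffD : ∀ n, (g.map (algebraMap L K)).coeff n ∈ (algebraMap D K).range := by
    intro n
    obtain ⟨c, hc⟩ := (lifts_iff_coeff_lifts _).mp hglift n
    apply hD
    · rw [← hc]; exact c.2
    · rw [coeff_map]; exact (g.coeff n).2
  have hgliftD : g.map (algebraMap L K) ∈ lifts (algebraMap D K) :=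
    (lifts_iff_coeff_lifts _).mpr hcoeffD
  obtain ⟨gD, hgDmap, hgDdeg, hgDmonic⟩ :=
    lifts_and_natDegree_eq_and_monic hgliftD (hgmonic.map _)
  have hgDL : gD.map ιD = g := by
    apply map_injective (algebraMap L K) (algebraMap L K).injective
    rw [map_map, hιDK, hgDmap]
  have hdeg : gD.natDegree = g.natDegree := by
    rw [hgDdeg, natDegree_map]
  -- `θ` is a root of `gD`
  have hgDθ : eval₂ (Algebra.ofId D E) θ gD = 0 := by
    apply hEK
    rw [map_zero, hom_eval₂]
    have h2 : (algebraMap E K).comp (Algebra.ofId D E : D →+* E) = algebraMap D K := by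
      ext d
      exact (IsScalarTower.algebraMap_apply D E K d).symm
    rw [h2, ← eval_map, hgDmap, eval_map, ← aeval_def]
    exact minpoly.aeval L θ'
  let ψ : AdjoinRoot gD →ₐ[D] E := AdjoinRoot.liftAlgHom gD (Algebra.ofId D E) θ hgDθ
  have hψmk : ∀ q : D[X], ψ (AdjoinRoot.mk gD q) = eval₂ (algebraMap D E) θ q := fun q => rfl
  have hsurj : Function.Surjective ψ := by
    intro x
    have hx : x ∈ Algebra.adjoin A {θ} := by rw [hθ]; trivial
    rw [Algebra.adjoin_singleton_eq_range_aeval] at hx
    obtain ⟨P, hP⟩ := hx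
    refine ⟨AdjoinRoot.mk gD (P.map (algebraMap A D)), ?_⟩
    rw [hψmk, eval₂_map, ← IsScalarTower.algebraMap_eq, ← aeval_def]
    exact hP
  have hinj : Function.Injective ψ := by
    rw [injective_iff_map_eq_zero]
    intro y hy
    obtain ⟨q, rfl⟩ := AdjoinRoot.mk_surjective y
    rw [AdjoinRoot.mk_eq_zero, ← modByMonic_eq_zero_iff_dvd hgDmonic]
    set r := q %ₘ gD with hr
    have hrθ : eval₂ (algebraMap D E) θ r = 0 := by
      have h1 : r + gD * (q /ₘ gD) = q := modByMonic_add_div q gD
      have h2 : eval₂ (algebraMap D E) θ q = 0 := by rw [← hψmk]; exact hy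
      rw [← h1, eval₂_add, eval₂_mul] at h2
      have h3 : eval₂ (algebraMap D E) θ gD = 0 := hgDθ
      rwa [h3, zero_mul, add_zero] at h2
    have hrL : aeval θ' (r.map ιD) = 0 := by
      rw [aeval_def, eval₂_map, hιDK, IsScalarTower.algebraMap_eq D E K, ← hom_eval₂, hrθ,
        map_zero]
    have hdvd : g ∣ r.map ιD := minpoly.dvd L θ' hrL
    have hlt : (r.map ιD).degree < g.degree := by
      calc (r.map ιD).degree ≤ r.degree := degree_map_le
        _ < gD.degree := degree_modByMonic_lt q hgDmonic
        _ = g.degree := by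
          rw [degree_eq_natDegree hgDmonic.ne_zero, degree_eq_natDegree hgmonic.ne_zero, hdeg]
    have h0 : r.map ιD = 0 := eq_zero_of_dvd_of_degree_lt hdvd hlt
    exact (Polynomial.map_eq_zero_iff hιDinj).mp h0
  let eψ : AdjoinRoot gD ≃ₐ[D] E := AlgEquiv.ofBijective ψ ⟨hinj, hsurj⟩
  haveI : Module.Free D (AdjoinRoot gD) :=
    Module.Free.of_basis (AdjoinRoot.powerBasis' hgDmonic).basis
  exact Module.Free.of_equiv eψ.toLinearEquiv

end Groth.Agent.Lib.Helper12.HensInter
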