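import Groth.Agent.Lib.Helper12.StrictStruct3

set_option autoImplicit false
universe u

namespace Groth.Agent.Lib.Helper12.StrictStruct

open IsLocalRing PtNbhd

variable (A : Type u) [CommRing A] [IsLocalRing A]
variable (S : Type u) [CommRing S] [IsLocalRing S] [Algebra A S]
  [IsLocalHom (algebraMap A S)] [Hensel.IsStrictHenselization A S]

/-- An unramified, essentially of finite type local `A`-algebra `D` with an injective local
`A`-algebra map into a strict henselization is essentially étale. -/
theorem isEssentiallyEtale_of_formallyUnramified (D : Type u) [CommRing D] [IsLocalRing D]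
    [Algebra A D] [Algebra.EssFiniteType A D] [Algebra.FormallyUnramified A D]
    (ι : D →ₐ[A] S) (hι : Function.Injective ι) (hιu : ∀ d, IsUnit (ι d) → IsUnit d) :
    EGA4loc.IsEssentiallyEtale A D := by
  let D₀ := Algebra.EssFiniteType.subalgebra A D
  let M := Algebra.EssFiniteType.submonoid A D
  let p₀ : Ideal D₀ := (maximalIdeal D).comap (algebraMap D₀ D)
  haveI : p₀.IsPrime := Ideal.comap_isPrime _ _
  have hM : M = p₀.primeCompl := by
    ext x
    show IsUnit (algebraMap D₀ D x) ↔ ¬ (algebraMap D₀ D x ∈ maximalIdeal D)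
    rw [mem_maximalIdeal, mem_nonunits_iff, not_not]
  haveI hloc : IsLocalization.AtPrime D p₀ := by
    show IsLocalization p₀.primeCompl D
    rw [← hM]; infer_instance
  haveI : Algebra.IsUnramifiedAt A p₀ := by
    show Algebra.FormallyUnramified A (Localization.AtPrime p₀)
    exact Algebra.FormallyUnramified.of_equiv
      ((IsLocalization.algEquiv p₀.primeCompl D (Localization.AtPrime p₀)).restrictScalars A)
  obtain ⟨f, hf, P, φ, hφ⟩ := Algebra.IsUnramifiedAt.exists_hasStandardEtaleSurjectionOn
    (R := A) p₀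
  have hfu : IsUnit (algebraMap D₀ D f) := by
    by_contra h
    exact hf h
  let ρ : Localization.Away f →ₐ[A] D :=
    IsLocalization.liftAlgHom (M := Submonoid.powers f) (f := IsScalarTower.toAlgHom A D₀ D) (by
      rintro ⟨y, n, rfl⟩
      show IsUnit (algebraMap D₀ D (f ^ n))
      rw [map_pow]; exact hfu.pow n)
  have hρ : ∀ a : D₀, ρ (algebraMap D₀ (Localization.Away f) a) = algebraMap D₀ D a := fun a =>
    IsLocalization.lift_eq _ a
  let g : P.Ring →ₐ[A] D := ρ.comp φ
  have hgsurj : ∀ a : D₀, ∃ c, g c = algebraMap D₀ D a := by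
    intro a
    obtain ⟨c, hc⟩ := hφ (algebraMap D₀ (Localization.Away f) a)
    exact ⟨c, by show ρ (φ c) = _; rw [hc, hρ]⟩
  refine isEssentiallyEtale_of_fraction_surjective A S D ι hι hιu P.Ring g ?_
  intro d
  obtain ⟨a, m, rfl⟩ := IsLocalization.exists_mk'_eq p₀.primeCompl d
  obtain ⟨c, hc⟩ := hgsurj a
  obtain ⟨c', hc'⟩ := hgsurj m
  refine ⟨c, c', ?_, ?_⟩
  · rw [hc']
    exact IsLocalization.map_units D m
  · rw [hc', hc, IsLocalization.mk'_spec]

end Groth.Agent.Lib.Helper12.StrictStruct
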