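import Mathlib
import Groth.Agent.Lib.Helper12.HensInterA
import Groth.Agent.Lib.Helper12.HensInterB
import Groth.Agent.Lib.Helper12.HensInterC
import Groth.Agent.Lib.Helper12.StrictStruct5
import Groth.Agent.Lib.Helper12.EssEtaleStrict
import Groth.Agent.S16438

/-!
# Intersections of a strict henselization of a henselian local domain with finitely generated
subfields of its fraction field
-/

set_option autoImplicit false
universe u

namespace Groth.Agent.Lib.Helper12.HensInter

open IsLocalRing Polynomial

theorem exists_fraction_of_mem_closure {A S : Type u} [CommRing A] [CommRing S] [Algebra A S]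
    [IsDomain S] (K : Type u) [Field K] [Algebra S K] [IsFractionRing S K] [Algebra A K]
    [IsScalarTower A S K] (E : Subalgebra A S) (T : Set K)
    (hT : ∀ y ∈ T, ∃ a b : S, a ∈ E ∧ b ∈ E ∧ b ≠ 0 ∧
      y * algebraMap S K b = algebraMap S K a)
    (y : K) (hy : y ∈ Subfield.closure (Set.range (algebraMap A K) ∪ T)) :
    ∃ a b : S, a ∈ E ∧ b ∈ E ∧ b ≠ 0 ∧ y * algebraMap S K b = algebraMap S K a := by
  let φ := algebraMap S K
  have hφ : Function.Injective φ := IsFractionRing.injective S K
  have hφ0 : ∀ b : S, b ≠ 0 → φ b ≠ 0 := fun b hb h0 => hb (hφ (by rw [h0, map_zero]))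
  induction hy using Subfield.closure_induction with
  | mem x hx =>
    rcases hx with ⟨r, rfl⟩ | hx
    · refine ⟨algebraMap A S r, 1, E.algebraMap_mem r, E.one_mem, one_ne_zero, ?_⟩
      rw [map_one, mul_one, ← IsScalarTower.algebraMap_apply]
    · exact hT x hx
  | one => exact ⟨1, 1, E.one_mem, E.one_mem, one_ne_zero, by rw [map_one, mul_one]⟩
  | add x y _ _ hx hy =>
    obtain ⟨a, b, haE, hbE, hb, h1⟩ := hx
    obtain ⟨a', b', haE', hbE', hb', h2⟩ := hy
    refine ⟨a * b' + a' * b, b * b', E.add_mem (E.mul_mem haE hbE') (E.mul_mem haE' hbE),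
      E.mul_mem hbE hbE', mul_ne_zero hb hb', ?_⟩
    rw [map_add, map_mul, map_mul, map_mul, ← h1, ← h2]; ring
  | neg x _ hx =>
    obtain ⟨a, b, haE, hbE, hb, h1⟩ := hx
    exact ⟨-a, b, E.neg_mem haE, hbE, hb, by rw [map_neg, ← h1]; ring⟩
  | inv x _ hx =>
    obtain ⟨a, b, haE, hbE, hb, h1⟩ := hx
    by_cases ha : a = 0
    · have hx0 : x = 0 := by
        rw [ha, map_zero] at h1
        exact (mul_eq_zero.mp h1).resolve_right (hφ0 b hb)
      exact ⟨0, 1, E.zero_mem, E.one_mem, one_ne_zero, by rw [hx0, inv_zero, map_zero, zero_mul]⟩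
    · refine ⟨b, a, hbE, haE, ha, ?_⟩
      have hx0 : x ≠ 0 := by
        rintro rfl
        rw [zero_mul] at h1
        exact hφ0 a ha h1.symm
      rw [← h1]
      field_simp
  | mul x y _ _ hx hy =>
    obtain ⟨a, b, haE, hbE, hb, h1⟩ := hx
    obtain ⟨a', b', haE', hbE', hb', h2⟩ := hy
    refine ⟨a * a', b * b', E.mul_mem haE haE', E.mul_mem hbE hbE', mul_ne_zero hb hb', ?_⟩
    rw [map_mul, map_mul, ← h1, ← h2]; ring

/-- The subalgebra of `S` of elements whose image in `K` lies in a subfield containing the image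
of `A`. -/
def interSubalgebra (A S K : Type u) [CommRing A] [CommRing S] [Algebra A S] [Field K]
    [Algebra S K] [Algebra A K] [IsScalarTower A S K] (L : Subfield K)
    (hL : ∀ a : A, algebraMap A K a ∈ L) : Subalgebra A S where
  carrier := (algebraMap S K) ⁻¹' (L : Set K)
  mul_mem' := fun {x y} hx hy => by
    show algebraMap S K (x * y) ∈ L
    rw [map_mul]; exact L.mul_mem hx hy
  one_mem' := by
    show algebraMap S K 1 ∈ L
    rw [map_one]; exact L.one_mem
  add_mem' := fun {x y} hx hy => by
    show algebraMap S K (x + y) ∈ L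
    rw [map_add]; exact L.add_mem hx hy
  zero_mem' := by
    show algebraMap S K 0 ∈ L
    rw [map_zero]; exact L.zero_mem
  algebraMap_mem' := fun a => by
    show algebraMap S K (algebraMap A S a) ∈ L
    rw [← IsScalarTower.algebraMap_apply]; exact hL a

end Groth.Agent.Lib.Helper12.HensInter
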