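import Mathlib
import Groth.Agent.Lib.Helper12.HensInterD

/-!
# Main theorem: `L ∩ S` is an essentially étale local subalgebra
-/

set_option autoImplicit false
universe u

namespace Groth.Agent.Lib.Helper12.HensInter

open IsLocalRing Polynomial

theorem main (A S : Type u) [CommRing A] [HenselianLocalRing A] [IsNoetherianRing A]
    [CommRing S] [IsLocalRing S] [Algebra A S] [IsLocalHom (algebraMap A S)]
    [Hensel.IsStrictHenselization A S] [IsDomain S] (t : Finset (FractionRing S)) :
    ∃ D : Subalgebra A S, (D : Set S) = (algebraMap S (FractionRing S)) ⁻¹'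
        (Subfield.closure (Set.range (algebraMap A (FractionRing S)) ∪
          (t : Set (FractionRing S))) : Set (FractionRing S)) ∧
      ∃ _ : IsLocalRing D, IsLocalHom (algebraMap D S) ∧ EGA4loc.IsEssentiallyEtale A D := by
  classical
  let φ : S →+* FractionRing S := algebraMap S (FractionRing S)
  have hφ : Function.Injective φ := IsFractionRing.injective S (FractionRing S)
  have hφ0 : ∀ b : S, b ≠ 0 → φ b ≠ 0 := fun b hb h0 => hb (hφ (by rw [h0, map_zero]))
  set L : Subfield (FractionRing S) :=
    Subfield.closure (Set.range (algebraMap A (FractionRing S)) ∪ (t : Set (FractionRing S)))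
    with hLdef
  have hL : ∀ a : A, algebraMap A (FractionRing S) a ∈ L :=
    fun a => Subfield.subset_closure (Or.inl ⟨a, rfl⟩)
  refine ⟨interSubalgebra A S (FractionRing S) L hL, rfl, ?_⟩
  set D : Subalgebra A S := interSubalgebra A S (FractionRing S) L hL with hDdef
  have hDmem : ∀ x : S, x ∈ D ↔ φ x ∈ L := fun x => Iff.rfl
  -- numerators and denominators
  have hfrac : ∀ x : FractionRing S, ∃ a b : S, b ≠ 0 ∧ x * φ b = φ a := by
    intro x
    obtain ⟨a, b, hb, rfl⟩ := IsFractionRing.div_surjective (A := S) x
    have hb0 : b ≠ 0 := nonZeroDivisors.ne_zero hb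
    have := hφ0 b hb0
    exact ⟨a, b, hb0, div_mul_cancel₀ _ this⟩
  choose num den hden hnd using hfrac
  obtain ⟨E, hsE, hEloc, hEet, hEu, hdiv⟩ :=
    StrictStruct.exists_essEtale_subalgebra' A S (t.image num ∪ t.image den)
  haveI := hEloc
  have hkey : ∀ y ∈ L, ∃ a b : S, a ∈ E ∧ b ∈ E ∧ b ≠ 0 ∧ y * φ b = φ a := by
    intro y hy
    refine exists_fraction_of_mem_closure (FractionRing S) E (t : Set (FractionRing S)) ?_ y hy
    intro x hx
    exact ⟨num x, den x,
      hsE _ (Finset.mem_union_left _ (Finset.mem_image_of_mem _ (Finset.mem_coe.mp hx))),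
      hsE _ (Finset.mem_union_right _ (Finset.mem_image_of_mem _ (Finset.mem_coe.mp hx))),
      hden x, hnd x⟩
  have hDE : D ≤ E := by
    intro x hx
    obtain ⟨a, b, haE, hbE, hb, h1⟩ := hkey (φ x) ((hDmem x).mp hx)
    have h2 : b * x = a := by
      apply hφ
      rw [map_mul, mul_comm]
      exact h1
    obtain ⟨x', hx'E, hx'⟩ := hdiv b a hbE haE ⟨x, h2⟩
    have : x = x' := mul_left_cancel₀ hb (by rw [h2, hx'])
    rw [this]
    exact hx'E
  -- `D` is local and dominated by `S`
  have hDu : ∀ x : D, IsUnit (x : S) → IsUnit x := by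
    intro x hx
    obtain ⟨y, hy⟩ := hx.exists_right_inv
    have hyD : y ∈ D := by
      rw [hDmem]
      have h1 : φ (x : S) * φ y = 1 := by rw [← map_mul, hy, map_one]
      have h2 : φ y = (φ (x : S))⁻¹ := eq_inv_of_mul_eq_one_right h1
      rw [h2]
      exact L.inv_mem ((hDmem _).mp x.2)
    exact IsUnit.of_mul_eq_one (⟨y, hyD⟩ : D) (Subtype.ext hy)
  haveI hlh : IsLocalHom (algebraMap D S) := ⟨hDu⟩
  haveI hlr : IsLocalRing D := RingHom.domain_isLocalRing (algebraMap D S)
  refine ⟨hlr, hlh, ?_⟩
  -- structure of `E`
  haveI : Module.Finite A E := finite_of_isEssentiallyEtale A E hEet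
  haveI := essFiniteType_of_isEssentiallyEtale hEet
  haveI := formallyEtale_of_isEssentiallyEtale hEet
  haveI : IsLocalHom (algebraMap A E) := StrictStruct.isLocalHom_of_isEssentiallyEtale A E hEet
  obtain ⟨θ, F, hFmonic, hFθ, hFsep, hθ⟩ := exists_primitive A E
  -- splitting over `S`
  haveI : HenselianLocalRing S := Hensel.IsStrictHenselization.henselian A
  haveI : IsSepClosure (ResidueField A) (ResidueField S) :=
    Hensel.IsStrictHenselization.isSepClosure
  haveI : IsSepClosed (ResidueField S) := IsSepClosure.sep_closed (ResidueField A)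
  have hcompat : (residue S).comp (algebraMap A S) =
      (algebraMap (ResidueField A) (ResidueField S)).comp (residue A) := by
    ext a; rfl
  have hsepS : ((F.map (algebraMap A S)).map (residue S)).Separable := by
    rw [map_map, hcompat, ← map_map]
    exact hFsep.map
  obtain ⟨hsplit, hroots⟩ := splits_map_of_separable S (FractionRing S) hφ
    (F.map (algebraMap A S)) (hFmonic.map _) hsepS
  have hFK : (F.map (algebraMap A S)).map (algebraMap S (FractionRing S)) =
      F.map (algebraMap A (FractionRing S)) := by
    rw [map_map, ← IsScalarTower.algebraMap_eq]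
  rw [hFK] at hsplit hroots
  -- algebra structures
  letI : Algebra D E := (Subalgebra.inclusion hDE).toRingHom.toAlgebra
  haveI : IsScalarTower A D E := IsScalarTower.of_algebraMap_eq (fun a => rfl)
  haveI : IsScalarTower D E (FractionRing S) := IsScalarTower.of_algebraMap_eq (fun d => rfl)
  haveI : IsScalarTower A D (FractionRing S) := IsScalarTower.of_algebraMap_eq (fun a =>
    IsScalarTower.algebraMap_apply A S (FractionRing S) a)
  have hEK : Function.Injective (algebraMap E (FractionRing S)) := fun x y hxy =>
    Subtype.ext (hφ hxy)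
  have hDEinj : Function.Injective (algebraMap D E) := Subalgebra.inclusion_injective hDE
  haveI : Module.Free D E := free_of_minpoly_coeffs A D E (FractionRing S) hEK hDEinj L
    (fun d => d.2) (algebraMap S (FractionRing S)).range
    (fun y hy hyL => by
      obtain ⟨x, rfl⟩ := hy
      exact ⟨⟨x, hyL⟩, rfl⟩)
    θ hθ F hFmonic hFθ hsplit hroots
  haveI : IsLocalHom (algebraMap D E) := ⟨fun d hd => by
    have h1 : IsUnit ((algebraMap D E d : E) : S) := hd.map E.val
    exact hDu d h1⟩
  haveI : Module.FaithfullyFlat D E := Module.FaithfullyFlat.of_flat_of_isLocalHom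
  -- `m_A D = m_D`
  have hm : Ideal.map (algebraMap A D) (maximalIdeal A) = maximalIdeal D := by
    have h1 : (maximalIdeal A).map (algebraMap A E) = maximalIdeal E :=
      Algebra.FormallyUnramified.map_maximalIdeal
    have h2 : (maximalIdeal E).comap (algebraMap D E) = maximalIdeal D :=
      ((local_hom_TFAE (algebraMap D E)).out 0 4).mp ‹_›
    rw [← h2, ← h1, IsScalarTower.algebraMap_eq A D E, ← Ideal.map_map,
      Ideal.comap_map_eq_self_of_faithfullyFlat]
  -- finiteness
  haveI : IsNoetherian A E := isNoetherian_of_isNoetherianRing_of_finite A E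
  haveI : Module.Finite A D :=
    Module.Finite.of_injective (Subalgebra.inclusion hDE).toLinearMap
      (Subalgebra.inclusion_injective hDE)
  exact Groth.Agent.S16438.result A S D hm

end Groth.Agent.Lib.Helper12.HensInter
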