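import Mathlib
import Groth.Prelude.Def_Found
import Groth.Agent.Lib.Helper12.IndEtaleFibre

/-!
# Residue field extensions of ind-étale algebras; localization at the kernel of a surjection
with absolutely flat source
-/

set_option autoImplicit false
set_option linter.style.haveILetI false
universe u
open IsLocalRing TensorProduct

namespace Groth.Agent.Lib.Helper12.HensReg

open Groth.Agent.Lib.Helper12 IndEtaleFibre

/-- a surjection whose kernel elements `x` all satisfy `x = x * x * z` exhibits the target as a
localization of the source (at the elements mapping to `1`) -/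
theorem isLocalization_of_surjective {W K : Type*} [CommRing W] [CommRing K] (φ : W →+* K)
    (hsurj : Function.Surjective φ) (hz : ∀ x, φ x = 0 → ∃ z, x = x * x * z) :
    letI : Algebra W K := φ.toAlgebra
    IsLocalization (MonoidHom.mker (φ : W →* K)) K := by
  letI : Algebra W K := φ.toAlgebra
  have hmap : ∀ x : W, algebraMap W K x = φ x := fun _ => rfl
  refine ⟨?_, ?_, ?_⟩
  · rintro ⟨y, hy⟩
    have : φ y = 1 := hy
    rw [hmap, this]
    exact isUnit_one
  · intro t
    obtain ⟨w, rfl⟩ := hsurj t
    refine ⟨(w, 1), ?_⟩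
    simp [hmap]
  · intro x y hxy
    rw [hmap, hmap] at hxy
    have h0 : φ (x - y) = 0 := by rw [map_sub, hxy, sub_self]
    obtain ⟨z, hz⟩ := hz (x - y) h0
    refine ⟨⟨1 - (x - y) * z, ?_⟩, ?_⟩
    · change φ (1 - (x - y) * z) = 1
      rw [map_sub, map_mul, h0, zero_mul, map_one, sub_zero]
    · have : (1 - (x - y) * z) * (x - y) = 0 := by
        have h1 : (1 - (x - y) * z) * (x - y) = (x - y) - (x - y) * (x - y) * z := by ring
        rw [h1, ← hz, sub_self]
      rw [mul_sub, sub_eq_zero] at this
      exact this

section Alg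

variable {R S : Type u} [CommRing R] [CommRing S] [Algebra R S]

/-- images of elements of an ind-étale algebra in a field are integral over any field through
which the structure map factors -/
theorem isIntegral_algebraMap_of_isIndEssEtale (hS : IsIndEssEtale R S) (κ K : Type u) [Field κ]
    [Field K] [Algebra R κ] [Algebra κ K] [Algebra R K] [IsScalarTower R κ K] [Algebra S K]
    [IsScalarTower R S K] (s : S) : IsIntegral κ (algebraMap S K s) := by
  classical
  obtain ⟨B, _, _, h1, h2, ψ, hψ⟩ := hS {s}
  obtain ⟨y, rfl⟩ := hψ s (Finset.mem_singleton_self s)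
  haveI : Module.Finite κ (κ ⊗[R] B) := Algebra.FormallyUnramified.finite_of_free κ (κ ⊗[R] B)
  let f : κ ⊗[R] B →ₐ[κ] K :=
    Algebra.TensorProduct.lift (Algebra.ofId κ K) ((IsScalarTower.toAlgHom R S K).comp ψ)
      (fun _ _ => Commute.all _ _)
  have hf : f (1 ⊗ₜ y) = algebraMap S K (ψ y) := by simp [f]
  change IsIntegral κ (algebraMap S K (ψ y))
  rw [← hf]
  exact (Algebra.IsIntegral.isIntegral (R := κ) ((1 : κ) ⊗ₜ[R] y)).map f

/-- the residue field extensions of an ind-étale algebra are algebraic -/
theorem isIntegral_residueField_of_isIndEssEtale (hS : IsIndEssEtale R S) (q : Ideal S) [q.IsPrime]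
    (κ : Type u) [Field κ] [Algebra R κ] [Algebra κ q.ResidueField]
    [Algebra R q.ResidueField] [IsScalarTower R κ q.ResidueField]
    [IsScalarTower R S q.ResidueField] : Algebra.IsIntegral κ q.ResidueField := by
  refine ⟨fun x => ?_⟩
  obtain ⟨a, s, rfl⟩ := IsLocalization.exists_mk'_eq (nonZeroDivisors (S ⧸ q)) x
  rw [IsFractionRing.mk'_eq_div]
  obtain ⟨a', rfl⟩ := Ideal.Quotient.mk_surjective a
  obtain ⟨s', hs'⟩ := Ideal.Quotient.mk_surjective (s : S ⧸ q)
  rw [← hs', Ideal.algebraMap_quotient_residueField_mk, Ideal.algebraMap_quotient_residueField_mk,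
    div_eq_mul_inv]
  exact (isIntegral_algebraMap_of_isIndEssEtale hS κ q.ResidueField a').mul
    (isIntegral_algebraMap_of_isIndEssEtale hS κ q.ResidueField s').inv

end Alg

end Groth.Agent.Lib.Helper12.HensReg
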