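import Mathlib
import Groth.Prelude.Def_Found
import Groth.Agent.Lib.Helper12.HensRegB

/-!
# A localization principle for towers `R → S → T` with `R → S` ind-étale

For a field `Ω` over `S`, the ring `Ω ⊗[S] T` is a localization of `Ω ⊗[R] T`.  We phrase this as a
transfer principle for ring properties stable under isomorphism and localization.
-/

set_option autoImplicit false
set_option linter.style.haveILetI false
universe u
open IsLocalRing TensorProduct

namespace Groth.Agent.Lib.Helper12.HensJap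

open Groth.Agent.Lib.Helper12 IndEtaleFibre HensReg

/-- if `k'` is a localization of `W`, then `k' ⊗[S] T` is a localization of `W ⊗[S] T` -/
theorem property_tensor_of_isLocalization (P : ∀ (A : Type u) [CommRing A], Prop)
    (hiso : ∀ (A B : Type u) [CommRing A] [CommRing B], (A ≃+* B) → P A → P B)
    (hloc : ∀ (A B : Type u) [CommRing A] [CommRing B] [Algebra A B] (M : Submonoid A)
      [IsLocalization M B], P A → P B)
    (S W T k' : Type u) [CommRing S] [CommRing W]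
    [CommRing T] [CommRing k'] [Algebra S W] [Algebra S T] [Algebra W k'] [Algebra S k']
    [IsScalarTower S W k'] (M : Submonoid W) [IsLocalization M k']
    (h : P (W ⊗[S] T)) : P (k' ⊗[S] T) := by
  haveI hloc2 : IsLocalization (Algebra.algebraMapSubmonoid (W ⊗[S] T) M)
      ((W ⊗[S] T) ⊗[W] k') := IsLocalization.tensor k' M
  have h2 : P ((W ⊗[S] T) ⊗[W] k') :=
    hloc (W ⊗[S] T) ((W ⊗[S] T) ⊗[W] k') (Algebra.algebraMapSubmonoid (W ⊗[S] T) M) h
  let e5 : (W ⊗[S] T) ⊗[W] k' ≃ₐ[W] k' ⊗[W] (W ⊗[S] T) :=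
    Algebra.TensorProduct.comm _ _ _
  let e6 : k' ⊗[W] (W ⊗[S] T) ≃ₐ[k'] k' ⊗[S] T :=
    Algebra.TensorProduct.cancelBaseChange S W k' k' T
  let eY : (W ⊗[S] T) ⊗[W] k' ≃+* k' ⊗[S] T := e5.toRingEquiv.trans e6.toRingEquiv
  exact hiso _ _ eY h2

/-- transfer principle: for `R → S` ind-étale, `S → T` arbitrary and a field `Ω` over `S`, a
property of `Ω ⊗[R] T` stable under isomorphisms and localizations passes to `Ω ⊗[S] T` -/
theorem tower_property (P : ∀ (A : Type u) [CommRing A], Prop)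
    (hiso : ∀ (A B : Type u) [CommRing A] [CommRing B], (A ≃+* B) → P A → P B)
    (hloc : ∀ (A B : Type u) [CommRing A] [CommRing B] [Algebra A B] (M : Submonoid A)
      [IsLocalization M B], P A → P B)
    (R S T : Type u) [CommRing R] [CommRing S] [CommRing T] [Algebra R S] [Algebra S T]
    [Algebra R T] [IsScalarTower R S T] (hS : IsIndEssEtale R S)
    (Ω : Type u) [Field Ω] [Algebra S Ω] [Algebra R Ω] [IsScalarTower R S Ω]
    (h : P (Ω ⊗[R] T)) : P (Ω ⊗[S] T) := by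
  let φ : S ⊗[R] Ω →ₐ[S] Ω :=
    Algebra.TensorProduct.lift (Algebra.ofId S Ω) (AlgHom.id R Ω) (fun _ _ => Commute.all _ _)
  have hsurj : Function.Surjective φ := fun ω => ⟨1 ⊗ₜ ω, by simp [φ]⟩
  have hz : ∀ x : S ⊗[R] Ω, ∃ z, x = x * x * z := by
    intro x
    obtain ⟨z, hz⟩ := exists_mul_self_mul_tensor (κ := Ω) hS (Algebra.TensorProduct.comm R S Ω x)
    refine ⟨(Algebra.TensorProduct.comm R S Ω).symm z, ?_⟩
    apply (Algebra.TensorProduct.comm R S Ω).injective
    rw [map_mul, map_mul, AlgEquiv.apply_symm_apply]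
    exact hz
  letI algW : Algebra (S ⊗[R] Ω) Ω := φ.toRingHom.toAlgebra
  haveI hloc0 : IsLocalization (MonoidHom.mker ((φ.toRingHom) : S ⊗[R] Ω →* Ω)) Ω :=
    isLocalization_of_surjective φ.toRingHom hsurj (fun x _ => hz x)
  haveI : IsScalarTower S (S ⊗[R] Ω) Ω := .of_algebraMap_eq (fun s => (φ.commutes s).symm)
  let e2 : T ⊗[S] (S ⊗[R] Ω) ≃ₐ[S] T ⊗[R] Ω := Algebra.TensorProduct.cancelBaseChange R S S T Ω
  let e3 : (S ⊗[R] Ω) ⊗[S] T ≃ₐ[S] T ⊗[S] (S ⊗[R] Ω) := Algebra.TensorProduct.comm S _ _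
  let e4 : T ⊗[R] Ω ≃ₐ[R] Ω ⊗[R] T := Algebra.TensorProduct.comm R T Ω
  let eX : Ω ⊗[R] T ≃+* (S ⊗[R] Ω) ⊗[S] T :=
    e4.symm.toRingEquiv.trans (e2.symm.toRingEquiv.trans e3.symm.toRingEquiv)
  have hX : P ((S ⊗[R] Ω) ⊗[S] T) := hiso _ _ eX h
  exact property_tensor_of_isLocalization P hiso hloc S (S ⊗[R] Ω) T Ω
    (MonoidHom.mker ((φ.toRingHom) : S ⊗[R] Ω →* Ω)) hX

end Groth.Agent.Lib.Helper12.HensJap
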