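import Mathlib
import Groth.Prelude.Def_Found
import Groth.Agent.Lib.Helper12.HensRegB
import Groth.Agent.Lib.Helper5.RegularProd
import Groth.Agent.Lib.Helper5.GorFibreA

/-!
# Regularity of `S → T` from regularity of `R → T` for `R → S` ind-étale
-/

set_option autoImplicit false
set_option linter.style.haveILetI false
universe u
open IsLocalRing TensorProduct

namespace Groth.Agent.Lib.Helper12.HensReg

open Groth.Agent.Lib.Helper12 IndEtaleFibre

/-- if `k'` is a localization of `W`, then `k' ⊗[S] T` is a localization of `W ⊗[S] T`, hence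
regular when the latter is -/
theorem isRegularRing_tensor_of_isLocalization (S W T k' : Type u) [CommRing S] [CommRing W]
    [CommRing T] [CommRing k'] [Algebra S W] [Algebra S T] [Algebra W k'] [Algebra S k']
    [IsScalarTower S W k'] (M : Submonoid W) [IsLocalization M k']
    [IsRegularRing (W ⊗[S] T)] : IsRegularRing (k' ⊗[S] T) := by
  haveI hloc2 : IsLocalization (Algebra.algebraMapSubmonoid (W ⊗[S] T) M)
      ((W ⊗[S] T) ⊗[W] k') := IsLocalization.tensor k' M
  have hreg2 : IsRegularRing ((W ⊗[S] T) ⊗[W] k') :=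
    Groth.Agent.Lib.Helper5.RegularProd.isRegularRing_of_isLocalization
      (Algebra.algebraMapSubmonoid (W ⊗[S] T) M) _
  let e5 : (W ⊗[S] T) ⊗[W] k' ≃ₐ[W] k' ⊗[W] (W ⊗[S] T) :=
    Algebra.TensorProduct.comm _ _ _
  let e6 : k' ⊗[W] (W ⊗[S] T) ≃ₐ[k'] k' ⊗[S] T :=
    Algebra.TensorProduct.cancelBaseChange S W k' k' T
  let eY : (W ⊗[S] T) ⊗[W] k' ≃+* k' ⊗[S] T := e5.toRingEquiv.trans e6.toRingEquiv
  exact IsRegularRing.of_ringEquiv (R := (W ⊗[S] T) ⊗[W] k') eY

set_option maxHeartbeats 1600000 in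
/-- if `R → S` is ind-étale, `S → T` is flat with `T` Noetherian and `R → T` is regular, then
`S → T` is regular -/
theorem isRegularHom_of_tower (R S T : Type u) [CommRing R] [CommRing S] [CommRing T]
    [Algebra R S] [Algebra S T] [Algebra R T] [IsScalarTower R S T] [IsNoetherianRing T]
    [Module.Flat S T] (hS : IsIndEssEtale R S) (h : CAlg.IsRegularHom R T) :
    CAlg.IsRegularHom S T := by
  classical
  refine ⟨inferInstance, fun q hq => ?_⟩
  have hN : IsNoetherianRing (q.Fiber T) :=
    Groth.Agent.Lib.Helper5.GorFibre.isNoetherianRing_fiber S T q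
  refine ⟨hN, ?_⟩
  intro k' _ _ hfin
  let K := q.ResidueField
  let p : Ideal R := q.comap (algebraMap R S)
  haveI hp : p.IsPrime := Ideal.comap_isPrime _ _
  -- `κ(p) → κ(q)`
  let ψ0 : p.ResidueField →+* K := Ideal.ResidueField.lift p (algebraMap R K) (by
      intro x hx
      rw [RingHom.mem_ker, IsScalarTower.algebraMap_apply R S K,
        Ideal.algebraMap_residueField_eq_zero]
      exact hx) (by
      intro x hx
      change IsUnit (algebraMap R K x)
      rw [isUnit_iff_ne_zero, IsScalarTower.algebraMap_apply R S K, ne_eq,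
        Ideal.algebraMap_residueField_eq_zero]
      exact hx)
  letI : Algebra p.ResidueField K := ψ0.toAlgebra
  haveI : IsScalarTower R p.ResidueField K := .of_algebraMap_eq (fun x => by
    rw [RingHom.algebraMap_toAlgebra]
    exact (Ideal.ResidueField.lift_algebraMap (I := p) (algebraMap R K) _ _ x).symm)
  haveI hint : Algebra.IsIntegral p.ResidueField K :=
    isIntegral_residueField_of_isIndEssEtale hS q p.ResidueField
  -- structures on `k'`
  letI : Algebra p.ResidueField k' :=
    ((algebraMap K k').comp (algebraMap p.ResidueField K)).toAlgebra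
  haveI : IsScalarTower p.ResidueField K k' := .of_algebraMap_eq (fun _ => rfl)
  letI : Algebra S k' := ((algebraMap K k').comp (algebraMap S K)).toAlgebra
  haveI : IsScalarTower S K k' := .of_algebraMap_eq (fun _ => rfl)
  letI : Algebra R k' := ((algebraMap S k').comp (algebraMap R S)).toAlgebra
  haveI : IsScalarTower R S k' := .of_algebraMap_eq (fun _ => rfl)
  haveI : IsScalarTower R p.ResidueField k' := .of_algebraMap_eq (fun x => by
    change algebraMap K k' (algebraMap S K (algebraMap R S x)) =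
      algebraMap K k' (algebraMap p.ResidueField K (algebraMap R p.ResidueField x))
    rw [← IsScalarTower.algebraMap_apply R S K, ← IsScalarTower.algebraMap_apply R p.ResidueField K])
  haveI : Algebra.IsIntegral K k' := Algebra.IsIntegral.of_finite K k'
  haveI hint' : Algebra.IsIntegral p.ResidueField k' := Algebra.IsIntegral.trans K
  -- the finite subextension `E`
  let b := Module.finBasis K k'
  let E : IntermediateField p.ResidueField k' :=
    IntermediateField.adjoin p.ResidueField (Set.range b)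
  haveI hEfin : FiniteDimensional p.ResidueField E :=
    IntermediateField.finiteDimensional_adjoin (fun x _ => Algebra.IsIntegral.isIntegral x)
  haveI : IsScalarTower R E k' := .of_algebraMap_eq (fun _ => rfl)
  let φ : S ⊗[R] E →ₐ[S] k' :=
    Algebra.TensorProduct.lift (Algebra.ofId S k') (IsScalarTower.toAlgHom R E k')
      (fun _ _ => Commute.all _ _)
  have hφE : ∀ e : E, φ (1 ⊗ₜ e) = (e : k') := by
    intro e
    simp [φ]
  have hφS : ∀ s : S, φ (s ⊗ₜ 1) = algebraMap S k' s := by
    intro s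
    simp [φ]
  -- surjectivity of `φ`
  let I' : Subalgebra p.ResidueField k' :=
    { φ.range.toSubsemiring with
      algebraMap_mem' := fun c => ⟨1 ⊗ₜ algebraMap p.ResidueField E c, (hφE _).trans rfl⟩ }
  have hS_mem : ∀ s : S, algebraMap S k' s ∈ I' := fun s => ⟨s ⊗ₜ 1, hφS s⟩
  have hK_mem : ∀ x : K, algebraMap K k' x ∈ I' := by
    intro x
    obtain ⟨a, s, rfl⟩ := IsLocalization.exists_mk'_eq (nonZeroDivisors (S ⧸ q)) x
    rw [IsFractionRing.mk'_eq_div]
    obtain ⟨a', rfl⟩ := Ideal.Quotient.mk_surjective a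
    obtain ⟨s', hs'⟩ := Ideal.Quotient.mk_surjective (s : S ⧸ q)
    rw [← hs', Ideal.algebraMap_quotient_residueField_mk,
      Ideal.algebraMap_quotient_residueField_mk, map_div₀, div_eq_mul_inv]
    exact I'.mul_mem (hS_mem a')
      ((Algebra.IsIntegral.isIntegral (R := p.ResidueField) _).inv_mem (hS_mem s'))
  have hsurj : Function.Surjective φ := by
    intro y
    have : y ∈ I' := by
      rw [← b.sum_repr y]
      refine I'.sum_mem (fun i _ => ?_)
      rw [Algebra.smul_def]
      exact I'.mul_mem (hK_mem _)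
        ⟨1 ⊗ₜ ⟨b i, IntermediateField.subset_adjoin _ _ (Set.mem_range_self i)⟩, hφE _⟩
    exact this
  have hz : ∀ x : S ⊗[R] E, ∃ z, x = x * x * z := by
    intro x
    obtain ⟨z, hz⟩ := exists_mul_self_mul_tensor (κ := E) hS (Algebra.TensorProduct.comm R S E x)
    refine ⟨(Algebra.TensorProduct.comm R S E).symm z, ?_⟩
    apply (Algebra.TensorProduct.comm R S E).injective
    rw [map_mul, map_mul, AlgEquiv.apply_symm_apply]
    exact hz
  -- `k'` is a localization of `S ⊗[R] E`
  letI algW : Algebra (S ⊗[R] E) k' := φ.toRingHom.toAlgebra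
  haveI hloc : IsLocalization (MonoidHom.mker ((φ.toRingHom) : S ⊗[R] E →* k')) k' :=
    isLocalization_of_surjective φ.toRingHom hsurj (fun x _ => hz x)
  haveI : IsScalarTower S (S ⊗[R] E) k' := .of_algebraMap_eq (fun s => (φ.commutes s).symm)
  -- `X = (S ⊗[R] E) ⊗[S] T` is regular
  have hregE : IsRegularRing (E ⊗[p.ResidueField] p.Fiber T) := (h.2 p).2 E hEfin
  let e1 : E ⊗[p.ResidueField] (p.ResidueField ⊗[R] T) ≃ₐ[E] E ⊗[R] T :=
    Algebra.TensorProduct.cancelBaseChange R p.ResidueField E E T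
  let e2 : T ⊗[S] (S ⊗[R] E) ≃ₐ[S] T ⊗[R] E := Algebra.TensorProduct.cancelBaseChange R S S T E
  let e3 : (S ⊗[R] E) ⊗[S] T ≃ₐ[S] T ⊗[S] (S ⊗[R] E) := Algebra.TensorProduct.comm S _ _
  let e4 : T ⊗[R] E ≃ₐ[R] E ⊗[R] T := Algebra.TensorProduct.comm R T E
  let eX : E ⊗[p.ResidueField] (p.Fiber T) ≃+* (S ⊗[R] E) ⊗[S] T :=
    e1.toRingEquiv.trans (e4.symm.toRingEquiv.trans
      (e2.symm.toRingEquiv.trans e3.symm.toRingEquiv))
  haveI hregX : IsRegularRing ((S ⊗[R] E) ⊗[S] T) := IsRegularRing.of_ringEquiv (R := E ⊗[p.ResidueField] (p.Fiber T)) eX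
  have hreg3 : IsRegularRing (k' ⊗[S] T) :=
    isRegularRing_tensor_of_isLocalization S (S ⊗[R] E) T k'
      (MonoidHom.mker ((φ.toRingHom) : S ⊗[R] E →* k'))
  let e7 : k' ⊗[K] (K ⊗[S] T) ≃ₐ[k'] k' ⊗[S] T :=
    Algebra.TensorProduct.cancelBaseChange S K k' k' T
  exact IsRegularRing.of_ringEquiv (R := k' ⊗[S] T) e7.symm.toRingEquiv

end Groth.Agent.Lib.Helper12.HensReg
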