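import Mathlib

/-!
# Finite type algebras over Nagata rings, part A: the ring `R[x]` for `x ∈ Frac R`, `R` normal
-/

set_option autoImplicit false

namespace Groth.Agent.Lib.Helper12.NagFT

open Polynomial

variable {R K : Type*} [CommRing R] [IsDomain R] [Field K] [Algebra R K]

/-- `R[x] = R + x R[x]`. -/
theorem exists_eq_add_mul (x : K) (s : K) (hs : s ∈ Algebra.adjoin R {x}) :
    ∃ r : R, ∃ s' ∈ Algebra.adjoin R {x}, s = algebraMap R K r + x * s' := by
  rw [Algebra.adjoin_singleton_eq_range_aeval] at hs
  obtain ⟨P, rfl⟩ := hs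
  refine ⟨P.coeff 0, aeval x P.divX, ?_, ?_⟩
  · rw [Algebra.adjoin_singleton_eq_range_aeval]; exact ⟨_, rfl⟩
  · conv_lhs => rw [← divX_mul_X_add P]
    change aeval x (P.divX * X + C (P.coeff 0)) = _
    rw [map_add, map_mul, aeval_X, aeval_C]
    ring

variable [IsFractionRing R K] [IsIntegrallyClosed R]

/-- Key consequence of normality: `x R[x] ∩ R = x R ∩ R`. -/
theorem exists_mul_eq_of_eq_mul_aeval (x : K) :
    ∀ (n : ℕ) (P : R[X]), P.natDegree ≤ n → ∀ r : R, algebraMap R K r = x * aeval x P →
      ∃ a' : R, algebraMap R K r = algebraMap R K a' * x := by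
  intro n
  induction n with
  | zero =>
    intro P hP r hr
    rw [Polynomial.eq_C_of_natDegree_le_zero hP, aeval_C] at hr
    exact ⟨P.coeff 0, by rw [hr, mul_comm]⟩
  | succ n ih =>
    intro P hP r hr
    by_cases hc : P.coeff (n + 1) = 0
    · have hP' : P.natDegree ≤ n := by
        rw [Polynomial.natDegree_le_iff_coeff_eq_zero]
        intro N hN
        by_cases hN' : N = n + 1
        · rw [hN']; exact hc
        · exact Polynomial.coeff_eq_zero_of_natDegree_lt (by omega)
      exact ih P hP' r hr
    · have hdeg : P.natDegree = n + 1 :=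
        le_antisymm hP (Polynomial.le_natDegree_of_ne_zero hc)
      set c := P.coeff (n + 1) with hcdef
      -- the polynomial `X * P - C r` kills `x`
      set Q : R[X] := X * P - C r with hQ
      have hQx : aeval x Q = 0 := by
        rw [hQ, map_sub, map_mul, aeval_X, aeval_C, ← hr, sub_self]
      have hPne : P ≠ 0 := fun h => hc (by rw [hcdef, h, coeff_zero])
      have hXP : (X * P).natDegree = n + 2 := by
        rw [Polynomial.natDegree_X_mul hPne, hdeg]
      have hQdeg : Q.natDegree = n + 2 := by
        rw [hQ, Polynomial.natDegree_sub_C, hXP]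
      have hQlead : Q.leadingCoeff = c := by
        rw [Polynomial.leadingCoeff, hQdeg, hQ, coeff_sub, coeff_X_mul, coeff_C]
        simp [hcdef]
      have hint : IsIntegral R (c • x) := by
        rw [← hQlead]; exact isIntegral_leadingCoeff_smul Q x hQx
      obtain ⟨b, hb⟩ := IsIntegrallyClosed.algebraMap_eq_of_integral hint
      -- new polynomial of smaller degree
      set P' : R[X] := P.eraseLead + C b * X ^ n with hP'
      have hP'deg : P'.natDegree ≤ n := by
        rw [hP']
        refine (Polynomial.natDegree_add_le _ _).trans (max_le ?_ ?_)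
        · have := Polynomial.eraseLead_natDegree_le P
          omega
        · exact (Polynomial.natDegree_C_mul_le _ _).trans (by rw [natDegree_X_pow])
      have hPeq : P = P.eraseLead + C c * X ^ (n + 1) := by
        conv_lhs => rw [← Polynomial.eraseLead_add_C_mul_X_pow P]
        rw [hdeg, Polynomial.leadingCoeff, hdeg]
      have hval : x * aeval x P' = x * aeval x P := by
        conv_rhs => rw [hPeq]
        rw [hP', map_add, map_add, map_mul, map_mul, aeval_C, aeval_C, map_pow, map_pow, aeval_X]
        have hb' : algebraMap R K b = algebraMap R K c * x := by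
          rw [hb, Algebra.smul_def]
        rw [hb']
        ring
      exact ih P' hP'deg r (by rw [hval]; exact hr)

theorem exists_mul_eq_of_mem (x : K) (r : R)
    (h : ∃ s' ∈ Algebra.adjoin R {x}, algebraMap R K r = x * s') :
    ∃ a' : R, algebraMap R K r = algebraMap R K a' * x := by
  obtain ⟨s', hs', hr⟩ := h
  rw [Algebra.adjoin_singleton_eq_range_aeval] at hs'
  obtain ⟨P, rfl⟩ := hs'
  exact exists_mul_eq_of_eq_mul_aeval x P.natDegree P le_rfl r hr

end Groth.Agent.Lib.Helper12.NagFT
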