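import Mathlib
import Groth.Agent.Lib.Helper12.NagFTA
import Groth.Agent.Lib.Helper12.AUnG
import Groth.Agent.S14359

/-!
# Finite type algebras over Nagata rings, part B: primes of `R[x]` containing `x`
-/

set_option autoImplicit false

namespace Groth.Agent.Lib.Helper12.NagFT

open Polynomial IsLocalRing

universe u

section

variable {R K : Type u} [CommRing R] [IsDomain R] [Field K] [Algebra R K]

/-- `R[x]` is Noetherian. -/
theorem isNoetherianRing_adjoin [IsNoetherianRing R] (x : K) :
    IsNoetherianRing (Algebra.adjoin R {x}) := by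
  haveI : Algebra.FiniteType R (Algebra.adjoin R {x}) :=
    (Subalgebra.fg_iff_finiteType _).mp
      (Subalgebra.fg_def.mpr ⟨{x}, Set.finite_singleton x, rfl⟩)
  exact Algebra.FiniteType.isNoetherianRing R _

/-- The element `x` of `R[x]`. -/
def gen (x : K) : Algebra.adjoin R {x} := ⟨x, Algebra.subset_adjoin (Set.mem_singleton x)⟩

theorem exists_sub_mem_span (x : K) (s : Algebra.adjoin R {x}) :
    ∃ r : R, s - algebraMap R (Algebra.adjoin R {x}) r ∈ Ideal.span {gen (R := R) x} := by
  obtain ⟨r, s', hs', h⟩ := exists_eq_add_mul (R := R) x s.1 s.2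
  refine ⟨r, ?_⟩
  rw [Ideal.mem_span_singleton']
  refine ⟨⟨s', hs'⟩, ?_⟩
  apply Subtype.ext
  change s' * x = s.1 - algebraMap R K r
  rw [h]; ring

theorem algebraMap_mem_span_of_eq (x : K) (r a' : R)
    (h : algebraMap R K r = algebraMap R K a' * x) :
    algebraMap R (Algebra.adjoin R {x}) r ∈ Ideal.span {gen (R := R) x} := by
  rw [Ideal.mem_span_singleton']
  refine ⟨algebraMap R _ a', ?_⟩
  apply Subtype.ext
  change algebraMap R K a' * x = algebraMap R K r
  exact h.symm

/-- For an ideal `Q` of `R[x]` containing `x`, the map `R → R[x]/Q` is surjective. -/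
theorem surjective_quotient (x : K) (Q : Ideal (Algebra.adjoin R {x}))
    (hQ : gen (R := R) x ∈ Q) :
    Function.Surjective ((Ideal.Quotient.mk Q).comp (algebraMap R (Algebra.adjoin R {x}))) := by
  intro y
  obtain ⟨s, rfl⟩ := Ideal.Quotient.mk_surjective y
  obtain ⟨r, hr⟩ := exists_sub_mem_span (R := R) x s
  refine ⟨r, ?_⟩
  rw [RingHom.comp_apply, eq_comm, Ideal.Quotient.eq]
  exact (Ideal.span_singleton_le_iff_mem Q |>.mpr hQ) hr

variable [IsFractionRing R K] [IsIntegrallyClosed R]

theorem exists_eq_of_algebraMap_mem_span (x : K) (r : R)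
    (h : algebraMap R (Algebra.adjoin R {x}) r ∈ Ideal.span {gen (R := R) x}) :
    ∃ a' : R, algebraMap R K r = algebraMap R K a' * x := by
  rw [Ideal.mem_span_singleton'] at h
  obtain ⟨s', hs'⟩ := h
  refine exists_mul_eq_of_mem x r ⟨s'.1, s'.2, ?_⟩
  have := congrArg Subtype.val hs'
  change s'.1 * x = algebraMap R K r at this
  rw [← this]; ring

end

section Main

variable {R K : Type u} [CommRing R] [IsDomain R] [IsNoetherianRing R] [IsIntegrallyClosed R]
  [Field K] [Algebra R K] [IsFractionRing R K]

/-- The contraction to `R` of an associated prime of `R[x]/x R[x]` is an associated prime of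
`R/bR` where `x = b/a`; in particular it has height one. -/
theorem height_comap_eq_one (x : K) (hx : x ≠ 0) (Q : Ideal (Algebra.adjoin R {x}))
    (hQ : Q ∈ associatedPrimes (Algebra.adjoin R {x})
      ((Algebra.adjoin R {x}) ⧸ Ideal.span {gen (R := R) x})) :
    (Q.comap (algebraMap R (Algebra.adjoin R {x}))).height = 1 := by
  haveI := isNoetherianRing_adjoin (R := R) x
  obtain ⟨b, a, ha, hxab⟩ := IsFractionRing.div_surjective (A := R) x
  have ha0 : a ≠ 0 := nonZeroDivisors.ne_zero ha
  have haK : algebraMap R K a ≠ 0 := by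
    rw [Ne, map_eq_zero_iff _ (IsFractionRing.injective R K)]; exact ha0
  have hb0 : b ≠ 0 := by
    rintro rfl
    apply hx
    rw [← hxab, map_zero, zero_div]
  have hxa : x * algebraMap R K a = algebraMap R K b := by
    rw [← hxab]; field_simp
  obtain ⟨hQprime, sbar, hQs⟩ := isAssociatedPrime_iff.mp hQ
  obtain ⟨s, rfl⟩ := Ideal.Quotient.mk_surjective sbar
  obtain ⟨r₀, hr₀⟩ := exists_sub_mem_span (R := R) x s
  have hmem : ∀ t : Algebra.adjoin R {x},
      t ∈ Q ↔ t * algebraMap R (Algebra.adjoin R {x}) r₀ ∈ Ideal.span {gen (R := R) x} := by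
    intro t
    rw [hQs, Submodule.mem_colon_singleton, Submodule.mem_bot]
    have h1 : t • (Ideal.Quotient.mk (Ideal.span {gen (R := R) x}) s) =
        Ideal.Quotient.mk (Ideal.span {gen (R := R) x}) (t * s) := rfl
    rw [h1, Ideal.Quotient.eq_zero_iff_mem]
    have h2 : t * s = t * algebraMap R (Algebra.adjoin R {x}) r₀ +
        t * (s - algebraMap R (Algebra.adjoin R {x}) r₀) := by ring
    rw [h2]
    constructor
    · intro h
      have := Ideal.sub_mem _ h (Ideal.mul_mem_left _ t hr₀)
      rwa [add_sub_cancel_right] at this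
    · intro h
      exact Ideal.add_mem _ h (Ideal.mul_mem_left _ t hr₀)
  haveI : (Q.comap (algebraMap R (Algebra.adjoin R {x}))).IsPrime := Ideal.comap_isPrime _ Q
  have hpmem : ∀ r' : R, r' ∈ Q.comap (algebraMap R (Algebra.adjoin R {x})) ↔
      r' * (r₀ * a) ∈ Ideal.span {b} := by
    intro r'
    rw [Ideal.mem_comap, hmem, ← map_mul]
    constructor
    · intro h
      obtain ⟨a', ha'⟩ := exists_eq_of_algebraMap_mem_span x _ h
      rw [Ideal.mem_span_singleton']
      refine ⟨a', ?_⟩
      apply IsFractionRing.injective R K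
      have e1 : algebraMap R K (a' * b) = algebraMap R K a' * (x * algebraMap R K a) := by
        rw [map_mul, hxa]
      have e2 : algebraMap R K (r' * (r₀ * a)) = algebraMap R K (r' * r₀) * algebraMap R K a := by
        rw [← map_mul]; congr 1; ring
      rw [e1, e2, ha']; ring
    · intro h
      rw [Ideal.mem_span_singleton'] at h
      obtain ⟨a', ha'⟩ := h
      refine algebraMap_mem_span_of_eq x _ a' ?_
      have h3 := congrArg (algebraMap R K) ha'
      have e1 : algebraMap R K (a' * b) = algebraMap R K a' * (x * algebraMap R K a) := by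
        rw [map_mul, hxa]
      have e2 : algebraMap R K (r' * (r₀ * a)) = algebraMap R K (r' * r₀) * algebraMap R K a := by
        rw [← map_mul]; congr 1; ring
      rw [e1, e2] at h3
      have : algebraMap R K (r' * r₀) * algebraMap R K a =
          algebraMap R K a' * x * algebraMap R K a := by
        rw [← h3]; ring
      exact mul_right_cancel₀ haK this
  have hpass : Q.comap (algebraMap R (Algebra.adjoin R {x})) ∈
      associatedPrimes R (R ⧸ Ideal.span {b}) := by
    rw [associatedPrimes, Set.mem_setOf_eq, isAssociatedPrime_iff]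
    refine ⟨inferInstance, Ideal.Quotient.mk _ (r₀ * a), ?_⟩
    ext r'
    rw [hpmem, Submodule.mem_colon_singleton, Submodule.mem_bot]
    have h1 : r' • (Ideal.Quotient.mk (Ideal.span {b}) (r₀ * a)) =
        Ideal.Quotient.mk (Ideal.span {b}) (r' * (r₀ * a)) := rfl
    rw [h1, Ideal.Quotient.eq_zero_iff_mem]
  exact Groth.Agent.S14359.result R b hb0 _ hpass

end Main

end Groth.Agent.Lib.Helper12.NagFT
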