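import Mathlib
import Groth.Agent.Lib.Helper12.NagFTB
import Groth.Agent.Lib.Helper12.AUnD

/-!
# Finite type algebras over Nagata rings, part C: the hypotheses of Zariski's lemma for `R[x]`
-/

set_option autoImplicit false

namespace Groth.Agent.Lib.Helper12.NagFT

open Polynomial IsLocalRing

universe u

variable {R K : Type u} [CommRing R] [IsDomain R] [IsNoetherianRing R] [IsIntegrallyClosed R]
  [Field K] [Algebra R K] [IsFractionRing R K]

theorem span_gen_le_of_mem_associatedPrimes (x : K) (Q : Ideal (Algebra.adjoin R {x}))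
    (hQ : Q ∈ associatedPrimes (Algebra.adjoin R {x})
      ((Algebra.adjoin R {x}) ⧸ Ideal.span {gen (R := R) x})) :
    Ideal.span {gen (R := R) x} ≤ Q := by
  have hQ' : IsAssociatedPrime Q ((Algebra.adjoin R {x}) ⧸ Ideal.span {gen (R := R) x}) := hQ
  have := hQ'.annihilator_le
  rwa [Submodule.annihilator_top, Ideal.annihilator_quotient] at this

/-- `R[x]/x R[x]` has no embedded primes. -/
theorem associatedPrimes_subset_minimalPrimes (x : K) (hx : x ≠ 0) :
    associatedPrimes (Algebra.adjoin R {x})
      ((Algebra.adjoin R {x}) ⧸ Ideal.span {gen (R := R) x}) ⊆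
      (Ideal.span {gen (R := R) x}).minimalPrimes := by
  intro Q hQ
  have hht := height_comap_eq_one x hx Q hQ
  have hQ' : IsAssociatedPrime Q ((Algebra.adjoin R {x}) ⧸ Ideal.span {gen (R := R) x}) := hQ
  haveI hQprime : Q.IsPrime := hQ'.isPrime
  have hle := span_gen_le_of_mem_associatedPrimes x Q hQ
  refine ⟨⟨hQprime, hle⟩, fun Q' ⟨hQ'prime, hQ'le⟩ hQ'Q => ?_⟩
  haveI := hQ'prime
  obtain ⟨b, a, ha, hxab⟩ := IsFractionRing.div_surjective (A := R) x
  have ha0 : a ≠ 0 := nonZeroDivisors.ne_zero ha
  have haK : algebraMap R K a ≠ 0 := by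
    rw [Ne, map_eq_zero_iff _ (IsFractionRing.injective R K)]; exact ha0
  have hb0 : b ≠ 0 := by
    rintro rfl
    apply hx
    rw [← hxab, map_zero, zero_div]
  have hxa : algebraMap R K b = algebraMap R K a * x := by
    rw [← hxab]; field_simp
  set p := Q.comap (algebraMap R (Algebra.adjoin R {x})) with hp
  set p' := Q'.comap (algebraMap R (Algebra.adjoin R {x})) with hp'
  haveI : p.IsPrime := Ideal.comap_isPrime _ Q
  haveI : p'.IsPrime := Ideal.comap_isPrime _ Q'
  have hp'p : p' ≤ p := Ideal.comap_mono hQ'Q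
  have hbp' : b ∈ p' := by
    rw [hp', Ideal.mem_comap]
    exact hQ'le (algebraMap_mem_span_of_eq x b a hxa)
  have hpp' : p = p' := by
    by_contra hne
    have hlt : p' < p := lt_of_le_of_ne hp'p (fun h => hne h.symm)
    haveI : p.FiniteHeight :=
      (Ideal.finiteHeight_iff p).mpr (Or.inr (by rw [hht]; exact ENat.one_ne_top))
    have h1 : p'.height < p.height := Ideal.height_strict_mono_of_isPrime_of_isPrime hlt
    rw [hht] at h1
    have h2 : p'.height = 0 := ENat.lt_one_iff_eq_zero.mp h1
    rw [Ideal.height_eq_zero_iff_eq_bot] at h2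
    rw [h2] at hbp'
    exact hb0 hbp'
  intro s hs
  obtain ⟨r, hr⟩ := exists_sub_mem_span (R := R) x s
  have h1 : algebraMap R (Algebra.adjoin R {x}) r ∈ Q := by
    have := Ideal.sub_mem _ hs (hle hr)
    rwa [sub_sub_cancel] at this
  have h2 : r ∈ p' := by rw [← hpp']; exact h1
  have h3 : algebraMap R (Algebra.adjoin R {x}) r ∈ Q' := h2
  have := Ideal.add_mem _ (hQ'le hr) h3
  rwa [sub_add_cancel] at this

/-- Elements of `R[x]` become elements of `R` after multiplication by a power of `u`, if
`u x ∈ R`. -/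
theorem exists_pow_mul_eq (x : K) (u c : R) (huc : algebraMap R K u * x = algebraMap R K c)
    (s : K) (hs : s ∈ Algebra.adjoin R {x}) :
    ∃ (k : ℕ) (t : R), algebraMap R K u ^ k * s = algebraMap R K t := by
  induction hs using Algebra.adjoin_induction with
  | mem y hy =>
    rw [Set.mem_singleton_iff] at hy
    subst hy
    exact ⟨1, c, by rw [pow_one, huc]⟩
  | algebraMap r => exact ⟨0, r, by rw [pow_zero, one_mul]⟩
  | add y z _ _ ihy ihz =>
    obtain ⟨k₁, t₁, h₁⟩ := ihy
    obtain ⟨k₂, t₂, h₂⟩ := ihz
    refine ⟨k₁ + k₂, u ^ k₂ * t₁ + u ^ k₁ * t₂, ?_⟩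
    rw [map_add, map_mul, map_mul, map_pow, map_pow, ← h₁, ← h₂, pow_add]
    ring
  | mul y z _ _ ihy ihz =>
    obtain ⟨k₁, t₁, h₁⟩ := ihy
    obtain ⟨k₂, t₂, h₂⟩ := ihz
    refine ⟨k₁ + k₂, t₁ * t₂, ?_⟩
    rw [map_mul, ← h₁, ← h₂, pow_add]
    ring

/-- The local ring of `R[x]` at a minimal prime over `x` is a DVR. -/
theorem isDiscreteValuationRing_localization (x : K) (hx : x ≠ 0)
    (Q : Ideal (Algebra.adjoin R {x})) [Q.IsPrime]
    (hQ : Q ∈ (Ideal.span {gen (R := R) x}).minimalPrimes) :
    ∃ (_ : IsDomain (Localization.AtPrime Q)),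
      IsDiscreteValuationRing (Localization.AtPrime Q) := by
  haveI := isNoetherianRing_adjoin (R := R) x
  have hQass : Q ∈ associatedPrimes (Algebra.adjoin R {x})
      ((Algebra.adjoin R {x}) ⧸ Ideal.span {gen (R := R) x}) := by
    apply Module.associatedPrimes.minimalPrimes_annihilator_subset_associatedPrimes
    rw [Ideal.annihilator_quotient]
    exact hQ
  have hht := height_comap_eq_one x hx Q hQass
  have hle : Ideal.span {gen (R := R) x} ≤ Q := hQ.1.2
  set p := Q.comap (algebraMap R (Algebra.adjoin R {x})) with hp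
  haveI : p.IsPrime := Ideal.comap_isPrime _ Q
  obtain ⟨hdomp, hdvrp⟩ := AUn.isDiscreteValuationRing_of_height_eq_one R p hht
  obtain ⟨b, a, ha, hxab⟩ := IsFractionRing.div_surjective (A := R) x
  have ha0 : a ≠ 0 := nonZeroDivisors.ne_zero ha
  have haK : algebraMap R K a ≠ 0 := by
    rw [Ne, map_eq_zero_iff _ (IsFractionRing.injective R K)]; exact ha0
  have hxa : algebraMap R K b = algebraMap R K a * x := by
    rw [← hxab]; field_simp
  have hinjp : Function.Injective (algebraMap R (Localization.AtPrime p)) :=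
    IsLocalization.injective _ (Ideal.primeCompl_le_nonZeroDivisors p)
  -- `x ∈ R_p`
  obtain ⟨u, c, hup, huc⟩ : ∃ u c : R, u ∉ p ∧ algebraMap R K u * x = algebraMap R K c := by
    rcases ValuationRing.dvd_total (algebraMap R (Localization.AtPrime p) a)
      (algebraMap R (Localization.AtPrime p) b) with h | h
    · obtain ⟨z, hz⟩ := h
      obtain ⟨c, ⟨u, hu⟩, rfl⟩ := IsLocalization.exists_mk'_eq p.primeCompl z
      refine ⟨u, c, hu, ?_⟩
      have h1 : algebraMap R (Localization.AtPrime p) (b * u) =
          algebraMap R (Localization.AtPrime p) (a * c) := by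
        rw [map_mul, map_mul, hz, mul_assoc]
        congr 1
        exact IsLocalization.mk'_spec _ c (⟨u, hu⟩ : p.primeCompl)
      have h2 := hinjp h1
      have h3 := congrArg (algebraMap R K) h2
      rw [map_mul, map_mul, hxa] at h3
      have h4 : algebraMap R K a * (algebraMap R K u * x) =
          algebraMap R K a * algebraMap R K c := by rw [← h3]; ring
      exact mul_left_cancel₀ haK h4
    · exfalso
      obtain ⟨z, hz⟩ := h
      obtain ⟨c, ⟨u, hu⟩, rfl⟩ := IsLocalization.exists_mk'_eq p.primeCompl z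
      have h1 : algebraMap R (Localization.AtPrime p) (a * u) =
          algebraMap R (Localization.AtPrime p) (b * c) := by
        rw [map_mul, map_mul, hz, mul_assoc]
        congr 1
        exact IsLocalization.mk'_spec _ c (⟨u, hu⟩ : p.primeCompl)
      have h2 := hinjp h1
      have h3 := congrArg (algebraMap R K) h2
      rw [map_mul, map_mul, hxa] at h3
      have h4 : algebraMap R K a * algebraMap R K u =
          algebraMap R K a * (algebraMap R K c * x) := by rw [h3]; ring
      have h5 := mul_left_cancel₀ haK h4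
      apply hu
      change algebraMap R (Algebra.adjoin R {x}) u ∈ Q
      exact hle (algebraMap_mem_span_of_eq x u c h5)
  -- identification of the local rings
  have hinj : Function.Injective (algebraMap R (Algebra.adjoin R {x})) := by
    intro r₁ r₂ h
    apply IsFractionRing.injective R K
    exact congrArg Subtype.val h
  have hloc := AUn.isLocalization_atPrime_of_forall_exists
    (algebraMap R (Algebra.adjoin R {x})) hinj Q p rfl (by
      intro t'
      obtain ⟨k, t, hkt⟩ := exists_pow_mul_eq x u c huc t'.1 t'.2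
      refine ⟨t, u ^ k, fun h => hup (Ideal.IsPrime.mem_of_pow_mem inferInstance k h), ?_⟩
      apply Subtype.ext
      change algebraMap R K (u ^ k) * t'.1 = algebraMap R K t
      rw [map_pow, hkt])
  have hQle : Q.primeCompl ≤ nonZeroDivisors (Algebra.adjoin R {x}) :=
    Ideal.primeCompl_le_nonZeroDivisors Q
  haveI hdomQ : IsDomain (Localization.AtPrime Q) := IsLocalization.isDomain_localization hQle
  refine ⟨hdomQ, ?_⟩
  letI : Algebra R (Localization.AtPrime Q) :=
    ((algebraMap (Algebra.adjoin R {x}) (Localization.AtPrime Q)).comp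
      (algebraMap R (Algebra.adjoin R {x}))).toAlgebra
  haveI : IsLocalization.AtPrime (Localization.AtPrime Q) p := hloc
  let e : Localization.AtPrime p ≃ₐ[R] Localization.AtPrime Q :=
    IsLocalization.algEquiv p.primeCompl _ _
  exact IsDiscreteValuationRing.RingEquivClass.isDiscreteValuationRing e.toRingEquiv

end Groth.Agent.Lib.Helper12.NagFT
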