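import Mathlib
import Groth.Agent.Lib.Helper12.NagFTC
import Groth.Agent.Lib.Helper12.ZarD
import Groth.Agent.Lib.Helper12.AnUnramD
import Groth.Agent.S4710

/-!
# Finite type algebras over Nagata rings, part D: formal-like algebras over local rings of `R[x]`
at primes containing `x` are reduced
-/

set_option autoImplicit false

namespace Groth.Agent.Lib.Helper12.NagFT

open Polynomial IsLocalRing

universe u

variable {R K : Type u} [CommRing R] [IsDomain R] [IsIntegrallyClosed R]
  [Field K] [Algebra R K] [IsFractionRing R K]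

/-- The quotient of the local ring `W = R[x]_{m₀}` by the extension of a prime `q ∋ x` is a
quotient of a local ring of `R`, hence Nagata. -/
theorem isNagata_quotient_map (hR : CAlg.IsNagata R) (x : K)
    (m₀ : Ideal (Algebra.adjoin R {x})) [m₀.IsPrime] (hxm : gen (R := R) x ∈ m₀)
    (W : Type u) [CommRing W] [IsLocalRing W] [Algebra (Algebra.adjoin R {x}) W]
    [IsLocalization.AtPrime W m₀] (q : Ideal (Algebra.adjoin R {x})) (hxq : gen (R := R) x ∈ q)
    (hq : q.map (algebraMap (Algebra.adjoin R {x}) W) ≠ ⊤) :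
    CAlg.IsNagata (W ⧸ q.map (algebraMap (Algebra.adjoin R {x}) W)) := by
  set 𝔮 := q.map (algebraMap (Algebra.adjoin R {x}) W) with h𝔮
  set P₀ := m₀.comap (algebraMap R (Algebra.adjoin R {x})) with hP₀
  haveI : P₀.IsPrime := Ideal.comap_isPrime _ m₀
  let ψ : R →+* W ⧸ 𝔮 := (Ideal.Quotient.mk 𝔮).comp
    ((algebraMap (Algebra.adjoin R {x}) W).comp (algebraMap R (Algebra.adjoin R {x})))
  have hψ : ∀ r : R, ψ r = Ideal.Quotient.mk 𝔮
      (algebraMap (Algebra.adjoin R {x}) W (algebraMap R (Algebra.adjoin R {x}) r)) :=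
    fun r => rfl
  have hunits : ∀ y : P₀.primeCompl, IsUnit (ψ y) := by
    rintro ⟨r, hr⟩
    rw [hψ]
    apply IsUnit.map
    exact IsLocalization.map_units W (⟨algebraMap R (Algebra.adjoin R {x}) r, hr⟩ : m₀.primeCompl)
  let ψ' : Localization.AtPrime P₀ →+* W ⧸ 𝔮 := IsLocalization.lift (M := P₀.primeCompl) hunits
  have hspanq : Ideal.span {gen (R := R) x} ≤ q := (Ideal.span_singleton_le_iff_mem q).mpr hxq
  have hspanm : Ideal.span {gen (R := R) x} ≤ m₀ := (Ideal.span_singleton_le_iff_mem m₀).mpr hxm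
  have hmk : ∀ (s : Algebra.adjoin R {x}) (r : R),
      s - algebraMap R (Algebra.adjoin R {x}) r ∈ Ideal.span {gen (R := R) x} →
      Ideal.Quotient.mk 𝔮 (algebraMap (Algebra.adjoin R {x}) W s) = ψ r := by
    intro s r hsr
    rw [hψ, Ideal.Quotient.eq, ← map_sub]
    exact Ideal.mem_map_of_mem _ (hspanq hsr)
  have hsurj : Function.Surjective ψ' := by
    intro y
    obtain ⟨w, rfl⟩ := Ideal.Quotient.mk_surjective y
    obtain ⟨s, ⟨v, hv⟩, rfl⟩ := IsLocalization.exists_mk'_eq m₀.primeCompl w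
    obtain ⟨r, hr⟩ := exists_sub_mem_span (R := R) x s
    obtain ⟨r', hr'⟩ := exists_sub_mem_span (R := R) x v
    have hr'P : r' ∈ P₀.primeCompl := by
      intro hmem
      apply hv
      have h1 : algebraMap R (Algebra.adjoin R {x}) r' ∈ m₀ := hmem
      have := Ideal.add_mem _ (hspanm hr') h1
      rwa [sub_add_cancel] at this
    refine ⟨IsLocalization.mk' _ r ⟨r', hr'P⟩, ?_⟩
    have hu : IsUnit (ψ r') := hunits ⟨r', hr'P⟩
    apply hu.mul_left_injective
    simp only
    have e1 : ψ' (IsLocalization.mk' (Localization.AtPrime P₀) r ⟨r', hr'P⟩) * ψ r' = ψ r := by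
      have : ψ r' = ψ' (algebraMap R (Localization.AtPrime P₀) r') :=
        (IsLocalization.lift_eq (M := P₀.primeCompl) hunits r').symm
      rw [this, ← map_mul]
      have h2 : IsLocalization.mk' (Localization.AtPrime P₀) r ⟨r', hr'P⟩ *
          algebraMap R (Localization.AtPrime P₀) r' = algebraMap R (Localization.AtPrime P₀) r :=
        IsLocalization.mk'_spec _ r (⟨r', hr'P⟩ : P₀.primeCompl)
      rw [h2]
      exact IsLocalization.lift_eq (M := P₀.primeCompl) hunits r
    rw [e1, ← hmk v r' hr', ← hmk s r hr, ← map_mul]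
    congr 1
    exact (IsLocalization.mk'_spec W s (⟨v, hv⟩ : m₀.primeCompl)).symm
  exact AnUnram.isNagata_of_surjective ψ' hsurj (Groth.Agent.S4710.result R hR P₀.primeCompl)

/-- **Key lemma.** Let `R` be a normal Nagata domain, `x ≠ 0` in its fraction field, `W` the local
ring of `R[x]` at a prime containing `x`. Then every formal-like `W`-algebra is reduced. -/
theorem isReduced_of_formalLike_adjoin (hR : CAlg.IsNagata R) (x : K) (hx : x ≠ 0)
    (m₀ : Ideal (Algebra.adjoin R {x})) [m₀.IsPrime] (hxm : gen (R := R) x ∈ m₀)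
    (W : Type u) [CommRing W] [IsLocalRing W] [Algebra (Algebra.adjoin R {x}) W]
    [IsLocalization.AtPrime W m₀] (T : Type u) [CommRing T] [IsLocalRing T] [Algebra W T]
    (h : AUn.FormalLike W T) : IsReduced T := by
  haveI := hR.1
  haveI := isNoetherianRing_adjoin (R := R) x
  haveI := h.noeth
  haveI := h.flat
  letI : Algebra (Algebra.adjoin R {x}) T :=
    ((algebraMap W T).comp (algebraMap (Algebra.adjoin R {x}) W)).toAlgebra
  haveI : IsScalarTower (Algebra.adjoin R {x}) W T := .of_algebraMap_eq fun _ => rfl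
  haveI : Module.Flat (Algebra.adjoin R {x}) W := IsLocalization.flat W m₀.primeCompl
  haveI : Module.Flat (Algebra.adjoin R {x}) T := Module.Flat.trans (Algebra.adjoin R {x}) W T
  have hgen0 : gen (R := R) x ≠ 0 := by
    intro h0
    apply hx
    exact congrArg Subtype.val h0
  have hxW : algebraMap (Algebra.adjoin R {x}) W (gen (R := R) x) ∈ maximalIdeal W := by
    rw [← IsLocalization.AtPrime.map_eq_maximalIdeal m₀ W]
    exact Ideal.mem_map_of_mem _ hxm
  have hxT : algebraMap (Algebra.adjoin R {x}) T (gen (R := R) x) ∈ maximalIdeal T := by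
    rw [IsScalarTower.algebraMap_apply (Algebra.adjoin R {x}) W T, ← h.map_max]
    exact Ideal.mem_map_of_mem _ hxW
  refine Zar.isReduced_of_zariski (A := Algebra.adjoin R {x}) (T := T) (gen (R := R) x)
    (mem_nonZeroDivisors_of_ne_zero hgen0) (associatedPrimes_subset_minimalPrimes x hx)
    (fun q _ hq => isDiscreteValuationRing_localization x hx q hq) ?_
    (fun y hy => Zar.eq_zero_of_forall_mem_span_pow _ hxT y hy)
  intro q hqprime hqmin
  have hxq : gen (R := R) x ∈ q := hqmin.1.2 (Ideal.mem_span_singleton_self _)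
  have hmapmap : q.map (algebraMap (Algebra.adjoin R {x}) T) =
      (q.map (algebraMap (Algebra.adjoin R {x}) W)).map (algebraMap W T) := by
    rw [Ideal.map_map, ← IsScalarTower.algebraMap_eq]
  by_cases hqm : q ≤ m₀
  · set 𝔮 := q.map (algebraMap (Algebra.adjoin R {x}) W) with h𝔮
    have hdisj : Disjoint (m₀.primeCompl : Set (Algebra.adjoin R {x})) (q : Set _) := by
      rw [Set.disjoint_left]
      intro s hs hsq
      exact hs (hqm hsq)
    haveI h𝔮prime : 𝔮.IsPrime :=
      IsLocalization.isPrime_of_isPrime_disjoint m₀.primeCompl W q hqprime hdisj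
    have h𝔮top : 𝔮 ≠ ⊤ := h𝔮prime.ne_top
    have h𝔮Ttop : 𝔮.map (algebraMap W T) ≠ ⊤ := h.map_ne_top 𝔮 h𝔮top
    haveI : Nontrivial (W ⧸ 𝔮) := Ideal.Quotient.nontrivial_iff.mpr h𝔮top
    haveI : Nontrivial (T ⧸ 𝔮.map (algebraMap W T)) := Ideal.Quotient.nontrivial_iff.mpr h𝔮Ttop
    haveI : IsLocalRing (W ⧸ 𝔮) :=
      IsLocalRing.of_surjective' (Ideal.Quotient.mk 𝔮) Ideal.Quotient.mk_surjective
    haveI : IsLocalRing (T ⧸ 𝔮.map (algebraMap W T)) :=
      IsLocalRing.of_surjective' (Ideal.Quotient.mk _) Ideal.Quotient.mk_surjective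
    have hFL : AUn.FormalLike (W ⧸ 𝔮) (T ⧸ 𝔮.map (algebraMap W T)) := h.quotient 𝔮
    have hNag : CAlg.IsNagata (W ⧸ 𝔮) := isNagata_quotient_map hR x m₀ hxm W q hxq h𝔮top
    haveI : IsDomain (W ⧸ 𝔮) := Ideal.Quotient.isDomain 𝔮
    have hred : IsReduced (T ⧸ 𝔮.map (algebraMap W T)) :=
      AUn.isReduced_of_formalLike (W ⧸ 𝔮) hNag _ hFL
    rw [hmapmap]
    exact (Ideal.isRadical_iff_quotient_reduced _).mpr hred
  · obtain ⟨s, hsq, hsm⟩ := Set.not_subset.mp hqm
    have hu : IsUnit (algebraMap (Algebra.adjoin R {x}) T s) := by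
      rw [IsScalarTower.algebraMap_apply (Algebra.adjoin R {x}) W T]
      apply IsUnit.map
      exact IsLocalization.map_units W (⟨s, hsm⟩ : m₀.primeCompl)
    have htop : q.map (algebraMap (Algebra.adjoin R {x}) T) = ⊤ :=
      Ideal.eq_top_of_isUnit_mem _ (Ideal.mem_map_of_mem _ hsq) hu
    rw [htop]
    exact fun _ _ => trivial

end Groth.Agent.Lib.Helper12.NagFT
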