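import Mathlib
import Groth.Agent.Lib.Helper12.NagFTD
import Groth.Agent.Lib.Helper12.AnUnramG

/-!
# Finite type algebras over Nagata rings, part E: descent of analytic unramifiedness along a
finite extension
-/

set_option autoImplicit false

namespace Groth.Agent.Lib.Helper12.NagFT

open Polynomial IsLocalRing TensorProduct

universe u

/-- Variant of `AUn.baseChange_key` where the base ring is not assumed to be local. -/
theorem baseChange_key' {R S T : Type*} [CommRing R] [CommRing S] [CommRing T]
    [IsLocalRing T] [Algebra R S] [Algebra R T] [Module.Finite R S] (𝔪 : Ideal R)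
    (hmap : 𝔪.map (algebraMap R T) = maximalIdeal T)
    (hres : ∀ t : T, ∃ r : R, t - algebraMap R T r ∈ maximalIdeal T)
    (n : Ideal (T ⊗[R] S)) [n.IsMaximal] :
    (n.comap (Algebra.TensorProduct.includeRight (R := R) (A := T) (B := S)).toRingHom).map
      (Algebra.TensorProduct.includeRight (R := R) (A := T) (B := S)).toRingHom = n ∧
    (∀ y : T ⊗[R] S, ∃ s : S,
      y - (Algebra.TensorProduct.includeRight (R := R) (A := T) (B := S)).toRingHom s ∈ n) ∧
    𝔪 ≤ (n.comap (Algebra.TensorProduct.includeRight (R := R) (A := T)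
      (B := S)).toRingHom).comap (algebraMap R S) := by
  set φ : S →+* T ⊗[R] S :=
    (Algebra.TensorProduct.includeRight (R := R) (A := T) (B := S)).toRingHom with hφ
  let ι : T →+* T ⊗[R] S := algebraMap T (T ⊗[R] S)
  have hφs : ∀ s : S, φ s = (1 : T) ⊗ₜ[R] s := fun s => rfl
  have hιt : ∀ t : T, ι t = t ⊗ₜ[R] (1 : S) := fun t => rfl
  have hcomm : ∀ r : R, ι (algebraMap R T r) = φ (algebraMap R S r) := by
    intro r
    rw [hφs, hιt, Algebra.algebraMap_eq_smul_one, Algebra.algebraMap_eq_smul_one,
      TensorProduct.smul_tmul]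
  haveI : Algebra.IsIntegral T (T ⊗[R] S) := inferInstance
  haveI hmax : (n.comap ι).IsMaximal := Ideal.isMaximal_comap_of_isIntegral_of_isMaximal n
  have hnT : n.comap ι = maximalIdeal T := IsLocalRing.eq_maximalIdeal hmax
  have hι_mem : ∀ μ ∈ maximalIdeal T, ι μ ∈ n := by
    intro μ hμ
    rw [← hnT] at hμ
    exact hμ
  set P : Ideal S := n.comap φ with hP
  set J : Ideal (T ⊗[R] S) := P.map φ with hJ
  have hJn : J ≤ n := Ideal.map_comap_le
  have hRP : 𝔪 ≤ P.comap (algebraMap R S) := by
    intro r hr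
    rw [Ideal.mem_comap, hP, Ideal.mem_comap, ← hcomm]
    apply hι_mem
    rw [← hmap]
    exact Ideal.mem_map_of_mem _ hr
  have hι_J : ∀ μ ∈ maximalIdeal T, ι μ ∈ J := by
    intro μ hμ
    have h1 : ι μ ∈ (maximalIdeal T).map ι := Ideal.mem_map_of_mem _ hμ
    have h2 : (maximalIdeal T).map ι ≤ J := by
      rw [← hmap, Ideal.map_map]
      have h3 : ι.comp (algebraMap R T) = φ.comp (algebraMap R S) := RingHom.ext hcomm
      rw [h3, ← Ideal.map_map, hJ]
      exact Ideal.map_mono (Ideal.map_le_iff_le_comap.mpr hRP)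
    exact h2 h1
  have key : ∀ y : T ⊗[R] S, ∃ s : S, y - φ s ∈ J := by
    intro y
    induction y using TensorProduct.induction_on with
    | zero => exact ⟨0, by rw [map_zero, sub_zero]; exact Ideal.zero_mem _⟩
    | tmul t s =>
      obtain ⟨r, hr⟩ := hres t
      refine ⟨algebraMap R S r * s, ?_⟩
      have h1 : t ⊗ₜ[R] s - φ (algebraMap R S r * s) = ι (t - algebraMap R T r) * φ s := by
        rw [map_mul, map_sub, hcomm, sub_mul]
        congr 1
        rw [hιt, hφs, Algebra.TensorProduct.tmul_mul_tmul, mul_one, one_mul]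
      rw [h1]
      exact Ideal.mul_mem_right _ _ (hι_J _ hr)
    | add y₁ y₂ ih₁ ih₂ =>
      obtain ⟨s₁, hs₁⟩ := ih₁
      obtain ⟨s₂, hs₂⟩ := ih₂
      refine ⟨s₁ + s₂, ?_⟩
      have : y₁ + y₂ - φ (s₁ + s₂) = (y₁ - φ s₁) + (y₂ - φ s₂) := by rw [map_add]; ring
      rw [this]
      exact Ideal.add_mem _ hs₁ hs₂
  refine ⟨le_antisymm hJn ?_, fun y => ?_, hRP⟩
  · intro y hy
    obtain ⟨s, hs⟩ := key y
    have h1 : φ s ∈ n := by
      have := Ideal.sub_mem _ hy (hJn hs)
      rwa [sub_sub_cancel] at this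
    have h2 : φ s ∈ J := Ideal.mem_map_of_mem _ (show s ∈ P from h1)
    have := Ideal.add_mem _ hs h2
    rwa [sub_add_cancel] at this
  · obtain ⟨s, hs⟩ := key y
    exact ⟨s, hJn hs⟩

/-- Residue field of the localisation at a maximal ideal. -/
theorem exists_sub_mem_maximalIdeal_localization {S : Type*} [CommRing S] (m : Ideal S)
    [hm : m.IsMaximal] (a : Localization.AtPrime m) :
    ∃ r : S, a - algebraMap S (Localization.AtPrime m) r ∈
      maximalIdeal (Localization.AtPrime m) := by
  obtain ⟨s, ⟨v, hv⟩, rfl⟩ := IsLocalization.exists_mk'_eq m.primeCompl a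
  obtain ⟨v', i, hi, hvi⟩ := hm.exists_inv hv
  refine ⟨s * v', ?_⟩
  have hu : IsUnit (algebraMap S (Localization.AtPrime m) v) :=
    IsLocalization.map_units _ (⟨v, hv⟩ : m.primeCompl)
  have e1 : IsLocalization.mk' (Localization.AtPrime m) s ⟨v, hv⟩ *
      algebraMap S (Localization.AtPrime m) v = algebraMap S (Localization.AtPrime m) s :=
    IsLocalization.mk'_spec _ s (⟨v, hv⟩ : m.primeCompl)
  have e2 : (IsLocalization.mk' (Localization.AtPrime m) s ⟨v, hv⟩ -
      algebraMap S (Localization.AtPrime m) (s * v')) * algebraMap S (Localization.AtPrime m) v =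
      algebraMap S (Localization.AtPrime m) (s * i) := by
    rw [sub_mul, e1, ← map_mul, ← map_sub]
    congr 1
    have : i = 1 - v' * v := by rw [← hvi]; ring
    rw [this]; ring
  have e3 : algebraMap S (Localization.AtPrime m) (s * i) ∈
      maximalIdeal (Localization.AtPrime m) := by
    rw [← Localization.AtPrime.map_eq_maximalIdeal]
    exact Ideal.mem_map_of_mem _ (Ideal.mul_mem_left _ _ hi)
  rw [← e2] at e3
  exact (Ideal.mul_unit_mem_iff_mem _ hu).mp e3

/-- **Descent.** Let `S ⊆ S'` be a finite extension of Noetherian rings and `m` a maximal ideal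
of `S`. If for all primes `P` of `S'` over `m` every formal-like `S'_P`-algebra is reduced, then
the completion of `S_m` is reduced. -/
theorem isReduced_adicCompletion_of_finite (S S' : Type u) [CommRing S] [CommRing S']
    [IsNoetherianRing S] [Algebra S S'] [Module.Finite S S']
    (hinj : Function.Injective (algebraMap S S')) (m : Ideal S) [hm : m.IsMaximal]
    (H : ∀ (P : Ideal S') [P.IsPrime], P.comap (algebraMap S S') = m →
      ∀ (T : Type u) [CommRing T] [IsLocalRing T] [Algebra (Localization.AtPrime P) T],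
        AUn.FormalLike (Localization.AtPrime P) T → IsReduced T) :
    IsReduced (AdicCompletion (maximalIdeal (Localization.AtPrime m)) (Localization.AtPrime m)) := by
  set A := Localization.AtPrime m with hA
  haveI : IsNoetherianRing A := IsLocalization.isNoetherianRing m.primeCompl _ inferInstance
  set Ahat := AdicCompletion (maximalIdeal A) A with hAhat
  have hcpl : AUn.FormalLike A Ahat := AUn.FormalLike.cpl A
  haveI : IsNoetherianRing Ahat := hcpl.noeth
  haveI : Module.Flat A Ahat := hcpl.flat
  haveI : IsScalarTower S A Ahat := .of_algebraMap_eq fun _ => rfl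
  haveI : Module.Flat S A := IsLocalization.flat A m.primeCompl
  haveI : Module.Flat S Ahat := Module.Flat.trans S A Ahat
  haveI : IsNoetherianRing S' := IsNoetherianRing.of_finite S S'
  haveI : IsNoetherianRing (Ahat ⊗[S] S') := IsNoetherianRing.of_finite Ahat _
  have hmapmax : m.map (algebraMap S Ahat) = maximalIdeal Ahat := by
    rw [IsScalarTower.algebraMap_eq S A Ahat, ← Ideal.map_map,
      Localization.AtPrime.map_eq_maximalIdeal, hcpl.map_max]
  have hres : ∀ t : Ahat, ∃ r : S, t - algebraMap S Ahat r ∈ maximalIdeal Ahat := by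
    intro t
    obtain ⟨a, ha⟩ := hcpl.res_surj t
    obtain ⟨r, hr⟩ := exists_sub_mem_maximalIdeal_localization m a
    refine ⟨r, ?_⟩
    have h1 : algebraMap A Ahat (a - algebraMap S A r) ∈ maximalIdeal Ahat := by
      rw [← hcpl.map_max]
      exact Ideal.mem_map_of_mem _ hr
    have h2 : t - algebraMap S Ahat r =
        (t - algebraMap A Ahat a) + algebraMap A Ahat (a - algebraMap S A r) := by
      rw [IsScalarTower.algebraMap_apply S A Ahat, map_sub]; ring
    rw [h2]
    exact Ideal.add_mem _ ha h1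
  have hinjT : Function.Injective
      (Algebra.TensorProduct.includeLeft : Ahat →ₐ[S] Ahat ⊗[S] S') :=
    Algebra.TensorProduct.includeLeft_injective hinj
  suffices hT : IsReduced (Ahat ⊗[S] S') from
    isReduced_of_injective (Algebra.TensorProduct.includeLeft : Ahat →ₐ[S] Ahat ⊗[S] S') hinjT
  refine isReduced_ofLocalizationMaximal (Ahat ⊗[S] S') fun 𝔫 hn => ?_
  haveI := hn
  set φ : S' →+* Ahat ⊗[S] S' :=
    (Algebra.TensorProduct.includeRight (R := S) (A := Ahat) (B := S')).toRingHom with hφ
  have hφflat : φ.Flat := AUn.flat_includeRight S S' Ahat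
  obtain ⟨h1, h2, h3⟩ := baseChange_key' (R := S) (S := S') (T := Ahat) m hmapmax hres 𝔫
  haveI hPprime : (𝔫.comap φ).IsPrime := Ideal.comap_isPrime φ 𝔫
  have hPm : (𝔫.comap φ).comap (algebraMap S S') = m := by
    symm
    apply hm.eq_of_le ?_ h3
    exact (Ideal.comap_isPrime (algebraMap S S') (𝔫.comap φ)).ne_top
  have hFL := AUn.FormalLike.localization φ hφflat 𝔫 (𝔫.comap φ) rfl h1 h2
  exact @H (𝔫.comap φ) hPprime hPm (Localization.AtPrime 𝔫) _ _
    (Localization.localRingHom (𝔫.comap φ) 𝔫 φ rfl).toAlgebra hFL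

end Groth.Agent.Lib.Helper12.NagFT
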