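import Mathlib
import Groth.Agent.Lib.Helper12.NagFTE

/-!
# Finite type algebras over Nagata rings, part F: auxiliary lemmas
-/

set_option autoImplicit false

namespace Groth.Agent.Lib.Helper12.NagFT

open Polynomial IsLocalRing

universe u

section

variable {R K : Type u} [CommRing R] [IsDomain R] [IsIntegrallyClosed R]
  [Field K] [Algebra R K] [IsFractionRing R K]

/-- The key lemma, without the assumption `x ≠ 0`. -/
theorem isReduced_of_formalLike_adjoin' (hR : CAlg.IsNagata R) (x : K)
    (m₀ : Ideal (Algebra.adjoin R {x})) [m₀.IsPrime] (hxm : gen (R := R) x ∈ m₀)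
    (W : Type u) [CommRing W] [IsLocalRing W] [Algebra (Algebra.adjoin R {x}) W]
    [IsLocalization.AtPrime W m₀] (T : Type u) [CommRing T] [IsLocalRing T] [Algebra W T]
    (h : AUn.FormalLike W T) : IsReduced T := by
  by_cases hx : x = 0
  · have hgen : gen (R := R) x = 0 := by
      apply Subtype.ext
      exact hx
    have hsurj : Function.Surjective (algebraMap R (Algebra.adjoin R {x})) := by
      intro s
      obtain ⟨r, hr⟩ := exists_sub_mem_span (R := R) x s
      rw [hgen, Ideal.mem_span_singleton', ] at hr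
      obtain ⟨a, ha⟩ := hr
      rw [mul_zero] at ha
      exact ⟨r, (sub_eq_zero.mp ha.symm).symm⟩
    have hS₀ : CAlg.IsNagata (Algebra.adjoin R {x}) := AnUnram.isNagata_of_surjective _ hsurj hR
    have hloc : CAlg.IsNagata (Localization.AtPrime m₀) :=
      Groth.Agent.S4710.result _ hS₀ m₀.primeCompl
    let e : Localization.AtPrime m₀ ≃ₐ[Algebra.adjoin R {x}] W :=
      IsLocalization.algEquiv m₀.primeCompl _ _
    have hW : CAlg.IsNagata W :=
      AnUnram.isNagata_of_surjective e.toRingEquiv.toRingHom e.surjective hloc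
    haveI : IsDomain W :=
      IsLocalization.isDomain_of_le_nonZeroDivisors W (Ideal.primeCompl_le_nonZeroDivisors m₀)
    exact AUn.isReduced_of_formalLike W hW T h
  · exact isReduced_of_formalLike_adjoin hR x hx m₀ hxm W T h

end

/-- Elements of `A[x]` land in the subalgebra `B` after multiplication by a power of `u`, if
`u x ∈ B`. -/
theorem exists_pow_mul_mem {A L : Type*} [CommRing A] [CommRing L] [Algebra A L]
    (B : Subalgebra A L) (x : L) (u : A) (hux : algebraMap A L u * x ∈ B)
    (s : L) (hs : s ∈ Algebra.adjoin A {x}) :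
    ∃ k : ℕ, algebraMap A L u ^ k * s ∈ B := by
  induction hs using Algebra.adjoin_induction with
  | mem y hy =>
    rw [Set.mem_singleton_iff] at hy
    subst hy
    exact ⟨1, by rw [pow_one]; exact hux⟩
  | algebraMap r => exact ⟨0, by rw [pow_zero, one_mul]; exact B.algebraMap_mem r⟩
  | add y z _ _ ihy ihz =>
    obtain ⟨k₁, h₁⟩ := ihy
    obtain ⟨k₂, h₂⟩ := ihz
    refine ⟨k₁ + k₂, ?_⟩
    have : algebraMap A L u ^ (k₁ + k₂) * (y + z) =
        algebraMap A L (u ^ k₂) * (algebraMap A L u ^ k₁ * y) +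
        algebraMap A L (u ^ k₁) * (algebraMap A L u ^ k₂ * z) := by
      rw [map_pow, map_pow, pow_add]; ring
    rw [this]
    exact B.add_mem (B.mul_mem (B.algebraMap_mem _) h₁) (B.mul_mem (B.algebraMap_mem _) h₂)
  | mul y z _ _ ihy ihz =>
    obtain ⟨k₁, h₁⟩ := ihy
    obtain ⟨k₂, h₂⟩ := ihz
    refine ⟨k₁ + k₂, ?_⟩
    have : algebraMap A L u ^ (k₁ + k₂) * (y * z) =
        (algebraMap A L u ^ k₁ * y) * (algebraMap A L u ^ k₂ * z) := by
      rw [pow_add]; ring
    rw [this]
    exact B.mul_mem h₁ h₂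

/-- If a product of elements of a subalgebra lies in a prime ideal, so does one of the factors. -/
theorem exists_mem_of_multiset_prod_mem {A L : Type*} [CommRing A] [CommRing L] [Algebra A L]
    (B : Subalgebra A L) (P : Ideal B) [hP : P.IsPrime] (M : Multiset L)
    (hM : ∀ a ∈ M, a ∈ B) (z : B) (hz : (z : L) = M.prod) (hzP : z ∈ P) :
    ∃ a ∈ M, ∃ h : a ∈ B, (⟨a, h⟩ : B) ∈ P := by
  induction M using Multiset.induction_on generalizing z with
  | empty =>
    exfalso
    rw [Multiset.prod_zero] at hz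
    have : z = 1 := Subtype.ext hz
    rw [this] at hzP
    exact hP.ne_top ((Ideal.eq_top_iff_one P).mpr hzP)
  | cons a M ih =>
    have ha : a ∈ B := hM a (Multiset.mem_cons_self a M)
    have hM' : ∀ b ∈ M, b ∈ B := fun b hb => hM b (Multiset.mem_cons_of_mem hb)
    have hprod : M.prod ∈ B := Subalgebra.multiset_prod_mem B hM'
    have hzeq : z = (⟨a, ha⟩ : B) * ⟨M.prod, hprod⟩ := by
      apply Subtype.ext
      rw [hz, Multiset.prod_cons]
      rfl
    rw [hzeq] at hzP
    rcases hP.mem_or_mem hzP with h1 | h1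
    · exact ⟨a, Multiset.mem_cons_self a M, ha, h1⟩
    · obtain ⟨b, hb, hbB, hbP⟩ := ih hM' ⟨M.prod, hprod⟩ rfl h1
      exact ⟨b, Multiset.mem_cons_of_mem hb, hbB, hbP⟩

/-- The residue class of `x` at a maximal ideal of `R[x]` is algebraic over the residue ring of
`R`; hence a multiple `u x` of it satisfies a monic equation over `R` modulo `m`. -/
theorem exists_monic_aeval_mem {R K : Type u} [CommRing R] [Field K] [Algebra R K] (x : K)
    (m : Ideal (Algebra.adjoin R {x})) [hm : m.IsMaximal] :
    ∃ (u : R) (g : R[X]), algebraMap R (Algebra.adjoin R {x}) u ∉ m ∧ g.Monic ∧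
      aeval (algebraMap R (Algebra.adjoin R {x}) u * gen (R := R) x) g ∈ m := by
  classical
  letI : Field (Algebra.adjoin R {x} ⧸ m) := Ideal.Quotient.field m
  haveI : (m.comap (algebraMap R (Algebra.adjoin R {x}))).IsPrime := Ideal.comap_isPrime _ m
  haveI : IsScalarTower R (R ⧸ m.comap (algebraMap R (Algebra.adjoin R {x})))
      (Algebra.adjoin R {x} ⧸ m) := .of_algebraMap_eq fun _ => rfl
  set xbar : Algebra.adjoin R {x} ⧸ m := Ideal.Quotient.mk m (gen (R := R) x) with hxbar
  have hsurj : Function.Surjective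
      (aeval (R := R ⧸ m.comap (algebraMap R (Algebra.adjoin R {x}))) xbar) := by
    intro y
    obtain ⟨s, rfl⟩ := Ideal.Quotient.mk_surjective y
    have hs : (s : K) ∈ (aeval x : R[X] →ₐ[R] K).range := by
      rw [← Algebra.adjoin_singleton_eq_range_aeval]; exact s.2
    obtain ⟨P₀, hP₀⟩ := hs
    have hs' : s = aeval (gen (R := R) x) P₀ := by
      apply Subtype.ext
      rw [aeval_subalgebra_coe]
      exact hP₀.symm
    refine ⟨P₀.map (algebraMap R _), ?_⟩
    rw [aeval_map_algebraMap, hs', hxbar]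
    exact (aeval_algHom_apply (Ideal.Quotient.mkₐ R m) (gen (R := R) x) P₀)
  have halg : IsAlgebraic (R ⧸ m.comap (algebraMap R (Algebra.adjoin R {x}))) xbar := by
    by_contra htr
    have hinj : Function.Injective
        (aeval (R := R ⧸ m.comap (algebraMap R (Algebra.adjoin R {x}))) xbar) :=
      transcendental_iff_injective.mp htr
    by_cases hx0 : xbar = 0
    · have h1 : aeval (R := R ⧸ m.comap (algebraMap R (Algebra.adjoin R {x}))) xbar X =
          aeval (R := R ⧸ m.comap (algebraMap R (Algebra.adjoin R {x}))) xbar 0 := by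
        rw [aeval_X, map_zero, hx0]
      exact X_ne_zero (hinj h1)
    · obtain ⟨Q, hQ⟩ := hsurj xbar⁻¹
      have h1 : aeval (R := R ⧸ m.comap (algebraMap R (Algebra.adjoin R {x}))) xbar (X * Q) =
          aeval (R := R ⧸ m.comap (algebraMap R (Algebra.adjoin R {x}))) xbar 1 := by
        rw [map_mul, aeval_X, hQ, map_one, mul_inv_cancel₀ hx0]
      have h2 := hinj h1
      exact Polynomial.not_isUnit_X (IsUnit.of_mul_eq_one _ h2)
  obtain ⟨ubar, hubar0, hint⟩ := halg.exists_integral_multiple
  obtain ⟨u, rfl⟩ := Ideal.Quotient.mk_surjective ubar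
  obtain ⟨gbar, hgmonic, hgeval⟩ := hint
  obtain ⟨g, hgmap, -, hgm⟩ := Polynomial.lifts_and_natDegree_eq_and_monic
    (f := Ideal.Quotient.mk (m.comap (algebraMap R (Algebra.adjoin R {x}))))
    ((Polynomial.mem_lifts _).mpr
      (Polynomial.map_surjective _ Ideal.Quotient.mk_surjective gbar)) hgmonic
  refine ⟨u, g, ?_, hgm, ?_⟩
  · intro hmem
    apply hubar0
    rw [Ideal.Quotient.eq_zero_iff_mem]
    exact hmem
  · rw [← Ideal.Quotient.eq_zero_iff_mem, aeval_def, Polynomial.hom_eval₂]
    rw [← hgmap, Polynomial.eval₂_map] at hgeval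
    have e2 : (Ideal.Quotient.mk (m.comap (algebraMap R (Algebra.adjoin R {x}))) u) • xbar =
        Ideal.Quotient.mk m (algebraMap R (Algebra.adjoin R {x}) u * gen (R := R) x) := by
      rw [Algebra.smul_def, map_mul]; rfl
    rw [e2] at hgeval
    exact hgeval

end Groth.Agent.Lib.Helper12.NagFT
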