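import Mathlib
import Groth.Agent.Lib.Helper12.NagFTF
import Groth.Agent.Lib.Helper13.Japanese3

/-!
# Finite type algebras over Nagata rings, part G: `R[x]_m` is analytically unramified
-/

set_option autoImplicit false

namespace Groth.Agent.Lib.Helper12.NagFT

open Polynomial IsLocalRing

universe u

section Ext

variable {R K : Type u} [CommRing R] [IsDomain R] [Field K] [Algebra R K]
  (L : Type u) [Field L] [Algebra K L] [Algebra R L] [IsScalarTower R K L]

theorem algebraMap_mem_adjoin (x : K) (s : K) (hs : s ∈ Algebra.adjoin R {x}) :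
    algebraMap K L s ∈ Algebra.adjoin (integralClosure R L) {algebraMap K L x} := by
  induction hs using Algebra.adjoin_induction with
  | mem y hy =>
    rw [Set.mem_singleton_iff] at hy
    subst hy
    exact Algebra.subset_adjoin (Set.mem_singleton _)
  | algebraMap r =>
    rw [← IsScalarTower.algebraMap_apply R K L,
      IsScalarTower.algebraMap_apply R (integralClosure R L) L]
    exact Subalgebra.algebraMap_mem _ _
  | add y z _ _ ihy ihz => rw [map_add]; exact Subalgebra.add_mem _ ihy ihz
  | mul y z _ _ ihy ihz => rw [map_mul]; exact Subalgebra.mul_mem _ ihy ihz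

/-- The inclusion `R[x] → R'[x]`, where `R'` is the integral closure of `R` in `L`. -/
noncomputable def ιhom (x : K) : Algebra.adjoin R {x} →+*
    Algebra.adjoin (integralClosure R L) {algebraMap K L x} :=
  RingHom.codRestrict ((algebraMap K L).comp (Algebra.adjoin R {x}).val.toRingHom)
    (Algebra.adjoin (integralClosure R L) {algebraMap K L x})
    (fun s => algebraMap_mem_adjoin L x s.1 s.2)

/-- `R'[x]` as an `R[x]`-algebra. -/
noncomputable def algS (x : K) : Algebra (Algebra.adjoin R {x})
    (Algebra.adjoin (integralClosure R L) {algebraMap K L x}) := (ιhom L x).toAlgebra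

attribute [local instance] algS

theorem coe_algebraMap (x : K) (s : Algebra.adjoin R {x}) :
    ((algebraMap (Algebra.adjoin R {x})
      (Algebra.adjoin (integralClosure R L) {algebraMap K L x}) s : _) : L) =
      algebraMap K L (s : K) := rfl

theorem algebraMap_injective (x : K) : Function.Injective (algebraMap (Algebra.adjoin R {x})
    (Algebra.adjoin (integralClosure R L) {algebraMap K L x})) := by
  intro s t h
  apply Subtype.ext
  apply (algebraMap K L).injective
  rw [← coe_algebraMap, ← coe_algebraMap, h]

theorem algebraMap_algebraMap (x : K) (r : R) :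
    algebraMap (integralClosure R L) (Algebra.adjoin (integralClosure R L) {algebraMap K L x})
      (algebraMap R (integralClosure R L) r) =
    algebraMap (Algebra.adjoin R {x}) (Algebra.adjoin (integralClosure R L) {algebraMap K L x})
      (algebraMap R (Algebra.adjoin R {x}) r) := by
  apply Subtype.ext
  rw [coe_algebraMap]
  change algebraMap (integralClosure R L) L (algebraMap R (integralClosure R L) r) =
    algebraMap K L (algebraMap R K r)
  rw [← IsScalarTower.algebraMap_apply, ← IsScalarTower.algebraMap_apply]

theorem finite_adjoin [Module.Finite R (integralClosure R L)] (x : K) :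
    Module.Finite (Algebra.adjoin R {x})
      (Algebra.adjoin (integralClosure R L) {algebraMap K L x}) := by
  classical
  obtain ⟨F, hF⟩ := (Module.Finite.fg_top : (⊤ : Submodule R (integralClosure R L)).FG)
  set N : Submodule (Algebra.adjoin R {x})
      (Algebra.adjoin (integralClosure R L) {algebraMap K L x}) :=
    Submodule.span (Algebra.adjoin R {x})
      ((algebraMap (integralClosure R L)
        (Algebra.adjoin (integralClosure R L) {algebraMap K L x})) '' (F : Set _)) with hN
  have claim1 : ∀ r' : integralClosure R L, ∀ s : Algebra.adjoin R {x},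
      algebraMap (Algebra.adjoin R {x}) (Algebra.adjoin (integralClosure R L) {algebraMap K L x}) s *
        algebraMap (integralClosure R L) (Algebra.adjoin (integralClosure R L) {algebraMap K L x})
          r' ∈ N := by
    intro r'
    have hr' : r' ∈ Submodule.span R (F : Set (integralClosure R L)) := by rw [hF]; trivial
    induction hr' using Submodule.span_induction with
    | mem e he =>
      intro s
      rw [← Algebra.smul_def]
      exact Submodule.smul_mem _ _ (Submodule.subset_span ⟨e, he, rfl⟩)
    | zero => intro s; rw [map_zero, mul_zero]; exact N.zero_mem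
    | add a b _ _ iha ihb => intro s; rw [map_add, mul_add]; exact N.add_mem (iha s) (ihb s)
    | smul r a _ iha =>
      intro s
      rw [Algebra.smul_def, map_mul, algebraMap_algebraMap, ← mul_assoc, ← map_mul]
      exact iha _
  have gen_eq : (⟨algebraMap K L x, Algebra.subset_adjoin (Set.mem_singleton _)⟩ :
      Algebra.adjoin (integralClosure R L) {algebraMap K L x}) =
      algebraMap (Algebra.adjoin R {x}) _ (gen (R := R) x) := Subtype.ext rfl
  have claim2 : ∀ t' : Algebra.adjoin (integralClosure R L) {algebraMap K L x}, t' ∈ N := by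
    intro t'
    have ht' : (t' : L) ∈ (aeval (algebraMap K L x) : (integralClosure R L)[X] →ₐ[_] L).range := by
      rw [← Algebra.adjoin_singleton_eq_range_aeval]; exact t'.2
    obtain ⟨P, hP⟩ := ht'
    have h1 : t' = aeval (⟨algebraMap K L x, Algebra.subset_adjoin (Set.mem_singleton _)⟩ :
        Algebra.adjoin (integralClosure R L) {algebraMap K L x}) P := by
      apply Subtype.ext
      rw [aeval_subalgebra_coe]
      exact hP.symm
    rw [h1, aeval_eq_sum_range]
    refine Submodule.sum_mem _ fun i _ => ?_
    rw [Algebra.smul_def, gen_eq, ← map_pow, mul_comm]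
    exact claim1 _ _
  refine ⟨⟨F.image (algebraMap (integralClosure R L) _), ?_⟩⟩
  rw [Finset.coe_image]
  exact eq_top_iff.mpr fun t' _ => claim2 t'

end Ext

section Inner

variable {R' L : Type u} [CommRing R'] [IsDomain R'] [IsIntegrallyClosed R'] [Field L]
  [Algebra R' L] [IsFractionRing R' L]

/-- If a product `∏ (u x - aᵢ)` with `aᵢ ∈ R'` lies in the prime `P` of `R'[x]` and `u ∉ P`, then
every formal-like algebra over `R'[x]_P` is reduced. -/
theorem isReduced_of_formalLike_of_prod_mem (hR' : CAlg.IsNagata R') (x' : L)
    (P : Ideal (Algebra.adjoin R' {x'})) [P.IsPrime] (u' : R')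
    (huP : algebraMap R' (Algebra.adjoin R' {x'}) u' ∉ P) (M : Multiset L)
    (hM : ∀ a ∈ M, ∃ a' : R', algebraMap R' L a' = a) (zP : Algebra.adjoin R' {x'})
    (hzPcoe : (zP : L) = (M.map (fun a => algebraMap R' L u' * x' - a)).prod) (hzPmem : zP ∈ P)
    (T : Type u) [CommRing T] [IsLocalRing T] [Algebra (Localization.AtPrime P) T]
    (hT : AUn.FormalLike (Localization.AtPrime P) T) : IsReduced T := by
  have hux'mem : algebraMap R' L u' * x' ∈ Algebra.adjoin R' {x'} :=
    Subalgebra.mul_mem _ (Subalgebra.algebraMap_mem _ _)
      (Algebra.subset_adjoin (Set.mem_singleton _))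
  obtain ⟨f, hfM, hfS', hfP⟩ := exists_mem_of_multiset_prod_mem
    (Algebra.adjoin R' {x'}) P (M.map (fun a => algebraMap R' L u' * x' - a)) (by
      intro b hb
      obtain ⟨a, ha, rfl⟩ := Multiset.mem_map.mp hb
      obtain ⟨a', rfl⟩ := hM a ha
      exact Subalgebra.sub_mem _ hux'mem (Subalgebra.algebraMap_mem _ a')) zP hzPcoe hzPmem
  obtain ⟨a, ha, rfl⟩ := Multiset.mem_map.mp hfM
  obtain ⟨a', rfl⟩ := hM a ha
  set y : L := algebraMap R' L u' * x' - algebraMap R' L a' with hy
  -- the subring `R'[y]`
  have hle : Algebra.adjoin R' {y} ≤ Algebra.adjoin R' {x'} :=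
    Algebra.adjoin_le (Set.singleton_subset_iff.mpr hfS')
  set ι₀ : Algebra.adjoin R' {y} →+* Algebra.adjoin R' {x'} :=
    (Subalgebra.inclusion hle).toRingHom with hι₀
  have hι₀inj : Function.Injective ι₀ := Subalgebra.inclusion_injective hle
  set m₀ : Ideal (Algebra.adjoin R' {y}) := P.comap ι₀ with hm₀
  haveI : m₀.IsPrime := Ideal.comap_isPrime ι₀ P
  have hym : gen (R := R') y ∈ m₀ := by
    rw [hm₀, Ideal.mem_comap]
    exact hfP
  have hu'y : algebraMap R' L u' * x' ∈ Algebra.adjoin R' {y} := by
    have : algebraMap R' L u' * x' = y + algebraMap R' L a' := by rw [hy]; ring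
    rw [this]
    exact Subalgebra.add_mem _ (Algebra.subset_adjoin (Set.mem_singleton _))
      (Subalgebra.algebraMap_mem _ _)
  have hfrac : ∀ t' : Algebra.adjoin R' {x'},
      ∃ t v : Algebra.adjoin R' {y}, v ∉ m₀ ∧ ι₀ v * t' = ι₀ t := by
    intro t'
    obtain ⟨k, hk⟩ := exists_pow_mul_mem (Algebra.adjoin R' {y}) x' u' hu'y t'.1 t'.2
    refine ⟨⟨_, hk⟩, algebraMap R' _ (u' ^ k), ?_, ?_⟩
    · intro hmem
      rw [hm₀, Ideal.mem_comap] at hmem
      have h1 : ι₀ (algebraMap R' (Algebra.adjoin R' {y}) (u' ^ k)) =
          (algebraMap R' (Algebra.adjoin R' {x'}) u') ^ k := by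
        rw [← map_pow]
        exact (Subalgebra.inclusion hle).commutes _
      rw [h1] at hmem
      exact huP (Ideal.IsPrime.mem_of_pow_mem inferInstance k hmem)
    · apply Subtype.ext
      change algebraMap R' L (u' ^ k) * t'.1 = algebraMap R' L u' ^ k * t'.1
      rw [map_pow]
  letI : Algebra (Algebra.adjoin R' {y}) (Localization.AtPrime P) :=
    ((algebraMap (Algebra.adjoin R' {x'}) (Localization.AtPrime P)).comp ι₀).toAlgebra
  haveI : IsLocalization.AtPrime (Localization.AtPrime P) m₀ :=
    AUn.isLocalization_atPrime_of_forall_exists ι₀ hι₀inj P m₀ rfl hfrac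
  exact isReduced_of_formalLike_adjoin' hR' y m₀ hym (Localization.AtPrime P) T hT

end Inner

section Main

variable {R K : Type u} [CommRing R] [IsDomain R] [Field K] [Algebra R K]
  (L : Type u) [Field L] [Algebra K L] [Algebra R L] [IsScalarTower R K L]
  [IsIntegrallyClosed R] [IsFractionRing R K] [FiniteDimensional K L]

attribute [local instance] algS

/-- If `g(ux) ∈ m` for a monic `g` which splits in the finite extension `L` of `K`, then `R[x]_m`
is analytically unramified. -/
theorem isReduced_adicCompletion_of_splits (hR : CAlg.IsNagata R) (x : K)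
    (m : Ideal (Algebra.adjoin R {x})) [hm : m.IsMaximal] (u : R) (g : R[X])
    (hu : algebraMap R (Algebra.adjoin R {x}) u ∉ m) (hg : g.Monic)
    (hgm : aeval (algebraMap R (Algebra.adjoin R {x}) u * gen (R := R) x) g ∈ m)
    (hsplit : (g.map (algebraMap R L)).Splits) :
    IsReduced (AdicCompletion (maximalIdeal (Localization.AtPrime m))
      (Localization.AtPrime m)) := by
  haveI := hR.1
  haveI : Module.Finite R (integralClosure R L) :=
    Groth.Agent.Lib.Helper13.Japanese.finite_integralClosure_of_finite_of_isN2 R R K L
      (AUn.isN2_of_isNagata R hR)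
  haveI : IsIntegrallyClosed (integralClosure R L) :=
    integralClosure.isIntegrallyClosedOfFiniteExtension K
  haveI : IsFractionRing (integralClosure R L) L :=
    integralClosure.isFractionRing_of_finite_extension K L
  have hR' : CAlg.IsNagata (integralClosure R L) := AUn.isNagata_of_finite R _ hR
  haveI := isNoetherianRing_adjoin (R := R) x
  haveI := finite_adjoin (R := R) L x
  refine isReduced_adicCompletion_of_finite _ _ (algebraMap_injective (R := R) L x) m ?_
  intro P _ hPm T _ _ _ hT
  have hzPmem : algebraMap (Algebra.adjoin R {x}) (Algebra.adjoin (integralClosure R L)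
      {algebraMap K L x}) (aeval (algebraMap R (Algebra.adjoin R {x}) u * gen (R := R) x) g) ∈
      P := by
    have : aeval (algebraMap R (Algebra.adjoin R {x}) u * gen (R := R) x) g ∈
        P.comap (algebraMap (Algebra.adjoin R {x}) _) := by rw [hPm]; exact hgm
    exact this
  have hzPcoe : ((algebraMap (Algebra.adjoin R {x}) (Algebra.adjoin (integralClosure R L)
      {algebraMap K L x}) (aeval (algebraMap R (Algebra.adjoin R {x}) u * gen (R := R) x) g) : _)
      : L) = aeval (algebraMap R L u * algebraMap K L x) g := by
    rw [coe_algebraMap, aeval_subalgebra_coe, ← aeval_algebraMap_apply]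
    congr 2
    change algebraMap K L (algebraMap R K u * x) = _
    rw [map_mul, ← IsScalarTower.algebraMap_apply R K L]
  rw [Splits.aeval_eq_prod_aroots_of_monic hsplit hg] at hzPcoe
  have hroots : ∀ a ∈ g.aroots L, IsIntegral R a := by
    intro a ha
    exact ⟨g, hg, by rw [← aeval_def]; exact ((mem_aroots'.mp ha).2)⟩
  have huP : algebraMap (integralClosure R L)
      (Algebra.adjoin (integralClosure R L) {algebraMap K L x})
      (algebraMap R (integralClosure R L) u) ∉ P := by
    rw [algebraMap_algebraMap]
    intro hmem
    apply hu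
    rw [← hPm]
    exact hmem
  refine isReduced_of_formalLike_of_prod_mem hR' (algebraMap K L x) P
    (algebraMap R (integralClosure R L) u) huP (g.aroots L)
    (fun a ha => ⟨⟨a, hroots a ha⟩, rfl⟩) _ ?_ hzPmem T hT
  rw [hzPcoe, ← IsScalarTower.algebraMap_apply R (integralClosure R L) L]

end Main

end Groth.Agent.Lib.Helper12.NagFT
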