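import Mathlib
import Groth.Agent.Lib.Helper12.NagFTG
import Groth.Agent.Lib.Helper13.N1Criterion2

/-!
# Finite type algebras over Nagata rings, part H: `R[x]` is N-1 for `x ∈ Frac R`, `R` a normal
Nagata domain
-/

set_option autoImplicit false

namespace Groth.Agent.Lib.Helper12.NagFT

open Polynomial IsLocalRing

universe u

variable {R K : Type u} [CommRing R] [IsDomain R] [IsIntegrallyClosed R]
  [Field K] [Algebra R K] [IsFractionRing R K]

/-- The local rings of `R[x]` at maximal ideals are N-1. -/
theorem isN1_localization_adjoin (hR : CAlg.IsNagata R) (x : K)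
    (m : Ideal (Algebra.adjoin R {x})) [hm : m.IsMaximal] :
    CAlg.IsN1 (Localization.AtPrime m) := by
  haveI := hR.1
  haveI := isNoetherianRing_adjoin (R := R) x
  obtain ⟨u, g, hu, hg, hgm⟩ := exists_monic_aeval_mem x m
  have hsplit : (g.map (algebraMap R (g.map (algebraMap R K)).SplittingField)).Splits := by
    have h1 := SplittingField.splits (g.map (algebraMap R K))
    rwa [Polynomial.map_map, ← IsScalarTower.algebraMap_eq] at h1
  haveI : IsReduced (AdicCompletion (maximalIdeal (Localization.AtPrime m))
      (Localization.AtPrime m)) :=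
    isReduced_adicCompletion_of_splits (g.map (algebraMap R K)).SplittingField hR x m u g hu hg hgm
      hsplit
  haveI : IsNoetherianRing (Localization.AtPrime m) :=
    IsLocalization.isNoetherianRing m.primeCompl _ inferInstance
  exact AnUnram.isN1_of_isReduced_adicCompletion

/-- `R[x]_a = R_a` if `a x ∈ R`. -/
theorem isIntegrallyClosed_away [IsNoetherianRing R] (x : K) (a b : R) (ha : a ≠ 0)
    (hab : algebraMap R K a * x = algebraMap R K b) :
    IsIntegrallyClosed (Localization.Away (algebraMap R (Algebra.adjoin R {x}) a)) := by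
  set f : Algebra.adjoin R {x} := algebraMap R (Algebra.adjoin R {x}) a with hf
  have hinj : Function.Injective (algebraMap R (Algebra.adjoin R {x})) := by
    intro r₁ r₂ h
    apply IsFractionRing.injective R K
    exact congrArg Subtype.val h
  have hf0 : f ≠ 0 := by
    rw [hf, Ne, map_eq_zero_iff _ hinj]; exact ha
  have hle : Submonoid.powers f ≤ nonZeroDivisors (Algebra.adjoin R {x}) :=
    powers_le_nonZeroDivisors_of_noZeroDivisors hf0
  have hinjS : Function.Injective (algebraMap (Algebra.adjoin R {x}) (Localization.Away f)) :=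
    IsLocalization.injective _ hle
  have halg : ∀ r : R, algebraMap R (Localization.Away f) r =
      algebraMap (Algebra.adjoin R {x}) (Localization.Away f)
        (algebraMap R (Algebra.adjoin R {x}) r) :=
    fun r => IsScalarTower.algebraMap_apply R (Algebra.adjoin R {x}) (Localization.Away f) r
  haveI : IsLocalization (Submonoid.powers a) (Localization.Away f) := by
    refine ⟨?_, ?_, ?_⟩
    · rintro ⟨_, k, rfl⟩
      rw [halg, map_pow]
      exact IsLocalization.map_units (Localization.Away f)
        (⟨f ^ k, k, rfl⟩ : Submonoid.powers f)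
    · intro z
      obtain ⟨s, ⟨_, j, rfl⟩, rfl⟩ := IsLocalization.exists_mk'_eq (Submonoid.powers f) z
      obtain ⟨k, t, hkt⟩ := exists_pow_mul_eq x a b hab s.1 s.2
      refine ⟨(t, ⟨a ^ (j + k), j + k, rfl⟩), ?_⟩
      simp only
      rw [halg, halg, map_pow, pow_add, ← hf]
      have e1 : IsLocalization.mk' (Localization.Away f) s (⟨f ^ j, j, rfl⟩ : Submonoid.powers f) *
          algebraMap (Algebra.adjoin R {x}) (Localization.Away f) (f ^ j) =
          algebraMap (Algebra.adjoin R {x}) (Localization.Away f) s :=
        IsLocalization.mk'_spec _ s (⟨f ^ j, j, rfl⟩ : Submonoid.powers f)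
      have e2 : algebraMap R (Algebra.adjoin R {x}) t = f ^ k * s := by
        apply Subtype.ext
        change algebraMap R K t = (f ^ k : Algebra.adjoin R {x}).1 * s.1
        rw [← hkt]
        rfl
      rw [e2, map_mul, map_mul, ← e1]
      ring
    · intro r₁ r₂ h
      rw [halg, halg] at h
      exact ⟨1, by rw [hinj (hinjS h)]⟩
  exact isIntegrallyClosed_of_isLocalization (Localization.Away f) (Submonoid.powers a)
    (powers_le_nonZeroDivisors_of_noZeroDivisors ha)

/-- **Main step**: for a normal Nagata domain `R` and `x ∈ Frac R`, the ring `R[x]` is N-1. -/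
theorem isN1_adjoin (hR : CAlg.IsNagata R) (x : K) : CAlg.IsN1 (Algebra.adjoin R {x}) := by
  haveI := hR.1
  haveI := isNoetherianRing_adjoin (R := R) x
  obtain ⟨b, a, ha, hxab⟩ := IsFractionRing.div_surjective (A := R) x
  have ha0 : a ≠ 0 := nonZeroDivisors.ne_zero ha
  have haK : algebraMap R K a ≠ 0 := by
    rw [Ne, map_eq_zero_iff _ (IsFractionRing.injective R K)]; exact ha0
  have hab : algebraMap R K a * x = algebraMap R K b := by
    rw [← hxab]; field_simp
  have hinj : Function.Injective (algebraMap R (Algebra.adjoin R {x})) := by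
    intro r₁ r₂ h
    apply IsFractionRing.injective R K
    exact congrArg Subtype.val h
  refine Groth.Agent.Lib.Helper13.N1Criterion.isN1_of_away_of_atPrime (Algebra.adjoin R {x})
    (algebraMap R (Algebra.adjoin R {x}) a) ?_ (isIntegrallyClosed_away x a b ha0 hab)
    (fun m _ => isN1_localization_adjoin hR x m)
  rw [Ne, map_eq_zero_iff _ hinj]
  exact ha0

/-- `Frac R` is the fraction field of `R[x]`. -/
theorem isFractionRing_adjoin (x : K) : IsFractionRing (Algebra.adjoin R {x}) K := by
  refine IsFractionRing.of_field (Algebra.adjoin R {x}) K fun z => ?_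
  obtain ⟨b, a, _, hz⟩ := IsFractionRing.div_surjective (A := R) z
  exact ⟨algebraMap R _ b, algebraMap R _ a, hz.symm⟩

/-- The integral closure of `R[x]` in `Frac R` is finite over `R[x]`. -/
theorem finite_integralClosure_adjoin (hR : CAlg.IsNagata R) (x : K) :
    Module.Finite (Algebra.adjoin R {x}) (integralClosure (Algebra.adjoin R {x}) K) := by
  haveI := isFractionRing_adjoin (R := R) x
  have h := isN1_adjoin hR x
  unfold CAlg.IsN1 at h
  haveI := h
  exact Module.Finite.equiv
    ((FractionRing.algEquiv (Algebra.adjoin R {x}) K).mapIntegralClosure).toLinearEquiv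

end Groth.Agent.Lib.Helper12.NagFT
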