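import Mathlib
import Groth.Agent.Lib.Helper12.NagFTH
import Groth.Agent.Lib.Helper13.NagataFT2
import Groth.Agent.Lib.Helper26.JapaneseN1

/-!
# Finite type algebras over Nagata rings, part I: algebraic monogenic extensions of Nagata domains
are N-2
-/

set_option autoImplicit false

namespace Groth.Agent.Lib.Helper12.NagFT

open Polynomial IsLocalRing

universe u

attribute [local instance] algS

/-- A domain generated by one algebraic element over a Nagata domain is N-2. -/
theorem isN2_of_adjoin_algebraic (D B : Type u) [CommRing D] [IsDomain D] [CommRing B] [IsDomain B]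
    [Algebra D B] (hD : CAlg.IsNagata D) (hinj : Function.Injective (algebraMap D B)) (b : B)
    (hb : Algebra.adjoin D {b} = ⊤) (halg : IsAlgebraic D b) : CAlg.IsN2 B := by
  intro L _ _ _ _ hfin
  haveI := hfin
  haveI := hD.1
  letI : Algebra D L := ((algebraMap B L).comp (algebraMap D B)).toAlgebra
  haveI : IsScalarTower D B L := .of_algebraMap_eq fun _ => rfl
  have hBL : Function.Injective (algebraMap B L) := by
    rw [IsScalarTower.algebraMap_eq B (FractionRing B) L]
    exact (algebraMap (FractionRing B) L).injective.comp (IsFractionRing.injective B _)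
  have hDL : Function.Injective (algebraMap D L) := hBL.comp hinj
  haveI : FaithfulSMul D L := (faithfulSMul_iff_algebraMap_injective D L).mpr hDL
  haveI : FaithfulSMul D B := (faithfulSMul_iff_algebraMap_injective D B).mpr hinj
  -- algebraicity
  haveI hDB : Algebra.IsAlgebraic D B := by
    have h1 : (Algebra.adjoin D {b}).IsAlgebraic :=
      Algebra.isAlgebraic_adjoin_singleton_iff.mpr halg
    exact ⟨fun z => h1 z (by rw [hb]; trivial)⟩
  haveI : Algebra.IsAlgebraic (FractionRing B) L := Algebra.IsAlgebraic.of_finite _ _
  haveI hBLalg : Algebra.IsAlgebraic B L := IsFractionRing.comap_isAlgebraic_iff.mpr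
    (inferInstance : Algebra.IsAlgebraic (FractionRing B) L)
  haveI hDLalg : Algebra.IsAlgebraic D L := Algebra.IsAlgebraic.trans D B L
  -- finiteness of the integral closure of `D` in `L`
  haveI : Algebra.FiniteType D B := ⟨by
    rw [← hb]
    exact Subalgebra.fg_def.mpr ⟨{b}, Set.finite_singleton b, rfl⟩⟩
  haveI hfinD'' : Module.Finite D (integralClosure D L) := by
    refine Groth.Agent.Lib.Helper13.NagataFT2.finite_integralClosure_of_field D L
      (AUn.isN2_of_isNagata D hD) ?_
    letI := FractionRing.liftAlgebra D L
    haveI := FractionRing.isScalarTower_liftAlgebra D L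
    haveI : Algebra.EssFiniteType D B := inferInstance
    haveI : Algebra.EssFiniteType B (FractionRing B) :=
      Algebra.EssFiniteType.of_isLocalization _ (nonZeroDivisors B)
    haveI : Algebra.EssFiniteType (FractionRing B) L := inferInstance
    haveI : Algebra.EssFiniteType B L := Algebra.EssFiniteType.comp B (FractionRing B) L
    haveI : Algebra.EssFiniteType D L := Algebra.EssFiniteType.comp D B L
    exact Algebra.EssFiniteType.of_comp D _ _
  haveI : IsFractionRing (integralClosure D L) L :=
    integralClosure.isFractionRing_of_algebraic (A := D) (L := L)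
      (fun x hx => hDL (by rw [hx, map_zero]))
  haveI : IsIntegrallyClosed (integralClosure D L) :=
    (IsIntegrallyClosed.integralClosure_eq_bot_iff L).mp integralClosure_idem
  have hD'' : CAlg.IsNagata (integralClosure D L) := AUn.isNagata_of_finite D _ hD
  -- the rings `B₀ = D[b'] ⊆ B'' = D''[b']` inside `L`
  set b' : L := algebraMap B L b with hb'
  have hmem : ∀ z : B, algebraMap B L z ∈ Algebra.adjoin D {b'} := by
    intro z
    have hz : z ∈ Algebra.adjoin D {b} := by rw [hb]; trivial
    induction hz using Algebra.adjoin_induction with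
    | mem y hy =>
      rw [Set.mem_singleton_iff] at hy
      subst hy
      exact Algebra.subset_adjoin (Set.mem_singleton _)
    | algebraMap d =>
      rw [← IsScalarTower.algebraMap_apply D B L]
      exact Subalgebra.algebraMap_mem _ _
    | add y z _ _ ihy ihz => rw [map_add]; exact Subalgebra.add_mem _ ihy ihz
    | mul y z _ _ ihy ihz => rw [map_mul]; exact Subalgebra.mul_mem _ ihy ihz
  have hsurj : ∀ y ∈ Algebra.adjoin D {b'}, ∃ z : B, algebraMap B L z = y := by
    intro y hy
    induction hy using Algebra.adjoin_induction with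
    | mem y hy =>
      rw [Set.mem_singleton_iff] at hy
      subst hy
      exact ⟨b, rfl⟩
    | algebraMap d => exact ⟨algebraMap D B d, (IsScalarTower.algebraMap_apply D B L d).symm⟩
    | add y z _ _ ihy ihz =>
      obtain ⟨y', rfl⟩ := ihy
      obtain ⟨z', rfl⟩ := ihz
      exact ⟨y' + z', map_add _ _ _⟩
    | mul y z _ _ ihy ihz =>
      obtain ⟨y', rfl⟩ := ihy
      obtain ⟨z', rfl⟩ := ihz
      exact ⟨y' * z', map_mul _ _ _⟩
  let e : B →+* Algebra.adjoin D {b'} :=
    RingHom.codRestrict (algebraMap B L) (Algebra.adjoin D {b'}) hmem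
  have hesurj : Function.Surjective e := by
    rintro ⟨y, hy⟩
    obtain ⟨z, hz⟩ := hsurj y hy
    exact ⟨z, Subtype.ext hz⟩
  haveI hfinB'' : Module.Finite (Algebra.adjoin D {b'})
      (Algebra.adjoin (integralClosure D L) {algebraMap L L b'}) :=
    finite_adjoin (R := D) (K := L) L b'
  letI : Algebra B (Algebra.adjoin D {b'}) := e.toAlgebra
  letI : Algebra B (Algebra.adjoin (integralClosure D L) {algebraMap L L b'}) :=
    ((algebraMap (Algebra.adjoin D {b'})
      (Algebra.adjoin (integralClosure D L) {algebraMap L L b'})).comp e).toAlgebra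
  haveI : IsScalarTower B (Algebra.adjoin D {b'})
      (Algebra.adjoin (integralClosure D L) {algebraMap L L b'}) :=
    .of_algebraMap_eq fun _ => rfl
  haveI : IsScalarTower B (Algebra.adjoin (integralClosure D L) {algebraMap L L b'}) L :=
    .of_algebraMap_eq fun _ => rfl
  haveI : Module.Finite B (Algebra.adjoin D {b'}) :=
    Module.Finite.of_surjective (Algebra.linearMap B (Algebra.adjoin D {b'})) hesurj
  haveI : Module.Finite B (Algebra.adjoin (integralClosure D L) {algebraMap L L b'}) :=
    Module.Finite.trans (Algebra.adjoin D {b'}) _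
  exact Groth.Agent.Lib.Helper26.JapaneseN1.finite_integralClosure_of_tower B
    (Algebra.adjoin (integralClosure D L) {algebraMap L L b'}) L
    (finite_integralClosure_adjoin hD'' (algebraMap L L b'))

end Groth.Agent.Lib.Helper12.NagFT
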