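import Mathlib
import Groth.Agent.Lib.Helper12.NagFTI
import Groth.Agent.Lib.Helper12.TateD
import Groth.Agent.Lib.Helper13.JapanesePoly2

/-!
# Finite type algebras over Nagata rings are Nagata
-/

set_option autoImplicit false

namespace Groth.Agent.Lib.Helper12.NagFT

open Polynomial IsLocalRing

universe u

/-- The polynomial ring over a Nagata ring is Nagata. -/
theorem isNagata_polynomial (R : Type u) [CommRing R] (hR : CAlg.IsNagata R) :
    CAlg.IsNagata R[X] := by
  haveI := hR.1
  refine ⟨inferInstance, fun Q hQ => ?_⟩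
  haveI : (Q.comap (algebraMap R R[X])).IsPrime := Ideal.comap_isPrime _ Q
  have hD : CAlg.IsNagata (R ⧸ Q.comap (algebraMap R R[X])) :=
    AnUnram.isNagata_of_surjective (Ideal.Quotient.mk _) Ideal.Quotient.mk_surjective hR
  haveI := hD.1
  have hinj : Function.Injective
      (algebraMap (R ⧸ Q.comap (algebraMap R R[X])) (R[X] ⧸ Q)) :=
    Ideal.algebraMap_quotient_injective
  set b : R[X] ⧸ Q := Ideal.Quotient.mk Q X with hb
  have hadj : Algebra.adjoin (R ⧸ Q.comap (algebraMap R R[X])) {b} = ⊤ := by
    rw [eq_top_iff]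
    rintro z -
    obtain ⟨P, rfl⟩ := Ideal.Quotient.mk_surjective z
    induction P using Polynomial.induction_on' with
    | add P₁ P₂ h₁ h₂ => rw [map_add]; exact Subalgebra.add_mem _ h₁ h₂
    | monomial n r =>
      have : Ideal.Quotient.mk Q (monomial n r) =
          algebraMap (R ⧸ Q.comap (algebraMap R R[X])) (R[X] ⧸ Q)
            (Ideal.Quotient.mk _ r) * b ^ n := by
        rw [← C_mul_X_pow_eq_monomial, map_mul, map_pow]
        rfl
      rw [this]
      exact Subalgebra.mul_mem _ (Subalgebra.algebraMap_mem _ _)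
        (Subalgebra.pow_mem _ (Algebra.subset_adjoin (Set.mem_singleton _)) n)
  by_cases halg : IsAlgebraic (R ⧸ Q.comap (algebraMap R R[X])) b
  · exact isN2_of_adjoin_algebraic _ _ hD hinj b hadj halg
  · have hinjA : Function.Injective
        (aeval (R := R ⧸ Q.comap (algebraMap R R[X])) b) :=
      transcendental_iff_injective.mp halg
    have hsurjA : Function.Surjective
        (aeval (R := R ⧸ Q.comap (algebraMap R R[X])) b) := by
      intro z
      have hz : z ∈ Algebra.adjoin (R ⧸ Q.comap (algebraMap R R[X])) {b} := by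
        rw [hadj]; trivial
      rw [Algebra.adjoin_singleton_eq_range_aeval] at hz
      exact hz
    let e : (R ⧸ Q.comap (algebraMap R R[X]))[X] ≃+* (R[X] ⧸ Q) :=
      RingEquiv.ofBijective (aeval (R := R ⧸ Q.comap (algebraMap R R[X])) b).toRingHom
        ⟨hinjA, hsurjA⟩
    exact Tate.isN2_of_ringEquiv e
      (Groth.Agent.Lib.Helper13.JapanesePoly.isN2_polynomial _ (AUn.isN2_of_isNagata _ hD))

/-- Polynomial rings in finitely many variables over a Nagata ring are Nagata. -/
theorem isNagata_mvPolynomial_fin (R : Type u) [CommRing R] (hR : CAlg.IsNagata R) (n : ℕ) :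
    CAlg.IsNagata (MvPolynomial (Fin n) R) := by
  induction n with
  | zero =>
    exact AnUnram.isNagata_of_surjective
      (MvPolynomial.isEmptyAlgEquiv R (Fin 0)).symm.toRingEquiv.toRingHom
      (MvPolynomial.isEmptyAlgEquiv R (Fin 0)).symm.surjective hR
  | succ n ih =>
    exact AnUnram.isNagata_of_surjective
      (MvPolynomial.finSuccEquiv R n).symm.toRingEquiv.toRingHom
      (MvPolynomial.finSuccEquiv R n).symm.surjective (isNagata_polynomial _ ih)

/-- **Stacks 0334**: a finite type algebra over a Nagata ring is Nagata. -/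
theorem isNagata_of_finiteType (R : Type u) [CommRing R] (hR : CAlg.IsNagata R) (S : Type u)
    [CommRing S] [Algebra R S] [Algebra.FiniteType R S] : CAlg.IsNagata S := by
  obtain ⟨n, f, hf⟩ := Algebra.FiniteType.iff_quotient_mvPolynomial''.mp
    (inferInstance : Algebra.FiniteType R S)
  exact AnUnram.isNagata_of_surjective f.toRingHom hf (isNagata_mvPolynomial_fin R hR n)

end Groth.Agent.Lib.Helper12.NagFT
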