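import Mathlib
import Groth.Prelude.Def_Found
import Groth.Prelude.Def_EGA4b
import Groth.Agent.Lib.Helper12.HensJapA
import Groth.Agent.Lib.Helper12.HensRegD
import Groth.Agent.Lib.Helper12.JacCplB
import Groth.Agent.Lib.Helper12.AnUnramF
import Groth.Agent.Lib.Helper22.RedFib
import Groth.Agent.S0567

/-!
# The henselization of a Noetherian local ring is universally Japanese iff the ring is
-/

set_option autoImplicit false
set_option linter.style.haveILetI false
universe u
open IsLocalRing TensorProduct

namespace Groth.Agent.Lib.Helper12.HensJap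

open Groth.Agent.Lib.Helper12 IndEtaleFibre HensReg

variable (R S : Type u) [CommRing R] [IsLocalRing R] [IsNoetherianRing R] [CommRing S]
  [IsLocalRing S] [Algebra R S] [IsLocalHom (algebraMap R S)] [Hensel.IsHenselization R S]

/-- `R → S` has geometrically reduced fibres -/
theorem geomReduced_fibres_hens (p : Ideal R) [p.IsPrime] :
    Algebra.IsGeometricallyReduced p.ResidueField (p.Fiber S) := by
  rw [Algebra.isGeometricallyReduced_field_iff]
  have h1 : IsReduced (AlgebraicClosure p.ResidueField ⊗[R] S) :=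
    isReduced_tensor (κ := AlgebraicClosure p.ResidueField)
      (HensFibre.isIndEssEtale_of_isHenselization R S)
  let e : AlgebraicClosure p.ResidueField ⊗[p.ResidueField] (p.ResidueField ⊗[R] S) ≃ₐ[_]
      AlgebraicClosure p.ResidueField ⊗[R] S :=
    Algebra.TensorProduct.cancelBaseChange R p.ResidueField (AlgebraicClosure p.ResidueField)
      (AlgebraicClosure p.ResidueField) S
  exact isReduced_of_injective e e.injective

/-- geometric reducedness of the formal fibres descends from the henselization -/
theorem hasGeomReducedFormalFibres_of_hens (h : EGA4.HasGeomReducedFormalFibres S) :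
    EGA4.HasGeomReducedFormalFibres R := by
  haveI := HensFibre.isNoetherianRing_of_isHenselization R S
  obtain ⟨e⟩ := nonempty_complEquiv_hens R S
  haveI : Module.Flat S (EGA4.Cpl S) := AdicCompletion.flat_of_isNoetherian _
  haveI : IsScalarTower R S (EGA4.Cpl S) := .of_algebraMap_eq (fun _ => rfl)
  have hAC : ∀ (p : Ideal R) [p.IsPrime],
      Algebra.IsGeometricallyReduced p.ResidueField (p.Fiber (EGA4.Cpl S)) := fun p _ =>
    Groth.Agent.Lib.Helper22.RedFib.isGeometricallyReduced_fiber_comp (B := S)
      (C := EGA4.Cpl S) R (geomReduced_fibres_hens R S) h p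
  intro p hp
  haveI := hAC p
  let e' : p.Fiber (EGA4.Cpl R) ≃ₐ[p.ResidueField] p.Fiber (EGA4.Cpl S) :=
    Algebra.TensorProduct.congr AlgEquiv.refl e
  exact Algebra.IsGeometricallyReduced.of_injective (B := p.Fiber (EGA4.Cpl S))
    e'.toAlgHom e'.injective

/-- geometric reducedness of the formal fibres passes to the henselization -/
theorem hasGeomReducedFormalFibres_hens (h : EGA4.HasGeomReducedFormalFibres R) :
    EGA4.HasGeomReducedFormalFibres S := by
  haveI := HensFibre.isNoetherianRing_of_isHenselization R S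
  obtain ⟨e⟩ := nonempty_complEquiv_hens R S
  haveI : Module.Flat R (EGA4.Cpl R) := AdicCompletion.flat_of_isNoetherian _
  haveI : IsScalarTower R S (EGA4.Cpl S) := .of_algebraMap_eq (fun _ => rfl)
  intro q hq
  rw [Algebra.isGeometricallyReduced_field_iff]
  let Ω := AlgebraicClosure q.ResidueField
  have h1 : IsReduced (EGA4.Cpl R ⊗[R] Ω) :=
    Groth.Agent.Lib.Helper22.RedFib.isReduced_tensor_of_isReduced (B := R) (C := EGA4.Cpl R) h Ω
  let e1 : EGA4.Cpl R ⊗[R] Ω ≃ₐ[R] EGA4.Cpl S ⊗[R] Ω :=
    Algebra.TensorProduct.congr e AlgEquiv.refl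
  let e2 : EGA4.Cpl S ⊗[R] Ω ≃ₐ[R] Ω ⊗[R] EGA4.Cpl S := Algebra.TensorProduct.comm R _ _
  have h2 : IsReduced (Ω ⊗[R] EGA4.Cpl S) :=
    isReduced_of_injective (e2.symm.trans e1.symm) (e2.symm.trans e1.symm).injective
  have h3 : IsReduced (Ω ⊗[S] EGA4.Cpl S) :=
    tower_property (fun A _ => IsReduced A)
      (fun A B _ _ e hA => isReduced_of_injective e.symm e.symm.injective)
      (fun A B _ _ _ M _ hA => isReduced_localizationPreserves M B hA)
      R S (EGA4.Cpl S) (HensFibre.isIndEssEtale_of_isHenselization R S) Ω h2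
  let e3 : Ω ⊗[q.ResidueField] (q.ResidueField ⊗[S] EGA4.Cpl S) ≃ₐ[Ω] Ω ⊗[S] EGA4.Cpl S :=
    Algebra.TensorProduct.cancelBaseChange S q.ResidueField Ω Ω (EGA4.Cpl S)
  exact isReduced_of_injective e3 e3.injective

/-- **S5039** -/
theorem isUniversallyJapanese_iff :
    CAlg.IsUniversallyJapanese S ↔ CAlg.IsUniversallyJapanese R := by
  haveI := HensFibre.isNoetherianRing_of_isHenselization R S
  have hS : CAlg.IsNagata S ↔ CAlg.IsUniversallyJapanese S := by
    rw [Groth.Agent.S0567.result]
    exact ⟨fun h => h.2, fun h => ⟨inferInstance, h⟩⟩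
  have hR : CAlg.IsNagata R ↔ CAlg.IsUniversallyJapanese R := by
    rw [Groth.Agent.S0567.result]
    exact ⟨fun h => h.2, fun h => ⟨inferInstance, h⟩⟩
  rw [← hS, ← hR]
  constructor
  · intro h
    exact AnUnram.isNagata_of_geomReducedFormalFibres R
      (hasGeomReducedFormalFibres_of_hens R S (JacCpl.hasGeomReducedFormalFibres_of_isNagata S h))
  · intro h
    exact AnUnram.isNagata_of_geomReducedFormalFibres S
      (hasGeomReducedFormalFibres_hens R S (JacCpl.hasGeomReducedFormalFibres_of_isNagata R h))

end Groth.Agent.Lib.Helper12.HensJap
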