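import Mathlib
import Groth.Prelude.Def_Hensel
import Groth.Agent.S0507
import Groth.Agent.Lib.Helper12.QFLocalFactor

/-!
# The map of henselizations induced by a quasi-finite map is finite
-/

set_option autoImplicit false
universe u

namespace Groth.Agent.Lib.Helper12.HensQFMap

open IsLocalRing TensorProduct

/-- The map on localizations at primes lying over each other is local. -/
theorem isLocalHom_of_liesOver (R : Type u) [CommRing R] (S : Type u) [CommRing S] [Algebra R S]
    (p : Ideal R) [p.IsPrime] (q : Ideal S) [q.IsPrime] [q.LiesOver p]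
    [Algebra (Localization.AtPrime p) (Localization.AtPrime q)]
    [IsScalarTower R (Localization.AtPrime p) (Localization.AtPrime q)] :
    IsLocalHom (algebraMap (Localization.AtPrime p) (Localization.AtPrime q)) := by
  constructor
  intro a ha
  obtain ⟨r, s, rfl⟩ := IsLocalization.exists_mk'_eq p.primeCompl a
  rw [IsLocalization.AtPrime.isUnit_mk'_iff (Localization.AtPrime p) p]
  intro hr
  have h1 : algebraMap (Localization.AtPrime p) (Localization.AtPrime q)
      (IsLocalization.mk' (Localization.AtPrime p) r s) *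
      algebraMap R (Localization.AtPrime q) (s : R) = algebraMap R (Localization.AtPrime q) r := by
    rw [IsScalarTower.algebraMap_apply R (Localization.AtPrime p) (Localization.AtPrime q),
      IsScalarTower.algebraMap_apply R (Localization.AtPrime p) (Localization.AtPrime q) r,
      ← map_mul, IsLocalization.mk'_spec]
  have h2 : algebraMap R (Localization.AtPrime q) r ∈ maximalIdeal (Localization.AtPrime q) := by
    rw [IsScalarTower.algebraMap_apply R S (Localization.AtPrime q),
      IsLocalization.AtPrime.to_map_mem_maximal_iff (Localization.AtPrime q) q]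
    have : r ∈ q.under R := by
      rw [← Ideal.over_def q p]
      exact hr
    exact this
  rw [← h1] at h2
  have h3 : algebraMap R (Localization.AtPrime q) (s : R) ∉
      maximalIdeal (Localization.AtPrime q) := by
    rw [IsScalarTower.algebraMap_apply R S (Localization.AtPrime q),
      IsLocalization.AtPrime.to_map_mem_maximal_iff (Localization.AtPrime q) q]
    intro hs
    apply s.2
    have : (s : R) ∈ q.under R := hs
    rw [← Ideal.over_def q p] at this
    exact this
  rcases (Ideal.IsPrime.mem_or_mem (maximalIdeal.isMaximal _).isPrime h2) with h | h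
  · exact h ha
  · exact h3 h

theorem finite_of_quasiFiniteAt (R : Type u) [CommRing R] (S : Type u)
    [CommRing S] [Algebra R S] [Algebra.FiniteType R S] (p : Ideal R) [p.IsPrime] (q : Ideal S)
    [q.IsPrime] [q.LiesOver p] [Algebra.QuasiFiniteAt R q]
    (Rh : Type u) [CommRing Rh] [IsLocalRing Rh] [Algebra (Localization.AtPrime p) Rh]
    [IsLocalHom (algebraMap (Localization.AtPrime p) Rh)]
    [Hensel.IsHenselization (Localization.AtPrime p) Rh]
    (Sh : Type u) [CommRing Sh] [IsLocalRing Sh] [Algebra (Localization.AtPrime q) Sh]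
    [IsLocalHom (algebraMap (Localization.AtPrime q) Sh)]
    [Hensel.IsHenselization (Localization.AtPrime q) Sh]
    [Algebra (Localization.AtPrime p) (Localization.AtPrime q)]
    [IsScalarTower R (Localization.AtPrime p) (Localization.AtPrime q)]
    [Algebra Rh Sh] [Algebra (Localization.AtPrime p) Sh]
    [IsScalarTower (Localization.AtPrime p) Rh Sh]
    [IsScalarTower (Localization.AtPrime p) (Localization.AtPrime q) Sh] :
    Module.Finite Rh Sh := by
  classical
  haveI : HenselianLocalRing Rh := Hensel.IsHenselization.henselian (Localization.AtPrime p)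
  haveI : HenselianLocalRing Sh := Hensel.IsHenselization.henselian (Localization.AtPrime q)
  haveI hlocpq := isLocalHom_of_liesOver R S p q
  letI : Algebra R Rh :=
    ((algebraMap (Localization.AtPrime p) Rh).comp (algebraMap R (Localization.AtPrime p))).toAlgebra
  haveI : IsScalarTower R (Localization.AtPrime p) Rh := IsScalarTower.of_algebraMap_eq fun _ => rfl
  letI : Algebra S Sh :=
    ((algebraMap (Localization.AtPrime q) Sh).comp (algebraMap S (Localization.AtPrime q))).toAlgebra
  haveI : IsScalarTower S (Localization.AtPrime q) Sh := IsScalarTower.of_algebraMap_eq fun _ => rfl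
  letI : Algebra R Sh :=
    ((algebraMap (Localization.AtPrime p) Sh).comp (algebraMap R (Localization.AtPrime p))).toAlgebra
  haveI : IsScalarTower R (Localization.AtPrime p) Sh := IsScalarTower.of_algebraMap_eq fun _ => rfl
  haveI : IsScalarTower R Rh Sh := IsScalarTower.of_algebraMap_eq fun r => by
    show algebraMap (Localization.AtPrime p) Sh (algebraMap R (Localization.AtPrime p) r) =
      algebraMap Rh Sh (algebraMap (Localization.AtPrime p) Rh
        (algebraMap R (Localization.AtPrime p) r))
    rw [← IsScalarTower.algebraMap_apply (Localization.AtPrime p) Rh Sh]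
  haveI : IsScalarTower R S Sh := IsScalarTower.of_algebraMap_eq fun r => by
    show algebraMap (Localization.AtPrime p) Sh (algebraMap R (Localization.AtPrime p) r) =
      algebraMap (Localization.AtPrime q) Sh (algebraMap S (Localization.AtPrime q)
        (algebraMap R S r))
    rw [IsScalarTower.algebraMap_apply (Localization.AtPrime p) (Localization.AtPrime q) Sh,
      ← IsScalarTower.algebraMap_apply R (Localization.AtPrime p) (Localization.AtPrime q),
      ← IsScalarTower.algebraMap_apply R S (Localization.AtPrime q)]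
  -- the comparison map
  let Ψ : Rh ⊗[R] S →ₐ[Rh] Sh :=
    Algebra.TensorProduct.lift (Algebra.ofId Rh Sh) (IsScalarTower.toAlgHom R S Sh)
      (fun _ _ => Commute.all _ _)
  have hΨl : ∀ x : Rh, Ψ (x ⊗ₜ[R] 1) = algebraMap Rh Sh x := fun x => by
    simp [Ψ, Algebra.ofId_apply]
  have hΨr : ∀ s : S, Ψ (1 ⊗ₜ[R] s) = algebraMap S Sh s := fun s => by
    simp [Ψ]
  set Q : Ideal (Rh ⊗[R] S) := (maximalIdeal Sh).comap (Ψ : Rh ⊗[R] S →+* Sh) with hQ
  haveI : Q.IsPrime := Ideal.comap_isPrime _ _
  -- `q` is the contraction of `Q`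
  have hqQ : q = Q.comap Algebra.TensorProduct.includeRight.toRingHom := by
    ext s
    rw [Ideal.mem_comap, hQ, Ideal.mem_comap]
    show s ∈ q ↔ Ψ (1 ⊗ₜ[R] s) ∈ maximalIdeal Sh
    rw [hΨr]
    show s ∈ q ↔ algebraMap (Localization.AtPrime q) Sh (algebraMap S (Localization.AtPrime q) s) ∈
      maximalIdeal Sh
    rw [← Ideal.mem_comap, IsLocalRing.maximalIdeal_comap,
      IsLocalization.AtPrime.to_map_mem_maximal_iff (Localization.AtPrime q) q]
  haveI : Q.LiesOver (maximalIdeal Rh) := ⟨by
    have hne : Q.under Rh ≠ ⊤ := (Ideal.comap_isPrime (algebraMap Rh (Rh ⊗[R] S)) Q).ne_top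
    refine (maximalIdeal.isMaximal Rh).eq_of_le hne ?_
    rw [← Groth.Agent.S0507.result (Localization.AtPrime p) Rh, Ideal.map_le_iff_le_comap]
    intro y hy
    rw [Ideal.mem_comap]
    show algebraMap Rh (Rh ⊗[R] S) (algebraMap (Localization.AtPrime p) Rh y) ∈ Q
    rw [hQ, Ideal.mem_comap]
    show Ψ (algebraMap Rh (Rh ⊗[R] S) (algebraMap (Localization.AtPrime p) Rh y)) ∈ maximalIdeal Sh
    rw [Ψ.commutes, ← IsScalarTower.algebraMap_apply (Localization.AtPrime p) Rh Sh,
      IsScalarTower.algebraMap_apply (Localization.AtPrime p) (Localization.AtPrime q) Sh,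
      ← Ideal.mem_comap, IsLocalRing.maximalIdeal_comap, ← Ideal.mem_comap,
      IsLocalRing.maximalIdeal_comap]
    exact hy⟩
  haveI : Algebra.QuasiFiniteAt Rh Q := Algebra.QuasiFiniteAt.baseChange q Q hqQ
  obtain ⟨e, he, heQ, hfin, hhens, hunits⟩ := exists_finite_local_factor Rh (Rh ⊗[R] S) Q
  set K : Ideal (Rh ⊗[R] S) := Ideal.span {1 - e} with hK
  haveI := hfin
  haveI := hhens
  -- `Ψ` factors through the local factor
  have hΨe : Ψ e = 1 := by
    have hu : IsUnit (Ψ e) := by
      rw [← IsLocalRing.notMem_maximalIdeal]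
      exact heQ
    exact (IsIdempotentElem.iff_eq_one_of_isUnit hu).mp (he.map Ψ)
  have hΨK : ∀ z ∈ K, Ψ z = 0 := by
    intro z hz
    rw [hK, Ideal.mem_span_singleton'] at hz
    obtain ⟨c, rfl⟩ := hz
    rw [map_mul, map_sub, map_one, hΨe, sub_self, mul_zero]
  let Ψbar : (Rh ⊗[R] S ⧸ K) →ₐ[Rh] Sh := Ideal.Quotient.liftₐ K Ψ hΨK
  have hΨbar : ∀ z, Ψbar (Ideal.Quotient.mk K z) = Ψ z := fun z => rfl
  -- the local map `S_q → C`
  have hunit' : ∀ t : q.primeCompl, IsUnit (((Ideal.Quotient.mk K).comp
      Algebra.TensorProduct.includeRight.toRingHom : S →+* _) t) := by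
    intro t
    show IsUnit (Ideal.Quotient.mk K ((1 : Rh) ⊗ₜ[R] (t : S)))
    rw [hunits]
    intro hmem
    apply t.2
    have : (t : S) ∈ Q.comap Algebra.TensorProduct.includeRight.toRingHom := hmem
    rw [← hqQ] at this
    exact this
  let θ₀ : Localization.AtPrime q →+* (Rh ⊗[R] S ⧸ K) :=
    IsLocalization.lift (M := q.primeCompl) hunit'
  have hθ₀ : ∀ s : S, θ₀ (algebraMap S _ s) = Ideal.Quotient.mk K ((1 : Rh) ⊗ₜ[R] s) := fun s =>
    IsLocalization.lift_eq _ s
  have hθ₀loc : IsLocalHom θ₀ := by
    constructor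
    intro a ha
    obtain ⟨s, t, rfl⟩ := IsLocalization.exists_mk'_eq q.primeCompl a
    rw [IsLocalization.AtPrime.isUnit_mk'_iff (Localization.AtPrime q) q]
    intro hs
    have h1 : θ₀ (IsLocalization.mk' (Localization.AtPrime q) s t) *
        θ₀ (algebraMap S _ (t : S)) = θ₀ (algebraMap S _ s) := by
      rw [← map_mul, IsLocalization.mk'_spec]
    have h2 : IsUnit (θ₀ (algebraMap S _ s)) := by
      rw [← h1]
      refine ha.mul ?_
      rw [hθ₀]
      exact hunit' t
    rw [hθ₀, hunits] at h2
    apply h2
    show (1 : Rh) ⊗ₜ[R] s ∈ Q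
    have : s ∈ Q.comap Algebra.TensorProduct.includeRight.toRingHom := hqQ ▸ hs
    exact this
  obtain ⟨θ, hθ, -⟩ := Hensel.IsHenselization.universal (R := Localization.AtPrime q) (S := Sh)
    (Rh ⊗[R] S ⧸ K) θ₀ hθ₀loc
  -- `Ψbar ∘ θ = id`
  obtain ⟨k, -, hkuniq⟩ := Hensel.IsHenselization.universal (R := Localization.AtPrime q)
    (S := Sh) Sh (algebraMap (Localization.AtPrime q) Sh) inferInstance
  have h1 : ((Ψbar : (Rh ⊗[R] S ⧸ K) →+* Sh).comp θ) = k := by
    apply hkuniq
    rw [RingHom.comp_assoc, hθ]
    apply IsLocalization.ringHom_ext q.primeCompl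
    refine RingHom.ext fun s => ?_
    show Ψbar (θ₀ (algebraMap S _ s)) = algebraMap (Localization.AtPrime q) Sh (algebraMap S _ s)
    rw [hθ₀, hΨbar, hΨr]
    rfl
  have h2 : RingHom.id Sh = k := hkuniq _ (RingHom.id_comp _)
  have hsurj : Function.Surjective Ψbar := by
    intro y
    refine ⟨θ y, ?_⟩
    have := RingHom.congr_fun (h1.trans h2.symm) y
    exact this
  exact Module.Finite.of_surjective Ψbar.toLinearMap hsurj

end Groth.Agent.Lib.Helper12.HensQFMap
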