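import Mathlib
import Groth.Prelude.Def_Hensel
import Groth.Agent.Lib.Helper12.QFLocalFactor

/-!
# The local factor attached to a quasi-finite map and henselian local rings
-/

set_option autoImplicit false
universe u

namespace Groth.Agent.Lib.Helper12.HensQFMap

open IsLocalRing TensorProduct

/-- Given a finite type map `R → S` quasi-finite at `q`, a henselian local `R`-algebra `Rh` and a
local ring `Sh` receiving compatible local maps from `Rh` and `S_q`, there is a finite henselian
local `Rh`-algebra `C` through which both maps factor. -/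
theorem exists_local_factor (R : Type u) [CommRing R] (S : Type u)
    [CommRing S] [Algebra R S] [Algebra.FiniteType R S] (q : Ideal S)
    [q.IsPrime] [Algebra.QuasiFiniteAt R q]
    (Rh : Type u) [CommRing Rh] [HenselianLocalRing Rh] [Algebra R Rh]
    (Sh : Type u) [CommRing Sh] [IsLocalRing Sh] [Algebra (Localization.AtPrime q) Sh]
    [IsLocalHom (algebraMap (Localization.AtPrime q) Sh)]
    [Algebra S Sh] [IsScalarTower S (Localization.AtPrime q) Sh] [Algebra R Sh]
    [IsScalarTower R S Sh] [Algebra Rh Sh] [IsScalarTower R Rh Sh]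
    [IsLocalHom (algebraMap Rh Sh)] :
    ∃ (C : Type u) (_ : CommRing C) (_ : Algebra Rh C) (_ : Module.Finite Rh C)
      (_ : HenselianLocalRing C) (Ψbar : C →ₐ[Rh] Sh) (θ₀ : Localization.AtPrime q →+* C),
      IsLocalHom θ₀ ∧ IsLocalHom (Ψbar : C →+* Sh) ∧
        (Ψbar : C →+* Sh).comp θ₀ = algebraMap (Localization.AtPrime q) Sh := by
  classical
  let Ψ : Rh ⊗[R] S →ₐ[Rh] Sh :=
    Algebra.TensorProduct.lift (Algebra.ofId Rh Sh) (IsScalarTower.toAlgHom R S Sh)
      (fun _ _ => Commute.all _ _)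
  have hΨr : ∀ s : S, Ψ (1 ⊗ₜ[R] s) = algebraMap S Sh s := fun s => by
    simp [Ψ]
  set Q : Ideal (Rh ⊗[R] S) := (maximalIdeal Sh).comap (Ψ : Rh ⊗[R] S →+* Sh) with hQ
  haveI : Q.IsPrime := Ideal.comap_isPrime _ _
  have hqQ : q = Q.comap Algebra.TensorProduct.includeRight.toRingHom := by
    ext s
    rw [Ideal.mem_comap, hQ, Ideal.mem_comap]
    show s ∈ q ↔ Ψ (1 ⊗ₜ[R] s) ∈ maximalIdeal Sh
    rw [hΨr, IsScalarTower.algebraMap_apply S (Localization.AtPrime q) Sh,
      ← Ideal.mem_comap, IsLocalRing.maximalIdeal_comap,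
      IsLocalization.AtPrime.to_map_mem_maximal_iff (Localization.AtPrime q) q]
  haveI : Q.LiesOver (maximalIdeal Rh) := ⟨by
    have : Q.under Rh = (maximalIdeal Sh).comap (algebraMap Rh Sh) := by
      ext x
      rw [Ideal.mem_comap, Ideal.mem_comap]
      show Ψ (algebraMap Rh (Rh ⊗[R] S) x) ∈ maximalIdeal Sh ↔ _
      rw [Ψ.commutes, Ideal.mem_comap]
    rw [this, IsLocalRing.maximalIdeal_comap]⟩
  haveI : Algebra.QuasiFiniteAt Rh Q := Algebra.QuasiFiniteAt.baseChange q Q hqQ
  obtain ⟨e, he, heQ, hfin, hhens, hunits⟩ := exists_finite_local_factor Rh (Rh ⊗[R] S) Q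
  set K : Ideal (Rh ⊗[R] S) := Ideal.span {1 - e} with hK
  haveI := hhens
  have hΨe : Ψ e = 1 := by
    have hu : IsUnit (Ψ e) := by
      rw [← IsLocalRing.notMem_maximalIdeal]
      exact heQ
    exact (IsIdempotentElem.iff_eq_one_of_isUnit hu).mp (he.map Ψ)
  have hΨK : ∀ z ∈ K, Ψ z = 0 := by
    intro z hz
    rw [hK, Ideal.mem_span_singleton'] at hz
    obtain ⟨c, rfl⟩ := hz
    rw [map_mul, map_sub, map_one, hΨe, sub_self, mul_zero]
  let Ψbar : (Rh ⊗[R] S ⧸ K) →ₐ[Rh] Sh := Ideal.Quotient.liftₐ K Ψ hΨK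
  have hΨbar : ∀ z, Ψbar (Ideal.Quotient.mk K z) = Ψ z := fun z => rfl
  have hunit' : ∀ t : q.primeCompl, IsUnit (((Ideal.Quotient.mk K).comp
      Algebra.TensorProduct.includeRight.toRingHom : S →+* _) t) := by
    intro t
    show IsUnit (Ideal.Quotient.mk K ((1 : Rh) ⊗ₜ[R] (t : S)))
    rw [hunits]
    intro hmem
    apply t.2
    have : (t : S) ∈ Q.comap Algebra.TensorProduct.includeRight.toRingHom := hmem
    rw [← hqQ] at this
    exact this
  let θ₀ : Localization.AtPrime q →+* (Rh ⊗[R] S ⧸ K) :=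
    IsLocalization.lift (M := q.primeCompl) hunit'
  have hθ₀ : ∀ s : S, θ₀ (algebraMap S _ s) = Ideal.Quotient.mk K ((1 : Rh) ⊗ₜ[R] s) := fun s =>
    IsLocalization.lift_eq _ s
  refine ⟨Rh ⊗[R] S ⧸ K, inferInstance, inferInstance, hfin, hhens, Ψbar, θ₀, ?_, ?_, ?_⟩
  · constructor
    intro a ha
    obtain ⟨s, t, rfl⟩ := IsLocalization.exists_mk'_eq q.primeCompl a
    rw [IsLocalization.AtPrime.isUnit_mk'_iff (Localization.AtPrime q) q]
    intro hs
    have h1 : θ₀ (IsLocalization.mk' (Localization.AtPrime q) s t) *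
        θ₀ (algebraMap S _ (t : S)) = θ₀ (algebraMap S _ s) := by
      rw [← map_mul, IsLocalization.mk'_spec]
    have h2 : IsUnit (θ₀ (algebraMap S _ s)) := by
      rw [← h1]
      refine ha.mul ?_
      rw [hθ₀]
      exact hunit' t
    rw [hθ₀, hunits] at h2
    apply h2
    show (1 : Rh) ⊗ₜ[R] s ∈ Q
    have : s ∈ Q.comap Algebra.TensorProduct.includeRight.toRingHom := hqQ ▸ hs
    exact this
  · constructor
    intro y hy
    obtain ⟨z, rfl⟩ := Ideal.Quotient.mk_surjective y
    rw [hunits]
    intro hz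
    have : Ψ z ∈ maximalIdeal Sh := hz
    exact this hy
  · apply IsLocalization.ringHom_ext q.primeCompl
    refine RingHom.ext fun s => ?_
    show Ψbar (θ₀ (algebraMap S _ s)) = algebraMap (Localization.AtPrime q) Sh (algebraMap S _ s)
    rw [hθ₀, hΨbar, hΨr, IsScalarTower.algebraMap_apply S (Localization.AtPrime q) Sh]

theorem finite_strict_of_quasiFiniteAt (R : Type u) [CommRing R] (S : Type u)
    [CommRing S] [Algebra R S] [Algebra.FiniteType R S] (p : Ideal R) [p.IsPrime] (q : Ideal S)
    [q.IsPrime] [Algebra.QuasiFiniteAt R q]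
    (Rh : Type u) [CommRing Rh] [IsLocalRing Rh] [Algebra (Localization.AtPrime p) Rh]
    [IsLocalHom (algebraMap (Localization.AtPrime p) Rh)]
    [Hensel.IsStrictHenselization (Localization.AtPrime p) Rh] [Algebra R Rh]
    (Sh : Type u) [CommRing Sh] [IsLocalRing Sh] [Algebra (Localization.AtPrime q) Sh]
    [IsLocalHom (algebraMap (Localization.AtPrime q) Sh)]
    [Hensel.IsStrictHenselization (Localization.AtPrime q) Sh] [Algebra S Sh]
    [IsScalarTower S (Localization.AtPrime q) Sh] [Algebra R Sh] [IsScalarTower R S Sh]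
    [Algebra Rh Sh] [IsScalarTower R Rh Sh] [IsLocalHom (algebraMap Rh Sh)] :
    Module.Finite Rh Sh ∧
      Module.Finite (IsLocalRing.ResidueField Rh) (IsLocalRing.ResidueField Sh) ∧
      IsPurelyInseparable (IsLocalRing.ResidueField Rh) (IsLocalRing.ResidueField Sh) := by
  classical
  haveI : HenselianLocalRing Rh :=
    Hensel.IsStrictHenselization.henselian (R := Localization.AtPrime p)
  haveI hShens : HenselianLocalRing Sh :=
    Hensel.IsStrictHenselization.henselian (R := Localization.AtPrime q)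
  haveI : IsSepClosed (ResidueField Rh) :=
    (Hensel.IsStrictHenselization.isSepClosure (R := Localization.AtPrime p) (S := Rh)).sep_closed
  obtain ⟨C, _, _, hfin, hhens, Ψbar, θ₀, hθ₀loc, hΨloc, hcomp⟩ := exists_local_factor R S q Rh Sh
  haveI := hfin
  haveI := hhens
  haveI := hθ₀loc
  haveI := hΨloc
  haveI : IsLocalHom (algebraMap Rh C) := by
    constructor
    intro x hx
    have h1 : IsUnit (Ψbar (algebraMap Rh C x)) := hx.map Ψbar
    rw [Ψbar.commutes] at h1
    exact isUnit_of_map_unit (algebraMap Rh Sh) x h1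
  haveI : IsSepClosed (ResidueField C) :=
    Algebra.IsAlgebraic.isSepClosed (F := ResidueField Rh) (E := ResidueField C)
  let mΨ : ResidueField C →+* ResidueField Sh := ResidueField.map (Ψbar : C →+* Sh)
  let mθ : ResidueField (Localization.AtPrime q) →+* ResidueField C := ResidueField.map θ₀
  have hmcomp : mΨ.comp mθ = ResidueField.map (algebraMap (Localization.AtPrime q) Sh) := by
    rw [← ResidueField.map_comp]
    congr 1
  haveI : Algebra.IsSeparable (ResidueField (Localization.AtPrime q)) (ResidueField Sh) :=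
    (Hensel.IsStrictHenselization.isSepClosure (R := Localization.AtPrime q) (S := Sh)).separable
  letI : Algebra (ResidueField (Localization.AtPrime q)) (ResidueField C) := mθ.toAlgebra
  letI : Algebra (ResidueField C) (ResidueField Sh) := mΨ.toAlgebra
  haveI : IsScalarTower (ResidueField (Localization.AtPrime q)) (ResidueField C)
      (ResidueField Sh) :=
    IsScalarTower.of_algebraMap_eq fun x => (RingHom.congr_fun hmcomp x).symm
  haveI : Algebra.IsSeparable (ResidueField C) (ResidueField Sh) :=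
    Algebra.isSeparable_tower_top_of_isSeparable (ResidueField (Localization.AtPrime q))
      (ResidueField C) (ResidueField Sh)
  have hsurj : Function.Surjective mΨ :=
    IsSepClosed.algebraMap_surjective (ResidueField C) (ResidueField Sh)
  have hbij : Function.Bijective mΨ := ⟨mΨ.injective, hsurj⟩
  let ε := RingEquiv.ofBijective mΨ hbij
  let τ : ResidueField Sh →+* ResidueField C := (ε.symm : ResidueField Sh →+* ResidueField C)
  have hτΨ : ∀ z, mΨ (τ z) = z := fun z => ε.apply_symm_apply z
  have hτ : τ.comp (ResidueField.map (algebraMap (Localization.AtPrime q) Sh)) =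
      ResidueField.map θ₀ := by
    rw [← hmcomp]
    refine RingHom.ext fun x => ?_
    show ε.symm (ε (mθ x)) = mθ x
    exact ε.symm_apply_apply _
  obtain ⟨θ, ⟨hθ1, hθ2⟩, -⟩ := Hensel.IsStrictHenselization.universal
    (R := Localization.AtPrime q) (S := Sh) C θ₀ τ hτ
  obtain ⟨k, -, hkuniq⟩ := Hensel.IsStrictHenselization.universal
    (R := Localization.AtPrime q) (S := Sh) Sh (algebraMap (Localization.AtPrime q) Sh)
    (RingHom.id _) (by rw [RingHom.id_comp])
  have h1 : ((Ψbar : C →+* Sh).comp θ) = k := by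
    apply hkuniq
    refine ⟨by rw [RingHom.comp_assoc, hθ1, hcomp], fun x => ?_⟩
    show residue Sh (Ψbar (θ x)) = residue Sh x
    have e1 : residue Sh (Ψbar (θ x)) = mΨ (residue C (θ x)) := rfl
    rw [e1, hθ2, hτΨ]
  have h2 : RingHom.id Sh = k := hkuniq _ ⟨RingHom.id_comp _, fun x => rfl⟩
  have hsurjΨ : Function.Surjective Ψbar := by
    intro y
    exact ⟨θ y, RingHom.congr_fun (h1.trans h2.symm) y⟩
  haveI hfinal : Module.Finite Rh Sh := Module.Finite.of_surjective Ψbar.toLinearMap hsurjΨ
  refine ⟨hfinal, inferInstance, ?_⟩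
  haveI : Algebra.IsAlgebraic (ResidueField Rh) (ResidueField Sh) := Algebra.IsAlgebraic.of_finite _ _
  infer_instance

end Groth.Agent.Lib.Helper12.HensQFMap
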