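import Mathlib.RingTheory.Henselian
import Mathlib.RingTheory.AdjoinRoot
import Mathlib.RingTheory.Nakayama
import Mathlib.RingTheory.LocalRing.ResidueField.Basic

set_option autoImplicit false
universe u

namespace Groth.Agent.Lib.Helper12

open IsLocalRing Polynomial

/-- A quotient `A` of `R[X]/(f)` which is residually trivial and cut out by an "idempotent-like"
element produces a root of `f`. -/
theorem exists_root_of_factor (R : Type u) [CommRing R] [IsLocalRing R] (f : R[X])
    (hf : f.Monic) (a₀ : R)
    (A : Type u) [CommRing A] [Algebra R A]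
    (p : AdjoinRoot f →ₐ[R] A) (hp : Function.Surjective p)
    (χ : A →+* ResidueField R) (hχR : ∀ r, χ (algebraMap R A r) = residue R r)
    (hχx : χ (p (AdjoinRoot.root f)) = residue R a₀)
    (hyJ : p (AdjoinRoot.root f) - algebraMap R A a₀ ∈
      Ideal.map (algebraMap R A) (maximalIdeal R))
    (e : AdjoinRoot f) (he : χ (p e) ≠ 0) (hker : ∀ b, p b = 0 → b * e = 0) :
    ∃ a : R, f.IsRoot a ∧ a - a₀ ∈ maximalIdeal R := by
  have : Module.Finite R (AdjoinRoot f) := hf.finite_adjoinRoot
  have : Module.Finite R A := Module.Finite.of_surjective p.toLinearMap hp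
  set y : A := p (AdjoinRoot.root f) with hy
  have hyf : aeval y f = 0 := by
    rw [hy, aeval_algHom_apply, AdjoinRoot.aeval_eq, AdjoinRoot.mk_self, map_zero]
  set J : Ideal A := Ideal.map (algebraMap R A) (maximalIdeal R) with hJ
  have hsurj : Function.Surjective (algebraMap R A) := by
    have hs : Function.Surjective (Algebra.linearMap R A) := by
      apply LinearMap.surjective_of_surjective_comp_mkQ (Algebra.linearMap R A) (maximalIdeal R)
      · rw [jacobson_eq_maximalIdeal _ bot_ne_top]
      · intro z
        obtain ⟨z, rfl⟩ := Submodule.mkQ_surjective _ z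
        obtain ⟨b, rfl⟩ := hp z
        obtain ⟨q, rfl⟩ := AdjoinRoot.mk_surjective b
        refine ⟨q.eval a₀, ?_⟩
        simp only [LinearMap.comp_apply, Algebra.linearMap_apply]
        rw [← sub_eq_zero, ← map_sub, Submodule.mkQ_apply, Submodule.Quotient.mk_eq_zero,
          Ideal.smul_top_eq_map]
        show _ ∈ J
        have h5 : p (AdjoinRoot.mk f q) = aeval y q := by
          rw [hy, aeval_algHom_apply, AdjoinRoot.aeval_eq]
        rw [h5, ← aeval_algebraMap_apply_eq_algebraMap_eval, ← Ideal.neg_mem_iff, neg_sub]
        have := Polynomial.sub_dvd_eval_sub y (algebraMap R A a₀) (q.map (algebraMap R A))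
        simp only [eval_map_algebraMap] at this
        exact Ideal.mem_of_dvd _ this hyJ
    exact hs
  have hinj : Function.Injective (algebraMap R A) := by
    rw [injective_iff_map_eq_zero]
    intro r hr
    have h6 : algebraMap R (AdjoinRoot f) r * e = 0 := hker _ (by rw [p.commutes, hr])
    let b := (AdjoinRoot.powerBasis' hf).basis
    have h7 : ∀ j, r * b.repr e j = 0 := by
      intro j
      have : b.repr (algebraMap R (AdjoinRoot f) r * e) j = 0 := by rw [h6]; simp
      rwa [← Algebra.smul_def, map_smul, Finsupp.smul_apply, smul_eq_mul] at this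
    obtain ⟨j, hj⟩ : ∃ j, IsUnit (b.repr e j) := by
      by_contra hcon
      push Not at hcon
      apply he
      rw [← b.sum_repr e, map_sum, map_sum]
      apply Finset.sum_eq_zero
      intro j _
      rw [Algebra.smul_def, map_mul, map_mul, p.commutes, hχR,
        (residue_eq_zero_iff _).mpr (hcon j), zero_mul]
    exact (hj.mul_left_eq_zero).mp (h7 j)
  obtain ⟨a, ha⟩ := hsurj y
  refine ⟨a, ?_, ?_⟩
  · apply hinj
    rw [map_zero, ← aeval_algebraMap_apply_eq_algebraMap_eval, ha, hyf]
  · rw [← residue_eq_zero_iff, map_sub, ← hχR a, ha, hχx, sub_self]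

end Groth.Agent.Lib.Helper12
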