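import Mathlib.RingTheory.Henselian
import Mathlib.RingTheory.AdjoinRoot
import Mathlib.RingTheory.Nakayama
import Mathlib.RingTheory.LocalRing.ResidueField.Basic
import Mathlib.RingTheory.QuasiFinite.Basic
import Mathlib.RingTheory.Localization.InvSubmonoid

set_option autoImplicit false
universe u

namespace Groth.Agent.Lib.Helper12

open IsLocalRing Polynomial

/-- In `R[X]/(f)` (`f` monic, `R` local), an element which is nonzero at a residual point is not
killed by any nonzero scalar. -/
theorem eq_zero_of_of_mul_eq_zero {R : Type u} [CommRing R] [IsLocalRing R] {f : R[X]}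
    (hf : f.Monic) (φ : AdjoinRoot f →+* ResidueField R)
    (hφ : ∀ r, φ (AdjoinRoot.of f r) = residue R r)
    (b : AdjoinRoot f) (hb : φ b ≠ 0) (r : R) (hr : AdjoinRoot.of f r * b = 0) : r = 0 := by
  let bs := (AdjoinRoot.powerBasis' hf).basis
  have h7 : ∀ j, r * bs.repr b j = 0 := by
    intro j
    have : bs.repr (algebraMap R (AdjoinRoot f) r * b) j = 0 := by
      rw [AdjoinRoot.algebraMap_eq, hr]; simp
    rwa [← Algebra.smul_def, map_smul, Finsupp.smul_apply, smul_eq_mul] at this
  obtain ⟨j, hj⟩ : ∃ j, IsUnit (bs.repr b j) := by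
    by_contra hcon
    push Not at hcon
    apply hb
    rw [← bs.sum_repr b, map_sum]
    apply Finset.sum_eq_zero
    intro j _
    rw [Algebra.smul_def, map_mul, AdjoinRoot.algebraMap_eq, hφ,
      (residue_eq_zero_iff _).mpr (hcon j), zero_mul]
  exact (hj.mul_left_eq_zero).mp (h7 j)

/-- If the localization of `R[X]/(f)` away from `f / (X - a₀)` splits off a finite part containing
the distinguished point, then `f` has a root lifting `a₀`. -/
theorem exists_root_of_away_split (R : Type u) [CommRing R] [IsLocalRing R] (f : R[X])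
    (hf : f.Monic) (a₀ : R) (h₁ : f.eval a₀ ∈ maximalIdeal R)
    (h₂ : IsUnit (f.derivative.eval a₀))
    (g : R[X]) (hg : g = f /ₘ (X - C a₀)) (t : AdjoinRoot f) (ht : t = AdjoinRoot.mk f g)
    (e : Localization.Away t) (he : IsIdempotentElem e)
    (hfin : Module.Finite R (Localization.Away t ⧸ Ideal.span {1 - e}))
    (hq : ∀ (q : Ideal (Localization.Away t ⧸ Ideal.span {e}))
      [q.IsPrime], q.LiesOver (maximalIdeal R) → ¬ Algebra.QuasiFiniteAt R q) :
    ∃ a : R, f.IsRoot a ∧ a - a₀ ∈ maximalIdeal R := by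
  have hfg : f = C (f.eval a₀) + (X - C a₀) * g := by
    rw [← modByMonic_X_sub_C_eq_C_eval, hg, modByMonic_add_div]
  have hg0 : g.eval a₀ = f.derivative.eval a₀ := by
    conv_rhs => rw [hfg]
    simp
  have hgu : IsUnit (g.eval a₀) := hg0 ▸ h₂
  have hxt : (AdjoinRoot.root f - AdjoinRoot.of f a₀) * t = - AdjoinRoot.of f (f.eval a₀) := by
    have h0 := congrArg (AdjoinRoot.mk f) hfg
    rw [AdjoinRoot.mk_self] at h0
    simp only [map_add, map_mul, map_sub, AdjoinRoot.mk_C, AdjoinRoot.mk_X] at h0
    rw [ht]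
    linear_combination -h0
  have : Module.Finite R (AdjoinRoot f) := hf.finite_adjoinRoot
  -- residual point
  let φ₀ : AdjoinRoot f →+* ResidueField R :=
    AdjoinRoot.lift (residue R) (residue R a₀)
      (by rw [eval₂_at_apply, residue_eq_zero_iff]; exact h₁)
  have hφ₀of : ∀ r, φ₀ (AdjoinRoot.of f r) = residue R r := fun r => AdjoinRoot.lift_of _
  have hφ₀t : φ₀ t ≠ 0 := by
    rw [ht]
    show AdjoinRoot.lift (residue R) (residue R a₀) _ (AdjoinRoot.mk f g) ≠ 0
    rw [AdjoinRoot.lift_mk, eval₂_at_apply, Ne, residue_eq_zero_iff]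
    exact fun hh => hh hgu
  -- the localization
  let χS : Localization.Away t →+* ResidueField R :=
    IsLocalization.Away.lift t (g := φ₀) (isUnit_iff_ne_zero.mpr hφ₀t)
  have hχS : ∀ b, χS (algebraMap (AdjoinRoot f) (Localization.Away t) b) = φ₀ b :=
    fun b => IsLocalization.Away.lift_eq _ _ _
  have hχR : ∀ r, χS (algebraMap R (Localization.Away t) r) = residue R r := by
    intro r
    rw [IsScalarTower.algebraMap_apply R (AdjoinRoot f) (Localization.Away t), hχS,
      AdjoinRoot.algebraMap_eq, hφ₀of]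
  -- the distinguished point is in the finite part
  have hχe : χS e = 1 := by
    by_contra hne
    have hmul : χS e * (χS e - 1) = 0 := by
      rw [mul_sub, mul_one, ← map_mul, he.eq, sub_self]
    have he0 : χS e = 0 := (mul_eq_zero.mp hmul).resolve_right (sub_ne_zero.mpr hne)
    let χ' : (Localization.Away t ⧸ Ideal.span {e}) →+* ResidueField R :=
      Ideal.Quotient.lift (Ideal.span {e}) χS (by
        intro a ha
        obtain ⟨c, rfl⟩ := Ideal.mem_span_singleton'.mp ha
        rw [map_mul, he0, mul_zero])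
    have hQp : (RingHom.ker χ').IsPrime := RingHom.ker_isPrime _
    have hQm : (RingHom.ker χ').LiesOver (maximalIdeal R) := by
      refine ⟨?_⟩
      ext r
      rw [Ideal.under, Ideal.mem_comap, RingHom.mem_ker,
        ← Ideal.Quotient.mk_algebraMap, Ideal.Quotient.lift_mk, hχR, residue_eq_zero_iff]
    exact hq (RingHom.ker χ') hQm inferInstance
  -- congruences modulo the maximal ideal
  set J : Ideal (Localization.Away t) :=
    Ideal.map (algebraMap R (Localization.Away t)) (maximalIdeal R) with hJ
  let π := Ideal.Quotient.mk J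
  have hπR : ∀ r ∈ maximalIdeal R, π (algebraMap R (Localization.Away t) r) = 0 :=
    fun r hr => Ideal.Quotient.eq_zero_iff_mem.mpr (Ideal.mem_map_of_mem _ hr)
  set xs : Localization.Away t :=
    algebraMap (AdjoinRoot f) (Localization.Away t) (AdjoinRoot.root f) with hxs
  set ts : Localization.Away t := algebraMap (AdjoinRoot f) (Localization.Away t) t with hts
  have htsu : IsUnit ts := IsLocalization.Away.algebraMap_isUnit t
  have hof : ∀ r, algebraMap (AdjoinRoot f) (Localization.Away t) (AdjoinRoot.of f r) =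
      algebraMap R (Localization.Away t) r := fun r => by
    rw [← AdjoinRoot.algebraMap_eq, ← IsScalarTower.algebraMap_apply]
  have hx : π xs = π (algebraMap R (Localization.Away t) a₀) := by
    have h3 := congrArg (algebraMap (AdjoinRoot f) (Localization.Away t)) hxt
    rw [map_mul, map_sub, map_neg, hof, hof] at h3
    have h4 := congrArg π h3
    rw [map_mul, map_sub, map_neg, hπR _ h₁, neg_zero] at h4
    have hu : IsUnit (π ts) := htsu.map π
    exact sub_eq_zero.mp ((hu.mul_left_eq_zero).mp h4)
  have hpoly : ∀ q : R[X], π (algebraMap (AdjoinRoot f) (Localization.Away t)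
      (AdjoinRoot.mk f q)) = π (algebraMap R (Localization.Away t) (q.eval a₀)) := by
    intro q
    rw [← AdjoinRoot.aeval_eq, ← aeval_algebraMap_apply, ← aeval_algebraMap_apply_eq_algebraMap_eval,
      aeval_def, aeval_def, hom_eval₂, hom_eval₂, hx]
  have hF2 : ∀ s : Localization.Away t, ∃ r : R,
      π s = π (algebraMap R (Localization.Away t) r) := by
    intro s
    obtain ⟨b, ⟨_, k, rfl⟩, rfl⟩ := IsLocalization.exists_mk'_eq (Submonoid.powers t) s
    obtain ⟨q, rfl⟩ := AdjoinRoot.mk_surjective b
    obtain ⟨u, hu⟩ := hgu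
    refine ⟨q.eval a₀ * ((u⁻¹ : Rˣ) : R) ^ k, ?_⟩
    have hspec : IsLocalization.mk' (Localization.Away t) (AdjoinRoot.mk f q)
        (⟨t ^ k, k, rfl⟩ : Submonoid.powers t) * ts ^ k =
        algebraMap _ _ (AdjoinRoot.mk f q) := by
      rw [hts, ← map_pow]
      exact IsLocalization.mk'_spec _ _ _
    have h5 := congrArg π hspec
    rw [map_mul, map_pow, hpoly] at h5
    have hts' : π ts = π (algebraMap R (Localization.Away t) (u : R)) := by
      have h6 := hpoly g
      rw [← ht] at h6
      rw [hu]
      exact h6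
    rw [hts'] at h5
    rw [map_mul (algebraMap R (Localization.Away t)), map_mul π, ← h5, map_pow, map_pow,
      mul_assoc, ← mul_pow, ← map_mul, ← map_mul, Units.mul_inv, map_one, map_one, one_pow,
      mul_one]
  -- the finite part
  set I₁ : Ideal (Localization.Away t) := Ideal.span {1 - e} with hI₁
  let p : AdjoinRoot f →ₐ[R] (Localization.Away t ⧸ I₁) :=
    (Ideal.Quotient.mkₐ R I₁).comp (IsScalarTower.toAlgHom R (AdjoinRoot f) (Localization.Away t))
  let χA : (Localization.Away t ⧸ I₁) →+* ResidueField R :=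
    Ideal.Quotient.lift I₁ χS (by
      intro a ha
      obtain ⟨c, rfl⟩ := Ideal.mem_span_singleton'.mp ha
      rw [map_mul, map_sub, map_one, hχe, sub_self, mul_zero])
  have hχA : ∀ s, χA (Ideal.Quotient.mk I₁ s) = χS s := fun s => Ideal.Quotient.lift_mk _ _ _
  have hsurj : Function.Surjective (algebraMap R (Localization.Away t ⧸ I₁)) := by
    have hs : Function.Surjective (Algebra.linearMap R (Localization.Away t ⧸ I₁)) := by
      apply LinearMap.surjective_of_surjective_comp_mkQ _ (maximalIdeal R)
      · rw [jacobson_eq_maximalIdeal _ bot_ne_top]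
      · intro z
        obtain ⟨z, rfl⟩ := Submodule.mkQ_surjective _ z
        obtain ⟨s, rfl⟩ := Ideal.Quotient.mk_surjective z
        obtain ⟨r, hr⟩ := hF2 s
        refine ⟨r, ?_⟩
        simp only [LinearMap.comp_apply, Algebra.linearMap_apply]
        rw [← sub_eq_zero, ← map_sub, Submodule.mkQ_apply, Submodule.Quotient.mk_eq_zero,
          Ideal.smul_top_eq_map]
        have hmem : algebraMap R (Localization.Away t) r - s ∈ J := by
          rw [← Ideal.neg_mem_iff, neg_sub]
          exact Ideal.Quotient.eq.mp hr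
        have h9 : Ideal.Quotient.mk I₁ (algebraMap R (Localization.Away t) r - s) ∈
            Ideal.map (Ideal.Quotient.mk I₁) J := Ideal.mem_map_of_mem _ hmem
        rw [hJ, Ideal.map_map] at h9
        exact h9
    exact hs
  have hinj : Function.Injective (algebraMap R (Localization.Away t ⧸ I₁)) := by
    rw [injective_iff_map_eq_zero]
    intro r hr
    have hr' : algebraMap R (Localization.Away t) r ∈ I₁ := by
      rw [← Ideal.Quotient.eq_zero_iff_mem, Ideal.Quotient.mk_algebraMap]
      exact hr
    obtain ⟨c, hc⟩ := Ideal.mem_span_singleton'.mp hr'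
    have hre : algebraMap R (Localization.Away t) r * e = 0 := by
      rw [← hc, mul_assoc, sub_mul, one_mul, he.eq, sub_self, mul_zero]
    obtain ⟨E, ⟨_, k, rfl⟩, hE⟩ := IsLocalization.exists_mk'_eq (Submonoid.powers t) e
    have hEe : algebraMap (AdjoinRoot f) (Localization.Away t) E = e * ts ^ k := by
      rw [← hE, hts, ← map_pow]
      exact (IsLocalization.mk'_spec _ _ _).symm
    have h8 : algebraMap (AdjoinRoot f) (Localization.Away t) (AdjoinRoot.of f r * E) = 0 := by
      rw [map_mul, hof, hEe, ← mul_assoc, hre, zero_mul]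
    obtain ⟨⟨_, l, rfl⟩, hl⟩ := (IsLocalization.map_eq_zero_iff (Submonoid.powers t) _ _).mp h8
    refine eq_zero_of_of_mul_eq_zero hf φ₀ hφ₀of (t ^ l * E) ?_ r ?_
    · rw [map_mul, map_pow]
      refine mul_ne_zero (pow_ne_zero _ hφ₀t) ?_
      rw [← hχS, hEe, map_mul, hχe, one_mul, map_pow, hts, hχS]
      exact pow_ne_zero _ hφ₀t
    · simp only at hl
      linear_combination hl
  obtain ⟨a, ha⟩ := hsurj (p (AdjoinRoot.root f))
  refine ⟨a, ?_, ?_⟩
  · apply hinj
    rw [map_zero, ← aeval_algebraMap_apply_eq_algebraMap_eval, ha, aeval_algHom_apply,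
      AdjoinRoot.aeval_eq, AdjoinRoot.mk_self, map_zero]
  · have h10 : χA (algebraMap R (Localization.Away t ⧸ I₁) a) = residue R a := by
      rw [← Ideal.Quotient.mk_algebraMap, hχA, hχR]
    rw [← residue_eq_zero_iff, map_sub, ← h10, ha]
    show χA (Ideal.Quotient.mk I₁ xs) - _ = 0
    rw [hχA, hxs, hχS]
    show AdjoinRoot.lift (residue R) (residue R a₀) _ (AdjoinRoot.root f) - _ = 0
    rw [AdjoinRoot.lift_root, sub_self]

end Groth.Agent.Lib.Helper12
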