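import Groth.Agent.Lib.Helper12.HenselQuasiFinite

set_option autoImplicit false
universe u

namespace Groth.Agent.Lib.Helper12

open IsLocalRing TensorProduct

/-- Finiteness of the quotient by `1 - e` for a join of two idempotents. -/
theorem finite_quotient_join {R S : Type*} [CommRing R] [CommRing S] [Algebra R S]
    (e₁ e₂ : S) (he₁ : IsIdempotentElem e₁) (he₂ : IsIdempotentElem e₂)
    (h₁ : Module.Finite R (S ⧸ Ideal.span {1 - e₁}))
    (h₂ : Module.Finite R (S ⧸ Ideal.span {1 - e₂})) :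
    Module.Finite R (S ⧸ Ideal.span {1 - (e₁ + e₂ - e₁ * e₂)}) := by
  set e := e₁ + e₂ - e₁ * e₂ with he
  set I : Ideal S := Ideal.span {1 - e} with hI
  have hz₁ : e₁ * (1 - e₁) = 0 := by rw [mul_sub, mul_one, he₁.eq, sub_self]
  have hz₂ : e₂ * (1 - e₂) = 0 := by rw [mul_sub, mul_one, he₂.eq, sub_self]
  let F₁ : (S ⧸ Ideal.span {1 - e₁}) →ₗ[S] S ⧸ I :=
    Submodule.liftQ _ (I.mkQ ∘ₗ LinearMap.lsmul S S e₁) (by
      rw [Ideal.span, Submodule.span_le]
      rintro x rfl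
      simp [hz₁])
  let F₂ : (S ⧸ Ideal.span {1 - e₂}) →ₗ[S] S ⧸ I :=
    Submodule.liftQ _ (I.mkQ ∘ₗ LinearMap.lsmul S S ((1 - e₁) * e₂)) (by
      rw [Ideal.span, Submodule.span_le]
      rintro x rfl
      simp [mul_assoc, hz₂])
  let F : ((S ⧸ Ideal.span {1 - e₁}) × (S ⧸ Ideal.span {1 - e₂})) →ₗ[R] S ⧸ I :=
    (F₁.coprod F₂).restrictScalars R
  refine Module.Finite.of_surjective F ?_
  intro z
  obtain ⟨x, rfl⟩ := Submodule.mkQ_surjective _ z
  refine ⟨(Submodule.Quotient.mk x, Submodule.Quotient.mk x), ?_⟩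
  show F₁ (Submodule.Quotient.mk x) + F₂ (Submodule.Quotient.mk x) = _
  simp only [F₁, F₂, Submodule.liftQ_apply, LinearMap.comp_apply, LinearMap.lsmul_apply,
    smul_eq_mul]
  rw [← map_add, ← sub_eq_zero, ← map_sub, Submodule.mkQ_apply, Submodule.Quotient.mk_eq_zero,
    hI, Ideal.mem_span_singleton']
  refine ⟨-x, ?_⟩
  rw [he]
  ring

/-- Gluing the local splittings over a finite set of primes. -/
theorem exists_idem_finite_of_finset (R : Type u) [CommRing R]
    [HenselianLocalRing R] (S : Type u) [CommRing S] [Algebra R S] [Algebra.FiniteType R S]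
    (T : Set (Ideal S)) (hT : T.Finite)
    (h : ∀ q ∈ T, ∃ (_ : q.IsPrime), q.LiesOver (maximalIdeal R) ∧ Algebra.QuasiFiniteAt R q) :
    ∃ e : S, IsIdempotentElem e ∧ (∀ q ∈ T, e ∉ q) ∧
      Module.Finite R (S ⧸ Ideal.span {1 - e}) ∧
      ∀ q' : Ideal S, q'.IsPrime → q'.LiesOver (maximalIdeal R) → e ∉ q' → q' ∈ T := by
  classical
  induction T, hT using Set.Finite.induction_on with
  | empty =>
    refine ⟨0, IsIdempotentElem.zero, by simp, ?_, ?_⟩
    · have : Subsingleton (S ⧸ Ideal.span {(1 : S) - 0}) := by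
        rw [sub_zero, Ideal.span_singleton_one]
        exact Ideal.Quotient.subsingleton_iff.mpr rfl
      exact Module.Finite.of_finite
    · intro q' _ _ h0
      exact absurd q'.zero_mem h0
  | @insert q T hqT hT ih =>
    obtain ⟨e₁, he₁, h1, h2, h3⟩ := ih (fun q' hq' => h q' (Set.mem_insert_of_mem _ hq'))
    obtain ⟨hqp, hqm, hqf⟩ := h q (Set.mem_insert _ _)
    obtain ⟨e₂, he₂, k1, k2, k3⟩ := exists_idem_finite_of_quasiFiniteAt R S q
    have hmem : ∀ q' : Ideal S, q'.IsPrime → (e₁ + e₂ - e₁ * e₂ ∈ q' ↔ e₁ ∈ q' ∧ e₂ ∈ q') := by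
      intro q' hq'
      constructor
      · intro hmem
        have a1 : e₁ * (e₁ + e₂ - e₁ * e₂) = e₁ := by
          have := he₁.eq
          linear_combination (1 - e₂) * this
        have a2 : e₂ * (e₁ + e₂ - e₁ * e₂) = e₂ := by
          have := he₂.eq
          linear_combination (1 - e₁) * this
        exact ⟨a1 ▸ q'.mul_mem_left _ hmem, a2 ▸ q'.mul_mem_left _ hmem⟩
      · rintro ⟨m1, m2⟩
        exact q'.sub_mem (q'.add_mem m1 m2) (q'.mul_mem_left _ m2)
    refine ⟨e₁ + e₂ - e₁ * e₂, ?_, ?_, finite_quotient_join e₁ e₂ he₁ he₂ h2 k2, ?_⟩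
    · show (e₁ + e₂ - e₁ * e₂) * (e₁ + e₂ - e₁ * e₂) = e₁ + e₂ - e₁ * e₂
      linear_combination (1 - e₂) * (1 - e₂) * he₁.eq + (1 - e₁) * he₂.eq
    · intro q' hq'
      rcases Set.mem_insert_iff.mp hq' with rfl | hq'
      · rw [hmem q' hqp]
        exact fun hh => k1 hh.2
      · obtain ⟨hq'p, -, -⟩ := h q' (Set.mem_insert_of_mem _ hq')
        rw [hmem q' hq'p]
        exact fun hh => h1 q' hq' hh.1
    · intro q' hq'p hq'm hne
      rw [hmem q' hq'p, not_and_or] at hne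
      rcases hne with hne | hne
      · exact Set.mem_insert_of_mem _ (h3 q' hq'p hq'm hne)
      · rw [k3 q' hq'p hq'm hne]
        exact Set.mem_insert _ _

end Groth.Agent.Lib.Helper12
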