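import Groth.Agent.S0501
import Mathlib.RingTheory.Etale.QuasiFinite

set_option autoImplicit false
universe u

namespace Groth.Agent.Lib.Helper12

open IsLocalRing

/-- An étale neighbourhood of the closed point of a henselian local ring with trivial residue
field extension has a section. -/
theorem exists_section_of_etale (R : Type u) [CommRing R] [HenselianLocalRing R]
    (R' : Type u) [CommRing R'] [Algebra R R'] [Algebra.Etale R R'] (P : Ideal R') [P.IsPrime]
    [P.LiesOver (maximalIdeal R)]
    (hP : Function.Bijective (Ideal.ResidueField.mapₐ (maximalIdeal R) P (Algebra.ofId _ _)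
      (P.over_def (maximalIdeal R)))) :
    ∃ s : R' →ₐ[R] R, Ideal.comap s.toRingHom (maximalIdeal R) = P := by
  let e₁ : (maximalIdeal R).ResidueField ≃ₐ[R] P.ResidueField := AlgEquiv.ofBijective _ hP
  let e₂ : (R ⧸ maximalIdeal R) ≃+* (maximalIdeal R).ResidueField :=
    RingEquiv.ofBijective _ (maximalIdeal R).bijective_algebraMap_quotient_residueField
  let τ : P.ResidueField →+* ResidueField R :=
    (e₂.symm : (maximalIdeal R).ResidueField →+* R ⧸ maximalIdeal R).comp
      (e₁.symm : P.ResidueField →+* (maximalIdeal R).ResidueField)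
  have hτ : τ.comp (algebraMap R P.ResidueField) = (residue R).comp (algebraMap R R) := by
    ext r
    simp only [RingHom.comp_apply, Algebra.algebraMap_self, RingHom.id_apply]
    show e₂.symm (e₁.symm (algebraMap R P.ResidueField r)) = residue R r
    rw [AlgEquiv.commutes, RingEquiv.symm_apply_eq]
    show _ = algebraMap (R ⧸ maximalIdeal R) (maximalIdeal R).ResidueField (Ideal.Quotient.mk _ r)
    rw [← Ideal.Quotient.algebraMap_eq, ← IsScalarTower.algebraMap_apply]
  obtain ⟨f, ⟨hf, -⟩, -⟩ := Groth.Agent.S0501.result R R R' P τ hτ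
  exact ⟨f, hf⟩

end Groth.Agent.Lib.Helper12
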