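import Groth.Agent.Lib.Helper12.HensCore
import Groth.Agent.Lib.Helper12.DirectLimitLocal

set_option autoImplicit false
universe u

/-!
# The henselization of a local ring

`Henselization A` is the direct limit of the local rings of the étale neighbourhoods of `A`
with trivial residue field extension.
-/

namespace Groth.Agent.Lib.Helper12

open IsLocalRing TensorProduct EtaleNbhd

variable (A : Type u) [CommRing A] [IsLocalRing A]

/-- The henselization of a local ring `A`. -/
abbrev Henselization : Type u :=
  Ring.DirectLimit (fun i : Nbhd A => i.G) (fun i j h => Nbhd.transR i j h)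

namespace Henselization

/-- The canonical ring map from the local ring of a neighbourhood. -/
noncomputable abbrev of (i : Nbhd A) : i.G →+* Henselization A :=
  Ring.DirectLimit.of (fun i : Nbhd A => i.G) (fun i j h => Nbhd.transR i j h) i

variable {A}

theorem of_trans {i j : Nbhd A} (h : i ≤ j) (x : i.G) :
    of A j (Nbhd.trans i j h x) = of A i x :=
  Ring.DirectLimit.of_f (G := fun i : Nbhd A => i.G) (f := fun i j h => Nbhd.transR i j h) h x

theorem of_algHom {i j : Nbhd A} (φ : i.G →ₐ[A] j.G) (x : i.G) :
    of A j (φ x) = of A i x := by
  have : φ = Nbhd.trans i j ⟨φ⟩ := Subsingleton.elim _ _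
  rw [this, of_trans]

theorem of_algebraMap_eq (i j : Nbhd A) (a : A) :
    of A i (algebraMap A i.G a) = of A j (algebraMap A j.G a) := by
  obtain ⟨k, hik, hjk⟩ := exists_ge_ge i j
  rw [← of_trans hik, ← of_trans hjk, AlgHom.commutes, AlgHom.commutes]

variable (A)

noncomputable instance algebra : Algebra A (Henselization A) :=
  ((of A (Classical.arbitrary (Nbhd A))).comp
    (algebraMap A (Classical.arbitrary (Nbhd A)).G)).toAlgebra

variable {A}

theorem algebraMap_eq (i : Nbhd A) (a : A) :
    algebraMap A (Henselization A) a = of A i (algebraMap A i.G a) :=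
  of_algebraMap_eq _ i a

variable (A)

/-- The canonical algebra map from the local ring of a neighbourhood. -/
noncomputable def ofₐ (i : Nbhd A) : i.G →ₐ[A] Henselization A :=
  { of A i with commutes' := fun a => (algebraMap_eq i a).symm }

variable {A}

@[simp] theorem ofₐ_apply (i : Nbhd A) (x : i.G) : ofₐ A i x = of A i x := rfl

theorem transR_isLocalHom (i j : Nbhd A) (h : i ≤ j) : IsLocalHom (Nbhd.transR i j h) := by
  haveI := quasiFinite_of_isEssentiallyEtale i.isStrictlyEssentiallyEtale.1
  exact isLocalHom_algHom_of_quasiFinite (Nbhd.trans i j h)

variable (A)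

instance isLocalRing : IsLocalRing (Henselization A) :=
  directLimit_isLocalRing (fun i : Nbhd A => i.G) (fun i j h => Nbhd.transR i j h)

instance isLocalHom_of (i : Nbhd A) : IsLocalHom (of A i) :=
  directLimit_isLocalHom_of (fun i : Nbhd A => i.G) (fun i j h => Nbhd.transR i j h)
    transR_isLocalHom i

instance isLocalHom_algebraMap : IsLocalHom (algebraMap A (Henselization A)) := by
  have : algebraMap A (Henselization A) =
      (of A (Classical.arbitrary (Nbhd A))).comp
        (algebraMap A (Classical.arbitrary (Nbhd A)).G) := rfl
  rw [this]
  exact RingHom.isLocalHom_comp _ _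

variable {A}

theorem exists_of (x : Henselization A) : ∃ (i : Nbhd A) (a : i.G), of A i a = x :=
  Ring.DirectLimit.exists_of x

section lift

variable (B : Type u) [CommRing B] [HenselianLocalRing B] [Algebra A B]
  [IsLocalHom (algebraMap A B)]

/-- The unique algebra map from the local ring of a neighbourhood to a henselian local algebra. -/
noncomputable def toHens (i : Nbhd A) : i.G →ₐ[A] B :=
  (exists_algHom_of_isStrictlyEssentiallyEtale A i.G i.isStrictlyEssentiallyEtale B).some

variable (A) in
/-- The universal map from the henselization to a henselian local `A`-algebra. -/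
noncomputable def lift : Henselization A →ₐ[A] B :=
  { Ring.DirectLimit.lift (fun i : Nbhd A => i.G) (fun i j h => Nbhd.transR i j h) B
      (fun i => (toHens B i).toRingHom) (fun i j hij x => by
        have : (toHens B j).comp (Nbhd.trans i j hij) = toHens B i := Subsingleton.elim _ _
        show toHens B j (Nbhd.trans i j hij x) = toHens B i x
        rw [← this]; rfl) with
    commutes' := fun a => by
      rw [algebraMap_eq (Classical.arbitrary (Nbhd A)) a]
      show Ring.DirectLimit.lift _ _ B _ _ (Ring.DirectLimit.of _ _ _ _) = _
      rw [Ring.DirectLimit.lift_of]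
      exact (toHens B _).commutes a }

end lift

/-- There is at most one algebra map from the henselization to a local `A`-algebra
(with local structure map). -/
instance subsingleton_algHom (B : Type*) [CommRing B] [IsLocalRing B] [Algebra A B]
    [IsLocalHom (algebraMap A B)] : Subsingleton (Henselization A →ₐ[A] B) := by
  constructor
  intro g₁ g₂
  apply AlgHom.coe_ringHom_injective
  apply Ring.DirectLimit.hom_ext
  intro i
  have : g₁.comp (ofₐ A i) = g₂.comp (ofₐ A i) := Subsingleton.elim _ _
  ext x
  exact congrArg (fun h : i.G →ₐ[A] B => h x) this

end Henselization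

end Groth.Agent.Lib.Helper12
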