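import Groth.Agent.Lib.Helper12.HenselizationOver
import Groth.Agent.Lib.Helper12.NoetherianAux
import Groth.Agent.S0507
import Mathlib.RingTheory.Localization.Submodule

set_option autoImplicit false
universe u

namespace Groth.Agent.Lib.Helper12

open IsLocalRing

variable {A : Type u} [CommRing A] [IsLocalRing A]

namespace Henselization

theorem map_maximalIdeal_of (i : Nbhd A) :
    (maximalIdeal i.G).map (of A i) = maximalIdeal (Henselization A) := by
  letI := algebraOver i
  haveI : IsLocalHom (algebraMap i.G (Henselization A)) := isLocalHom_of A i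
  haveI := isHenselization_over i
  exact Groth.Agent.S0507.result i.G (Henselization A)

theorem of_comp_transR {i j : Nbhd A} (h : i ≤ j) :
    (of A j).comp (Nbhd.transR i j h) = of A i := by
  ext x
  exact of_trans h x

theorem comap_map_of (i : Nbhd A) (J : Ideal i.G) : (J.map (of A i)).comap (of A i) = J := by
  letI := algebraOver i
  haveI := faithfullyFlat_over i
  exact Ideal.comap_map_eq_self_of_faithfullyFlat (B := Henselization A) J

/-- Every finitely generated ideal of the henselization comes from a neighbourhood. -/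
theorem exists_map_of_eq_of_fg (J : Ideal (Henselization A)) (hJ : J.FG) :
    ∃ (i : Nbhd A) (Ji : Ideal i.G), Ji.map (of A i) = J := by
  classical
  obtain ⟨s, rfl⟩ := hJ
  choose k a ha using fun x : Henselization A => exists_of x
  obtain ⟨i, hi⟩ := Finset.exists_le (s.image k)
  have hi' : ∀ x ∈ s, k x ≤ i := fun x hx => hi _ (Finset.mem_image_of_mem _ hx)
  refine ⟨i, Ideal.span ((fun x : s => Nbhd.trans (k x) i (hi' x x.2) (a x)) '' Set.univ), ?_⟩
  rw [Ideal.map_span, ← Set.image_comp]
  apply le_antisymm
  · rw [Ideal.span_le]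
    rintro _ ⟨x, -, rfl⟩
    apply Ideal.subset_span
    show of A i (Nbhd.trans (k x) i _ (a x)) ∈ _
    rw [of_trans, ha]
    exact x.2
  · change Ideal.span (s : Set (Henselization A)) ≤ _
    rw [Ideal.span_le]
    intro x hx
    apply Ideal.subset_span
    refine ⟨⟨x, hx⟩, trivial, ?_⟩
    show of A i (Nbhd.trans (k x) i _ (a x)) = x
    rw [of_trans, ha]

section Noeth
variable [IsNoetherianRing A]

instance (i : Nbhd A) : IsNoetherianRing i.G :=
  Algebra.EssFiniteType.isNoetherianRing A i.G

/-- Ideals extended from a neighbourhood are closed in the adic topology of the henselization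
(noetherian case). -/
theorem mem_map_of_forall_mem_sup_pow (i : Nbhd A) (J : Ideal i.G) (x : Henselization A)
    (h : ∀ n : ℕ, x ∈ J.map (of A i) ⊔ maximalIdeal (Henselization A) ^ n) :
    x ∈ J.map (of A i) := by
  obtain ⟨k, a, rfl⟩ := exists_of x
  obtain ⟨l, hil, hkl⟩ := exists_ge_ge i k
  have e1 : J.map (of A i) = (J.map (Nbhd.transR i l hil)).map (of A l) := by
    rw [Ideal.map_map, of_comp_transR]
  have e2 : of A k a = of A l (Nbhd.trans k l hkl a) := (of_trans hkl a).symm
  rw [e1, e2] at h ⊢
  apply Ideal.mem_map_of_mem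
  apply mem_of_forall_mem_sup_pow
  intro n
  have := h n
  rw [← map_maximalIdeal_of l, ← Ideal.map_pow, ← Ideal.map_sup] at this
  rw [← comap_map_of l (J.map (Nbhd.transR i l hil) ⊔ maximalIdeal l.G ^ n)]
  exact this

/-- Finitely generated ideals of the henselization of a noetherian local ring are closed. -/
theorem mem_of_forall_mem_sup_pow_of_fg (J : Ideal (Henselization A)) (hJ : J.FG)
    (x : Henselization A)
    (h : ∀ n : ℕ, x ∈ J ⊔ maximalIdeal (Henselization A) ^ n) : x ∈ J := by
  obtain ⟨i, Ji, rfl⟩ := exists_map_of_eq_of_fg J hJ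
  exact mem_map_of_forall_mem_sup_pow i Ji x h

end Noeth

end Henselization

end Groth.Agent.Lib.Helper12
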