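import Groth.Agent.Lib.Helper12.HenselizationNoeth3
import Groth.Agent.Lib.Helper12.HenselizationDim
import Mathlib.RingTheory.RegularLocalRing.Defs
import Mathlib.RingTheory.Nakayama

set_option autoImplicit false
universe u

namespace Groth.Agent.Lib.Helper12

open IsLocalRing

variable {A : Type u} [CommRing A] [IsLocalRing A] [IsNoetherianRing A]

namespace Henselization

theorem spanFinrank_maximalIdeal_eq :
    (maximalIdeal (Henselization A)).spanFinrank = (maximalIdeal A).spanFinrank := by
  classical
  have hmap : (maximalIdeal A).map (algebraMap A (Henselization A)) =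
      maximalIdeal (Henselization A) := Groth.Agent.S0507.result A (Henselization A)
  apply le_antisymm
  · rw [← hmap]
    exact Ideal.spanFinrank_map_le_of_fg _ (maximalIdeal A).fg_of_isNoetherianRing
  · obtain ⟨s, hscard, hs⟩ := Submodule.FG.exists_span_finset_card_eq_spanFinrank
      (maximalIdeal (Henselization A)).fg_of_isNoetherianRing
    choose a ha using fun h : Henselization A => exists_sub_algebraMap_mem_hens (A := A) 2 h
    have ha' : ∀ h, h - algebraMap A _ (a h) ∈ maximalIdeal (Henselization A) ^ 2 := by
      intro h
      rw [maximalIdeal_pow_eq]
      exact ha h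
    have hs_mem : ∀ h ∈ s, h ∈ maximalIdeal (Henselization A) := by
      intro h hh
      rw [← hs]
      exact Submodule.subset_span hh
    have ham : ∀ h ∈ s, a h ∈ maximalIdeal A := by
      intro h hh
      have h1 : algebraMap A (Henselization A) (a h) ∈ maximalIdeal (Henselization A) := by
        have := Ideal.sub_mem _ (hs_mem h hh) (Ideal.pow_le_self two_ne_zero (ha' h))
        rwa [sub_sub_cancel] at this
      by_contra hu
      rw [mem_maximalIdeal, mem_nonunits_iff, not_not] at hu
      exact h1 (hu.map _)
    let T : Finset A := s.image a
    have hT_le : Ideal.span (T : Set A) ≤ maximalIdeal A := by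
      rw [Ideal.span_le]
      intro x hx
      obtain ⟨h, hh, rfl⟩ := Finset.mem_image.mp hx
      exact ham h hh
    have hnak : maximalIdeal (Henselization A) ≤
        (Ideal.span (T : Set A)).map (algebraMap A (Henselization A)) := by
      apply Submodule.le_of_le_smul_of_le_jacobson_bot (I := maximalIdeal (Henselization A))
        (maximalIdeal (Henselization A)).fg_of_isNoetherianRing (maximalIdeal_le_jacobson _)
      rw [← hs]
      change Ideal.span (s : Set (Henselization A)) ≤ _
      rw [Ideal.span_le]
      intro h hh
      have e : h = algebraMap A _ (a h) + (h - algebraMap A _ (a h)) := by ring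
      rw [e]
      refine Submodule.add_mem_sup ?_ ?_
      · apply Ideal.mem_map_of_mem
        apply Ideal.subset_span
        exact Finset.mem_image_of_mem _ hh
      · have := ha' h
        rw [pow_two] at this
        rw [hs]
        exact this
    have heq : (Ideal.span (T : Set A)).map (algebraMap A (Henselization A)) =
        (maximalIdeal A).map (algebraMap A (Henselization A)) := by
      rw [hmap]
      refine le_antisymm ?_ hnak
      rw [← hmap]
      exact Ideal.map_mono hT_le
    have hT : Ideal.span (T : Set A) = maximalIdeal A :=
      Ideal.map_injective_of_faithfullyFlat (B := Henselization A) heq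
    calc (maximalIdeal A).spanFinrank = (Ideal.span (T : Set A)).spanFinrank := by rw [hT]
      _ ≤ (T : Set A).ncard := Submodule.spanFinrank_span_le_ncard_of_finite T.finite_toSet
      _ = T.card := Set.ncard_coe_finset T
      _ ≤ s.card := Finset.card_image_le
      _ = _ := hscard

theorem isRegularLocalRing_iff :
    IsRegularLocalRing A ↔ IsRegularLocalRing (Henselization A) := by
  rw [_root_.isRegularLocalRing_iff, _root_.isRegularLocalRing_iff, spanFinrank_maximalIdeal_eq,
    ringKrullDim_eq]

end Henselization

end Groth.Agent.Lib.Helper12
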