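import Mathlib
import Groth.Agent.Lib.Helper12.HfpLemmas

/-!
# Henselian finitely presented maps: the two descriptions
-/

set_option autoImplicit false
universe u

namespace Groth.Agent.Lib.Helper12.Hfp

open PairNbhd PairUnique

/-- A quotient of a henselization of a finitely presented algebra by a finitely generated ideal
is the henselization of a finitely presented algebra. -/
theorem exists_fp_of_surjective (A : Type u) [CommRing A] (I : Ideal A)
    (Q : Type u) [CommRing Q] [Algebra A Q] [Algebra.FinitePresentation A Q]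
    (P : Type u) [CommRing P] [Algebra Q P] [Algebra A P] [IsScalarTower A Q P]
    (hP : Hens2.IsPairHenselization Q (I.map (algebraMap A Q)) P)
    (B : Type u) [CommRing B] [Algebra A B] (φ : P →ₐ[A] B) (hφ : Function.Surjective φ)
    (hker : (RingHom.ker φ).FG) :
    ∃ (R : Type u) (_ : CommRing R) (_ : Algebra A R) (_ : Algebra R B) (_ : IsScalarTower A R B),
      Algebra.FinitePresentation A R ∧
        Hens2.IsPairHenselization R (I.map (algebraMap A R)) B := by
  obtain ⟨m, b, hb⟩ := Submodule.fg_iff_exists_fin_generating_family.mp hker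
  obtain ⟨Q', _, _, _, hbij, ψ, hψ⟩ := exists_etale_of_fin hP b
  choose s hs using hψ
  letI : Algebra Q' P := ψ.toRingHom.toAlgebra
  haveI : IsScalarTower Q Q' P := IsScalarTower.of_algebraMap_eq fun q => (ψ.commutes q).symm
  have hP' := isPairHenselization_of_etale_nbhd hP hbij
  let K : Ideal Q' := Ideal.span (Set.range s)
  letI : Algebra P B := φ.toRingHom.toAlgebra
  letI : Algebra Q' B := ((algebraMap P B).comp (algebraMap Q' P)).toAlgebra
  haveI : IsScalarTower Q' P B := IsScalarTower.of_algebraMap_eq fun _ => rfl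
  have hKB : RingHom.ker (algebraMap P B) = K.map (algebraMap Q' P) := by
    have h1 : RingHom.ker (algebraMap P B) = RingHom.ker φ := rfl
    rw [h1, Ideal.map_span, ← Set.range_comp]
    have h2 : (algebraMap Q' P) ∘ s = b := by
      funext j
      exact hs j
    rw [h2]
    exact hb.symm
  have hKle : ∀ x ∈ K, algebraMap Q' B x = 0 := by
    intro x hx
    show algebraMap P B (algebraMap Q' P x) = 0
    rw [← RingHom.mem_ker, hKB]
    exact Ideal.mem_map_of_mem _ hx
  letI : Algebra (Q' ⧸ K) B := (Ideal.Quotient.lift K (algebraMap Q' B) hKle).toAlgebra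
  haveI : IsScalarTower Q' (Q' ⧸ K) B :=
    IsScalarTower.of_algebraMap_eq fun x => (Ideal.Quotient.lift_mk K _ _).symm
  have hB := isPairHenselization_quotient hP' K (R' := Q' ⧸ K) Ideal.Quotient.mk_surjective
    Ideal.mk_ker (B := B) hφ hKB
  letI : Algebra A Q' := ((algebraMap Q Q').comp (algebraMap A Q)).toAlgebra
  haveI : IsScalarTower A Q Q' := IsScalarTower.of_algebraMap_eq fun _ => rfl
  haveI : IsScalarTower A (Q' ⧸ K) B := IsScalarTower.of_algebraMap_eq fun a => by
    show algebraMap A B a = algebraMap (Q' ⧸ K) B (Ideal.Quotient.mk K (algebraMap A Q' a))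
    have h1 : algebraMap (Q' ⧸ K) B (Ideal.Quotient.mk K (algebraMap A Q' a)) =
        algebraMap Q' B (algebraMap A Q' a) := Ideal.Quotient.lift_mk K _ _
    rw [h1]
    show algebraMap A B a = φ (ψ (algebraMap Q Q' (algebraMap A Q a)))
    rw [ψ.commutes, ← IsScalarTower.algebraMap_apply, φ.commutes]
  refine ⟨Q' ⧸ K, inferInstance, inferInstance, inferInstance, inferInstance, ?_, ?_⟩
  · haveI : Algebra.FinitePresentation A Q' := Algebra.FinitePresentation.trans A Q Q'
    exact Algebra.FinitePresentation.quotient (Submodule.fg_span (Set.finite_range s))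
  · have hI : I.map (algebraMap A (Q' ⧸ K)) =
        ((I.map (algebraMap A Q)).map (algebraMap Q Q')).map (algebraMap Q' (Q' ⧸ K)) := by
      rw [Ideal.map_map, Ideal.map_map]
      rfl
    rw [hI]
    exact hB

/-- The henselization of a quotient `R` of `Q` is a quotient of the henselization of `Q`. -/
theorem exists_surjective_of_fp (A : Type u) [CommRing A] (I : Ideal A)
    (Q : Type u) [CommRing Q] [Algebra A Q]
    (P : Type u) [CommRing P] [Algebra Q P] [Algebra A P] [IsScalarTower A Q P]
    (hP : Hens2.IsPairHenselization Q (I.map (algebraMap A Q)) P)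
    (R : Type u) [CommRing R] [Algebra A R] (π : Q →ₐ[A] R) (hπ : Function.Surjective π)
    (B : Type u) [CommRing B] [Algebra R B] [Algebra A B] [IsScalarTower A R B]
    (hB : Hens2.IsPairHenselization R (I.map (algebraMap A R)) B) :
    ∃ φ : P →ₐ[A] B, Function.Surjective φ ∧
      RingHom.ker φ = (RingHom.ker π).map (algebraMap Q P) := by
  set K : Ideal Q := RingHom.ker (π : Q →+* R) with hK
  letI : Algebra Q R := (π : Q →+* R).toAlgebra
  have hρ : K ≤ RingHom.ker ((Ideal.Quotient.mk (K.map (algebraMap Q P))).comp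
      (algebraMap Q P)) := by
    intro k hk
    rw [RingHom.mem_ker, RingHom.comp_apply, Ideal.Quotient.eq_zero_iff_mem]
    exact Ideal.mem_map_of_mem _ hk
  let ρ : R →+* P ⧸ K.map (algebraMap Q P) :=
    RingHom.liftOfSurjective (π : Q →+* R) hπ ⟨_, hρ⟩
  have hρπ : ρ.comp (π : Q →+* R) =
      (Ideal.Quotient.mk (K.map (algebraMap Q P))).comp (algebraMap Q P) :=
    RingHom.liftOfSurjective_comp (π : Q →+* R) hπ ⟨_, hρ⟩
  letI : Algebra R (P ⧸ K.map (algebraMap Q P)) := ρ.toAlgebra
  haveI : IsScalarTower Q R (P ⧸ K.map (algebraMap Q P)) :=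
    IsScalarTower.of_algebraMap_eq fun q => (RingHom.congr_fun hρπ q).symm
  have hB' : Hens2.IsPairHenselization R ((I.map (algebraMap A Q)).map (algebraMap Q R))
      (P ⧸ K.map (algebraMap Q P)) :=
    isPairHenselization_quotient hP K hπ rfl Ideal.Quotient.mk_surjective Ideal.mk_ker
  have hI : (I.map (algebraMap A Q)).map (algebraMap Q R) = I.map (algebraMap A R) := by
    rw [Ideal.map_map]
    congr 1
    exact π.comp_algebraMap
  rw [hI] at hB'
  obtain ⟨e⟩ := nonempty_algEquiv hB' hB
  let φ₀ : P →+* B :=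
    (e : (P ⧸ K.map (algebraMap Q P)) →+* B).comp (Ideal.Quotient.mk (K.map (algebraMap Q P)))
  refine ⟨{ φ₀ with commutes' := ?_ }, ?_, ?_⟩
  · intro a
    show e (Ideal.Quotient.mk (K.map (algebraMap Q P)) (algebraMap A P a)) = algebraMap A B a
    have h1 : Ideal.Quotient.mk (K.map (algebraMap Q P)) (algebraMap A P a) =
        algebraMap R (P ⧸ K.map (algebraMap Q P)) (algebraMap A R a) := by
      rw [IsScalarTower.algebraMap_apply A Q P, ← π.commutes]
      exact (RingHom.congr_fun hρπ (algebraMap A Q a)).symm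
    rw [h1, e.commutes, ← IsScalarTower.algebraMap_apply]
  · exact e.surjective.comp Ideal.Quotient.mk_surjective
  · ext p
    rw [RingHom.mem_ker]
    show e (Ideal.Quotient.mk (K.map (algebraMap Q P)) p) = 0 ↔ _
    rw [map_eq_zero_iff _ e.injective, Ideal.Quotient.eq_zero_iff_mem]
    rfl

end Groth.Agent.Lib.Helper12.Hfp
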