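import Mathlib
import Groth.Agent.Lib.Helper12.HfpIff

/-!
# Base change for henselizations of pairs
-/

set_option autoImplicit false
universe u

namespace Groth.Agent.Lib.Helper12.Hfp

open PairNbhd PairUnique TensorProduct

/-- If `B` is a henselization of `(R, J)`, `C` a henselization of `(S, J S)` for an `R`-algebra `S`
and `T` is generated by compatible images of `B` and `S` (for instance `T = B ⊗[R] S`), then `C` is
a henselization of `(T, J T)`. -/
theorem isPairHenselization_pushout {R : Type u} [CommRing R] {J : Ideal R}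
    {B : Type u} [CommRing B] [Algebra R B] (hB : Hens2.IsPairHenselization R J B)
    {S : Type u} [CommRing S] [Algebra R S]
    {C : Type u} [CommRing C] [Algebra S C]
    (hC : Hens2.IsPairHenselization S (J.map (algebraMap R S)) C)
    [Algebra R C] [IsScalarTower R S C] [Algebra B C] [IsScalarTower R B C]
    {T : Type u} [CommRing T] [Algebra B T] [Algebra S T] [Algebra T C] [Algebra R T]
    [IsScalarTower B T C] [IsScalarTower S T C] [IsScalarTower R B T] [IsScalarTower R S T]
    (hT : ∀ (D : Type u) [CommRing D] (f₁ f₂ : T →+* D),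
      f₁.comp (algebraMap B T) = f₂.comp (algebraMap B T) →
      f₁.comp (algebraMap S T) = f₂.comp (algebraMap S T) → f₁ = f₂) :
    Hens2.IsPairHenselization T (J.map (algebraMap R T)) C := by
  have hRTC : (algebraMap T C).comp (algebraMap R T) = algebraMap R C := by
    rw [IsScalarTower.algebraMap_eq R S T, ← RingHom.comp_assoc,
      ← IsScalarTower.algebraMap_eq S T C, ← IsScalarTower.algebraMap_eq R S C]
  constructor
  · have h1 : (J.map (algebraMap R T)).map (algebraMap T C) =
        (J.map (algebraMap R S)).map (algebraMap S C) := by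
      rw [Ideal.map_map, Ideal.map_map, hRTC, ← IsScalarTower.algebraMap_eq]
    rw [h1]
    exact hC.1
  · intro D _ J' f hD hle
    have hle' : J.map (f.comp (algebraMap R T)) ≤ J' := by
      rw [← Ideal.map_map]
      exact hle
    have hleS : (J.map (algebraMap R S)).map (f.comp (algebraMap S T)) ≤ J' := by
      rw [Ideal.map_map, RingHom.comp_assoc, ← IsScalarTower.algebraMap_eq]
      exact hle'
    obtain ⟨g, hg, huniq⟩ := hC.2 D J' (f.comp (algebraMap S T)) hD hleS
    obtain ⟨gB, -, hBuniq⟩ := hB.2 D J' (f.comp (algebraMap R T)) hD hle'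
    refine ⟨g, ?_, ?_⟩
    · apply hT
      · have e1 : ((g.comp (algebraMap T C)).comp (algebraMap B T)) = gB := by
          apply hBuniq
          rw [RingHom.comp_assoc, RingHom.comp_assoc, ← IsScalarTower.algebraMap_eq R B T, hRTC,
            IsScalarTower.algebraMap_eq R S C, ← RingHom.comp_assoc, hg, RingHom.comp_assoc,
            ← IsScalarTower.algebraMap_eq]
        have e2 : (f.comp (algebraMap B T)) = gB := by
          apply hBuniq
          rw [RingHom.comp_assoc, ← IsScalarTower.algebraMap_eq]
        rw [e1, e2]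
      · rw [RingHom.comp_assoc, ← IsScalarTower.algebraMap_eq, hg]
    · intro g' hg'
      apply huniq
      rw [IsScalarTower.algebraMap_eq S T C, ← RingHom.comp_assoc, hg']

theorem tensor_ringHom_ext {R B S D : Type*} [CommRing R] [CommRing B] [CommRing S] [CommRing D]
    [Algebra R B] [Algebra R S] (f₁ f₂ : B ⊗[R] S →+* D)
    (h1 : ∀ b, f₁ (b ⊗ₜ 1) = f₂ (b ⊗ₜ 1)) (h2 : ∀ s, f₁ (1 ⊗ₜ s) = f₂ (1 ⊗ₜ s)) : f₁ = f₂ := by
  refine RingHom.ext fun x => ?_
  induction x using TensorProduct.induction_on with
  | zero => simp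
  | tmul b s =>
    have : b ⊗ₜ[R] s = (b ⊗ₜ 1) * (1 ⊗ₜ s) := by
      rw [Algebra.TensorProduct.tmul_mul_tmul, mul_one, one_mul]
    rw [this, map_mul, map_mul, h1, h2]
  | add x y hx hy => rw [map_add, map_add, hx, hy]

/-- The tensor product model: `C` is a henselization of `B ⊗[R] S`. -/
theorem exists_tensor_model (A : Type u) [CommRing A] (I : Ideal A)
    (R : Type u) [CommRing R] [Algebra A R]
    (B : Type u) [CommRing B] [Algebra R B] [Algebra A B] [IsScalarTower A R B]
    (hB : Hens2.IsPairHenselization R (I.map (algebraMap A R)) B)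
    (S : Type u) [CommRing S] [Algebra A S] [Algebra R S] [IsScalarTower A R S]
    [Algebra.FinitePresentation R S]
    (C : Type u) [CommRing C] [Algebra S C]
    (hC : Hens2.IsPairHenselization S (I.map (algebraMap A S)) C)
    [Algebra B C] [Algebra R C] [IsScalarTower R B C] [IsScalarTower R S C] :
    ∃ (T : Type u) (_ : CommRing T) (_ : Algebra B T) (_ : Algebra T C) (_ : IsScalarTower B T C),
      Algebra.FinitePresentation B T ∧
      Hens2.IsPairHenselization T ((I.map (algebraMap A B)).map (algebraMap B T)) C := by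
  letI : Algebra S (B ⊗[R] S) := Algebra.TensorProduct.rightAlgebra
  let pm : B ⊗[R] S →ₐ[R] C := Algebra.TensorProduct.productMap
    (IsScalarTower.toAlgHom R B C) (IsScalarTower.toAlgHom R S C)
  letI : Algebra (B ⊗[R] S) C := pm.toRingHom.toAlgebra
  haveI : IsScalarTower B (B ⊗[R] S) C := IsScalarTower.of_algebraMap_eq fun b => by
    show algebraMap B C b = pm (b ⊗ₜ 1)
    simp [pm]
  haveI : IsScalarTower S (B ⊗[R] S) C := IsScalarTower.of_algebraMap_eq fun s => by
    show algebraMap S C s = pm (1 ⊗ₜ s)
    simp [pm]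
  have hC' : Hens2.IsPairHenselization S ((I.map (algebraMap A R)).map (algebraMap R S)) C := by
    rwa [Ideal.map_map, ← IsScalarTower.algebraMap_eq]
  have key := isPairHenselization_pushout hB hC' (T := B ⊗[R] S) (fun D _ f₁ f₂ h1 h2 =>
    tensor_ringHom_ext f₁ f₂ (fun b => RingHom.congr_fun h1 b) (fun s => RingHom.congr_fun h2 s))
  refine ⟨B ⊗[R] S, inferInstance, inferInstance, inferInstance, inferInstance, inferInstance, ?_⟩
  have hI : (I.map (algebraMap A B)).map (algebraMap B (B ⊗[R] S)) =
      (I.map (algebraMap A R)).map (algebraMap R (B ⊗[R] S)) := by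
    rw [Ideal.map_map, Ideal.map_map, IsScalarTower.algebraMap_eq A R B, ← RingHom.comp_assoc,
      ← IsScalarTower.algebraMap_eq R B (B ⊗[R] S)]
  rw [hI]
  exact key

end Groth.Agent.Lib.Helper12.Hfp
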