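import Mathlib
import Groth.Agent.Lib.Helper12.HfpBase

/-!
# Composition of henselian finitely presented maps
-/

set_option autoImplicit false
universe u

namespace Groth.Agent.Lib.Helper12.Hfp

open PairNbhd PairUnique TensorProduct MvPolynomial

theorem exists_etale_of_finset {A : Type u} [CommRing A] {I : Ideal A} {B : Type u} [CommRing B]
    [Algebra A B] (hB : Hens2.IsPairHenselization A I B) (F : Finset B) :
    ∃ (A' : Type u) (_ : CommRing A') (_ : Algebra A A') (_ : Algebra.Etale A A'),
      Function.Bijective (Ideal.quotientMap (I.map (algebraMap A A')) (algebraMap A A')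
        Ideal.le_comap_map) ∧ ∃ (φ : A' →ₐ[A] B), (F : Set B) ⊆ Set.range φ := by
  obtain ⟨A', i1, i2, i3, hbij, φ, hφ⟩ :=
    exists_etale_of_fin hB (fun j : Fin F.card => (F.equivFin.symm j : B))
  refine ⟨A', i1, i2, i3, hbij, φ, ?_⟩
  intro y hy
  obtain ⟨s, hs⟩ := hφ (F.equivFin ⟨y, hy⟩)
  refine ⟨s, ?_⟩
  rw [hs, Equiv.symm_apply_apply]

/-- If `B` is a henselization of `(R', J)`, `S` is a pushout of `B` and an `R'`-algebra `T`, and
`C` is a henselization of `(S, J S)`, then `C` is a henselization of `(T, J T)`. -/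
theorem isPairHenselization_of_pushout {R' : Type u} [CommRing R'] {J : Ideal R'}
    {B : Type u} [CommRing B] [Algebra R' B] (hB : Hens2.IsPairHenselization R' J B)
    {T : Type u} [CommRing T] [Algebra R' T]
    {S : Type u} [CommRing S] [Algebra B S] [Algebra T S] [Algebra R' S]
    [IsScalarTower R' B S] [IsScalarTower R' T S]
    (hpo : ∀ (D : Type u) [CommRing D] (g₁ : B →+* D) (g₂ : T →+* D),
      g₁.comp (algebraMap R' B) = g₂.comp (algebraMap R' T) →
      ∃ g : S →+* D, g.comp (algebraMap B S) = g₁ ∧ g.comp (algebraMap T S) = g₂)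
    (hpo' : ∀ (D : Type u) [CommRing D] (f₁ f₂ : S →+* D),
      f₁.comp (algebraMap B S) = f₂.comp (algebraMap B S) →
      f₁.comp (algebraMap T S) = f₂.comp (algebraMap T S) → f₁ = f₂)
    {C : Type u} [CommRing C] [Algebra S C]
    (hC : Hens2.IsPairHenselization S (J.map (algebraMap R' S)) C)
    [Algebra T C] [IsScalarTower T S C] :
    Hens2.IsPairHenselization T (J.map (algebraMap R' T)) C := by
  have hJ : (J.map (algebraMap R' T)).map (algebraMap T S) = J.map (algebraMap R' S) := by
    rw [Ideal.map_map, ← IsScalarTower.algebraMap_eq]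
  constructor
  · have h1 : (J.map (algebraMap R' T)).map (algebraMap T C) =
        (J.map (algebraMap R' S)).map (algebraMap S C) := by
      rw [← hJ, Ideal.map_map (algebraMap T S), ← IsScalarTower.algebraMap_eq]
    rw [h1]
    exact hC.1
  · intro D _ J' f hD hle
    have hle' : J.map (f.comp (algebraMap R' T)) ≤ J' := by
      rw [← Ideal.map_map]
      exact hle
    obtain ⟨gB, hgB, hBuniq⟩ := hB.2 D J' (f.comp (algebraMap R' T)) hD hle'
    obtain ⟨fS, hfS1, hfS2⟩ := hpo D gB f hgB
    have hleS : (J.map (algebraMap R' S)).map fS ≤ J' := by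
      rw [← hJ, Ideal.map_map, hfS2]
      exact hle
    obtain ⟨g, hg, huniq⟩ := hC.2 D J' fS hD hleS
    have hg_ap : ∀ x, g (algebraMap S C x) = fS x := fun x => RingHom.congr_fun hg x
    have hfS2_ap : ∀ t, fS (algebraMap T S t) = f t := fun t => RingHom.congr_fun hfS2 t
    refine ⟨g, ?_, ?_⟩
    · refine RingHom.ext fun t => ?_
      show g (algebraMap T C t) = f t
      rw [IsScalarTower.algebraMap_apply T S C, hg_ap, hfS2_ap]
    · intro g' hg'
      have hg'_ap : ∀ t, g' (algebraMap T C t) = f t := fun t => RingHom.congr_fun hg' t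
      apply huniq
      apply hpo'
      · rw [hfS1]
        apply hBuniq
        refine RingHom.ext fun r => ?_
        show g' (algebraMap S C (algebraMap B S (algebraMap R' B r))) = f (algebraMap R' T r)
        rw [← IsScalarTower.algebraMap_apply R' B S, IsScalarTower.algebraMap_apply R' T S,
          ← IsScalarTower.algebraMap_apply T S C, hg'_ap]
      · rw [hfS2]
        refine RingHom.ext fun t => ?_
        show g' (algebraMap S C (algebraMap T S t)) = f t
        rw [← IsScalarTower.algebraMap_apply T S C, hg'_ap]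

/-- The pushout property of `B[Y]/(h)` over `R'[Y]/(h')`. -/
theorem pushout_aux {R' B S D : Type*} [CommRing R'] [CommRing B] [CommRing S] [CommRing D]
    (ψ : R' →+* B) {n : ℕ} (π : MvPolynomial (Fin n) B →+* S) (hπ : Function.Surjective π)
    {m : ℕ} (h : Fin m → MvPolynomial (Fin n) B) (hh : Ideal.span (Set.range h) = RingHom.ker π)
    (h' : Fin m → MvPolynomial (Fin n) R') (hh' : ∀ k, MvPolynomial.map ψ (h' k) = h k)
    (g₁ : B →+* D) (g₂ : MvPolynomial (Fin n) R' ⧸ Ideal.span (Set.range h') →+* D)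
    (hc : ∀ r, g₁ (ψ r) = g₂ (Ideal.Quotient.mk _ (MvPolynomial.C r))) :
    ∃ g : S →+* D, (∀ b, g (π (MvPolynomial.C b)) = g₁ b) ∧
      ∀ q, g (π (MvPolynomial.map ψ q)) = g₂ (Ideal.Quotient.mk _ q) := by
  let G : MvPolynomial (Fin n) B →+* D :=
    eval₂Hom g₁ (fun i => g₂ (Ideal.Quotient.mk _ (X i)))
  have hG : ∀ q, G (MvPolynomial.map ψ q) = g₂ (Ideal.Quotient.mk _ q) := by
    intro q
    have : G.comp (MvPolynomial.map ψ) = g₂.comp (Ideal.Quotient.mk _) := by
      apply MvPolynomial.ringHom_ext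
      · intro r
        simp only [RingHom.comp_apply, map_C]
        show eval₂Hom g₁ _ (MvPolynomial.C (ψ r)) = _
        rw [eval₂Hom_C, hc]
      · intro i
        simp only [RingHom.comp_apply, map_X]
        show eval₂Hom g₁ _ (X i) = _
        rw [eval₂Hom_X']
    exact RingHom.congr_fun this q
  have hker : RingHom.ker π ≤ RingHom.ker G := by
    rw [← hh, Ideal.span_le]
    rintro _ ⟨k, rfl⟩
    show G (h k) = 0
    rw [← hh', hG]
    have : Ideal.Quotient.mk (Ideal.span (Set.range h')) (h' k) = 0 :=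
      Ideal.Quotient.eq_zero_iff_mem.mpr (Ideal.subset_span ⟨k, rfl⟩)
    rw [this, map_zero]
  let g : S →+* D := RingHom.liftOfSurjective π hπ ⟨G, hker⟩
  have hg : ∀ p, g (π p) = G p := fun p =>
    RingHom.congr_fun (RingHom.liftOfSurjective_comp π hπ ⟨G, hker⟩) p
  refine ⟨g, ?_, ?_⟩
  · intro b
    rw [hg]
    exact eval₂Hom_C _ _ b
  · intro q
    rw [hg, hG]

theorem pushout_aux' {R' B S D : Type*} [CommRing R'] [CommRing B] [CommRing S] [CommRing D]
    (ψ : R' →+* B) {n : ℕ} (π : MvPolynomial (Fin n) B →+* S) (hπ : Function.Surjective π)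
    (f₁ f₂ : S →+* D) (h1 : ∀ b, f₁ (π (MvPolynomial.C b)) = f₂ (π (MvPolynomial.C b)))
    (h2 : ∀ q : MvPolynomial (Fin n) R', f₁ (π (MvPolynomial.map ψ q)) =
      f₂ (π (MvPolynomial.map ψ q))) : f₁ = f₂ := by
  have : f₁.comp π = f₂.comp π := by
    apply MvPolynomial.ringHom_ext
    · intro b
      exact h1 b
    · intro i
      have := h2 (X i)
      rw [map_X] at this
      exact this
  refine RingHom.ext fun x => ?_
  obtain ⟨p, rfl⟩ := hπ x
  exact RingHom.congr_fun this p

end Groth.Agent.Lib.Helper12.Hfp
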