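import Mathlib
import Groth.Agent.Lib.Helper12.HfpComp

/-!
# Composition of henselian finitely presented maps (main theorem)
-/

set_option autoImplicit false
universe u

namespace Groth.Agent.Lib.Helper12.Hfp

open PairNbhd PairUnique TensorProduct MvPolynomial

/-- Repackaging: adding the `A`-algebra structure to a model over an `A`-algebra `R'`. -/
theorem exists_model_of_tower (A : Type u) [CommRing A] (I : Ideal A)
    (R' : Type u) [CommRing R'] [Algebra A R'] [Algebra.FinitePresentation A R']
    (T : Type u) [CommRing T] [Algebra R' T] [Algebra.FinitePresentation R' T]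
    (C : Type u) [CommRing C] [Algebra T C] [Algebra A C]
    (key : Hens2.IsPairHenselization T ((I.map (algebraMap A R')).map (algebraMap R' T)) C)
    (hcompat : ∀ a, algebraMap A C a = algebraMap T C (algebraMap R' T (algebraMap A R' a))) :
    ∃ (T : Type u) (_ : CommRing T) (_ : Algebra A T) (_ : Algebra T C) (_ : IsScalarTower A T C),
      Algebra.FinitePresentation A T ∧
        Hens2.IsPairHenselization T (I.map (algebraMap A T)) C := by
  letI : Algebra A T := ((algebraMap R' T).comp (algebraMap A R')).toAlgebra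
  haveI : IsScalarTower A R' T := IsScalarTower.of_algebraMap_eq fun _ => rfl
  haveI : IsScalarTower A T C := IsScalarTower.of_algebraMap_eq fun a => hcompat a
  refine ⟨T, inferInstance, inferInstance, inferInstance, inferInstance,
    Algebra.FinitePresentation.trans A R' T, ?_⟩
  have hI : I.map (algebraMap A T) = (I.map (algebraMap A R')).map (algebraMap R' T) := by
    rw [Ideal.map_map]
    rfl
  rw [hI]
  exact key

theorem hfp_comp (A : Type u) [CommRing A] (I : Ideal A)
    (R : Type u) [CommRing R] [Algebra A R] [Algebra.FinitePresentation A R]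
    (B : Type u) [CommRing B] [Algebra R B] [Algebra A B] [IsScalarTower A R B]
    (hB : Hens2.IsPairHenselization R (I.map (algebraMap A R)) B)
    (S : Type u) [CommRing S] [Algebra B S] [Algebra A S] [IsScalarTower A B S]
    [Algebra.FinitePresentation B S]
    (C : Type u) [CommRing C] [Algebra S C] [Algebra B C] [Algebra A C] [IsScalarTower B S C]
    [IsScalarTower A B C]
    (hC : Hens2.IsPairHenselization S (I.map (algebraMap A S)) C) :
    ∃ (T : Type u) (_ : CommRing T) (_ : Algebra A T) (_ : Algebra T C) (_ : IsScalarTower A T C),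
      Algebra.FinitePresentation A T ∧
        Hens2.IsPairHenselization T (I.map (algebraMap A T)) C := by
  classical
  obtain ⟨n, π, hπ, hfg⟩ := Algebra.FinitePresentation.out (R := B) (A := S)
  obtain ⟨m, h, hh⟩ := Submodule.fg_iff_exists_fin_generating_family.mp hfg
  let F : Finset B := Finset.univ.biUnion fun k => (h k).coeffs
  obtain ⟨R', _, _, _, hbij, ψ, hψ⟩ := exists_etale_of_finset hB F
  have hmem : ∀ k, h k ∈ Set.range (MvPolynomial.map (ψ : R' →+* B)) := by
    intro k
    rw [mem_range_map_iff_coeffs_subset]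
    intro y hy
    have hyF : y ∈ (F : Set B) := by
      rw [Finset.mem_coe, Finset.mem_biUnion]
      exact ⟨k, Finset.mem_univ _, hy⟩
    exact hψ hyF
  choose h' hh' using hmem
  letI : Algebra R' B := ψ.toRingHom.toAlgebra
  haveI : IsScalarTower R R' B := IsScalarTower.of_algebraMap_eq fun q => (ψ.commutes q).symm
  have hB' := isPairHenselization_of_etale_nbhd hB hbij
  let K : Ideal (MvPolynomial (Fin n) R') := Ideal.span (Set.range h')
  have hKfg : K.FG := Submodule.fg_span (Set.finite_range _)
  let Θ : MvPolynomial (Fin n) R' →+* S :=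
    (π : MvPolynomial (Fin n) B →+* S).comp (MvPolynomial.map (ψ : R' →+* B))
  have hhker : ∀ k, π (h k) = 0 := by
    intro k
    have : h k ∈ RingHom.ker π.toRingHom := by
      rw [← hh]
      exact Ideal.subset_span ⟨k, rfl⟩
    exact this
  have hΘK : ∀ x ∈ K, Θ x = 0 := by
    have : K ≤ RingHom.ker Θ := by
      rw [Ideal.span_le]
      rintro _ ⟨k, rfl⟩
      show π (MvPolynomial.map (ψ : R' →+* B) (h' k)) = 0
      rw [hh' k, hhker]
    exact fun x hx => this hx
  letI : Algebra (MvPolynomial (Fin n) R' ⧸ K) S := (Ideal.Quotient.lift K Θ hΘK).toAlgebra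
  have hTS : ∀ q, algebraMap (MvPolynomial (Fin n) R' ⧸ K) S (Ideal.Quotient.mk K q) =
      π (MvPolynomial.map (ψ : R' →+* B) q) := fun q => Ideal.Quotient.lift_mk K Θ hΘK
  letI : Algebra R' S := ((algebraMap B S).comp (algebraMap R' B)).toAlgebra
  haveI : IsScalarTower R' B S := IsScalarTower.of_algebraMap_eq fun _ => rfl
  have hπC : ∀ b, π (MvPolynomial.C b) = algebraMap B S b := fun b => π.commutes b
  haveI : IsScalarTower R' (MvPolynomial (Fin n) R' ⧸ K) S :=
    IsScalarTower.of_algebraMap_eq fun r => by
      show algebraMap B S (ψ r) = algebraMap (MvPolynomial (Fin n) R' ⧸ K) S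
        (Ideal.Quotient.mk K (MvPolynomial.C r))
      rw [hTS, map_C, hπC]
      rfl
  -- pushout properties
  have hpo : ∀ (D : Type u) [CommRing D] (g₁ : B →+* D)
      (g₂ : (MvPolynomial (Fin n) R' ⧸ K) →+* D),
      g₁.comp (algebraMap R' B) = g₂.comp (algebraMap R' (MvPolynomial (Fin n) R' ⧸ K)) →
      ∃ g : S →+* D, g.comp (algebraMap B S) = g₁ ∧
        g.comp (algebraMap (MvPolynomial (Fin n) R' ⧸ K) S) = g₂ := by
    intro D _ g₁ g₂ hc
    obtain ⟨g, hg1, hg2⟩ := pushout_aux (ψ : R' →+* B) (π : MvPolynomial (Fin n) B →+* S) hπ h hh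
      h' hh' g₁ g₂ (fun r => RingHom.congr_fun hc r)
    refine ⟨g, ?_, ?_⟩
    · refine RingHom.ext fun b => ?_
      show g (algebraMap B S b) = g₁ b
      rw [← hπC]
      exact hg1 b
    · refine RingHom.ext fun t => ?_
      obtain ⟨q, rfl⟩ := Ideal.Quotient.mk_surjective t
      show g (algebraMap (MvPolynomial (Fin n) R' ⧸ K) S (Ideal.Quotient.mk K q)) = _
      rw [hTS]
      exact hg2 q
  have hpo' : ∀ (D : Type u) [CommRing D] (f₁ f₂ : S →+* D),
      f₁.comp (algebraMap B S) = f₂.comp (algebraMap B S) →
      f₁.comp (algebraMap (MvPolynomial (Fin n) R' ⧸ K) S) =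
        f₂.comp (algebraMap (MvPolynomial (Fin n) R' ⧸ K) S) → f₁ = f₂ := by
    intro D _ f₁ f₂ h1 h2
    apply pushout_aux' (ψ : R' →+* B) (π : MvPolynomial (Fin n) B →+* S) hπ f₁ f₂
    · intro b
      have := RingHom.congr_fun h1 b
      simp only [RingHom.comp_apply] at this
      show f₁ (π (MvPolynomial.C b)) = f₂ (π (MvPolynomial.C b))
      rw [hπC]
      exact this
    · intro q
      have := RingHom.congr_fun h2 (Ideal.Quotient.mk K q)
      simp only [RingHom.comp_apply] at this
      rw [hTS] at this
      exact this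
  -- the ideal
  have hJS : ((I.map (algebraMap A R)).map (algebraMap R R')).map (algebraMap R' S) =
      I.map (algebraMap A S) := by
    rw [Ideal.map_map, Ideal.map_map]
    congr 1
    refine RingHom.ext fun a => ?_
    show algebraMap B S (ψ (algebraMap R R' (algebraMap A R a))) = algebraMap A S a
    rw [ψ.commutes, ← IsScalarTower.algebraMap_apply A R B, ← IsScalarTower.algebraMap_apply A B S]
  have hC' : Hens2.IsPairHenselization S
      (((I.map (algebraMap A R)).map (algebraMap R R')).map (algebraMap R' S)) C := by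
    rw [hJS]
    exact hC
  letI : Algebra (MvPolynomial (Fin n) R' ⧸ K) C :=
    ((algebraMap S C).comp (algebraMap (MvPolynomial (Fin n) R' ⧸ K) S)).toAlgebra
  haveI : IsScalarTower (MvPolynomial (Fin n) R' ⧸ K) S C :=
    IsScalarTower.of_algebraMap_eq fun _ => rfl
  have key := isPairHenselization_of_pushout hB' hpo hpo' hC'
  -- the `A`-algebra structure
  letI : Algebra A R' := ((algebraMap R R').comp (algebraMap A R)).toAlgebra
  haveI : IsScalarTower A R R' := IsScalarTower.of_algebraMap_eq fun _ => rfl
  haveI : Algebra.FinitePresentation A R' := Algebra.FinitePresentation.trans A R R'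
  haveI : Algebra.FinitePresentation R' (MvPolynomial (Fin n) R' ⧸ K) :=
    Algebra.FinitePresentation.quotient hKfg
  have hI : ((I.map (algebraMap A R)).map (algebraMap R R')) = I.map (algebraMap A R') := by
    rw [Ideal.map_map]
    rfl
  rw [hI] at key
  refine exists_model_of_tower A I R' (MvPolynomial (Fin n) R' ⧸ K) C key ?_
  intro a
  show algebraMap A C a = algebraMap S C (algebraMap (MvPolynomial (Fin n) R' ⧸ K) S
    (Ideal.Quotient.mk K (MvPolynomial.C (algebraMap R R' (algebraMap A R a)))))
  rw [hTS, map_C, hπC]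
  show algebraMap A C a = algebraMap S C (algebraMap B S (ψ (algebraMap R R' (algebraMap A R a))))
  rw [ψ.commutes, ← IsScalarTower.algebraMap_apply A R B, ← IsScalarTower.algebraMap_apply B S C,
    ← IsScalarTower.algebraMap_apply A B C]

end Groth.Agent.Lib.Helper12.Hfp
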