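import Mathlib
import Groth.Agent.Lib.Helper12.HfpIff
import Groth.Agent.Lib.Helper12.PairDirectLimit

/-!
# Compact objects among henselian pairs are henselian finitely presented
-/

set_option autoImplicit false
universe u

namespace Groth.Agent.Lib.Helper12.HfpCompact

open PairNbhd

section

variable {A : Type u} [CommRing A] (I : Ideal A) (B : Type u) [CommRing B] [Algebra A B]

/-- The compactness hypothesis (only the factorization part is needed). -/
def Compact : Prop :=
  ∀ (κ : Type u) [Preorder κ] [IsDirectedOrder κ] [Nonempty κ]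
    (Ra : κ → Type u) [∀ a, CommRing (Ra a)] [∀ a, Algebra A (Ra a)]
    [∀ a, HenselianRing (Ra a) (I.map (algebraMap A (Ra a)))]
    (t : ∀ a b : κ, a ≤ b → (Ra a →+* Ra b)) [DirectedSystem Ra (fun a b hab => t a b hab)],
    (∀ (a b : κ) (hab : a ≤ b), (t a b hab).comp (algebraMap A (Ra a)) = algebraMap A (Ra b)) →
    ∀ [Algebra A (DirectLimit Ra t)],
    (∀ (a : κ) (x : A), algebraMap A (DirectLimit Ra t) x =
      DirectLimit.Ring.of Ra t a (algebraMap A (Ra a) x)) →
    (∀ χ : B →ₐ[A] DirectLimit Ra t, ∃ (a : κ) (φ : B →ₐ[A] Ra a),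
        ∀ x : B, DirectLimit.Ring.of Ra t a (φ x) = χ x)

variable {I B}

/-- If `B` is the direct limit of a directed system of henselian pairs, a compact `B` admits a
section into one of the stages. -/
theorem exists_section (hc : Compact I B) {κ : Type u} [Preorder κ] [IsDirectedOrder κ]
    [Nonempty κ]
    (Ra : κ → Type u) [∀ a, CommRing (Ra a)] [∀ a, Algebra A (Ra a)]
    [∀ a, HenselianRing (Ra a) (I.map (algebraMap A (Ra a)))]
    (t : ∀ a b : κ, a ≤ b → (Ra a →+* Ra b)) [DirectedSystem Ra (fun a b hab => t a b hab)]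
    (ht : ∀ (a b : κ) (hab : a ≤ b), (t a b hab).comp (algebraMap A (Ra a)) = algebraMap A (Ra b))
    (g : ∀ a, Ra a →ₐ[A] B) (hg : ∀ a b hab x, g b (t a b hab x) = g a x)
    (hsurj : ∀ x : B, ∃ a y, g a y = x)
    (hinj : ∀ a (y : Ra a), g a y = 0 → ∃ b, ∃ hab : a ≤ b, t a b hab y = 0) :
    ∃ a, ∃ φ : B →ₐ[A] Ra a, ∀ x, g a (φ x) = x := by
  classical
  obtain ⟨a₀⟩ := ‹Nonempty κ›
  letI alg : Algebra A (DirectLimit Ra t) :=
    ((DirectLimit.Ring.of Ra t a₀).comp (algebraMap A (Ra a₀))).toAlgebra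
  have halg : ∀ (a : κ) (x : A), algebraMap A (DirectLimit Ra t) x =
      DirectLimit.Ring.of Ra t a (algebraMap A (Ra a) x) := by
    intro a x
    obtain ⟨c, hac, h0c⟩ := exists_ge_ge a a₀
    show DirectLimit.Ring.of Ra t a₀ (algebraMap A (Ra a₀) x) = _
    rw [← DirectLimit.Ring.of_f h0c, ← DirectLimit.Ring.of_f hac]
    have h1 := RingHom.congr_fun (ht a₀ c h0c) x
    have h2 := RingHom.congr_fun (ht a c hac) x
    simp only [RingHom.comp_apply] at h1 h2
    rw [h1, h2]
  let ρ : DirectLimit Ra t →+* B :=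
    DirectLimit.Ring.lift Ra t B (fun a => (g a).toRingHom) (fun a b hab x => hg a b hab x)
  have hρ_of : ∀ a y, ρ (DirectLimit.Ring.of Ra t a y) = g a y := fun a y => rfl
  have hρ_surj : Function.Surjective ρ := fun x => by
    obtain ⟨a, y, rfl⟩ := hsurj x
    exact ⟨_, hρ_of a y⟩
  have hρ_inj : Function.Injective ρ := by
    rw [injective_iff_map_eq_zero]
    intro z hz
    induction z using DirectLimit.induction with | _ a y
    have h0 : g a y = 0 := hz
    obtain ⟨b, hab, hb⟩ := hinj a y h0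
    show DirectLimit.Ring.of Ra t a y = 0
    rw [← DirectLimit.Ring.of_f hab, hb, map_zero]
  let e : DirectLimit Ra t ≃+* B := RingEquiv.ofBijective ρ ⟨hρ_inj, hρ_surj⟩
  let χ : B →ₐ[A] DirectLimit Ra t :=
    { e.symm.toRingHom with
      commutes' := fun x => by
        show e.symm (algebraMap A B x) = algebraMap A (DirectLimit Ra t) x
        rw [RingEquiv.symm_apply_eq]
        show _ = ρ (DirectLimit.Ring.of Ra t a₀ (algebraMap A (Ra a₀) x))
        rw [hρ_of, AlgHom.commutes] }
  obtain ⟨a, φ, hφ⟩ := hc κ Ra t ht halg χ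
  refine ⟨a, φ, fun x => ?_⟩
  have h1 := congrArg ρ (hφ x)
  rw [hρ_of] at h1
  rw [h1]
  exact e.apply_symm_apply x

end

end Groth.Agent.Lib.Helper12.HfpCompact
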