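import Mathlib
import Groth.Agent.Lib.Helper12.HfpCompact

/-!
# Compact objects among henselian pairs: finiteness of the kernel
-/

set_option autoImplicit false
universe u

namespace Groth.Agent.Lib.Helper12.HfpCompact

open PairNbhd

variable {A : Type u} [CommRing A] {I : Ideal A} {B : Type u} [CommRing B] [Algebra A B]

/-- Quotients of a henselian pair over `A`. -/
theorem henselianRing_quotient (H : Type u) [CommRing H] [Algebra A H]
    [HenselianRing H (I.map (algebraMap A H))] (L : Ideal H) :
    HenselianRing (H ⧸ L) (I.map (algebraMap A (H ⧸ L))) := by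
  haveI : Algebra.IsIntegral H (H ⧸ L) :=
    Algebra.isIntegral_of_surjective Ideal.Quotient.mk_surjective
  have h1 := henselianRing_map_of_isIntegral H (I.map (algebraMap A H)) (H ⧸ L)
  rwa [Ideal.map_map, ← IsScalarTower.algebraMap_eq] at h1

/-- If a compact `B` is a quotient of the henselization of a polynomial ring in finitely many
variables, then the kernel is finitely generated. -/
theorem fg_ker_of_compact (hc : Compact I B) (σ : Type u) [Finite σ]
    (H : Type u) [CommRing H] [Algebra (MvPolynomial σ A) H] [Algebra A H]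
    [IsScalarTower A (MvPolynomial σ A) H]
    (hH : Hens2.IsPairHenselization (MvPolynomial σ A)
      (I.map (algebraMap A (MvPolynomial σ A))) H)
    (Φ : H →ₐ[A] B) (hΦ : Function.Surjective Φ) : (RingHom.ker Φ).FG := by
  classical
  have hIH : (I.map (algebraMap A (MvPolynomial σ A))).map (algebraMap _ H) =
      I.map (algebraMap A H) := by
    rw [Ideal.map_map, ← IsScalarTower.algebraMap_eq]
  haveI hHens : HenselianRing H (I.map (algebraMap A H)) := hIH ▸ hH.1
  let K : Finset (RingHom.ker Φ) → Ideal H := fun t =>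
    Ideal.span ((fun z : RingHom.ker Φ => (z : H)) '' (t : Set (RingHom.ker Φ)))
  have hKmono : ∀ {t t' : Finset (RingHom.ker Φ)}, t ≤ t' → K t ≤ K t' := fun h =>
    Ideal.span_mono (Set.image_mono (Finset.coe_subset.2 h))
  have hKle : ∀ t, K t ≤ RingHom.ker Φ := fun t => Ideal.span_le.2 (by
    rintro _ ⟨x, _, rfl⟩
    exact x.2)
  let Ra : Finset (RingHom.ker Φ) → Type u := fun t => H ⧸ K t
  let tr : ∀ a b : Finset (RingHom.ker Φ), a ≤ b → (Ra a →+* Ra b) := fun a b hab =>
    Ideal.Quotient.factor (hKmono hab)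
  haveI : ∀ a, HenselianRing (Ra a) (I.map (algebraMap A (Ra a))) := fun a =>
    henselianRing_quotient H (K a)
  haveI : DirectedSystem Ra (fun a b hab => tr a b hab) :=
    { map_self := fun a x => by
        obtain ⟨x, rfl⟩ := Ideal.Quotient.mk_surjective x
        rfl
      map_map := fun a b c hab hbc x => by
        obtain ⟨x, rfl⟩ := Ideal.Quotient.mk_surjective x
        rfl }
  have htr : ∀ (a b : Finset (RingHom.ker Φ)) (hab : a ≤ b),
      (tr a b hab).comp (algebraMap A (Ra a)) = algebraMap A (Ra b) := by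
    intro a b hab
    ext x
    rfl
  let g : ∀ a, Ra a →ₐ[A] B := fun a =>
    Ideal.Quotient.liftₐ (K a) Φ (fun x hx => hKle a hx)
  have hg_mk : ∀ a (x : H), g a (Ideal.Quotient.mk (K a) x) = Φ x := fun a x => rfl
  obtain ⟨t, φ, hφ⟩ := exists_section hc Ra tr htr g
    (by
      intro a b hab x
      obtain ⟨x, rfl⟩ := Ideal.Quotient.mk_surjective x
      rfl)
    (by
      intro x
      obtain ⟨y, rfl⟩ := hΦ x
      exact ⟨∅, Ideal.Quotient.mk _ y, rfl⟩)
    (by
      intro a y hy
      obtain ⟨y, rfl⟩ := Ideal.Quotient.mk_surjective y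
      rw [hg_mk] at hy
      refine ⟨insert ⟨y, hy⟩ a, Finset.subset_insert _ _, ?_⟩
      show Ideal.Quotient.mk (K (insert ⟨y, hy⟩ a)) y = 0
      rw [Ideal.Quotient.eq_zero_iff_mem]
      apply Ideal.subset_span
      exact ⟨⟨y, hy⟩, Finset.mem_coe.2 (Finset.mem_insert_self _ _), rfl⟩)
  -- the retract argument
  let x : σ → H := fun j => algebraMap (MvPolynomial σ A) H (MvPolynomial.X j)
  have hy : ∀ j, ∃ y : H, Ideal.Quotient.mk (K t) y = φ (Φ (x j)) := fun j =>
    Ideal.Quotient.mk_surjective _
  choose y hy using hy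
  let L : Ideal H := Ideal.span (Set.range fun j => x j - y j)
  have hΦy : ∀ j, Φ (y j) = Φ (x j) := by
    intro j
    rw [← hg_mk t (y j), hy j, hφ]
  have hLle : L ⊔ K t ≤ RingHom.ker Φ := by
    refine sup_le (Ideal.span_le.2 ?_) (hKle t)
    rintro _ ⟨j, rfl⟩
    show Φ (x j - y j) = 0
    rw [map_sub, hΦy, sub_self]
  have hle : RingHom.ker Φ ≤ L ⊔ K t := by
    let D := H ⧸ (L ⊔ K t)
    haveI : HenselianRing D (I.map (algebraMap A D)) := henselianRing_quotient H (L ⊔ K t)
    let a : H →+* D := Ideal.Quotient.mk _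
    let fac : (H ⧸ K t) →+* D := Ideal.Quotient.factor le_sup_right
    let b : H →+* D := fac.comp ((φ : B →+* H ⧸ K t).comp (Φ : H →+* B))
    have hab : a.comp (algebraMap (MvPolynomial σ A) H) =
        b.comp (algebraMap (MvPolynomial σ A) H) := by
      apply MvPolynomial.ringHom_ext
      · intro r
        have h1 : algebraMap (MvPolynomial σ A) H (MvPolynomial.C r) = algebraMap A H r := by
          rw [IsScalarTower.algebraMap_apply A (MvPolynomial σ A) H]
          rfl
        show a (algebraMap (MvPolynomial σ A) H (MvPolynomial.C r)) =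
          fac (φ (Φ (algebraMap (MvPolynomial σ A) H (MvPolynomial.C r))))
        rw [h1, AlgHom.commutes, AlgHom.commutes]
        rfl
      · intro j
        show a (x j) = fac (φ (Φ (x j)))
        rw [← hy j]
        show Ideal.Quotient.mk (L ⊔ K t) (x j) = Ideal.Quotient.mk (L ⊔ K t) (y j)
        rw [Ideal.Quotient.eq]
        exact Ideal.mem_sup_left (Ideal.subset_span ⟨j, rfl⟩)
    have hleI : (I.map (algebraMap A (MvPolynomial σ A))).map
        (a.comp (algebraMap (MvPolynomial σ A) H)) ≤ I.map (algebraMap A D) := by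
      rw [Ideal.map_map]
      apply le_of_eq
      congr 1
      ext r
      show a (algebraMap (MvPolynomial σ A) H (algebraMap A (MvPolynomial σ A) r)) = _
      rw [← IsScalarTower.algebraMap_apply A (MvPolynomial σ A) H]
      rfl
    obtain ⟨g', _, huniq⟩ := hH.2 D (I.map (algebraMap A D))
      (a.comp (algebraMap (MvPolynomial σ A) H)) inferInstance hleI
    have hab' : a = b := (huniq a rfl).trans (huniq b hab.symm).symm
    intro z hz
    have h1 : a z = b z := RingHom.congr_fun hab' z
    have h2 : b z = 0 := by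
      show fac (φ (Φ z)) = 0
      rw [RingHom.mem_ker.1 hz, map_zero, map_zero]
    rw [h2] at h1
    exact Ideal.Quotient.eq_zero_iff_mem.1 h1
  rw [le_antisymm hle hLle]
  exact Submodule.FG.sup (Submodule.fg_span (Set.finite_range _))
    (Submodule.fg_span (Set.Finite.image _ (Finset.finite_toSet t)))

end Groth.Agent.Lib.Helper12.HfpCompact
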