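import Mathlib
import Groth.Agent.Lib.Helper12.HfpCompact2

/-!
# Compact objects among henselian pairs are of henselian finite type
-/

set_option autoImplicit false
universe u

namespace Groth.Agent.Lib.Helper12.HfpCompact

open PairNbhd

variable (A : Type u) [CommRing A] (I : Ideal A) (B : Type u) [CommRing B] [Algebra A B]

/-- The polynomial ring on a finite subset of `B`. -/
abbrev Q (s : Finset B) : Type u := MvPolynomial s A

/-- Its henselization. -/
abbrev Hs (s : Finset B) : Type u := Lim (Q A B s) (I.map (algebraMap A (Q A B s)))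

/-- The evaluation map. -/
noncomputable abbrev ev (s : Finset B) : Q A B s →ₐ[A] B :=
  MvPolynomial.aeval (fun x : s => (x : B))

variable [HenselianRing B (I.map (algebraMap A B))]

theorem existsUnique_Φ (s : Finset B) :
    ∃! Φ : Hs A I B s →+* B, Φ.comp (algebraMap (Q A B s) (Hs A I B s)) =
      (ev A B s : Q A B s →+* B) := by
  refine (Lim.isPairHenselization (Q A B s) (I.map (algebraMap A (Q A B s)))).2 B
    (I.map (algebraMap A B)) _ inferInstance ?_
  rw [Ideal.map_map]
  apply le_of_eq
  congr 1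
  exact (ev A B s).comp_algebraMap

/-- The canonical map from the henselization of the polynomial ring. -/
noncomputable def Φ (s : Finset B) : Hs A I B s →+* B := (existsUnique_Φ A I B s).choose

theorem Φ_comp (s : Finset B) : (Φ A I B s).comp (algebraMap (Q A B s) (Hs A I B s)) =
    (ev A B s : Q A B s →+* B) := (existsUnique_Φ A I B s).choose_spec.1

theorem Φ_algebraMap (s : Finset B) (p : Q A B s) :
    Φ A I B s (algebraMap (Q A B s) (Hs A I B s) p) = ev A B s p :=
  RingHom.congr_fun (Φ_comp A I B s) p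

theorem Φ_unique (s : Finset B) (Φ' : Hs A I B s →+* B)
    (h : Φ'.comp (algebraMap (Q A B s) (Hs A I B s)) = (ev A B s : Q A B s →+* B)) :
    Φ' = Φ A I B s := (existsUnique_Φ A I B s).choose_spec.2 Φ' h

/-- The image of the henselization of the polynomial ring on `s`. -/
noncomputable def Bs (s : Finset B) : Subalgebra A B :=
  { (Φ A I B s).rangeS with
    algebraMap_mem' := fun a =>
      ⟨algebraMap (Q A B s) (Hs A I B s) (algebraMap A (Q A B s) a), by
        rw [Φ_algebraMap, AlgHom.commutes]⟩ }

theorem mem_Bs (s : Finset B) (x : B) : x ∈ Bs A I B s ↔ ∃ y, Φ A I B s y = x := Iff.rfl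

theorem Bs_mono {s s' : Finset B} (h : s ≤ s') : Bs A I B s ≤ Bs A I B s' := by
  classical
  let ι : Q A B s →ₐ[A] Q A B s' :=
    MvPolynomial.rename (fun x : s => (⟨x.1, h x.2⟩ : s'))
  have hev : (ev A B s').comp ι = ev A B s := by
    apply MvPolynomial.algHom_ext
    intro x
    simp [ι, ev]
  have hle : (I.map (algebraMap A (Q A B s))).map
      ((algebraMap (Q A B s') (Hs A I B s')).comp (ι : Q A B s →+* Q A B s')) ≤
      (I.map (algebraMap A (Q A B s'))).map (algebraMap (Q A B s') (Hs A I B s')) := by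
    rw [Ideal.map_map, Ideal.map_map]
    apply le_of_eq
    congr 1
    ext a
    show algebraMap (Q A B s') (Hs A I B s') (ι (algebraMap A (Q A B s) a)) =
      algebraMap (Q A B s') (Hs A I B s') (algebraMap A (Q A B s') a)
    rw [AlgHom.commutes]
  obtain ⟨Ψ, hΨ, -⟩ := (Lim.isPairHenselization (Q A B s) (I.map (algebraMap A (Q A B s)))).2
    (Hs A I B s') _ ((algebraMap (Q A B s') (Hs A I B s')).comp (ι : Q A B s →+* Q A B s'))
    (Lim.isPairHenselization (Q A B s') (I.map (algebraMap A (Q A B s')))).1 hle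
  have h1 : (Φ A I B s').comp Ψ = Φ A I B s := by
    apply Φ_unique
    rw [RingHom.comp_assoc, hΨ, ← RingHom.comp_assoc, Φ_comp]
    refine RingHom.ext fun p => ?_
    exact AlgHom.congr_fun hev p
  rintro x ⟨y, rfl⟩
  exact ⟨Ψ y, RingHom.congr_fun h1 y⟩

theorem self_mem_Bs (x : B) : x ∈ Bs A I B {x} := by
  refine (mem_Bs A I B {x} x).2 ⟨algebraMap (Q A B {x}) (Hs A I B {x})
    (MvPolynomial.X ⟨x, Finset.mem_singleton_self x⟩), ?_⟩
  rw [Φ_algebraMap]
  simp [ev]

theorem henselianRing_Bs (s : Finset B) :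
    HenselianRing (Bs A I B s) (I.map (algebraMap A (Bs A I B s))) := by
  let ρ : Hs A I B s →+* Bs A I B s := (Φ A I B s).codRestrict (Bs A I B s) (fun y => ⟨y, rfl⟩)
  have hρ : Function.Surjective ρ := by
    rintro ⟨x, y, rfl⟩
    exact ⟨y, rfl⟩
  letI : Algebra (Hs A I B s) (Bs A I B s) := ρ.toAlgebra
  haveI : Algebra.IsIntegral (Hs A I B s) (Bs A I B s) := Algebra.isIntegral_of_surjective hρ
  haveI := (Lim.isPairHenselization (Q A B s) (I.map (algebraMap A (Q A B s)))).1
  have h1 := henselianRing_map_of_isIntegral (Hs A I B s)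
    ((I.map (algebraMap A (Q A B s))).map (algebraMap (Q A B s) (Hs A I B s))) (Bs A I B s)
  have h2 : ((I.map (algebraMap A (Q A B s))).map (algebraMap (Q A B s) (Hs A I B s))).map
      (algebraMap (Hs A I B s) (Bs A I B s)) = I.map (algebraMap A (Bs A I B s)) := by
    rw [Ideal.map_map, Ideal.map_map]
    congr 1
    ext a
    show Φ A I B s (algebraMap (Q A B s) (Hs A I B s) (algebraMap A (Q A B s) a)) =
      algebraMap A B a
    rw [Φ_algebraMap, AlgHom.commutes]
  rwa [h2] at h1

variable {A I B}

/-- A compact `B` is a quotient of the henselization of a polynomial ring in finitely many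
variables. -/
theorem exists_finset_surjective (hc : Compact I B) :
    ∃ s : Finset B, Function.Surjective (Φ A I B s) := by
  classical
  let Ra : Finset B → Type u := fun s => Bs A I B s
  let tr : ∀ a b : Finset B, a ≤ b → (Ra a →+* Ra b) := fun a b hab =>
    (Subalgebra.inclusion (Bs_mono A I B hab) : Bs A I B a →+* Bs A I B b)
  haveI : ∀ a, HenselianRing (Ra a) (I.map (algebraMap A (Ra a))) := fun a =>
    henselianRing_Bs A I B a
  haveI : DirectedSystem Ra (fun a b hab => tr a b hab) :=
    { map_self := fun a x => rfl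
      map_map := fun a b c hab hbc x => rfl }
  have htr : ∀ (a b : Finset B) (hab : a ≤ b),
      (tr a b hab).comp (algebraMap A (Ra a)) = algebraMap A (Ra b) := by
    intro a b hab
    ext x
    rfl
  let g : ∀ a, Ra a →ₐ[A] B := fun a => (Bs A I B a).val
  obtain ⟨s, φ, hφ⟩ := exists_section hc Ra tr htr g
    (fun a b hab x => rfl)
    (fun x => ⟨{x}, ⟨x, self_mem_Bs A I B x⟩, rfl⟩)
    (by
      intro a y hy
      refine ⟨a, le_rfl, ?_⟩
      have : y = 0 := Subtype.ext hy
      rw [this, map_zero])
  refine ⟨s, fun x => ?_⟩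
  have h1 : ((φ x : Bs A I B s) : B) = x := hφ x
  have h2 : x ∈ Bs A I B s := h1 ▸ (φ x).2
  exact h2

end Groth.Agent.Lib.Helper12.HfpCompact
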