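import Mathlib
import Groth.Agent.Lib.Helper12.HfpBase

/-!
# Maps between henselian finitely presented algebras are henselian finitely presented
-/

set_option autoImplicit false
universe u

namespace Groth.Agent.Lib.Helper12.Hfp

open PairNbhd PairUnique TensorProduct MvPolynomial

theorem hfp_of_algHom (A : Type u) [CommRing A] (I : Ideal A)
    (R : Type u) [CommRing R] [Algebra A R] [Algebra.FinitePresentation A R]
    (B : Type u) [CommRing B] [Algebra R B] [Algebra A B] [IsScalarTower A R B]
    (hB : Hens2.IsPairHenselization R (I.map (algebraMap A R)) B)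
    (S : Type u) [CommRing S] [Algebra A S] [Algebra.FinitePresentation A S]
    (C : Type u) [CommRing C] [Algebra S C] [Algebra A C] [IsScalarTower A S C]
    (hC : Hens2.IsPairHenselization S (I.map (algebraMap A S)) C)
    [Algebra B C] [IsScalarTower A B C] :
    ∃ (T : Type u) (_ : CommRing T) (_ : Algebra B T) (_ : Algebra T C) (_ : IsScalarTower B T C),
      Algebra.FinitePresentation B T ∧
      Hens2.IsPairHenselization T ((I.map (algebraMap A B)).map (algebraMap B T)) C := by
  classical
  obtain ⟨n, π, hπ, hfg⟩ := Algebra.FinitePresentation.out (R := A) (A := R)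
  obtain ⟨m, f, hf⟩ := Submodule.fg_iff_exists_fin_generating_family.mp hfg
  letI : Algebra R C := ((algebraMap B C).comp (algebraMap R B)).toAlgebra
  haveI : IsScalarTower R B C := IsScalarTower.of_algebraMap_eq fun _ => rfl
  haveI : IsScalarTower A R C := IsScalarTower.of_algebraMap_eq fun a => by
    show algebraMap A C a = algebraMap B C (algebraMap R B (algebraMap A R a))
    rw [← IsScalarTower.algebraMap_apply A R B, ← IsScalarTower.algebraMap_apply A B C]
  set c : Fin n → C := fun i => algebraMap R C (π (X i)) with hc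
  obtain ⟨S', _, _, _, hbij, ψ, hψ⟩ := exists_etale_of_fin hC c
  choose s hs using hψ
  letI : Algebra S' C := ψ.toRingHom.toAlgebra
  haveI : IsScalarTower S S' C := IsScalarTower.of_algebraMap_eq fun q => (ψ.commutes q).symm
  have hC' := isPairHenselization_of_etale_nbhd hC hbij
  letI : Algebra A S' := ((algebraMap S S').comp (algebraMap A S)).toAlgebra
  haveI : IsScalarTower A S S' := IsScalarTower.of_algebraMap_eq fun _ => rfl
  haveI : IsScalarTower A S' C := IsScalarTower.of_algebraMap_eq fun a => by
    show algebraMap A C a = algebraMap S' C (algebraMap S S' (algebraMap A S a))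
    rw [← IsScalarTower.algebraMap_apply S S' C, ← IsScalarTower.algebraMap_apply A S C]
  -- the composite `A[X] → R → C` is evaluation at `c`
  have hcp : ∀ p : MvPolynomial (Fin n) A, aeval c p = algebraMap R C (π p) := by
    intro p
    have : (aeval c : MvPolynomial (Fin n) A →ₐ[A] C) = (IsScalarTower.toAlgHom A R C).comp π := by
      apply MvPolynomial.algHom_ext
      intro i
      simp [hc]
    rw [this]
    rfl
  have hsp : ∀ p : MvPolynomial (Fin n) A, algebraMap S' C (aeval s p) = aeval c p := by
    intro p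
    have : (aeval c : MvPolynomial (Fin n) A →ₐ[A] C) =
        (IsScalarTower.toAlgHom A S' C).comp (aeval s : MvPolynomial (Fin n) A →ₐ[A] S') := by
      apply MvPolynomial.algHom_ext
      intro i
      simp only [aeval_X, AlgHom.comp_apply, IsScalarTower.coe_toAlgHom']
      exact (hs i).symm
    rw [this]
    rfl
  let K : Ideal S' := Ideal.span (Set.range fun k => aeval s (f k))
  have hKfg : K.FG := Submodule.fg_span (Set.finite_range _)
  have hfker : ∀ k, π (f k) = 0 := by
    intro k
    have : f k ∈ RingHom.ker π.toRingHom := by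
      rw [← hf]
      exact Ideal.subset_span ⟨k, rfl⟩
    exact this
  have hK0 : K ≤ RingHom.ker (algebraMap S' C) := by
    rw [Ideal.span_le]
    rintro _ ⟨k, rfl⟩
    show algebraMap S' C (aeval s (f k)) = 0
    rw [hsp, hcp, hfker, map_zero]
  letI : Algebra (S' ⧸ K) C := (Ideal.Quotient.lift K (algebraMap S' C) hK0).toAlgebra
  haveI : IsScalarTower S' (S' ⧸ K) C :=
    IsScalarTower.of_algebraMap_eq fun x => (Ideal.Quotient.lift_mk K _ _).symm
  have hC₁ := isPairHenselization_quotient hC' K (R' := S' ⧸ K) Ideal.Quotient.mk_surjective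
    Ideal.mk_ker (B := C) (fun x => ⟨x, rfl⟩) (by
      rw [(Ideal.map_eq_bot_iff_le_ker _).mpr hK0]
      exact (RingHom.injective_iff_ker_eq_bot _).mp fun _ _ h => h)
  -- the map `R → S' / K`
  let ρ₀ : MvPolynomial (Fin n) A →ₐ[A] S' ⧸ K := aeval fun i => Ideal.Quotient.mk K (s i)
  have hρ₀ : ∀ p : MvPolynomial (Fin n) A, ρ₀ p = Ideal.Quotient.mk K (aeval s p) := by
    intro p
    exact (MvPolynomial.comp_aeval_apply (f := s) (Ideal.Quotient.mkₐ A K) p).symm
  have Hker : RingHom.ker (π : MvPolynomial (Fin n) A →+* R) ≤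
      RingHom.ker (ρ₀ : MvPolynomial (Fin n) A →+* S' ⧸ K) := by
    have : RingHom.ker (π : MvPolynomial (Fin n) A →+* R) = Ideal.span (Set.range f) := hf.symm
    rw [this, Ideal.span_le]
    rintro _ ⟨k, rfl⟩
    show ρ₀ (f k) = 0
    rw [hρ₀, Ideal.Quotient.eq_zero_iff_mem]
    exact Ideal.subset_span ⟨k, rfl⟩
  let ρ : R →ₐ[A] S' ⧸ K := AlgHom.liftOfSurjective π hπ ρ₀ Hker
  have hρ : ∀ p, ρ (π p) = Ideal.Quotient.mk K (aeval s p) := fun p => by
    rw [← hρ₀]
    exact AlgHom.liftOfSurjective_apply π hπ ρ₀ Hker p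
  letI : Algebra R (S' ⧸ K) := ρ.toRingHom.toAlgebra
  haveI : IsScalarTower A R (S' ⧸ K) := IsScalarTower.of_algebraMap_eq fun a => (ρ.commutes a).symm
  haveI : IsScalarTower R (S' ⧸ K) C := IsScalarTower.of_algebraMap_eq fun r => by
    obtain ⟨p, rfl⟩ := hπ r
    show algebraMap R C (π p) = algebraMap (S' ⧸ K) C (ρ (π p))
    rw [hρ, ← hcp, ← hsp]
    exact (Ideal.Quotient.lift_mk K _ _).symm
  haveI : Algebra.FinitePresentation A S' := Algebra.FinitePresentation.trans A S S'
  haveI : Algebra.FinitePresentation A (S' ⧸ K) := Algebra.FinitePresentation.quotient hKfg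
  haveI : Algebra.FinitePresentation R (S' ⧸ K) :=
    Algebra.FinitePresentation.of_restrict_scalars_finitePresentation A R (S' ⧸ K)
  have hI : ((I.map (algebraMap A S)).map (algebraMap S S')).map (algebraMap S' (S' ⧸ K)) =
      I.map (algebraMap A (S' ⧸ K)) := by
    rw [Ideal.map_map, Ideal.map_map]
    rfl
  rw [hI] at hC₁
  exact exists_tensor_model A I R B hB (S' ⧸ K) C hC₁

end Groth.Agent.Lib.Helper12.Hfp
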