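import Mathlib

/-!
# Uniqueness of solutions of contracting polynomial systems modulo the Jacobson radical
-/

set_option autoImplicit false

namespace Groth.Agent.Lib.Helper12

open MvPolynomial

variable {A D : Type*} [CommRing A] [CommRing D] [Algebra A D] {σ : Type*}

theorem aeval_sub_aeval_mem (c c' : σ → D) (p : MvPolynomial σ A) :
    aeval c p - aeval c' p ∈ Ideal.span (Set.range (fun i => c i - c' i)) := by
  set 𝔡 := Ideal.span (Set.range (fun i => c i - c' i)) with h𝔡
  rw [← Ideal.Quotient.eq]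
  have h1 : (Ideal.Quotient.mkₐ A 𝔡).comp (aeval c) =
      aeval (fun i => Ideal.Quotient.mk 𝔡 (c i)) := MvPolynomial.comp_aeval _ _
  have h2 : (Ideal.Quotient.mkₐ A 𝔡).comp (aeval c') =
      aeval (fun i => Ideal.Quotient.mk 𝔡 (c' i)) := MvPolynomial.comp_aeval _ _
  have h3 : (fun i => Ideal.Quotient.mk 𝔡 (c i)) = fun i => Ideal.Quotient.mk 𝔡 (c' i) := by
    funext i
    rw [Ideal.Quotient.eq]
    exact Ideal.subset_span ⟨i, rfl⟩
  have e1 := AlgHom.congr_fun h1 p
  have e2 := AlgHom.congr_fun h2 p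
  simp only [AlgHom.comp_apply, Ideal.Quotient.mkₐ_eq_mk] at e1 e2
  rw [e1, e2, h3]

theorem aeval_sub_aeval_mem_mul {I : Ideal A} (c c' : σ → D) (q : MvPolynomial σ A)
    (hq : q ∈ I.map (MvPolynomial.C : A →+* MvPolynomial σ A)) :
    aeval c q - aeval c' q ∈
      I.map (algebraMap A D) * Ideal.span (Set.range (fun i => c i - c' i)) := by
  classical
  rw [MvPolynomial.mem_map_C_iff] at hq
  have e : ∀ c₀ : σ → D, aeval c₀ q =
      ∑ d ∈ q.support, algebraMap A D (q.coeff d) * aeval c₀ (monomial d (1 : A)) := by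
    intro c₀
    rw [aeval_def, eval₂_eq]
    refine Finset.sum_congr rfl fun d _ => ?_
    rw [aeval_monomial, map_one, one_mul, Finsupp.prod]
  rw [e c, e c', ← Finset.sum_sub_distrib]
  refine Ideal.sum_mem _ fun d _ => ?_
  rw [← mul_sub]
  exact Ideal.mul_mem_mul (Ideal.mem_map_of_mem _ (hq d)) (aeval_sub_aeval_mem c c' _)

/-- Uniqueness of fixed points of a polynomial map with coefficients in `I`, when `I C` is in the
Jacobson radical. -/
theorem eq_of_sub_aeval_eq {I : Ideal A} {J : Ideal D} (hJ : J ≤ Ideal.jacobson ⊥)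
    (hIJ : I.map (algebraMap A D) ≤ J) {n : ℕ} (q : Fin n → MvPolynomial (Fin n) A)
    (hq : ∀ i, q i ∈ I.map (MvPolynomial.C : A →+* MvPolynomial (Fin n) A))
    (c c' : Fin n → D) (h : ∀ i, c i - aeval c (q i) = c' i - aeval c' (q i)) : c = c' := by
  set 𝔡 := Ideal.span (Set.range (fun i => c i - c' i)) with h𝔡
  have hfg : (𝔡 : Submodule D D).FG := Submodule.fg_span (Set.finite_range _)
  have hle : 𝔡 ≤ J • 𝔡 := by
    rw [h𝔡, Ideal.span_le]
    rintro _ ⟨i, rfl⟩
    have h1 : c i - c' i = aeval c (q i) - aeval c' (q i) := by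
      have := h i
      linear_combination this
    show c i - c' i ∈ J • 𝔡
    rw [h1, smul_eq_mul]
    exact Ideal.mul_mono_left hIJ (aeval_sub_aeval_mem_mul c c' (q i) (hq i))
  have hbot : 𝔡 = ⊥ := Submodule.eq_bot_of_le_smul_of_le_jacobson_bot J 𝔡 hfg hle hJ
  funext i
  have : c i - c' i ∈ 𝔡 := Ideal.subset_span ⟨i, rfl⟩
  rw [hbot, Ideal.mem_bot, sub_eq_zero] at this
  exact this

end Groth.Agent.Lib.Helper12
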