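import Mathlib
import Groth.Prelude.Def_Hens2
import Groth.Agent.Lib.Helper12.MvHensel
import Groth.Agent.Lib.Helper12.MvUnique
import Groth.Agent.Lib.Helper12.PairTrunc

/-!
# A henselian finitely presented map which is surjective modulo `I` is surjective
-/

set_option autoImplicit false
universe u

namespace Groth.Agent.Lib.Helper12.HfpSurj

open MvPolynomial

variable {A : Type u} [CommRing A] {I : Ideal A}

theorem eval_mem_of_mem_map_C {σ : Type*} (a : σ → A) (p : MvPolynomial σ A)
    (hp : p ∈ I.map (MvPolynomial.C : A →+* MvPolynomial σ A)) : eval a p ∈ I := by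
  have h1 : eval a p ∈ (I.map (MvPolynomial.C : A →+* MvPolynomial σ A)).map (eval a) :=
    Ideal.mem_map_of_mem _ hp
  rw [Ideal.map_map] at h1
  have h2 : (eval a).comp (MvPolynomial.C : A →+* MvPolynomial σ A) = RingHom.id A := by
    ext x
    simp
  rw [h2, Ideal.map_id] at h1
  exact h1

theorem pderiv_mem_map_C {σ : Type*} (j : σ) (p : MvPolynomial σ A)
    (hp : p ∈ I.map (MvPolynomial.C : A →+* MvPolynomial σ A)) :
    pderiv j p ∈ I.map (MvPolynomial.C : A →+* MvPolynomial σ A) := by
  have hk : I.map (MvPolynomial.C : A →+* MvPolynomial σ A) =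
      RingHom.ker (MvPolynomial.map (Ideal.Quotient.mk I) :
        MvPolynomial σ A →+* MvPolynomial σ (A ⧸ I)) := by
    rw [MvPolynomial.ker_map, Ideal.mk_ker]
  rw [hk, RingHom.mem_ker] at hp ⊢
  rw [← pderiv_map, hp, map_zero]

/-- The Jacobian of the system `X i - C (a i) - q i` with `q i ∈ I[X]` is invertible when
`I` is in the Jacobson radical. -/
theorem isUnit_det_jacobian (hI : I ≤ Ideal.jacobson ⊥) {n : ℕ}
    (a : Fin n → A) (q : Fin n → MvPolynomial (Fin n) A)
    (hq : ∀ i, q i ∈ I.map (MvPolynomial.C : A →+* MvPolynomial (Fin n) A)) (a₀ : Fin n → A) :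
    IsUnit (Matrix.of (fun i j => MvPolynomial.eval a₀
      (MvPolynomial.pderiv j (X i - MvPolynomial.C (a i) - q i)))).det := by
  classical
  apply Ideal.isUnit_of_sub_one_mem_jacobson_bot
  apply hI
  rw [← Ideal.Quotient.eq, map_one, RingHom.map_det]
  have : (Ideal.Quotient.mk I).mapMatrix (Matrix.of (fun i j => MvPolynomial.eval a₀
      (MvPolynomial.pderiv j (X i - MvPolynomial.C (a i) - q i)))) = 1 := by
    ext i j
    have h1 : Ideal.Quotient.mk I (eval a₀ (pderiv j (q i))) = 0 :=
      Ideal.Quotient.eq_zero_iff_mem.mpr (eval_mem_of_mem_map_C a₀ _ (pderiv_mem_map_C j _ (hq i)))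
    have h2 : pderiv j (X i - MvPolynomial.C (a i) - q i) =
        Pi.single (M := fun _ => MvPolynomial (Fin n) A) j 1 i - pderiv j (q i) := by
      rw [map_sub, map_sub, pderiv_C, pderiv_X, sub_zero]
    rw [RingHom.mapMatrix_apply, Matrix.map_apply, Matrix.of_apply, h2, map_sub, map_sub, h1,
      sub_zero, Matrix.one_apply]
    by_cases hij : i = j
    · subst hij
      simp
    · have : j ≠ i := fun h => hij h.symm
      simp [hij, Pi.single_apply, this]
  rw [this, Matrix.det_one]

theorem surjective_of_quotient_surjective (A : Type u) [CommRing A] (I : Ideal A)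
    [HenselianRing A I] (R : Type u) [CommRing R] [Algebra A R] [Algebra.FinitePresentation A R]
    (B : Type u) [CommRing B] [Algebra R B] [Algebra A B] [IsScalarTower A R B]
    (hB : Hens2.IsPairHenselization R (I.map (algebraMap A R)) B)
    (hsurj : Function.Surjective
      (Ideal.quotientMap (I.map (algebraMap A B)) (algebraMap A B) Ideal.le_comap_map)) :
    Function.Surjective (algebraMap A B) := by
  classical
  haveI := hB.1
  obtain ⟨n, f, hf, -⟩ := Algebra.FinitePresentation.out (R := A) (A := R)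
  have hIB : I.map (algebraMap A B) = (I.map (algebraMap A R)).map (algebraMap R B) := by
    rw [Ideal.map_map, ← IsScalarTower.algebraMap_eq]
  have hIBjac : I.map (algebraMap A B) ≤ Ideal.jacobson ⊥ := by
    rw [hIB]
    exact HenselianRing.jac
  -- approximate the generators by elements of `A`
  have h2 : ∀ i, ∃ a : A,
      algebraMap R B (f (X i)) - algebraMap A B a ∈ I.map (algebraMap A B) := by
    intro i
    obtain ⟨x, hx⟩ := hsurj (Ideal.Quotient.mk _ (algebraMap R B (f (X i))))
    obtain ⟨a, rfl⟩ := Ideal.Quotient.mk_surjective x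
    refine ⟨a, ?_⟩
    rw [Ideal.quotientMap_mk] at hx
    rw [← Ideal.Quotient.eq]
    exact hx.symm
  choose a ha using h2
  have hle : I.map (algebraMap A R) ≤ (I.map (algebraMap A B)).comap (algebraMap R B) := by
    rw [hIB]
    exact Ideal.le_comap_map
  have hbij := PairUnique.quotientMap_bijective_aux hB 1 (I.map (algebraMap A R))
    (I.map (algebraMap A B)) (pow_one _).symm hIB hle
  have h3 : ∀ i, f (X i) - algebraMap A R (a i) ∈ I.map (algebraMap A R) := by
    intro i
    rw [← Ideal.Quotient.eq_zero_iff_mem]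
    apply hbij.1
    rw [Ideal.quotientMap_mk, map_zero, Ideal.Quotient.eq_zero_iff_mem, map_sub,
      ← IsScalarTower.algebraMap_apply]
    exact ha i
  have hIR : I.map (algebraMap A R) =
      (I.map (MvPolynomial.C : A →+* MvPolynomial (Fin n) A)).map
        (f : MvPolynomial (Fin n) A →+* R) := by
    rw [Ideal.map_map]
    congr 1
    ext x
    simp
  have h4 : ∀ i, ∃ q ∈ I.map (MvPolynomial.C : A →+* MvPolynomial (Fin n) A),
      f q = f (X i) - algebraMap A R (a i) := by
    intro i
    have := h3 i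
    rw [hIR] at this
    exact (Ideal.mem_map_iff_of_surjective (f : MvPolynomial (Fin n) A →+* R) hf).mp this
  choose q hq hfq using h4
  set G : Fin n → MvPolynomial (Fin n) A := fun i => X i - MvPolynomial.C (a i) - q i with hG
  have hGker : ∀ i, f (G i) = 0 := by
    intro i
    simp only [hG, map_sub, hfq i, MvPolynomial.algHom_C]
    ring
  have h₀ : ∀ i, eval a (G i) ∈ I := by
    intro i
    have : eval a (G i) = - eval a (q i) := by simp [hG]
    rw [this]
    exact I.neg_mem (eval_mem_of_mem_map_C a _ (hq i))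
  obtain ⟨a', ha'0, -⟩ := exists_common_zero_of_henselianRing I n G a h₀
    (isUnit_det_jacobian HenselianRing.jac a q hq a)
  -- compare the two solutions in `B`
  set c : Fin n → B := fun i => algebraMap R B (f (X i)) with hc
  set c' : Fin n → B := fun i => algebraMap A B (a' i) with hc'
  have hcp : ∀ p, aeval c p = algebraMap R B (f p) := by
    intro p
    have : (aeval c : MvPolynomial (Fin n) A →ₐ[A] B) =
        (IsScalarTower.toAlgHom A R B).comp f := by
      apply MvPolynomial.algHom_ext
      intro i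
      simp [hc]
    rw [this]
    rfl
  have hc'p : ∀ p, aeval c' p = algebraMap A B (eval a' p) := by
    intro p
    have : (aeval c' : MvPolynomial (Fin n) A →ₐ[A] B) =
        (Algebra.ofId A B).comp (aeval a') := by
      apply MvPolynomial.algHom_ext
      intro i
      simp [hc', Algebra.ofId_apply]
    rw [this]
    simp [Algebra.ofId_apply, MvPolynomial.coe_aeval_eq_eval]
  have hcc' : c = c' := by
    apply eq_of_sub_aeval_eq hIBjac le_rfl q hq c c'
    intro i
    have e1 : aeval c (G i) = 0 := by rw [hcp, hGker, map_zero]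
    have e2 : aeval c' (G i) = 0 := by rw [hc'p, ha'0, map_zero]
    simp only [hG, map_sub, aeval_X, aeval_C] at e1 e2
    linear_combination e1 - e2
  -- the quotient of `A` through which `R` maps
  set K : Ideal A := (RingHom.ker (f : MvPolynomial (Fin n) A →+* R)).map (eval a') with hK
  let θ₀ : MvPolynomial (Fin n) A →ₐ[A] A ⧸ K := (Ideal.Quotient.mkₐ A K).comp (aeval a')
  have hθ₀ : ∀ p, θ₀ p = Ideal.Quotient.mk K (eval a' p) := fun p => by
    simp [θ₀, MvPolynomial.coe_aeval_eq_eval]
  have Hker : RingHom.ker (f : MvPolynomial (Fin n) A →+* R) ≤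
      RingHom.ker (θ₀ : MvPolynomial (Fin n) A →+* A ⧸ K) := by
    intro p hp
    rw [RingHom.mem_ker]
    show θ₀ p = 0
    rw [hθ₀, Ideal.Quotient.eq_zero_iff_mem]
    exact Ideal.mem_map_of_mem _ hp
  let θ : R →ₐ[A] A ⧸ K := AlgHom.liftOfSurjective f hf θ₀ Hker
  have hθ : ∀ p, θ (f p) = Ideal.Quotient.mk K (eval a' p) := fun p => by
    rw [← hθ₀]
    exact AlgHom.liftOfSurjective_apply f hf θ₀ Hker p
  haveI hAK : HenselianRing (A ⧸ K) (I.map (Ideal.Quotient.mk K)) := henselianRing_quotient A I K
  have hleθ : (I.map (algebraMap A R)).map (θ : R →+* A ⧸ K) ≤ I.map (Ideal.Quotient.mk K) := by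
    rw [Ideal.map_map]
    apply le_of_eq
    congr 1
    ext x
    simp
  obtain ⟨g, hg, -⟩ := hB.2 (A ⧸ K) (I.map (Ideal.Quotient.mk K)) (θ : R →+* A ⧸ K) hAK hleθ
  have hKker : ∀ x ∈ K, algebraMap A B x = 0 := by
    intro x hx
    have hsurj' : Function.Surjective (eval a' : MvPolynomial (Fin n) A →+* A) :=
      fun x => ⟨MvPolynomial.C x, eval_C _⟩
    obtain ⟨p, hp, rfl⟩ := (Ideal.mem_map_iff_of_surjective (eval a') hsurj').mp hx
    have hp' : f p = 0 := hp
    rw [← hc'p, ← hcc', hcp, hp', map_zero]
  let h : A ⧸ K →+* B := Ideal.Quotient.lift K (algebraMap A B) hKker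
  have hhg : (h.comp g).comp (algebraMap R B) = algebraMap R B := by
    rw [RingHom.comp_assoc, hg]
    refine RingHom.ext fun r => ?_
    obtain ⟨p, rfl⟩ := hf r
    show h (θ (f p)) = _
    rw [hθ, Ideal.Quotient.lift_mk, ← hc'p, ← hcc', hcp]
  obtain ⟨u, -, huniq⟩ := hB.2 B ((I.map (algebraMap A R)).map (algebraMap R B))
    (algebraMap R B) hB.1 le_rfl
  have hid : h.comp g = RingHom.id B :=
    (huniq _ hhg).trans (huniq _ (RingHom.id_comp _)).symm
  intro b
  obtain ⟨x, hx⟩ := Ideal.Quotient.mk_surjective (g b)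
  refine ⟨x, ?_⟩
  have := RingHom.congr_fun hid b
  simp only [RingHom.comp_apply, RingHom.id_apply] at this
  rw [← this, ← hx, Ideal.Quotient.lift_mk]

end Groth.Agent.Lib.Helper12.HfpSurj
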