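import Groth.Agent.Lib.Helper12.IdemLiftConverse
import Mathlib.RingTheory.Idempotents

set_option autoImplicit false
universe u v

/-!
# Henselian pairs from idempotent lifting in `A[T]/(p)`, `p ≡ (T² - T)^m`
-/

namespace Groth.Agent.Lib.Helper12

open Polynomial

theorem henselianRing_of_idempotents_lift_adjoinRoot (A : Type u) [CommRing A]
    (I : Ideal A) (hI : I ≤ Ideal.jacobson ⊥)
    (h : ∀ (m : ℕ) (p : A[X]), p.Monic →
      p.map (Ideal.Quotient.mk I) = ((X ^ 2 - X) ^ m : A[X]).map (Ideal.Quotient.mk I) →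
      Set.SurjOn (Ideal.Quotient.mk (Ideal.map (algebraMap A (AdjoinRoot p)) I))
        {e : AdjoinRoot p | IsIdempotentElem e} {e | IsIdempotentElem e}) :
    HenselianRing A I := by
  apply henselianRing_of_idemLiftFinite
  intro B _ _ hfin
  haveI := hfin
  haveI : Algebra.IsIntegral A B := Algebra.IsIntegral.of_finite A B
  refine ⟨fun e he => IsIdempotentElem.map he _, ?_, ?_⟩
  · intro e he e' he' hee
    apply idempotent_eq_of_sub_mem (map_le_jacobson_of_isIntegral hI B) he he'
    exact Ideal.Quotient.eq.mp hee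
  · intro x hx
    obtain ⟨b, rfl⟩ := Ideal.Quotient.mk_surjective x
    have hb : b * b - b ∈ I.map (algebraMap A B) := by
      rw [← Ideal.Quotient.eq, map_mul]
      exact hx
    rcases subsingleton_or_nontrivial A with hA | hA
    · have : Subsingleton B := by
        refine ⟨fun x y => ?_⟩
        have h1 : (1 : B) = 0 := by
          rw [← map_one (algebraMap A B), Subsingleton.elim (1 : A) 0, map_zero]
        rw [← mul_one x, ← mul_one y, h1, mul_zero, mul_zero]
      exact ⟨b, Subsingleton.elim _ _, rfl⟩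
    obtain ⟨n, F, hFm, hFmap, hFz⟩ := exists_monic_X_pow_of_mem_map (I := I) (b * b - b) hb
    set q : A[X] := X ^ 2 - X with hq
    have hq' : q = X * (X - C 1) := by rw [hq, C_1]; ring
    have hqm : q.Monic := by rw [hq']; exact monic_X.mul (monic_X_sub_C 1)
    have hqdeg : q.natDegree ≠ 0 := by
      rw [hq', monic_X.natDegree_mul (monic_X_sub_C 1), natDegree_X, natDegree_X_sub_C]
      norm_num
    set P : A[X] := F.comp q with hP
    have hPm : P.Monic := hFm.comp hqm hqdeg
    have hPmap : P.map (Ideal.Quotient.mk I) =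
        ((X ^ 2 - X) ^ (n + 1) : A[X]).map (Ideal.Quotient.mk I) := by
      rw [hP, Polynomial.map_comp, hFmap, X_pow_comp, Polynomial.map_pow]
    have hsurj := h (n + 1) P hPm hPmap
    have hPb : aeval b P = 0 := by
      rw [hP, aeval_comp]
      have : aeval b q = b * b - b := by
        rw [hq]
        simp
        ring
      rw [this, hFz]
    set t : AdjoinRoot P := AdjoinRoot.root P with ht
    set JC := Ideal.map (algebraMap A (AdjoinRoot P)) I with hJC
    have hnil : (t ^ 2 - t) ^ (n + 1) ∈ JC := by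
      have hmap : ((X ^ 2 - X) ^ (n + 1) - P : A[X]).map (Ideal.Quotient.mk I) = 0 := by
        rw [Polynomial.map_sub, hPmap, sub_self]
      have := aeval_mem_map_of_coeff_mem (coeff_mem_of_map_mk_eq_zero hmap) t
      rw [map_sub, AdjoinRoot.aeval_eq P, AdjoinRoot.mk_self, sub_zero, map_pow, map_sub, map_pow,
        aeval_X] at this
      exact this
    set tbar := Ideal.Quotient.mk JC t with htbar
    set zbar := tbar ^ 2 - tbar with hzbar
    have hznil : zbar ^ (n + 1) = 0 := by
      rw [hzbar, htbar, ← map_pow, ← map_sub, ← map_pow]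
      exact Ideal.Quotient.eq_zero_iff_mem.mpr hnil
    have hker : ∀ y ∈ RingHom.ker (Ideal.Quotient.mk (Ideal.span {zbar})), IsNilpotent y := by
      intro y hy
      rw [Ideal.mk_ker, Ideal.mem_span_singleton'] at hy
      obtain ⟨w, rfl⟩ := hy
      exact ⟨n + 1, by rw [mul_pow, hznil, mul_zero]⟩
    have hidem : IsIdempotentElem (Ideal.Quotient.mk (Ideal.span {zbar}) tbar) := by
      show _ * _ = _
      rw [← map_mul, Ideal.Quotient.eq]
      have : tbar * tbar - tbar = zbar := by rw [hzbar]; ring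
      rw [this]
      exact Ideal.mem_span_singleton_self _
    obtain ⟨εbar, hεidem, hεeq⟩ := exists_isIdempotentElem_eq_of_ker_isNilpotent
      (Ideal.Quotient.mk (Ideal.span {zbar})) hker _ ⟨tbar, rfl⟩ hidem
    obtain ⟨cbar, hcbar⟩ := Ideal.mem_span_singleton'.mp (Ideal.Quotient.eq.mp hεeq)
    obtain ⟨ε, hεi, hεmk⟩ := hsurj hεidem
    obtain ⟨c, rfl⟩ := Ideal.Quotient.mk_surjective cbar
    have hεmem : ε - (t + c * (t ^ 2 - t)) ∈ JC := by
      rw [← Ideal.Quotient.eq, hεmk, map_add, map_mul, map_sub, map_pow, ← htbar, ← hzbar, hcbar]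
      ring
    let ψ : AdjoinRoot P →ₐ[A] B := AdjoinRoot.liftAlgHom P (Algebra.ofId A B) b hPb
    have hψt : ψ t = b := AdjoinRoot.liftAlgHom_root _ _ _ _
    have hψJ : ∀ y ∈ JC, ψ y ∈ I.map (algebraMap A B) := by
      have : JC ≤ (I.map (algebraMap A B)).comap (ψ : AdjoinRoot P →+* B) := by
        rw [hJC, Ideal.map_le_iff_le_comap]
        intro a ha
        rw [Ideal.mem_comap, Ideal.mem_comap]
        show ψ (algebraMap A (AdjoinRoot P) a) ∈ _
        rw [AlgHom.commutes]
        exact Ideal.mem_map_of_mem _ ha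
      intro y hy
      exact this hy
    refine ⟨ψ ε, IsIdempotentElem.map hεi ψ, ?_⟩
    rw [Ideal.Quotient.eq]
    have h1 := hψJ _ hεmem
    rw [map_sub, map_add, map_mul, map_sub, map_pow, hψt] at h1
    have : ψ ε - b = (ψ ε - (b + ψ c * (b ^ 2 - b))) + ψ c * (b * b - b) := by ring
    rw [this]
    exact Ideal.add_mem _ h1 (Ideal.mul_mem_left _ _ hb)

end Groth.Agent.Lib.Helper12
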