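import Groth.Agent.Lib.Helper12.IdemLift

set_option autoImplicit false
universe u v

/-!
# Lifting idempotents in noncommutative algebras over a henselian pair
-/

namespace Groth.Agent.Lib.Helper12

open Polynomial

variable {A : Type u} [CommRing A] {I : Ideal A}

/-- The polynomial identity behind idempotent lifting. -/
theorem exists_coprime_factor_of_monic_X_pow [Nontrivial A] (hjac : I ≤ Ideal.jacobson ⊥)
    (hfl : FactorLift I) (n : ℕ) (F : A[X]) (hFm : F.Monic)
    (hFmap : F.map (Ideal.Quotient.mk I) = X ^ (n + 1)) :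
    ∃ g h r s : A[X], F.comp (X * (X - C 1)) = g * h ∧
      g.map (Ideal.Quotient.mk I) = X ^ (n + 1) ∧
      h.map (Ideal.Quotient.mk I) = (X - C 1) ^ (n + 1) ∧ r * g + s * h = 1 := by
  set q : A[X] := X * (X - C 1) with hq
  have hqm : q.Monic := monic_X.mul (monic_X_sub_C 1)
  have hqdeg : q.natDegree ≠ 0 := by
    rw [hq, monic_X.natDegree_mul (monic_X_sub_C 1), natDegree_X, natDegree_X_sub_C]
    norm_num
  set P : A[X] := F.comp q with hP
  have hPm : P.Monic := hFm.comp hqm hqdeg
  set g₀ : (A ⧸ I)[X] := X ^ (n + 1) with hg₀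
  set h₀ : (A ⧸ I)[X] := (X - C 1) ^ (n + 1) with hh₀
  have hPmap : P.map (Ideal.Quotient.mk I) = g₀ * h₀ := by
    rw [hP, Polynomial.map_comp, hFmap, X_pow_comp, hq, hg₀, hh₀, ← mul_pow]
    simp
  have hcop₀ : IsCoprime g₀ h₀ := by
    apply IsCoprime.pow
    exact ⟨1, -1, by ring_nf; simp⟩
  obtain ⟨g, h, hg, hh, hfgh, hgmap, hhmap⟩ :=
    hfl P hPm g₀ h₀ (monic_X_pow _) ((monic_X_sub_C 1).pow _) hcop₀ hPmap
  have hcop : IsCoprime g h := by
    apply isCoprime_of_isCoprime_map_mk hjac hg hh
    rw [hgmap, hhmap]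
    exact hcop₀
  obtain ⟨r, s, hrs⟩ := hcop
  exact ⟨g, h, r, s, hfgh, hgmap, hhmap, hrs⟩

theorem aeval_eq_zero_of_coeff_mem {M' : Type*} [Ring M'] [Algebra A M']
    (hI : ∀ a ∈ I, algebraMap A M' a = 0) {p : A[X]} (hp : ∀ i, p.coeff i ∈ I) (β : M') :
    aeval β p = 0 := by
  rw [aeval_eq_sum_range]
  apply Finset.sum_eq_zero
  intro i _
  rw [Algebra.smul_def, hI _ (hp i), zero_mul]

/-- Idempotent lifting along `π : M → M'` for possibly noncommutative algebras over a henselian
pair `(A, I)`, where `I M' = 0` and `b * b - b` is killed by a monic polynomial congruent to a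
power of `X`. -/
theorem exists_idempotent_lift_nc (hjac : I ≤ Ideal.jacobson ⊥) (hfl : FactorLift I)
    {M M' : Type*} [Ring M] [Ring M'] [Algebra A M] [Algebra A M'] (π : M →ₐ[A] M')
    (hI : ∀ a ∈ I, algebraMap A M' a = 0) (b : M) (hb : IsIdempotentElem (π b))
    (n : ℕ) (F : A[X]) (hFm : F.Monic) (hFmap : F.map (Ideal.Quotient.mk I) = X ^ (n + 1))
    (hFz : aeval (b * b - b) F = 0) :
    ∃ e : M, IsIdempotentElem e ∧ π e = π b := by
  rcases subsingleton_or_nontrivial A with hA | hA
  · have : Subsingleton M := by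
      refine ⟨fun x y => ?_⟩
      have h1 : (1 : M) = 0 := by
        rw [← map_one (algebraMap A M), Subsingleton.elim (1 : A) 0, map_zero]
      rw [← mul_one x, ← mul_one y, h1, mul_zero, mul_zero]
    exact ⟨b, Subsingleton.elim _ _, rfl⟩
  obtain ⟨g, h, r, s, hfgh, hgmap, hhmap, hrs⟩ :=
    exists_coprime_factor_of_monic_X_pow hjac hfl n F hFm hFmap
  set β := π b with hβ
  have hββ : β * β = β := hb
  have hπ : ∀ p : A[X], π (aeval b p) = aeval β p := fun p =>
    (aeval_algHom_apply π b p).symm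
  -- `P(b) = 0`
  have hPb : aeval b (g * h) = 0 := by
    rw [← hfgh, aeval_comp]
    have : aeval b (X * (X - C 1) : A[X]) = b * b - b := by
      rw [map_mul, map_sub, aeval_X, aeval_C, map_one, mul_sub, mul_one]
    rw [this, hFz]
  have hsum : aeval b (r * g) + aeval b (s * h) = 1 := by
    rw [← map_add, hrs, map_one]
  refine ⟨aeval b (r * g), ?_, ?_⟩
  · show aeval b (r * g) * aeval b (r * g) = aeval b (r * g)
    have h0 : aeval b (r * g) * aeval b (s * h) = 0 := by
      rw [← map_mul]
      have : r * g * (s * h) = (r * s) * (g * h) := by ring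
      rw [this, map_mul, hPb, mul_zero]
    have h1 : aeval b (s * h) = 1 - aeval b (r * g) := by
      rw [← hsum]; abel
    rw [h1, mul_sub, mul_one, sub_eq_zero] at h0
    exact h0.symm
  · rw [hπ]
    -- reductions of `g` and `h`
    have hG : aeval β g = β ^ (n + 1) := by
      have hmap : (g - X ^ (n + 1)).map (Ideal.Quotient.mk I) = 0 := by
        rw [Polynomial.map_sub, hgmap, Polynomial.map_pow, map_X, sub_self]
      have := aeval_eq_zero_of_coeff_mem hI (coeff_mem_of_map_mk_eq_zero hmap) β
      rw [map_sub, map_pow, aeval_X, sub_eq_zero] at this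
      exact this
    have hH : aeval β h = (β - 1) ^ (n + 1) := by
      have hmap : (h - (X - C 1) ^ (n + 1)).map (Ideal.Quotient.mk I) = 0 := by
        rw [Polynomial.map_sub, hhmap, Polynomial.map_pow, Polynomial.map_sub, map_X, map_C,
          map_one]
        simp
      have := aeval_eq_zero_of_coeff_mem hI (coeff_mem_of_map_mk_eq_zero hmap) β
      rw [map_sub, map_pow, map_sub, aeval_X, aeval_C, map_one, sub_eq_zero] at this
      exact this
    have hβpow : β ^ (n + 1) = β := IsIdempotentElem.pow_succ_eq n hb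
    have hsumβ : aeval β r * β + aeval β s * (β - 1) ^ (n + 1) = 1 := by
      have := congrArg (aeval β) hrs
      rw [map_add, map_mul, map_mul, hG, hH, hβpow, map_one] at this
      exact this
    have h2 : (β - 1) ^ (n + 1) * β = 0 := by
      rw [pow_succ, mul_assoc, sub_mul, one_mul, hββ, sub_self, mul_zero]
    rw [map_mul, hG, hβpow]
    have h3 : aeval β r * β = 1 - aeval β s * (β - 1) ^ (n + 1) := eq_sub_of_add_eq hsumβ
    calc aeval β r * β = aeval β r * (β * β) := by rw [hββ]
      _ = (aeval β r * β) * β := by rw [mul_assoc]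
      _ = (1 - aeval β s * (β - 1) ^ (n + 1)) * β := by rw [h3]
      _ = β - aeval β s * ((β - 1) ^ (n + 1) * β) := by rw [sub_mul, one_mul, mul_assoc]
      _ = β := by rw [h2, mul_zero, sub_zero]

end Groth.Agent.Lib.Helper12
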