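import Mathlib
import Groth.Agent.Lib.Helper12.ImmGenA
import Groth.Agent.Lib.Helper12.BrnchDimG

/-!
# Completions of `S/pS` and `S'/pÂS'` (towards S16578)
-/

set_option autoImplicit false
set_option linter.style.haveILetI false
universe u

namespace Groth.Agent.Lib.Helper12.ImmGen

open IsLocalRing

theorem mem_map_mk_iff {S : Type u} [CommRing S] (𝔞 J : Ideal S) (s : S) :
    Ideal.Quotient.mk 𝔞 s ∈ J.map (Ideal.Quotient.mk 𝔞) ↔ s ∈ J ⊔ 𝔞 := by
  rw [← Ideal.mem_comap, Ideal.comap_map_of_surjective _ Ideal.Quotient.mk_surjective,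
    ← RingHom.ker_eq_comap_bot, Ideal.mk_ker]

theorem maximalIdeal_quotient {S : Type u} [CommRing S] [IsLocalRing S] (𝔞 : Ideal S)
    [IsLocalRing (S ⧸ 𝔞)] :
    maximalIdeal (S ⧸ 𝔞) = (maximalIdeal S).map (Ideal.Quotient.mk 𝔞) := by
  have hne : 𝔞 ≠ ⊤ := by
    intro h
    have : Subsingleton (S ⧸ 𝔞) := Ideal.Quotient.subsingleton_iff.mpr h
    exact not_subsingleton (S ⧸ 𝔞) this
  have hmax : ((maximalIdeal S).map (Ideal.Quotient.mk 𝔞)).IsMaximal :=
    Ideal.IsMaximal.map_of_surjective_of_ker_le Ideal.Quotient.mk_surjective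
      (by rw [Ideal.mk_ker]; exact IsLocalRing.le_maximalIdeal hne)
  exact (IsLocalRing.eq_maximalIdeal hmax).symm

/-- the quotients `S/pS` and `S'/pÂS'` of the strict henselizations of `A` and of its completion
have isomorphic completions -/
theorem nonempty_cpl_quotient_ringEquiv (A : Type u) [CommRing A] [IsLocalRing A]
    [IsNoetherianRing A]
    (S : Type u) [CommRing S] [IsLocalRing S] [Algebra A S] [IsLocalHom (algebraMap A S)]
    [Hensel.IsStrictHenselization A S]
    (S' : Type u) [CommRing S'] [IsLocalRing S'] [Algebra (AdicCompletion (maximalIdeal A) A) S']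
    [IsLocalHom (algebraMap (AdicCompletion (maximalIdeal A) A) S')]
    [Hensel.IsStrictHenselization (AdicCompletion (maximalIdeal A) A) S']
    (p : Ideal A) (hp : p ≠ ⊤)
    [IsLocalRing (S ⧸ p.map (algebraMap A S))]
    [IsLocalRing (S' ⧸ (p.map (algebraMap A (AdicCompletion (maximalIdeal A) A))).map
      (algebraMap (AdicCompletion (maximalIdeal A) A) S'))] :
    Nonempty (AdicCompletion (maximalIdeal (S ⧸ p.map (algebraMap A S)))
        (S ⧸ p.map (algebraMap A S)) ≃+*
      AdicCompletion (maximalIdeal (S' ⧸ (p.map (algebraMap A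
          (AdicCompletion (maximalIdeal A) A))).map
          (algebraMap (AdicCompletion (maximalIdeal A) A) S')))
        (S' ⧸ (p.map (algebraMap A (AdicCompletion (maximalIdeal A) A))).map
          (algebraMap (AdicCompletion (maximalIdeal A) A) S'))) := by
  obtain ⟨φ, hφ, hφloc⟩ := StrictIso.exists_map (A := A) (B := AdicCompletion (maximalIdeal A) A)
    (S := S) (S' := S') (AdicCompletion.residueField_map_bijective A).2
  haveI := hφloc
  haveI : Module.FaithfullyFlat A (AdicCompletion (maximalIdeal A) A) :=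
    Module.FaithfullyFlat.of_flat_of_isLocalHom
  have hmS : maximalIdeal S = (maximalIdeal A).map (algebraMap A S) :=
    (Groth.Agent.S0538.result A S).symm
  have hmS' : maximalIdeal S' = ((maximalIdeal A).map
      (algebraMap A (AdicCompletion (maximalIdeal A) A))).map
      (algebraMap (AdicCompletion (maximalIdeal A) A) S') := by
    rw [← AdicCompletion.maximalIdeal_eq_map]
    exact (Groth.Agent.S0538.result (AdicCompletion (maximalIdeal A) A) S').symm
  have hpowS : ∀ n, maximalIdeal S ^ n = (maximalIdeal A ^ n).map (algebraMap A S) := fun n => by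
    rw [hmS, Ideal.map_pow]
  have hpowS' : ∀ n, maximalIdeal S' ^ n = ((maximalIdeal A ^ n).map
      (algebraMap A (AdicCompletion (maximalIdeal A) A))).map
      (algebraMap (AdicCompletion (maximalIdeal A) A) S') := fun n => by
    rw [hmS', Ideal.map_pow, Ideal.map_pow]
  have hle : ∀ I : Ideal A, I.map (algebraMap A S) ≤
      ((I.map (algebraMap A (AdicCompletion (maximalIdeal A) A))).map
        (algebraMap (AdicCompletion (maximalIdeal A) A) S')).comap φ := fun I => by
    rw [Ideal.map_le_iff_le_comap]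
    intro a ha
    rw [Ideal.mem_comap, Ideal.mem_comap]
    have h1 : φ (algebraMap A S a) = algebraMap (AdicCompletion (maximalIdeal A) A) S'
        (algebraMap A (AdicCompletion (maximalIdeal A) A) a) := RingHom.congr_fun hφ a
    rw [h1]
    exact Ideal.mem_map_of_mem _ (Ideal.mem_map_of_mem _ ha)
  have hbase : ∀ (n : ℕ) (I : Ideal A), maximalIdeal A ^ n ≤ I →
      Function.Bijective (Ideal.quotientMap
      (I.map (algebraMap A (AdicCompletion (maximalIdeal A) A)))
      (algebraMap A (AdicCompletion (maximalIdeal A) A)) Ideal.le_comap_map) := fun n I hI => by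
    constructor
    · rw [injective_iff_map_eq_zero]
      intro x hx
      obtain ⟨a, rfl⟩ := Ideal.Quotient.mk_surjective x
      rw [Ideal.quotientMap_mk, Ideal.Quotient.eq_zero_iff_mem] at hx
      refine Ideal.Quotient.eq_zero_iff_mem.mpr ?_
      rw [← Ideal.comap_map_eq_self_of_faithfullyFlat
        (B := AdicCompletion (maximalIdeal A) A) I]
      exact hx
    · intro y
      obtain ⟨y, rfl⟩ := Ideal.Quotient.mk_surjective y
      obtain ⟨a, ha⟩ := Henselization.exists_sub_algebraMap_mem n y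
      refine ⟨Ideal.Quotient.mk _ a, ?_⟩
      rw [Ideal.quotientMap_mk, eq_comm, Ideal.Quotient.eq]
      exact Ideal.map_mono hI ha
  have hpm : p ≤ maximalIdeal A := IsLocalRing.le_maximalIdeal hp
  have hbij : ∀ n, 0 < n → Function.Bijective
      (Ideal.quotientMap _ φ (hle (maximalIdeal A ^ n ⊔ p))) := fun n hn =>
    StrictIso.quotient_bijective φ hφ (maximalIdeal A ^ n ⊔ p)
      (fun h => by
        have h1 : maximalIdeal A ^ n ⊔ p ≤ maximalIdeal A :=
          sup_le (Ideal.pow_le_self hn.ne') hpm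
        rw [h] at h1
        exact (maximalIdeal.isMaximal A).ne_top (top_le_iff.mp h1))
      (hbase n _ le_sup_left) (hle _)
  -- the quotient rings
  set 𝔞 : Ideal S := p.map (algebraMap A S) with h𝔞
  set 𝔞' : Ideal S' := (p.map (algebraMap A (AdicCompletion (maximalIdeal A) A))).map
      (algebraMap (AdicCompletion (maximalIdeal A) A) S') with h𝔞'
  let φq : (S ⧸ 𝔞) →+* (S' ⧸ 𝔞') := Ideal.quotientMap 𝔞' φ (hle p)
  have hφq : ∀ s, φq (Ideal.Quotient.mk 𝔞 s) = Ideal.Quotient.mk 𝔞' (φ s) := fun s =>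
    Ideal.quotientMap_mk
  have hmR : ∀ n, maximalIdeal (S ⧸ 𝔞) ^ n =
      ((maximalIdeal A ^ n).map (algebraMap A S)).map (Ideal.Quotient.mk 𝔞) := fun n => by
    rw [maximalIdeal_quotient, ← Ideal.map_pow, hpowS]
  have hmR' : ∀ n, maximalIdeal (S' ⧸ 𝔞') ^ n =
      (((maximalIdeal A ^ n).map (algebraMap A (AdicCompletion (maximalIdeal A) A))).map
      (algebraMap (AdicCompletion (maximalIdeal A) A) S')).map (Ideal.Quotient.mk 𝔞') := fun n => by
    rw [maximalIdeal_quotient, ← Ideal.map_pow, hpowS']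
  have hmem : ∀ n s, Ideal.Quotient.mk 𝔞 s ∈ maximalIdeal (S ⧸ 𝔞) ^ n ↔
      s ∈ (maximalIdeal A ^ n ⊔ p).map (algebraMap A S) := fun n s => by
    rw [hmR, mem_map_mk_iff, Ideal.map_sup]
  have hmem' : ∀ n s, Ideal.Quotient.mk 𝔞' s ∈ maximalIdeal (S' ⧸ 𝔞') ^ n ↔
      s ∈ ((maximalIdeal A ^ n ⊔ p).map (algebraMap A (AdicCompletion (maximalIdeal A) A))).map
      (algebraMap (AdicCompletion (maximalIdeal A) A) S') := fun n s => by
    rw [hmR', mem_map_mk_iff, Ideal.map_sup, Ideal.map_sup]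
  have c1 : ∀ n, maximalIdeal (S ⧸ 𝔞) ^ n ≤ (maximalIdeal (S' ⧸ 𝔞') ^ n).comap φq.toIntAlgHom := by
    intro n x hx
    obtain ⟨s, rfl⟩ := Ideal.Quotient.mk_surjective x
    rw [Ideal.mem_comap]
    change φq (Ideal.Quotient.mk 𝔞 s) ∈ _
    rw [hφq, hmem']
    rw [hmem] at hx
    exact hle _ hx
  have c2 : ∀ n x, φq.toIntAlgHom x ∈ maximalIdeal (S' ⧸ 𝔞') ^ n →
      x ∈ maximalIdeal (S ⧸ 𝔞) ^ n := by
    intro n x hx
    obtain ⟨s, rfl⟩ := Ideal.Quotient.mk_surjective x
    change φq (Ideal.Quotient.mk 𝔞 s) ∈ _ at hx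
    rw [hφq, hmem'] at hx
    rcases Nat.eq_zero_or_pos n with rfl | hn
    · rw [pow_zero, Ideal.one_eq_top]; exact Submodule.mem_top
    · rw [hmem]
      have h1 : Ideal.quotientMap _ φ (hle (maximalIdeal A ^ n ⊔ p)) (Ideal.Quotient.mk _ s) = 0 := by
        rw [Ideal.quotientMap_mk]
        exact Ideal.Quotient.eq_zero_iff_mem.mpr hx
      have h2 := (hbij n hn).1 (h1.trans (map_zero _).symm)
      exact Ideal.Quotient.eq_zero_iff_mem.mp h2
  have c3 : ∀ n y, ∃ x, y - φq.toIntAlgHom x ∈ maximalIdeal (S' ⧸ 𝔞') ^ n := by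
    intro n y
    rcases Nat.eq_zero_or_pos n with rfl | hn
    · exact ⟨0, by rw [pow_zero, Ideal.one_eq_top]; exact Submodule.mem_top⟩
    · obtain ⟨t, rfl⟩ := Ideal.Quotient.mk_surjective y
      obtain ⟨sbar, hs⟩ := (hbij n hn).2 (Ideal.Quotient.mk _ t)
      obtain ⟨s, rfl⟩ := Ideal.Quotient.mk_surjective sbar
      refine ⟨Ideal.Quotient.mk 𝔞 s, ?_⟩
      change Ideal.Quotient.mk 𝔞' t - φq (Ideal.Quotient.mk 𝔞 s) ∈ _
      rw [hφq, ← map_sub, hmem']
      rw [Ideal.quotientMap_mk] at hs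
      exact Ideal.Quotient.eq.mp hs.symm
  obtain ⟨e⟩ := Groth.Agent.Lib.Helper5.ComplIso.complEquiv (R := ℤ) φq.toIntAlgHom
    (maximalIdeal (S ⧸ 𝔞)) (maximalIdeal (S' ⧸ 𝔞')) c1 c2 c3
  exact ⟨e.toRingEquiv⟩

end Groth.Agent.Lib.Helper12.ImmGen
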