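import Mathlib
import Groth.Agent.Lib.Helper12.ImmGenB
import Groth.Agent.Lib.Helper12.HensFCB
import Groth.Agent.Lib.Helper12.StrictStruct
import Groth.Agent.Lib.Helper29.HenselUniv
import Groth.Agent.S0540

/-!
# Immediate étale generizations and completion (S16578)
-/

set_option autoImplicit false
set_option linter.style.haveILetI false
universe u

namespace Groth.Agent.Lib.Helper12.ImmGen

open IsLocalRing

/-- F4 -/
theorem exists_minimalPrimes_dim_one_iff {S : Type u} [CommRing S] (I : Ideal S) :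
    (∃ P ∈ I.minimalPrimes, ringKrullDim (S ⧸ P) = 1) ↔ H1 (S ⧸ I) := by
  constructor
  · rintro ⟨P, hP, hdim⟩
    rw [Ideal.minimalPrimes_eq_comap] at hP
    obtain ⟨Pbar, hPbar, rfl⟩ := hP
    exact ⟨Pbar, hPbar, by rw [HensFC.ringKrullDim_quot_quot]; exact hdim⟩
  · rintro ⟨Pbar, hPbar, hdim⟩
    refine ⟨Pbar.comap (Ideal.Quotient.mk I), ?_, ?_⟩
    · rw [Ideal.minimalPrimes_eq_comap]; exact ⟨Pbar, hPbar, rfl⟩
    · rw [← HensFC.ringKrullDim_quot_quot]; exact hdim

/-- going down: a prime minimal over the extension of a prime `q` along a flat map lies over `q` -/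
theorem comap_eq_of_minimal_over_map {R T : Type u} [CommRing R] [CommRing T] [Algebra R T]
    [Module.Flat R T] {q : Ideal R} [hqprime : q.IsPrime] {P : Ideal T}
    (hP : P ∈ (q.map (algebraMap R T)).minimalPrimes) :
    P.comap (algebraMap R T) = q := by
  haveI hPprime : P.IsPrime := hP.1.1
  have hle : q ≤ P.comap (algebraMap R T) := Ideal.map_le_iff_le_comap.mp hP.1.2
  haveI : (P.comap (algebraMap R T)).IsPrime := Ideal.comap_isPrime _ _
  haveI : P.LiesOver (P.comap (algebraMap R T)) := ⟨rfl⟩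
  obtain ⟨P', hP'le, hP'prime, hP'over⟩ :=
    Ideal.exists_ideal_le_liesOver_of_le (p := q) (q := P.comap (algebraMap R T)) P hle
  have h3 : q = P'.comap (algebraMap R T) := hP'over.over
  have h4 : Ideal.map (algebraMap R T) q ≤ P' := by
    rw [Ideal.map_le_iff_le_comap]
    exact h3.le
  have h5 : P ≤ P' := hP.2 ⟨hP'prime, h4⟩ hP'le
  have h6 : P' = P := le_antisymm hP'le h5
  rw [h3, h6]

/-- F5: minimal primes over `J T` are the minimal primes over `q T`, `q` minimal over `J` -/
theorem exists_minimalPrimes_map_iff {R T : Type u} [CommRing R] [CommRing T] [Algebra R T]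
    [Module.Flat R T] (J : Ideal R) (X : Ideal T → Prop) :
    (∃ q ∈ J.minimalPrimes, ∃ Q ∈ (q.map (algebraMap R T)).minimalPrimes, X Q) ↔
      (∃ Q ∈ (J.map (algebraMap R T)).minimalPrimes, X Q) := by
  constructor
  · rintro ⟨q, hq, Q, hQ, hX⟩
    refine ⟨Q, ?_, hX⟩
    haveI : q.IsPrime := hq.1.1
    haveI : Q.IsPrime := hQ.1.1
    have hcomap := comap_eq_of_minimal_over_map hQ
    refine ⟨⟨hQ.1.1, (Ideal.map_mono hq.1.2).trans hQ.1.2⟩, ?_⟩
    intro Q' hQ' hle
    haveI : Q'.IsPrime := hQ'.1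
    have h1 : J ≤ Q'.comap (algebraMap R T) := Ideal.map_le_iff_le_comap.mp hQ'.2
    have h2 : Q'.comap (algebraMap R T) ≤ q := hcomap ▸ Ideal.comap_mono hle
    have h3 : q ≤ Q'.comap (algebraMap R T) := hq.2 ⟨Ideal.comap_isPrime _ _, h1⟩ h2
    exact hQ.2 ⟨hQ'.1, Ideal.map_le_iff_le_comap.mpr h3⟩ hle
  · rintro ⟨Q, hQ, hX⟩
    haveI : Q.IsPrime := hQ.1.1
    have h1 : J ≤ Q.comap (algebraMap R T) := Ideal.map_le_iff_le_comap.mp hQ.1.2
    obtain ⟨q, hq, hqle⟩ := Ideal.exists_minimalPrimes_le h1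
    refine ⟨q, hq, Q, ?_, hX⟩
    refine ⟨⟨hQ.1.1, Ideal.map_le_iff_le_comap.mpr hqle⟩, ?_⟩
    intro Q' hQ' hle
    exact hQ.2 ⟨hQ'.1, (Ideal.map_mono hq.1.2).trans hQ'.2⟩ hle

theorem isLocalRing_quotient_map {A S : Type u} [CommRing A] [IsLocalRing A] [CommRing S]
    [IsLocalRing S] [Algebra A S] [IsLocalHom (algebraMap A S)] (p : Ideal A) (hp : p ≠ ⊤) :
    IsLocalRing (S ⧸ p.map (algebraMap A S)) := by
  have hne : p.map (algebraMap A S) ≠ ⊤ := by
    intro h
    have h1 : p.map (algebraMap A S) ≤ maximalIdeal S := by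
      rw [Ideal.map_le_iff_le_comap, IsLocalRing.maximalIdeal_comap]
      exact IsLocalRing.le_maximalIdeal hp
    rw [h] at h1
    exact (maximalIdeal.isMaximal _).ne_top (top_le_iff.mp h1)
  haveI : Nontrivial (S ⧸ p.map (algebraMap A S)) := Ideal.Quotient.nontrivial_iff.mpr hne
  exact IsLocalRing.of_surjective' (Ideal.Quotient.mk _) Ideal.Quotient.mk_surjective

/-- S16578 -/
theorem immediateEtaleGenerization_iff_completion
    (A : Type u) [CommRing A] [IsNoetherianRing A] [IsLocalRing A]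
    (S' : Type u) [CommRing S'] [IsLocalRing S'] [Algebra A S'] [IsLocalHom (algebraMap A S')]
    [Hensel.IsStrictHenselization A S']
    (T' : Type u) [CommRing T'] [IsLocalRing T']
    [Algebra (AdicCompletion (IsLocalRing.maximalIdeal A) A) T']
    [IsLocalHom (algebraMap (AdicCompletion (IsLocalRing.maximalIdeal A) A) T')]
    [Hensel.IsStrictHenselization (AdicCompletion (IsLocalRing.maximalIdeal A) A) T']
    (p : Ideal A) [hpp : p.IsPrime] :
    (∃ P ∈ (p.map (algebraMap A S')).minimalPrimes, ringKrullDim (S' ⧸ P) = 1) ↔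
    (∃ q ∈ (p.map (algebraMap A (AdicCompletion (IsLocalRing.maximalIdeal A) A))).minimalPrimes,
      ∃ Q ∈ (q.map (algebraMap (AdicCompletion (IsLocalRing.maximalIdeal A) A) T')).minimalPrimes,
        ringKrullDim (T' ⧸ Q) = 1) := by
  haveI : Module.Flat (AdicCompletion (maximalIdeal A) A) T' :=
    StrictStruct.flat_of_isStrictHenselization (AdicCompletion (maximalIdeal A) A) T'
  rw [exists_minimalPrimes_map_iff (R := AdicCompletion (maximalIdeal A) A) (T := T')
    (p.map (algebraMap A (AdicCompletion (IsLocalRing.maximalIdeal A) A)))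
    (fun Q => ringKrullDim (T' ⧸ Q) = 1),
    exists_minimalPrimes_dim_one_iff, exists_minimalPrimes_dim_one_iff]
  have hp : p ≠ ⊤ := hpp.ne_top
  have hp' : p.map (algebraMap A (AdicCompletion (IsLocalRing.maximalIdeal A) A)) ≠ ⊤ := by
    intro h
    have h1 : p.map (algebraMap A (AdicCompletion (IsLocalRing.maximalIdeal A) A)) ≤
        maximalIdeal (AdicCompletion (IsLocalRing.maximalIdeal A) A) := by
      rw [Ideal.map_le_iff_le_comap, IsLocalRing.maximalIdeal_comap]
      exact IsLocalRing.le_maximalIdeal hp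
    rw [h] at h1
    exact (maximalIdeal.isMaximal _).ne_top (top_le_iff.mp h1)
  haveI hloc1 : IsLocalRing (S' ⧸ p.map (algebraMap A S')) := isLocalRing_quotient_map p hp
  haveI hloc2 : IsLocalRing (T' ⧸ (p.map (algebraMap A (AdicCompletion (maximalIdeal A) A))).map
      (algebraMap (AdicCompletion (maximalIdeal A) A) T')) := isLocalRing_quotient_map _ hp'
  haveI : IsNoetherianRing S' := (Groth.Agent.S0540.result A S').mp inferInstance
  haveI : IsNoetherianRing T' :=
    (Groth.Agent.S0540.result (AdicCompletion (maximalIdeal A) A) T').mp inferInstance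
  haveI : HenselianLocalRing S' := Hensel.IsStrictHenselization.henselian (R := A)
  haveI : HenselianLocalRing T' :=
    Hensel.IsStrictHenselization.henselian (R := AdicCompletion (maximalIdeal A) A)
  haveI hh1 : HenselianLocalRing (S' ⧸ p.map (algebraMap A S')) :=
    Groth.Agent.Lib.Helper29.henselian_quotient S' _
  haveI hh2 : HenselianLocalRing
      (T' ⧸ (p.map (algebraMap A (AdicCompletion (maximalIdeal A) A))).map
      (algebraMap (AdicCompletion (maximalIdeal A) A) T')) :=
    Groth.Agent.Lib.Helper29.henselian_quotient T' _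
  obtain ⟨e⟩ := nonempty_cpl_quotient_ringEquiv A S' T' p hp
  rw [← H1_completion_iff (S' ⧸ p.map (algebraMap A S')),
    ← H1_completion_iff (T' ⧸ (p.map (algebraMap A (AdicCompletion (maximalIdeal A) A))).map
      (algebraMap (AdicCompletion (maximalIdeal A) A) T'))]
  exact ⟨H1_of_ringEquiv e, H1_of_ringEquiv e.symm⟩

end Groth.Agent.Lib.Helper12.ImmGen
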