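import Groth.Agent.Lib.Helper12.IndEtStage
import Mathlib.RingTheory.Etale.Field
import Mathlib.RingTheory.Unramified.Field

/-!
# Ind-étale algebras over a field
-/

set_option autoImplicit false
universe u

namespace Groth.Agent.Lib.Helper12.IndEtField

variable (K F : Type u) [Field K] [CommRing F] [Algebra K F] (hF : EtPBC.IsIndEtale K F)

include hF

theorem isReduced : IsReduced F := by
  refine ⟨fun x ⟨n, hn⟩ => ?_⟩
  obtain ⟨E, _, _, _, φ, y, rfl, hz⟩ := IndEtStage.exists_stage K F hF x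
  obtain ⟨E', _, _, _, ψ, φ', hcomp, hψ⟩ := hz (y ^ n) (by rw [map_pow, hn])
  haveI : IsReduced E' := Algebra.FormallyUnramified.isReduced_of_field K E'
  have h1 : ψ y = 0 := by
    have : IsNilpotent (ψ y) := ⟨n, by rw [← map_pow, hψ]⟩
    exact this.eq_zero
  rw [← hcomp, AlgHom.comp_apply, h1, map_zero]

theorem isIntegral : Algebra.IsIntegral K F := by
  refine ⟨fun x => ?_⟩
  obtain ⟨E, _, _, _, φ, y, rfl, -⟩ := IndEtStage.exists_stage K F hF x
  haveI : Module.Finite K E := Algebra.FormallyUnramified.finite_of_free K E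
  exact (Algebra.IsIntegral.isIntegral (R := K) y).map φ

theorem isSeparable_map {L : Type u} [Field L] [Algebra K L] (θ : F →ₐ[K] L) (x : F) :
    IsSeparable K (θ x) := by
  obtain ⟨E, _, _, _, φ, y, rfl, -⟩ := IndEtStage.exists_stage K F hF x
  let χ : E →ₐ[K] L := θ.comp φ
  haveI : (RingHom.ker χ).IsPrime := RingHom.ker_isPrime χ
  haveI : Algebra.IsSeparable K (E ⧸ RingHom.ker χ) := inferInstance
  let ι : (E ⧸ RingHom.ker χ) →ₐ[K] L := Ideal.Quotient.liftₐ (RingHom.ker χ) χ (fun a ha => ha)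
  have hι : Function.Injective ι := by
    rw [injective_iff_map_eq_zero]
    intro a ha
    obtain ⟨a, rfl⟩ := Ideal.Quotient.mk_surjective a
    rw [Ideal.Quotient.eq_zero_iff_mem]
    exact ha
  have h1 : θ (φ y) = ι (Ideal.Quotient.mk _ y) := rfl
  rw [h1]
  have h2 : IsSeparable K (Ideal.Quotient.mk (RingHom.ker χ) y) :=
    Algebra.IsSeparable.isSeparable K _
  unfold IsSeparable at h2 ⊢
  rwa [minpoly.algHom_eq ι hι]

end Groth.Agent.Lib.Helper12.IndEtField
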