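import Groth.Agent.Lib.Helper9.IndEt3
import Groth.Agent.Lib.Helper12.EtaleHomLift

/-!
# Ind-étale algebras lift uniquely along henselian pairs
-/

set_option autoImplicit false
set_option linter.style.haveILetI false
universe u

namespace Groth.Agent.Lib.Helper12.IndEtLift

open CategoryTheory CategoryTheory.Limits

/-- Maps out of an ind-étale algebra lift uniquely along a henselian pair. -/
theorem existsUnique_algHom_lift (R S : Type u) [CommRing R] [CommRing S] [Algebra R S]
    (hS : EtPBC.IsIndEtale R S) (T : Type u) [CommRing T] [Algebra R T] (J : Ideal T)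
    [HenselianRing T J] (v : S →ₐ[R] T ⧸ J) :
    ∃! φ : S →ₐ[R] T, ∀ x, Ideal.Quotient.mk J (φ x) = v x := by
  classical
  obtain ⟨I, _, _, D, c, hc, hEt, ⟨e⟩⟩ := hS
  letI : ∀ j, Algebra R (D.obj j).right := fun j => (D.obj j).hom.hom.toAlgebra
  haveI : ∀ j, Algebra.Etale R (D.obj j).right := hEt
  let ψ₀ : ∀ j, (D.obj j).right →+* S := fun j => ((c.ι.app j).right ≫ e.hom.right).hom
  have hψA : ∀ j (a : R), ψ₀ j (algebraMap R _ a) = algebraMap R S a := by
    intro j a
    have h1 := congrArg (fun g => g.hom a) (Under.w (c.ι.app j ≫ e.hom))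
    exact h1
  let ψ : ∀ j, (D.obj j).right →ₐ[R] S := fun j =>
    { toRingHom := ψ₀ j, commutes' := hψA j }
  have hψt : ∀ {j j' : I} (a : j ⟶ j') (x : (D.obj j).right),
      ψ j' ((D.map a).right.hom x) = ψ j x := by
    intro j j' a x
    have h1 := congrArg (fun g => g.right.hom x) (c.w a)
    show e.hom.right.hom ((c.ι.app j').right.hom ((D.map a).right.hom x)) =
      e.hom.right.hom ((c.ι.app j).right.hom x)
    exact congrArg e.hom.right.hom h1
  have hτA : ∀ {j j' : I} (a : j ⟶ j') (r : R),
      (D.map a).right.hom (algebraMap R _ r) = algebraMap R _ r := by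
    intro j j' a r
    have h1 := congrArg (fun g => g.hom r) (Under.w (D.map a))
    exact h1
  let τ : ∀ {j j' : I} (a : j ⟶ j'), (D.obj j).right →ₐ[R] (D.obj j').right := fun a =>
    { toRingHom := (D.map a).right.hom, commutes' := hτA a }
  have hl : ∀ j, ∃ φ : (D.obj j).right →ₐ[R] T, ∀ x, Ideal.Quotient.mk J (φ x) = v (ψ j x) :=
    fun j => exists_algHom_lift_of_etale_of_henselianRing J (v.comp (ψ j))
  choose ℓ hℓ using hl
  have hcompat : ∀ {j j' : I} (a : j ⟶ j'), (ℓ j').comp (τ a) = ℓ j := by
    intro j j' a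
    apply algHom_eq_of_henselianRing J
    intro x
    rw [← Ideal.Quotient.eq]
    show Ideal.Quotient.mk J (ℓ j' ((D.map a).right.hom x)) = Ideal.Quotient.mk J (ℓ j x)
    rw [hℓ, hℓ, hψt]
  let t : Cocone D :=
    { pt := Under.mk (CommRingCat.ofHom (algebraMap R T))
      ι :=
        { app := fun j => Under.homMk (CommRingCat.ofHom (ℓ j).toRingHom) (by
            ext r
            exact (ℓ j).commutes r)
          naturality := by
            intro j j' a
            ext x
            show ℓ j' ((D.map a).right.hom x) = ℓ j x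
            exact AlgHom.congr_fun (hcompat a) x } }
  let d : c.pt ⟶ t.pt := hc.desc t
  have hd : ∀ j (y : (D.obj j).right), d.right.hom ((c.ι.app j).right.hom y) = ℓ j y := by
    intro j y
    have h1 := congrArg (fun g => g.right.hom y) (hc.fac t j)
    exact h1
  have hinv : ∀ z : c.pt.right, e.inv.right.hom (e.hom.right.hom z) = z := by
    intro z
    have h1 := congrArg (fun g => g.right.hom z) e.hom_inv_id
    exact h1
  have hinv' : ∀ s : S, e.hom.right.hom (e.inv.right.hom s) = s := by
    intro s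
    have h1 := congrArg (fun g => g.right.hom s) e.inv_hom_id
    exact h1
  let φ : S →ₐ[R] T :=
    { toRingHom := (e.inv ≫ d).right.hom
      commutes' := fun r => congrArg (fun g => g.hom r) (Under.w (e.inv ≫ d)) }
  have hφψ : ∀ j (y : (D.obj j).right), φ (ψ j y) = ℓ j y := by
    intro j y
    show d.right.hom (e.inv.right.hom (e.hom.right.hom ((c.ι.app j).right.hom y))) = ℓ j y
    rw [hinv, hd]
  have hsurj : ∀ s : S, ∃ (j : I) (y : (D.obj j).right), ψ j y = s := by
    intro s
    obtain ⟨j, y, hy⟩ := Groth.Agent.Lib.Helper9.IndEt.colim_surj D c hc (e.inv.right.hom s)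
    refine ⟨j, y, ?_⟩
    show e.hom.right.hom ((c.ι.app j).right.hom y) = s
    rw [hy, hinv']
  refine ⟨φ, ?_, ?_⟩
  · intro s
    obtain ⟨j, y, rfl⟩ := hsurj s
    rw [hφψ, hℓ]
  · intro φ' hφ'
    have h1 : ∀ j, φ'.comp (ψ j) = ℓ j := by
      intro j
      apply algHom_eq_of_henselianRing J
      intro x
      rw [← Ideal.Quotient.eq]
      show Ideal.Quotient.mk J (φ' (ψ j x)) = _
      rw [hφ', hℓ]
    apply AlgHom.ext
    intro s
    obtain ⟨j, y, rfl⟩ := hsurj s
    rw [hφψ]
    exact AlgHom.congr_fun (h1 j) y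

end Groth.Agent.Lib.Helper12.IndEtLift
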