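import Mathlib
import Groth.Prelude.Def_PBC

/-!
# A localization of an étale algebra is ind-étale
-/

set_option autoImplicit false
universe u

namespace Groth.Agent.Lib.Helper12.IndEtLoc

open CategoryTheory CategoryTheory.Limits

section loc

/-- The elements of `M`, ordered by divisibility. -/
structure DivIdx (S : Type u) [CommRing S] (M : Submonoid S) : Type u where
  val : M

variable {S : Type u} [CommRing S] {M : Submonoid S}

instance : Preorder (DivIdx S M) where
  le a b := (a.val : S) ∣ (b.val : S)
  le_refl a := dvd_refl _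
  le_trans a b c := dvd_trans

theorem DivIdx.le_def (a b : DivIdx S M) : a ≤ b ↔ (a.val : S) ∣ (b.val : S) := Iff.rfl

instance : Nonempty (DivIdx S M) := ⟨⟨1⟩⟩

instance : IsDirected (DivIdx S M) (· ≤ ·) :=
  ⟨fun a b => ⟨⟨a.val * b.val⟩, by
    rw [DivIdx.le_def]; exact ⟨(b.val : S), by simp⟩, by
    rw [DivIdx.le_def]; exact ⟨(a.val : S), by simp [mul_comm]⟩⟩⟩

/-- the localization `S[1/a]` -/
abbrev Aw (a : DivIdx S M) : Type u := Localization.Away (a.val : S)

theorem isUnit_of_le {a b : DivIdx S M} (h : a ≤ b) :
    IsUnit (algebraMap S (Aw b) (a.val : S)) := by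
  obtain ⟨c, hc⟩ := (DivIdx.le_def a b).1 h
  have h1 : IsUnit (algebraMap S (Aw b) (b.val : S)) :=
    IsLocalization.Away.algebraMap_isUnit _
  have h2 := congrArg (algebraMap S (Aw b)) hc
  rw [h2, map_mul] at h1
  exact isUnit_of_mul_isUnit_left h1

theorem hom_ext_away {a : DivIdx S M} {P : Type*} [CommRing P] (f g : Aw a →+* P)
    (h : f.comp (algebraMap S (Aw a)) = g.comp (algebraMap S (Aw a))) : f = g :=
  IsLocalization.ringHom_ext (Submonoid.powers (a.val : S)) h

/-- transition maps -/
noncomputable def trans {a b : DivIdx S M} (h : a ≤ b) : Aw a →+* Aw b :=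
  IsLocalization.Away.lift (a.val : S) (isUnit_of_le h)

theorem trans_algebraMap {a b : DivIdx S M} (h : a ≤ b) (x : S) :
    trans h (algebraMap S (Aw a) x) = algebraMap S (Aw b) x :=
  IsLocalization.Away.lift_eq _ _ x

theorem trans_comp_algebraMap {a b : DivIdx S M} (h : a ≤ b) :
    (trans h).comp (algebraMap S (Aw a)) = algebraMap S (Aw b) :=
  IsLocalization.Away.lift_comp _ _

variable (S M)

/-- the diagram of the localizations `S[1/f]`, `f ∈ M` -/
noncomputable def diag : DivIdx S M ⥤ CommRingCat.{u} where
  obj a := CommRingCat.of (Aw a)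
  map {a b} h := CommRingCat.ofHom (trans (leOfHom h))
  map_id a := by
    apply CommRingCat.hom_ext
    show trans (le_refl a) = RingHom.id (Aw a)
    apply hom_ext_away
    rw [trans_comp_algebraMap]
    rfl
  map_comp {a b c} f g := by
    apply CommRingCat.hom_ext
    show trans ((leOfHom f).trans (leOfHom g)) = (trans (leOfHom g)).comp (trans (leOfHom f))
    apply hom_ext_away
    rw [trans_comp_algebraMap, RingHom.comp_assoc, trans_comp_algebraMap, trans_comp_algebraMap]

/-- the map `S[1/f] → M⁻¹S` -/
noncomputable def toLoc (a : DivIdx S M) : Aw a →+* Localization M :=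
  IsLocalization.Away.lift (a.val : S) (g := algebraMap S (Localization M))
    (IsLocalization.map_units (Localization M) a.val)

theorem toLoc_comp_algebraMap (a : DivIdx S M) :
    (toLoc S M a).comp (algebraMap S (Aw a)) = algebraMap S (Localization M) :=
  IsLocalization.Away.lift_comp _ _

noncomputable def cocone : Cocone (diag S M) where
  pt := CommRingCat.of (Localization M)
  ι := { app := fun a => CommRingCat.ofHom (toLoc S M a)
         naturality := fun a b h => by
          apply CommRingCat.hom_ext
          show (toLoc S M b).comp (trans (leOfHom h)) = (RingHom.id _).comp (toLoc S M a)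
          rw [RingHom.id_comp]
          apply hom_ext_away
          rw [RingHom.comp_assoc, trans_comp_algebraMap, toLoc_comp_algebraMap,
            toLoc_comp_algebraMap] }

variable {S M}

/-- the legs of a cocone, as ring homomorphisms -/
noncomputable def leg (t : Cocone (diag S M)) (a : DivIdx S M) : Aw a →+* t.pt :=
  (t.ι.app a).hom

theorem leg_trans (t : Cocone (diag S M)) {a b : DivIdx S M} (h : a ≤ b) :
    (leg t b).comp (trans h) = leg t a := by
  have h1 := t.w (homOfLE h)
  have h2 := congrArg CommRingCat.Hom.hom h1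
  exact h2

/-- all legs of a cocone restrict to the same map on `S` -/
theorem leg_comp (t : Cocone (diag S M)) (a b : DivIdx S M) :
    (leg t a).comp (algebraMap S (Aw a)) = (leg t b).comp (algebraMap S (Aw b)) := by
  obtain ⟨c, hac, hbc⟩ := exists_ge_ge a b
  rw [← leg_trans t hac, ← leg_trans t hbc, RingHom.comp_assoc, RingHom.comp_assoc,
    trans_comp_algebraMap, trans_comp_algebraMap]

theorem leg_isUnit (t : Cocone (diag S M)) (a : DivIdx S M) (m : M) :
    IsUnit (((leg t a).comp (algebraMap S (Aw a))) (m : S)) := by
  rw [leg_comp t a ⟨m⟩]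
  have h1 : IsUnit (algebraMap S (Aw (⟨m⟩ : DivIdx S M)) (m : S)) :=
    IsLocalization.Away.algebraMap_isUnit _
  exact h1.map (leg t ⟨m⟩)

noncomputable def descHom (t : Cocone (diag S M)) : Localization M →+* t.pt :=
  IsLocalization.lift (M := M)
    (g := (leg t ⟨1⟩).comp (algebraMap S (Aw (⟨1⟩ : DivIdx S M))))
    (fun m => leg_isUnit t ⟨1⟩ m)

theorem descHom_comp (t : Cocone (diag S M)) :
    (descHom t).comp (algebraMap S (Localization M)) =
      (leg t ⟨1⟩).comp (algebraMap S (Aw (⟨1⟩ : DivIdx S M))) :=
  IsLocalization.lift_comp _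

noncomputable def isColimitCocone : IsColimit (cocone S M) where
  desc t := CommRingCat.ofHom (descHom t)
  fac t a := by
    apply CommRingCat.hom_ext
    show (descHom t).comp (toLoc S M a) = leg t a
    apply hom_ext_away
    rw [RingHom.comp_assoc, toLoc_comp_algebraMap, descHom_comp, leg_comp t a ⟨1⟩]
  uniq t m hm := by
    have key : ∀ f : Localization M →+* t.pt, f.comp (toLoc S M ⟨1⟩) = leg t ⟨1⟩ →
        f = descHom t := by
      intro f hf
      apply IsLocalization.ringHom_ext M
      rw [descHom_comp, ← hf, RingHom.comp_assoc, toLoc_comp_algebraMap]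
    apply CommRingCat.hom_ext
    have h1 := congrArg CommRingCat.Hom.hom (hm ⟨1⟩)
    exact key m.hom h1

variable (S M) (R : Type u) [CommRing R] [Algebra R S]

noncomputable def str : (Functor.const (DivIdx S M)).obj (CommRingCat.of R) ⟶ diag S M where
  app a := CommRingCat.ofHom (algebraMap R (Aw a))
  naturality := fun a b h => by
    apply CommRingCat.hom_ext
    apply RingHom.ext
    intro (x : R)
    show algebraMap R (Aw b) x = trans (leOfHom h) (algebraMap R (Aw a) x)
    rw [IsScalarTower.algebraMap_apply R S (Aw a), trans_algebraMap,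
      ← IsScalarTower.algebraMap_apply]

/-- A localization of an étale algebra is ind-étale. -/
theorem isIndEtale_localization [Algebra.Etale R S] : EtPBC.IsIndEtale R (Localization M) := by
  refine ⟨DivIdx S M, inferInstance, inferInstance, Under.lift _ (str S M R),
    Under.liftCocone _ _ (cocone S M) (CommRingCat.ofHom (algebraMap R (Localization M))) ?_,
    Under.isColimitLiftCocone _ _ _ _ _ isColimitCocone, ?_, ⟨Iso.refl _⟩⟩
  · intro a
    apply CommRingCat.hom_ext
    apply RingHom.ext
    intro (x : R)
    show toLoc S M a (algebraMap R (Aw a) x) = algebraMap R (Localization M) x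
    rw [IsScalarTower.algebraMap_apply R S (Aw a),
      IsScalarTower.algebraMap_apply R S (Localization M)]
    exact IsLocalization.Away.lift_eq _ _ _
  · intro a
    have e : ((Under.lift _ (str S M R)).obj a).hom.hom.toAlgebra =
        (inferInstance : Algebra R (Aw a)) :=
      Algebra.algebra_ext _ _ (fun _ => rfl)
    show @Algebra.Etale R (Aw a) _ _ ((Under.lift _ (str S M R)).obj a).hom.hom.toAlgebra
    rw [e]
    exact Algebra.Etale.comp R S (Localization.Away (a.val : S))

end loc

end Groth.Agent.Lib.Helper12.IndEtLoc
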