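import Mathlib
import Groth.Prelude.Def_PBC
import Groth.Agent.Lib.Helper9.IndEt2

/-!
# A directed union of ind-étale subalgebras is ind-étale
-/

set_option autoImplicit false
universe u

namespace Groth.Agent.Lib.Helper12.IndEtUnion

open CategoryTheory CategoryTheory.Limits

section union

variable (R B : Type u) [CommRing R] [CommRing B] [Algebra R B]
  {ι : Type u} [Preorder ι] [IsDirected ι (· ≤ ·)] [Nonempty ι]
  (T : ι → Subalgebra R B) (hT : Monotone T) (hcov : ∀ b : B, ∃ i, b ∈ T i)

/-- the diagram of the subalgebras in `CommRingCat` -/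
noncomputable def diag : ι ⥤ CommRingCat.{u} where
  obj i := CommRingCat.of (T i)
  map {i j} h := CommRingCat.ofHom (Subalgebra.inclusion (hT (leOfHom h))).toRingHom
  map_id i := by ext x; rfl
  map_comp f g := by ext x; rfl

noncomputable def cocone : Cocone (diag R B T hT) where
  pt := CommRingCat.of B
  ι := { app := fun i => CommRingCat.ofHom (T i).val.toRingHom
         naturality := fun i j h => by ext x; rfl }

variable {R B T hT}

lemma cocone_app_eq (t : Cocone (diag R B T hT)) {i j : ι} (h : i ≤ j) (x : T i) :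
    (t.ι.app j).hom (Subalgebra.inclusion (hT h) x) = (t.ι.app i).hom x := by
  have := t.w (homOfLE h)
  rw [← this]
  rfl

lemma cocone_app_eq' (t : Cocone (diag R B T hT)) {i j : ι} (b : B) (hi : b ∈ T i)
    (hj : b ∈ T j) : (t.ι.app i).hom ⟨b, hi⟩ = (t.ι.app j).hom ⟨b, hj⟩ := by
  obtain ⟨k, hik, hjk⟩ := exists_ge_ge i j
  rw [← cocone_app_eq t hik, ← cocone_app_eq t hjk]
  rfl

/-- the descent map -/
noncomputable def descFun (hcov : ∀ b : B, ∃ i, b ∈ T i) (t : Cocone (diag R B T hT)) (b : B) :
    t.pt :=
  (t.ι.app (Classical.choose (hcov b))).hom ⟨b, Classical.choose_spec (hcov b)⟩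

lemma descFun_eq (t : Cocone (diag R B T hT)) (i : ι) (b : B) (hb : b ∈ T i) :
    descFun hcov t b = (t.ι.app i).hom ⟨b, hb⟩ :=
  cocone_app_eq' t b _ hb

noncomputable def descHom (t : Cocone (diag R B T hT)) : B →+* t.pt where
  toFun := descFun hcov t
  map_one' := by
    obtain ⟨i⟩ := ‹Nonempty ι›
    rw [descFun_eq hcov t i 1 (one_mem _)]
    exact map_one (t.ι.app i).hom
  map_zero' := by
    obtain ⟨i⟩ := ‹Nonempty ι›
    rw [descFun_eq hcov t i 0 (zero_mem _)]
    exact map_zero (t.ι.app i).hom
  map_mul' a b := by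
    obtain ⟨i, hi⟩ := hcov a
    obtain ⟨j, hj⟩ := hcov b
    obtain ⟨k, hik, hjk⟩ := exists_ge_ge i j
    have ha : a ∈ T k := hT hik hi
    have hb : b ∈ T k := hT hjk hj
    rw [descFun_eq hcov t k a ha, descFun_eq hcov t k b hb,
      descFun_eq hcov t k (a * b) (mul_mem ha hb), ← map_mul]
    rfl
  map_add' a b := by
    obtain ⟨i, hi⟩ := hcov a
    obtain ⟨j, hj⟩ := hcov b
    obtain ⟨k, hik, hjk⟩ := exists_ge_ge i j
    have ha : a ∈ T k := hT hik hi
    have hb : b ∈ T k := hT hjk hj
    rw [descFun_eq hcov t k a ha, descFun_eq hcov t k b hb,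
      descFun_eq hcov t k (a + b) (add_mem ha hb), ← map_add]
    rfl

noncomputable def isColimitCocone : IsColimit (cocone R B T hT) where
  desc t := CommRingCat.ofHom (descHom hcov t)
  fac t i := by
    apply CommRingCat.hom_ext
    apply RingHom.ext
    intro (x : T i)
    show descFun hcov t (x : B) = (t.ι.app i).hom x
    rw [descFun_eq hcov t i _ x.2]
  uniq t m hm := by
    apply CommRingCat.hom_ext
    apply RingHom.ext
    intro (b : B)
    obtain ⟨i, hb⟩ := hcov b
    show m.hom b = descFun hcov t b
    have := hm i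
    rw [descFun_eq hcov t i b hb, ← this]
    rfl

variable (R B T hT)

noncomputable def str : (Functor.const ι).obj (CommRingCat.of R) ⟶ diag R B T hT where
  app i := CommRingCat.ofHom (algebraMap R (T i))
  naturality := fun i j h => by
    apply CommRingCat.hom_ext
    apply RingHom.ext
    intro (x : R)
    rfl

include hT hcov in
/-- A directed union of ind-étale subalgebras is ind-étale. -/
theorem isIndEtale_of_directed_union (h : ∀ i, EtPBC.IsIndEtale R (T i)) :
    EtPBC.IsIndEtale R B := by
  refine Groth.Agent.Lib.Helper9.IndEt.isIndEtale_of_isColimit_filtered R B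
    (Under.lift _ (str R B T hT)) ?_
    (Under.liftCocone _ _ (cocone R B T hT) (CommRingCat.ofHom (algebraMap R B)) ?_)
    (Under.isColimitLiftCocone _ _ _ _ _ (isColimitCocone hcov)) (Iso.refl _)
  · intro i
    have e : ((Under.lift _ (str R B T hT)).obj i).hom.hom.toAlgebra =
        (inferInstance : Algebra R (T i)) := Algebra.algebra_ext _ _ (fun _ => rfl)
    show @EtPBC.IsIndEtale R (T i) _ _ ((Under.lift _ (str R B T hT)).obj i).hom.hom.toAlgebra
    rw [e]
    exact h i
  · intro i
    apply CommRingCat.hom_ext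
    apply RingHom.ext
    intro (x : R)
    rfl

end union

end Groth.Agent.Lib.Helper12.IndEtUnion
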