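import Mathlib
import Groth.Prelude.Def_PBC
import Groth.Agent.Lib.Helper12.IndEtUnion
import Groth.Agent.Lib.Helper12.IndEtLoc

/-!
# Rings which are directed unions of localizations of étale algebras are ind-étale
-/

set_option autoImplicit false
universe u

namespace Groth.Agent.Lib.Helper12.IndEtPieces

open CategoryTheory CategoryTheory.Limits

theorem isIndEtale_of_algEquiv {R B B' : Type u} [CommRing R] [CommRing B] [CommRing B']
    [Algebra R B] [Algebra R B'] (e : B ≃ₐ[R] B') (h : EtPBC.IsIndEtale R B) :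
    EtPBC.IsIndEtale R B' := by
  obtain ⟨J, hJ, hJf, D, c, hc, hEt, ⟨i⟩⟩ := h
  refine ⟨J, hJ, hJf, D, c, hc, hEt,
    ⟨i ≪≫ Under.isoMk (e.toRingEquiv.toCommRingCatIso) ?_⟩⟩
  apply CommRingCat.hom_ext
  apply RingHom.ext
  intro x
  exact e.commutes x

section pieces

variable (R B : Type u) [CommRing R] [CommRing B] [Algebra R B]

/-- A piece: an injective unit-reflecting algebra map from the localization at a prime of a
standard étale-presented algebra. -/
structure Piece : Type u where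
  n : ℕ
  I : Ideal (MvPolynomial (Fin n) R)
  etale : Algebra.Etale R (MvPolynomial (Fin n) R ⧸ I)
  q : Ideal (MvPolynomial (Fin n) R ⧸ I)
  prime : q.IsPrime
  ψ : Localization.AtPrime q →ₐ[R] B
  inj : Function.Injective ψ
  loc : ∀ x, IsUnit (ψ x) → IsUnit x

variable {R B}

attribute [instance] Piece.prime Piece.etale

open Classical in
/-- the images of the variables -/
noncomputable def Piece.gens (P : Piece R B) : Finset B :=
  Finset.univ.image fun k : Fin P.n =>
    P.ψ (algebraMap (MvPolynomial (Fin P.n) R ⧸ P.I) (Localization.AtPrime P.q)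
      (Ideal.Quotient.mk P.I (MvPolynomial.X k)))

theorem Piece.range_le (P P' : Piece R B) (h : ∀ x ∈ P.gens, x ∈ P'.ψ.range) :
    P.ψ.range ≤ P'.ψ.range := by
  classical
  -- images of all elements of the étale algebra
  have h1 : ∀ p : MvPolynomial (Fin P.n) R,
      P.ψ (algebraMap (MvPolynomial (Fin P.n) R ⧸ P.I) (Localization.AtPrime P.q)
        (Ideal.Quotient.mk P.I p)) ∈ P'.ψ.range := by
    intro p
    induction p using MvPolynomial.induction_on with
    | C r =>
      have : P.ψ (algebraMap (MvPolynomial (Fin P.n) R ⧸ P.I) (Localization.AtPrime P.q)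
          (Ideal.Quotient.mk P.I (MvPolynomial.C r))) = algebraMap R B r := by
        have e1 : (Ideal.Quotient.mk P.I (MvPolynomial.C r)) =
            algebraMap R (MvPolynomial (Fin P.n) R ⧸ P.I) r := rfl
        rw [e1, ← IsScalarTower.algebraMap_apply R (MvPolynomial (Fin P.n) R ⧸ P.I)
          (Localization.AtPrime P.q), AlgHom.commutes]
      rw [this]
      exact P'.ψ.range.algebraMap_mem r
    | add p q hp hq =>
      rw [map_add, map_add, map_add]
      exact add_mem hp hq
    | mul_X p k hp =>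
      rw [map_mul, map_mul, map_mul]
      refine mul_mem hp (h _ ?_)
      exact Finset.mem_image.2 ⟨k, Finset.mem_univ _, rfl⟩
  rintro _ ⟨x, rfl⟩
  obtain ⟨c, s, rfl⟩ := IsLocalization.exists_mk'_eq P.q.primeCompl x
  obtain ⟨pc, rfl⟩ := Ideal.Quotient.mk_surjective c
  obtain ⟨ps, hps⟩ := Ideal.Quotient.mk_surjective (s : MvPolynomial (Fin P.n) R ⧸ P.I)
  obtain ⟨yc, hyc0⟩ := h1 pc
  obtain ⟨ys, hys0⟩ := h1 ps
  have hyc : P'.ψ yc = P.ψ (algebraMap (MvPolynomial (Fin P.n) R ⧸ P.I)
      (Localization.AtPrime P.q) (Ideal.Quotient.mk P.I pc)) := hyc0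
  have hys : P'.ψ ys = P.ψ (algebraMap (MvPolynomial (Fin P.n) R ⧸ P.I)
      (Localization.AtPrime P.q) (s : MvPolynomial (Fin P.n) R ⧸ P.I)) := by
    rw [← hps]; exact hys0
  -- ys is a unit
  have hu : IsUnit (P'.ψ ys) := by
    rw [hys]
    exact (IsLocalization.map_units (Localization.AtPrime P.q) s).map P.ψ
  obtain ⟨u, hu'⟩ := P'.loc ys hu
  refine ⟨yc * ↑u⁻¹, ?_⟩
  have e := IsLocalization.mk'_spec (Localization.AtPrime P.q) (Ideal.Quotient.mk P.I pc) s
  have e2 : P.ψ (IsLocalization.mk' (Localization.AtPrime P.q) (Ideal.Quotient.mk P.I pc) s) *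
      P'.ψ ys = P'.ψ yc := by
    rw [hys, hyc, ← map_mul, e]
  show P'.ψ (yc * ↑u⁻¹) = _
  rw [map_mul, ← e2, mul_assoc, ← map_mul, ← hu', Units.mul_inv, map_one, mul_one]
  rfl

variable (R B)

/-- A ring in which every finite subset lies in a piece is ind-étale. -/
theorem isIndEtale_of_pieces (H : ∀ s : Finset B, ∃ P : Piece R B, ∀ x ∈ s, x ∈ P.ψ.range) :
    EtPBC.IsIndEtale R B := by
  classical
  let ι : Type u := {T : Subalgebra R B // ∃ P : Piece R B, T = P.ψ.range}
  haveI : Nonempty ι := by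
    obtain ⟨P, -⟩ := H ∅
    exact ⟨⟨P.ψ.range, P, rfl⟩⟩
  haveI : IsDirected ι (· ≤ ·) := by
    refine ⟨?_⟩
    rintro ⟨T₁, P₁, rfl⟩ ⟨T₂, P₂, rfl⟩
    obtain ⟨P₃, h3⟩ := H (P₁.gens ∪ P₂.gens)
    refine ⟨⟨P₃.ψ.range, P₃, rfl⟩, ?_, ?_⟩
    · exact Piece.range_le P₁ P₃ (fun x hx => h3 x (Finset.mem_union_left _ hx))
    · exact Piece.range_le P₂ P₃ (fun x hx => h3 x (Finset.mem_union_right _ hx))
  refine Groth.Agent.Lib.Helper12.IndEtUnion.isIndEtale_of_directed_union R B
    (fun i : ι => i.1) (fun i j h => h) ?_ ?_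
  · intro b
    obtain ⟨P, hP⟩ := H {b}
    exact ⟨⟨P.ψ.range, P, rfl⟩, hP b (Finset.mem_singleton_self b)⟩
  · rintro ⟨T, P, rfl⟩
    have h1 : EtPBC.IsIndEtale R (Localization.AtPrime P.q) :=
      Groth.Agent.Lib.Helper12.IndEtLoc.isIndEtale_localization
        (MvPolynomial (Fin P.n) R ⧸ P.I) P.q.primeCompl R
    exact isIndEtale_of_algEquiv (AlgEquiv.ofInjective P.ψ P.inj) h1

end pieces

end Groth.Agent.Lib.Helper12.IndEtPieces
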