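import Groth.Agent.Lib.Helper9.IndEt3

/-!
# Concrete description of elements of an ind-étale algebra
-/

set_option autoImplicit false
set_option linter.style.haveILetI false
universe u

namespace Groth.Agent.Lib.Helper12.IndEtStage

open CategoryTheory CategoryTheory.Limits

/-- Every element of an ind-étale algebra comes from an étale algebra, and vanishing is detected
at a further étale stage. -/
theorem exists_stage (R S : Type u) [CommRing R] [CommRing S] [Algebra R S]
    (hS : EtPBC.IsIndEtale R S) (s : S) :
    ∃ (E : Type u) (_ : CommRing E) (_ : Algebra R E) (_ : Algebra.Etale R E) (φ : E →ₐ[R] S)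
      (y : E), φ y = s ∧ ∀ z : E, φ z = 0 →
        ∃ (E' : Type u) (_ : CommRing E') (_ : Algebra R E') (_ : Algebra.Etale R E')
          (ψ : E →ₐ[R] E') (φ' : E' →ₐ[R] S), φ'.comp ψ = φ ∧ ψ z = 0 := by
  classical
  obtain ⟨I, _, _, D, c, hc, hEt, ⟨e⟩⟩ := hS
  letI : ∀ j, Algebra R (D.obj j).right := fun j => (D.obj j).hom.hom.toAlgebra
  haveI : ∀ j, Algebra.Etale R (D.obj j).right := hEt
  let ψ₀ : ∀ j, (D.obj j).right →+* S := fun j => ((c.ι.app j).right ≫ e.hom.right).hom
  have hψA : ∀ j (a : R), ψ₀ j (algebraMap R _ a) = algebraMap R S a := by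
    intro j a
    have h1 := congrArg (fun g => g.hom a) (Under.w (c.ι.app j ≫ e.hom))
    exact h1
  let ψ : ∀ j, (D.obj j).right →ₐ[R] S := fun j =>
    { toRingHom := ψ₀ j, commutes' := hψA j }
  have hψt : ∀ {j j' : I} (a : j ⟶ j') (x : (D.obj j).right),
      ψ j' ((D.map a).right.hom x) = ψ j x := by
    intro j j' a x
    have h1 := congrArg (fun g => g.right.hom x) (c.w a)
    show e.hom.right.hom ((c.ι.app j').right.hom ((D.map a).right.hom x)) =
      e.hom.right.hom ((c.ι.app j).right.hom x)
    exact congrArg e.hom.right.hom h1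
  have hτA : ∀ {j j' : I} (a : j ⟶ j') (r : R),
      (D.map a).right.hom (algebraMap R _ r) = algebraMap R _ r := by
    intro j j' a r
    have h1 := congrArg (fun g => g.hom r) (Under.w (D.map a))
    exact h1
  let τ : ∀ {j j' : I} (a : j ⟶ j'), (D.obj j).right →ₐ[R] (D.obj j').right := fun a =>
    { toRingHom := (D.map a).right.hom, commutes' := hτA a }
  have hinv : ∀ z : c.pt.right, e.inv.right.hom (e.hom.right.hom z) = z := by
    intro z
    have h1 := congrArg (fun g => g.right.hom z) e.hom_inv_id
    exact h1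
  have hinv' : ∀ s : S, e.hom.right.hom (e.inv.right.hom s) = s := by
    intro s
    have h1 := congrArg (fun g => g.right.hom s) e.inv_hom_id
    exact h1
  obtain ⟨j, y, hy⟩ := Groth.Agent.Lib.Helper9.IndEt.colim_surj D c hc (e.inv.right.hom s)
  refine ⟨(D.obj j).right, inferInstance, inferInstance, inferInstance, ψ j, y, ?_, ?_⟩
  · show e.hom.right.hom ((c.ι.app j).right.hom y) = s
    rw [hy, hinv']
  · intro z hz
    have hz' : (c.ι.app j).right.hom z = (c.ι.app j).right.hom 0 := by
      have h1 : e.hom.right.hom ((c.ι.app j).right.hom z) = 0 := hz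
      have h2 := congrArg e.inv.right.hom h1
      rw [hinv, map_zero] at h2
      rw [h2, map_zero]
    obtain ⟨j', a, ha⟩ := Groth.Agent.Lib.Helper9.IndEt.colim_inj D c hc j z 0 hz'
    refine ⟨(D.obj j').right, inferInstance, inferInstance, inferInstance, τ a, ψ j', ?_, ?_⟩
    · apply AlgHom.ext
      intro x
      exact hψt a x
    · show (D.map a).right.hom z = 0
      rw [ha, map_zero]

end Groth.Agent.Lib.Helper12.IndEtStage
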