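import Mathlib

/-!
# Inertia groups and inseparable degree (general residue fields)

For a finite group `G` with `IsGaloisGroup G R S`, a prime `P` of `S` over `p`:
* `card_stabilizer_eq_card_inertia_mul_finSepDegree`: `|D| = |I| · [κ(P):κ(p)]_s`;
* `card_inertia_eq_ramificationIdx_mul_finInsepDegree`: `|I| = e(P|p) · [κ(P):κ(p)]_i`
  (for `S` a domain, finite and flat over the domain `R`).
-/

namespace Groth.Agent.Lib.Helper12.InertiaEt

open Ideal

theorem card_aut_eq_finSepDegree (K L : Type*) [Field K] [Field L] [Algebra K L] [Normal K L] :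
    Nat.card (L ≃ₐ[K] L) = Field.finSepDegree K L := by
  rw [Field.finSepDegree_eq_of_isAlgClosed K L (AlgebraicClosure L)]
  exact (Nat.card_congr (Normal.algHomEquivAut K (AlgebraicClosure L) L)).symm

section

variable {R S G : Type*} [CommRing R] [CommRing S] [Algebra R S] [Group G]
  [MulSemiringAction G S] [IsGaloisGroup G R S] [Finite G]

open scoped Pointwise

theorem card_stabilizer_eq_card_inertia_mul_finSepDegree (p : Ideal R) [p.IsPrime]
    (P : Ideal S) [P.LiesOver p] [P.IsPrime]
    [Algebra (Localization.AtPrime p) (Localization.AtPrime P)]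
    [Localization.AtPrime.IsLiesOverAlgebra p P] :
    Nat.card (MulAction.stabilizer G P) =
      Nat.card (inertia G P) * Field.finSepDegree p.ResidueField P.ResidueField := by
  have heq : (algebraMap (S ⧸ P) P.ResidueField).comp (algebraMap (R ⧸ p) (S ⧸ P)) =
      (algebraMap p.ResidueField P.ResidueField).comp (algebraMap (R ⧸ p) p.ResidueField) := by
    ext
    simp [← IsScalarTower.algebraMap_apply]
  let := ((algebraMap (S ⧸ P) P.ResidueField).comp (algebraMap (R ⧸ p) (S ⧸ P))).toAlgebra
  have : IsScalarTower (R ⧸ p) (S ⧸ P) P.ResidueField := .of_algebraMap_eq' rfl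
  have : IsScalarTower (R ⧸ p) p.ResidueField P.ResidueField := .of_algebraMap_eq' heq
  have : Normal p.ResidueField P.ResidueField :=
    Ideal.IsFractionRing.normal G p P p.ResidueField P.ResidueField
  have : Subgroup.index _ = _ := Nat.card_congr
    (IsFractionRing.stabilizerQuotientInertiaEquiv G p P p.ResidueField P.ResidueField).toEquiv
  rw [← card_aut_eq_finSepDegree p.ResidueField P.ResidueField, ← this,
    ← ((inertia G P).subgroupOf (MulAction.stabilizer G P)).card_mul_index,
    Nat.card_congr (Subgroup.subgroupOfEquivOfLe (inertia_le_stabilizer (M := G) P)).toEquiv,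
    AddSubgroup.subgroupOf_inertia]

theorem ncard_primesOver_mul_card_stabilizer (p : Ideal R) [p.IsPrime]
    (P : Ideal S) [P.LiesOver p] [P.IsPrime] :
    (p.primesOver S).ncard * Nat.card (MulAction.stabilizer G P) = Nat.card G := by
  rw [← Algebra.IsInvariant.orbit_eq_primesOver R S G p P]
  simpa using Nat.card_congr (MulAction.orbitProdStabilizerEquivGroup G P)

/-- `|I| = e · [κ(P):κ(p)]_i`, without any assumption on the residue fields. -/
theorem card_inertia_eq_ramificationIdx_mul_finInsepDegree [IsDomain R] [IsDomain S]
    [Module.Finite R S] [Module.Flat R S]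
    (p : Ideal R) [p.IsPrime] (P : Ideal S) [P.LiesOver p] [P.IsPrime]
    [Algebra (Localization.AtPrime p) (Localization.AtPrime P)]
    [Localization.AtPrime.IsLiesOverAlgebra p P] :
    Nat.card (inertia G P) =
      P.ramificationIdx R * Field.finInsepDegree p.ResidueField P.ResidueField := by
  have H1 := ncard_primesOver_mul_ramificationIdxIn_mul_inertiaDegIn p S G
  rw [ramificationIdxIn_eq_ramificationIdx p P G, inertiaDegIn_eq_inertiaDeg p P G,
    inertiaDeg_eq p P, ← Field.finSepDegree_mul_finInsepDegree,
    ← ncard_primesOver_mul_card_stabilizer (G := G) p P,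
    card_stabilizer_eq_card_inertia_mul_finSepDegree (G := G) p P] at H1
  have hg : (p.primesOver S).ncard ≠ 0 := by
    intro h0
    have := ncard_primesOver_mul_card_stabilizer (G := G) p P
    rw [h0, zero_mul] at this
    exact Nat.card_pos.ne this
  have : Module.Finite p.ResidueField P.ResidueField := inferInstance
  have hs : Field.finSepDegree p.ResidueField P.ResidueField ≠ 0 := NeZero.ne _
  have H2 := Nat.eq_of_mul_eq_mul_left (Nat.pos_of_ne_zero hg) H1
  have H3 : Field.finSepDegree p.ResidueField P.ResidueField *
      (P.ramificationIdx R * Field.finInsepDegree p.ResidueField P.ResidueField) =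
      Field.finSepDegree p.ResidueField P.ResidueField * Nat.card (inertia G P) := by
    linear_combination H2
  exact (Nat.eq_of_mul_eq_mul_left (Nat.pos_of_ne_zero hs) H3).symm

end

end Groth.Agent.Lib.Helper12.InertiaEt
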