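import Mathlib

/-!
# Unramifiedness from `e = 1` and separable residue field; localization at a maximal ideal of a
semilocal one-dimensional domain is a localization away from an element.
-/

namespace Groth.Agent.Lib.Helper12.InertiaEt

open Ideal IsLocalRing

theorem isUnramifiedAt_of_ramificationIdx_eq_one {R S : Type*} [CommRing R] [CommRing S]
    [Algebra R S] [Algebra.EssFiniteType R S]
    (p : Ideal R) [p.IsPrime] (q : Ideal S) [q.IsPrime] [q.LiesOver p]
    [Algebra (Localization.AtPrime p) (Localization.AtPrime q)]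
    [Localization.AtPrime.IsLiesOverAlgebra p q]
    (hsep : Algebra.IsSeparable p.ResidueField q.ResidueField)
    (h : q.ramificationIdx R = 1) : Algebra.IsUnramifiedAt R q := by
  rw [Algebra.isUnramifiedAt_iff_map_eq R p q]
  refine ⟨hsep, ?_⟩
  rw [ramificationIdx_eq p q, ENat.toNat_eq_iff_eq_natCast, Nat.cast_one, Module.length_eq_one_iff,
    isSimpleModule_iff_isCoatom, ← Ideal.isMaximal_def, IsLocalRing.isMaximal_iff] at h
  exact h

/-- In a domain of dimension `≤ 1` with finitely many maximal ideals, the localization at a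
maximal ideal is the localization away from one element. -/
theorem exists_isLocalization_atPrime_away {S : Type*} [CommRing S] [IsDomain S]
    [Ring.DimensionLEOne S] (hfin : {Q : Ideal S | Q.IsMaximal}.Finite)
    (P : Ideal S) [hP : P.IsMaximal] :
    ∃ f : S, f ∉ P ∧ IsLocalization.AtPrime (Localization.Away f) P := by
  classical
  set T : Finset (Ideal S) := hfin.toFinset.erase P with hT
  have hnot : ¬ (T.prod fun Q => Q) ≤ P := by
    intro hle
    obtain ⟨Q, hQT, hQP⟩ := (Ideal.IsPrime.prod_le hP.isPrime).mp hle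
    rw [hT, Finset.mem_erase, Set.Finite.mem_toFinset] at hQT
    exact hQT.1 (hQT.2.eq_of_le hP.ne_top hQP)
  obtain ⟨f, hfT, hfP⟩ := SetLike.not_le_iff_exists.mp hnot
  refine ⟨f, hfP, ?_⟩
  have h₁ : Submonoid.powers f ≤ P.primeCompl := by
    rintro _ ⟨n, rfl⟩
    exact fun hmem => hfP (hP.isPrime.mem_of_pow_mem n hmem)
  have h₂ : ∀ s ∈ P.primeCompl, ∃ m ∈ Submonoid.powers f, s ∣ m := by
    intro s hs
    have hs0 : s ≠ 0 := fun h0 => hs (h0 ▸ P.zero_mem)
    have hrad : f ∈ (Ideal.span {s}).radical := by
      rw [Ideal.radical_eq_sInf, Ideal.mem_sInf]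
      rintro Q ⟨hsQ, hQprime⟩
      have hsQ' : s ∈ Q := hsQ (Ideal.subset_span rfl)
      have hQ0 : Q ≠ ⊥ := fun h0 => hs0 (by simpa [h0] using hsQ')
      have hQmax : Q.IsMaximal := hQprime.isMaximal hQ0
      have hQP : Q ≠ P := fun h => hs (h ▸ hsQ')
      have hQT : Q ∈ T := by
        rw [hT, Finset.mem_erase, Set.Finite.mem_toFinset]
        exact ⟨hQP, hQmax⟩
      exact Ideal.prod_le_inf.trans (Finset.inf_le hQT) hfT
    obtain ⟨n, hn⟩ := hrad
    exact ⟨f ^ n, ⟨n, rfl⟩, Ideal.mem_span_singleton.mp hn⟩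
  exact IsLocalization.of_le_of_exists_dvd (Submonoid.powers f) P.primeCompl h₁ h₂

theorem finiteType_localization_atPrime {A S : Type*} [CommRing A] [CommRing S] [Algebra A S]
    [IsDomain S] [Ring.DimensionLEOne S] [Algebra.FiniteType A S]
    (hfin : {Q : Ideal S | Q.IsMaximal}.Finite)
    (P : Ideal S) [hP : P.IsMaximal] :
    Algebra.FiniteType A (Localization.AtPrime P) := by
  obtain ⟨f, -, hloc⟩ := exists_isLocalization_atPrime_away hfin P
  have : IsLocalization P.primeCompl (Localization.Away f) := hloc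
  have h1 : Algebra.FiniteType S (Localization.Away f) :=
    IsLocalization.finiteType_of_monoid_fg (Submonoid.powers f) _
  have h2 : Algebra.FiniteType A (Localization.Away f) := Algebra.FiniteType.trans ‹_› h1
  exact h2.equiv ((IsLocalization.algEquiv P.primeCompl (Localization.Away f)
    (Localization.AtPrime P)).restrictScalars A)

end Groth.Agent.Lib.Helper12.InertiaEt
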