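import Mathlib
import Groth.Agent.Lib.Helper12.InertiaEtA
import Groth.Agent.Lib.Helper12.InertiaEtB

/-!
# The ring of inertia invariants is étale over a DVR
-/

namespace Groth.Agent.Lib.Helper12.InertiaEt

open Ideal IsLocalRing

universe u

/-- A subgroup `H` of `G` acting on `B` whose invariants are exactly the image of `C`
is a "Galois group" of `B` over `C`. -/
theorem isGaloisGroup_subgroup_of_invariants {G B C : Type*} [Group G] [CommRing B] [CommRing C]
    [Algebra C B] [MulSemiringAction G B] [FaithfulSMul G B] (H : Subgroup G)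
    (hinv : ∀ b : B, (∀ σ ∈ H, σ • b = b) ↔ b ∈ Set.range (algebraMap C B)) :
    IsGaloisGroup H C B where
  faithful := inferInstance
  commutes := ⟨fun σ c b => by
    have h1 : (σ : G) • algebraMap C B c = algebraMap C B c := (hinv _).mpr ⟨c, rfl⟩ σ σ.2
    rw [Algebra.smul_def, Algebra.smul_def, Subgroup.smul_def, smul_mul', h1, Subgroup.smul_def]⟩
  isInvariant := ⟨fun b hb => (hinv b).mp fun σ hσ => hb ⟨σ, hσ⟩⟩

section

variable (A K L B : Type u) [CommRing A] [IsDomain A]
    [IsDiscreteValuationRing A] [Field K] [Field L] [Algebra A K] [IsFractionRing A K] [Algebra K L]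
    [Algebra A L] [IsScalarTower A K L] [FiniteDimensional K L] [IsGalois K L]
    [CommRing B] [Algebra A B] [Algebra B L] [IsScalarTower A B L] [IsIntegralClosure B A L]
    [MulSemiringAction (L ≃ₐ[K] L) B]

include A K in
theorem faithfulSMul_of_hact
    (hact : ∀ (σ : L ≃ₐ[K] L) (b : B), algebraMap B L (σ • b) = σ (algebraMap B L b)) :
    FaithfulSMul (L ≃ₐ[K] L) B := by
  have : IsDomain B := (IsIntegralClosure.algebraMap_injective B A L).isDomain
  have : IsFractionRing B L := IsIntegralClosure.isFractionRing_of_finite_extension A K L B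
  refine ⟨fun {σ τ} h => ?_⟩
  refine AlgEquiv.ext fun y => ?_
  obtain ⟨a, b, hb, rfl⟩ := IsFractionRing.div_surjective B y
  rw [map_div₀, map_div₀, ← hact, ← hact, ← hact, ← hact, h a, h b]

/-- invariants under a subgroup `H` are the integral closure in the fixed field. -/
theorem invariant_iff_mem_range
    (hact : ∀ (σ : L ≃ₐ[K] L) (b : B), algebraMap B L (σ • b) = σ (algebraMap B L b))
    (H : Subgroup (L ≃ₐ[K] L))
    (B' : Type u) [CommRing B'] [Algebra A B'] [Algebra B' B] [IsScalarTower A B' B] [Algebra B' L]
    [IsScalarTower B' B L]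
    [Algebra B' (IntermediateField.fixedField H)]
    [IsScalarTower B' (IntermediateField.fixedField H) L]
    [IsIntegralClosure B' A (IntermediateField.fixedField H)] (b : B) :
    (∀ σ ∈ H, σ • b = b) ↔ b ∈ Set.range (algebraMap B' B) := by
  have hinj : Function.Injective (algebraMap B L) := IsIntegralClosure.algebraMap_injective B A L
  have : IsScalarTower A (IntermediateField.fixedField H) L :=
    IsScalarTower.of_algebraMap_eq (fun _ => rfl)
  constructor
  · intro hb
    have hmem : algebraMap B L b ∈ IntermediateField.fixedField H := by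
      intro σ
      have := hb σ.1 σ.2
      rw [Subgroup.smul_def, AlgEquiv.smul_def, ← hact, this]
    have hint : IsIntegral A (algebraMap B L b) :=
      (IsIntegralClosure.isIntegral A L b).map (IsScalarTower.toAlgHom A B L)
    have hint' : IsIntegral A (⟨algebraMap B L b, hmem⟩ : IntermediateField.fixedField H) := by
      rw [← isIntegral_algHom_iff (IsScalarTower.toAlgHom A (IntermediateField.fixedField H) L)
        (algebraMap (IntermediateField.fixedField H) L).injective]
      exact hint
    obtain ⟨b', hb'⟩ := IsIntegralClosure.isIntegral_iff (A := B') |>.mp hint'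
    refine ⟨b', hinj ?_⟩
    rw [← IsScalarTower.algebraMap_apply,
      IsScalarTower.algebraMap_apply B' (IntermediateField.fixedField H) L, hb']
    rfl
  · rintro ⟨b', rfl⟩ σ hσ
    apply hinj
    rw [hact, ← IsScalarTower.algebraMap_apply,
      IsScalarTower.algebraMap_apply B' (IntermediateField.fixedField H) L]
    exact (algebraMap B' (IntermediateField.fixedField H) b').2 ⟨σ, hσ⟩

include K in
/-- invariants under the whole Galois group are the image of `A`. -/
theorem invariant_top_iff_mem_range
    (hact : ∀ (σ : L ≃ₐ[K] L) (b : B), algebraMap B L (σ • b) = σ (algebraMap B L b)) (b : B) :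
    (∀ σ ∈ (⊤ : Subgroup (L ≃ₐ[K] L)), σ • b = b) ↔ b ∈ Set.range (algebraMap A B) := by
  have hinj : Function.Injective (algebraMap B L) := IsIntegralClosure.algebraMap_injective B A L
  constructor
  · intro hb
    have hmem : algebraMap B L b ∈ (⊥ : IntermediateField K L) := by
      rw [← IsGalois.fixedField_top, IntermediateField.mem_fixedField_iff]
      intro σ hσ
      rw [← hact, hb σ hσ]
    obtain ⟨k, hk⟩ := IntermediateField.mem_bot.mp hmem
    have hint : IsIntegral A (algebraMap B L b) :=
      (IsIntegralClosure.isIntegral A L b).map (IsScalarTower.toAlgHom A B L)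
    have hint' : IsIntegral A k := by
      rw [← isIntegral_algHom_iff (IsScalarTower.toAlgHom A K L) (algebraMap K L).injective]
      simpa [hk] using hint
    obtain ⟨a, rfl⟩ := IsIntegrallyClosed.isIntegral_iff.mp hint'
    refine ⟨a, hinj ?_⟩
    rw [← hk, ← IsScalarTower.algebraMap_apply, ← IsScalarTower.algebraMap_apply]
  · rintro ⟨a, rfl⟩ σ -
    apply hinj
    rw [hact, ← IsScalarTower.algebraMap_apply, IsScalarTower.algebraMap_apply A K L,
      AlgEquiv.commutes]

theorem main
    (hact : ∀ (σ : L ≃ₐ[K] L) (b : B), algebraMap B L (σ • b) = σ (algebraMap B L b))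
    (m : Ideal B) [m.IsMaximal]
    (B' : Type u) [CommRing B'] [Algebra A B'] [Algebra B' B] [IsScalarTower A B' B] [Algebra B' L]
    [IsScalarTower B' B L]
    [Algebra B' (IntermediateField.fixedField (m.inertia (L ≃ₐ[K] L)))]
    [IsScalarTower B' (IntermediateField.fixedField (m.inertia (L ≃ₐ[K] L))) L]
    [IsIntegralClosure B' A (IntermediateField.fixedField (m.inertia (L ≃ₐ[K] L)))] :
    (∀ b : B, (∀ σ ∈ m.inertia (L ≃ₐ[K] L), σ • b = b) ↔ b ∈ Set.range (algebraMap B' B)) ∧
      Algebra.Etale A (Localization.AtPrime (m.comap (algebraMap B' B))) := by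
  have hpart1 := invariant_iff_mem_range A K L B hact (m.inertia (L ≃ₐ[K] L)) B'
  refine ⟨hpart1, ?_⟩
  -- basic instances
  have hinjB : Function.Injective (algebraMap B L) := IsIntegralClosure.algebraMap_injective B A L
  have : IsDomain B := hinjB.isDomain
  have : IsScalarTower A (IntermediateField.fixedField (m.inertia (L ≃ₐ[K] L))) L :=
    IsScalarTower.of_algebraMap_eq (fun _ => rfl)
  have hinjB' : Function.Injective
      (algebraMap B' (IntermediateField.fixedField (m.inertia (L ≃ₐ[K] L)))) :=
    IsIntegralClosure.algebraMap_injective B' A _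
  have : IsDomain B' := hinjB'.isDomain
  have : IsScalarTower A B' L := IsScalarTower.of_algebraMap_eq fun a => by
    rw [IsScalarTower.algebraMap_apply B' B L, ← IsScalarTower.algebraMap_apply A B' B,
      ← IsScalarTower.algebraMap_apply A B L]
  have : IsScalarTower A B' (IntermediateField.fixedField (m.inertia (L ≃ₐ[K] L))) :=
    IsScalarTower.of_algebraMap_eq fun a => by
      apply (algebraMap (IntermediateField.fixedField (m.inertia (L ≃ₐ[K] L))) L).injective
      rw [← IsScalarTower.algebraMap_apply, ← IsScalarTower.algebraMap_apply,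
        ← IsScalarTower.algebraMap_apply]
  have : Module.Finite A B := IsIntegralClosure.finite A K L B
  have : Module.Finite A B' :=
    IsIntegralClosure.finite A K (IntermediateField.fixedField (m.inertia (L ≃ₐ[K] L))) B'
  have : IsDedekindDomain B := IsIntegralClosure.isDedekindDomain A K L B
  have : IsDedekindDomain B' :=
    IsIntegralClosure.isDedekindDomain A K (IntermediateField.fixedField (m.inertia (L ≃ₐ[K] L))) B'
  -- injectivity / torsion-freeness / flatness
  have hinjAL : Function.Injective (algebraMap A L) := by
    rw [IsScalarTower.algebraMap_eq A K L]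
    exact (algebraMap K L).injective.comp (IsFractionRing.injective A K)
  have hinjAB : Function.Injective (algebraMap A B) := by
    have h := hinjAL
    rw [IsScalarTower.algebraMap_eq A B L] at h
    exact Function.Injective.of_comp h
  have hinjAB' : Function.Injective (algebraMap A B') := by
    have h := hinjAL
    rw [IsScalarTower.algebraMap_eq A B' L] at h
    exact Function.Injective.of_comp h
  have hinjB'L : Function.Injective (algebraMap B' L) := by
    rw [IsScalarTower.algebraMap_eq B' (IntermediateField.fixedField (m.inertia (L ≃ₐ[K] L))) L]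
    exact (algebraMap _ L).injective.comp hinjB'
  have hinjB'B : Function.Injective (algebraMap B' B) := by
    have h := hinjB'L
    rw [IsScalarTower.algebraMap_eq B' B L] at h
    exact Function.Injective.of_comp h
  have : Module.IsTorsionFree A B := Module.isTorsionFree_iff_algebraMap_injective.mpr hinjAB
  have : Module.IsTorsionFree A B' := Module.isTorsionFree_iff_algebraMap_injective.mpr hinjAB'
  have : Module.IsTorsionFree B' B := Module.isTorsionFree_iff_algebraMap_injective.mpr hinjB'B
  have : Module.Finite B' B := Module.Finite.of_restrictScalars_finite A B' B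
  -- Galois group structures
  have : FaithfulSMul (L ≃ₐ[K] L) B := faithfulSMul_of_hact A K L B hact
  have hGI : IsGaloisGroup (m.inertia (L ≃ₐ[K] L)) B' B :=
    isGaloisGroup_subgroup_of_invariants _ hpart1
  have hGtop : IsGaloisGroup (⊤ : Subgroup (L ≃ₐ[K] L)) A B :=
    isGaloisGroup_subgroup_of_invariants _ (invariant_top_iff_mem_range A K L B hact)
  have hG : IsGaloisGroup (L ≃ₐ[K] L) A B := IsGaloisGroup.top_iff.mp hGtop
  -- primes
  have : (m.under B').IsMaximal := Ideal.IsMaximal.under B' m
  have hover : (m.under B').LiesOver (maximalIdeal A) :=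
    ⟨(eq_maximalIdeal (Ideal.IsMaximal.under A (m.under B'))).symm⟩
  have hover' : m.LiesOver (maximalIdeal A) := Ideal.LiesOver.trans m (m.under B') (maximalIdeal A)
  let _i1 := Localization.AtPrime.algebraOfLiesOver (maximalIdeal A) (m.under B')
  let _i2 := Localization.AtPrime.algebraOfLiesOver (maximalIdeal A) m
  let _i3 := Localization.AtPrime.algebraOfLiesOver (m.under B') m
  -- counting
  have hA := card_inertia_eq_ramificationIdx_mul_finInsepDegree (G := L ≃ₐ[K] L)
    (maximalIdeal A) m
  have hB := card_inertia_eq_ramificationIdx_mul_finInsepDegree (G := m.inertia (L ≃ₐ[K] L))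
    (m.under B') m
  have htop : inertia (m.inertia (L ≃ₐ[K] L)) m = ⊤ := by
    ext σ
    simp only [Subgroup.mem_top, iff_true]
    exact Ideal.coe_mem_inertia.mp σ.2
  rw [htop, Subgroup.card_top] at hB
  have he := ramificationIdx_tower (R := A) (m.under B') m
  have hf := Field.finInsepDegree_mul_finInsepDegree_of_isAlgebraic
    (maximalIdeal A).ResidueField (m.under B').ResidueField m.ResidueField
  have hpos : 0 < Nat.card (inertia (L ≃ₐ[K] L) m) := Nat.card_pos
  have hprod : ((m.under B').ramificationIdx A *
      Field.finInsepDegree (maximalIdeal A).ResidueField (m.under B').ResidueField) *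
      Nat.card (inertia (L ≃ₐ[K] L) m) = 1 * Nat.card (inertia (L ≃ₐ[K] L) m) := by
    rw [one_mul]
    conv_rhs => rw [hA, he, ← hf]
    rw [hB]
    ring
  have hone := Nat.eq_of_mul_eq_mul_right hpos hprod
  obtain ⟨he1, hf1⟩ := mul_eq_one.mp hone
  have hsep : Algebra.IsSeparable (maximalIdeal A).ResidueField (m.under B').ResidueField :=
    (isSeparable_iff_finInsepDegree_eq_one _ _).mpr hf1
  have hunr : Algebra.IsUnramifiedAt A (m.under B') :=
    isUnramifiedAt_of_ramificationIdx_eq_one (maximalIdeal A) (m.under B') hsep he1
  have : Algebra.FormallyUnramified A (Localization.AtPrime (m.under B')) := hunr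
  have hfin : {Q : Ideal B' | Q.IsMaximal}.Finite := by
    refine (Algebra.QuasiFinite.finite_primesOver (S := B') (maximalIdeal A)).subset ?_
    intro Q (hQ : Q.IsMaximal)
    exact ⟨hQ.isPrime, ⟨(eq_maximalIdeal (Ideal.IsMaximal.under A Q)).symm⟩⟩
  have : Algebra.FiniteType A (Localization.AtPrime (m.under B')) :=
    finiteType_localization_atPrime hfin (m.under B')
  have : Algebra.FinitePresentation A (Localization.AtPrime (m.under B')) :=
    Algebra.FinitePresentation.of_finiteType.mp this
  have : Module.Flat A (Localization.AtPrime (m.under B')) := Module.Flat.trans A B' _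
  exact Algebra.Etale.of_formallyUnramified_of_flat

end

end Groth.Agent.Lib.Helper12.InertiaEt
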