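import Mathlib

/-!
Helper library (helper12): evaluation of multivariate power series in adically complete algebras
(as algebra homomorphisms), truncation estimates and uniqueness of "continuous" algebra maps.
-/

set_option autoImplicit false

namespace Groth.Agent.Lib.Helper12.PSEval

open MvPowerSeries

universe u v w

variable {R : Type u} [CommRing R] {σ : Type v} [Finite σ]

/-- `p - trunc_k p ∈ (X)^k` in the power series ring. -/
theorem sub_truncTotal_mem_pow (p : MvPowerSeries σ R) (k : ℕ) :
    p - ((truncTotal k p : MvPolynomial σ R) : MvPowerSeries σ R) ∈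
      (Ideal.span (Set.range (X : σ → MvPowerSeries σ R))) ^ k := by
  set q : MvPowerSeries σ R := p - ((truncTotal k p : MvPolynomial σ R) : MvPowerSeries σ R)
    with hq
  have htr : truncTotal k q = 0 := by
    ext x
    rw [MvPolynomial.coeff_zero]
    by_cases hx : Finsupp.degree x < k
    · rw [coeff_truncTotal _ hx, hq, map_sub, MvPolynomial.coeff_coe, coeff_truncTotal _ hx,
        sub_self]
    · rw [coeff_truncTotal_eq_zero _ (not_lt.mp hx)]
  have hker : toAdicCompletion σ R q ∈
      LinearMap.ker (AdicCompletion.eval (MvPolynomial.idealOfVars σ R) (MvPolynomial σ R) k) := by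
    rw [LinearMap.mem_ker]
    show (toAdicCompletion σ R q).val k = 0
    rw [toAdicCompletion_apply_eq_mk_truncTotal, htr, map_zero]
  rw [← AdicCompletion.pow_smul_top_eq_ker_eval (MvPolynomial.idealOfVars_fg σ R)] at hker
  have key : ∀ y ∈ (MvPolynomial.idealOfVars σ R ^ k • ⊤ :
      Submodule (MvPolynomial σ R) (AdicCompletion (MvPolynomial.idealOfVars σ R)
        (MvPolynomial σ R))),
      (toAdicCompletionAlgEquiv σ R).symm y ∈
        (Ideal.span (Set.range (X : σ → MvPowerSeries σ R))) ^ k := by
    intro y hy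
    refine Submodule.smul_induction_on hy ?_ ?_
    · intro i hi z _
      rw [map_smul, Algebra.smul_def]
      apply Ideal.mul_mem_right
      have h1 : (MvPolynomial.idealOfVars σ R).map
          (algebraMap (MvPolynomial σ R) (MvPowerSeries σ R)) =
          Ideal.span (Set.range (X : σ → MvPowerSeries σ R)) := by
        unfold MvPolynomial.idealOfVars
        rw [Ideal.map_span, ← Set.range_comp]
        congr 2
        ext j : 1
        exact MvPolynomial.coe_X j
      rw [← h1, ← Ideal.map_pow]
      exact Ideal.mem_map_of_mem _ hi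
    · intro a b ha hb
      rw [map_add]
      exact add_mem ha hb
  have := key _ hker
  rwa [← toAdicCompletionAlgEquiv_apply, AlgEquiv.symm_apply_apply] at this

/-- A ring map out of the power series ring sending the variables into `J` sends
`p - trunc_k p` into `J^k`. -/
theorem map_sub_truncTotal_mem {A : Type w} [CommRing A] (φ : MvPowerSeries σ R →+* A)
    (J : Ideal A) (hφ : ∀ i, φ (X i) ∈ J) (p : MvPowerSeries σ R) (k : ℕ) :
    φ p - φ ((truncTotal k p : MvPolynomial σ R) : MvPowerSeries σ R) ∈ J ^ k := by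
  have h1 : (Ideal.span (Set.range (X : σ → MvPowerSeries σ R))).map φ ≤ J := by
    rw [Ideal.map_span, Ideal.span_le]
    rintro _ ⟨_, ⟨i, rfl⟩, rfl⟩
    exact hφ i
  rw [← map_sub]
  have h2 := Ideal.mem_map_of_mem φ (sub_truncTotal_mem_pow p k)
  rw [Ideal.map_pow] at h2
  exact Ideal.pow_right_mono h1 k h2

/-- Two algebra maps out of a power series ring into a `J`-adically separated algebra which send
the variables into `J` and agree on the variables are equal. -/
theorem algHom_ext_of_isHausdorff {A : Type w} [CommRing A] [Algebra R A] (J : Ideal A)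
    [IsHausdorff J A] (φ₁ φ₂ : MvPowerSeries σ R →ₐ[R] A) (h₁ : ∀ i, φ₁ (X i) ∈ J)
    (h : ∀ i, φ₁ (X i) = φ₂ (X i)) : φ₁ = φ₂ := by
  have hpoly : φ₁.comp (MvPolynomial.coeToMvPowerSeries.algHom R) =
      φ₂.comp (MvPolynomial.coeToMvPowerSeries.algHom R) := by
    apply MvPolynomial.algHom_ext
    intro i
    simp only [AlgHom.comp_apply, MvPolynomial.coeToMvPowerSeries.algHom_apply,
      Algebra.algebraMap_self, MvPolynomial.map_X, MvPolynomial.coe_X]
    exact h i
  ext p
  rw [← sub_eq_zero]
  apply IsHausdorff.haus (I := J) inferInstance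
  intro k
  rw [SModEq.zero, smul_eq_mul, Ideal.mul_top]
  have e1 := map_sub_truncTotal_mem (φ₁ : MvPowerSeries σ R →+* A) J h₁ p k
  have e2 := map_sub_truncTotal_mem (φ₂ : MvPowerSeries σ R →+* A) J
    (fun i => by rw [RingHom.coe_coe, ← h i]; exact h₁ i) p k
  have e3 : φ₁ ((truncTotal k p : MvPolynomial σ R) : MvPowerSeries σ R) =
      φ₂ ((truncTotal k p : MvPolynomial σ R) : MvPowerSeries σ R) := by
    have := AlgHom.congr_fun hpoly (truncTotal k p)
    simpa [MvPolynomial.coeToMvPowerSeries.algHom_apply] using this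
  have : φ₁ p - φ₂ p = (φ₁ p - φ₁ ((truncTotal k p : MvPolynomial σ R) : MvPowerSeries σ R)) -
      (φ₂ p - φ₂ ((truncTotal k p : MvPolynomial σ R) : MvPowerSeries σ R)) := by
    rw [e3]; ring
  rw [this]
  exact sub_mem e1 e2

/-- Evaluation of power series at elements of `I` in an `I`-adically complete algebra. -/
theorem exists_algHom_eval {E : Type w} [CommRing E] [Algebra R E] (I : Ideal E)
    [IsAdicComplete I E] (e : σ → E) (he : ∀ i, e i ∈ I) :
    ∃ l : MvPowerSeries σ R →ₐ[R] E, ∀ i, l (X i) = e i := by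
  let aev : MvPolynomial σ R →ₐ[R] E := MvPolynomial.aeval e
  have hle : ∀ k : ℕ, MvPolynomial.idealOfVars σ R ^ k ≤ (I ^ k).comap aev := by
    intro k
    refine le_trans (Ideal.pow_right_mono ?_ k) (Ideal.le_comap_pow _ k)
    unfold MvPolynomial.idealOfVars
    rw [Ideal.span_le]
    rintro _ ⟨i, rfl⟩
    simp only [SetLike.mem_coe, Ideal.mem_comap, aev, MvPolynomial.aeval_X]
    exact he i
  let lk : ∀ k : ℕ, MvPowerSeries σ R →ₐ[R] E ⧸ I ^ k := fun k =>
    (Ideal.quotientMapₐ (I ^ k) aev (hle k)).comp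
      ((truncTotalAlgHom σ R k).restrictScalars R)
  have hlk : ∀ (k : ℕ) (p : MvPowerSeries σ R),
      lk k p = Ideal.Quotient.mk (I ^ k) (aev (truncTotal k p)) := fun k p => rfl
  have hcompat : ∀ {m n : ℕ} (hmn : m ≤ n),
      (Ideal.Quotient.factorₐ R (Ideal.pow_le_pow_right hmn)).comp (lk n) = lk m := by
    intro m n hmn
    ext p
    rw [AlgHom.comp_apply, hlk, hlk, Ideal.Quotient.factorₐ_apply_mk,
      Ideal.Quotient.mk_eq_mk_iff_sub_mem, ← map_sub]
    exact hle m (truncTotal_sub_truncTotal_mem_pow_idealOfVars hmn (le_refl m) p)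
  refine ⟨IsAdicComplete.liftAlgHom I lk hcompat, fun i => ?_⟩
  rw [← sub_eq_zero]
  apply IsHausdorff.haus (I := I) inferInstance
  intro k
  rw [SModEq.zero, smul_eq_mul, Ideal.mul_top, ← Ideal.Quotient.eq_zero_iff_mem, map_sub,
    IsAdicComplete.mk_liftAlgHom, sub_eq_zero, hlk, Ideal.Quotient.mk_eq_mk_iff_sub_mem]
  have h1 : (X i : MvPowerSeries σ R) = ((MvPolynomial.X i : MvPolynomial σ R) :
      MvPowerSeries σ R) := (MvPolynomial.coe_X i).symm
  have h2 : aev (truncTotal k (X i : MvPowerSeries σ R)) - e i =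
      aev (truncTotal k ((MvPolynomial.X i : MvPolynomial σ R) : MvPowerSeries σ R) -
        MvPolynomial.X i) := by
    rw [map_sub, h1]
    simp [aev]
  rw [h2]
  apply hle k
  rw [MvPolynomial.mem_pow_idealOfVars_iff']
  intro x hx
  rw [MvPolynomial.coeff_sub, coeff_truncTotal _ hx, MvPolynomial.coeff_coe, sub_self]

end Groth.Agent.Lib.Helper12.PSEval
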