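import Mathlib
import Groth.Agent.Lib.Helper12.PSEval
import Groth.Agent.Lib.Helper1.RegPS

/-!
Helper library (helper12): minimal presentations `k[[X_1..X_d]] ↠ A` of complete noetherian local
`k`-algebras with residue field `k`, with kernel inside the square of the maximal ideal.
-/

set_option autoImplicit false
set_option linter.style.haveILetI false

namespace Groth.Agent.Lib.Helper12.InfLift

open IsLocalRing

universe u

section Minimal

variable {k A : Type u} [Field k] [CommRing A] [Algebra k A] [IsLocalRing A] [IsNoetherianRing A]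

/-- Minimal generators of the maximal ideal are linearly independent modulo `m²` over a
subfield. -/
theorem eq_zero_of_sum_mem_sq {d : ℕ} (a : Fin d → A)
    (ha : Ideal.span (Set.range a) = maximalIdeal A) (hd : d = (maximalIdeal A).spanFinrank)
    (l : Fin d → k) (h : ∑ i, algebraMap k A (l i) * a i ∈ maximalIdeal A ^ 2) : ∀ j, l j = 0 := by
  classical
  intro j
  by_contra hj
  set S' : Set A := a '' {i | i ≠ j} with hS'
  have hle : maximalIdeal A ≤ Ideal.span S' ⊔ maximalIdeal A • maximalIdeal A := by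
    have h0 : Ideal.span (Set.range a) ≤ Ideal.span S' ⊔ maximalIdeal A • maximalIdeal A := ?_
    · rwa [ha] at h0
    rw [Ideal.span_le]
    rintro _ ⟨i, rfl⟩
    by_cases hij : i = j
    · subst hij
      have hsplit : ∑ i', algebraMap k A (l i') * a i' =
          algebraMap k A (l i) * a i + ∑ i' ∈ Finset.univ.erase i, algebraMap k A (l i') * a i' := by
        exact (Finset.add_sum_erase _ (fun i' => algebraMap k A (l i') * a i')
          (Finset.mem_univ i)).symm
      have hunit : algebraMap k A (l i)⁻¹ * algebraMap k A (l i) = 1 := by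
        rw [← map_mul, inv_mul_cancel₀ hj, map_one]
      have hai : a i = algebraMap k A (l i)⁻¹ * (∑ i', algebraMap k A (l i') * a i') -
          algebraMap k A (l i)⁻¹ *
            ∑ i' ∈ Finset.univ.erase i, algebraMap k A (l i') * a i' := by
        rw [hsplit, mul_add, ← mul_assoc, hunit, one_mul, add_sub_cancel_right]
      rw [SetLike.mem_coe, hai]
      refine Submodule.sub_mem _ ?_ ?_
      · apply Submodule.mem_sup_right
        rw [smul_eq_mul, ← pow_two]
        exact Ideal.mul_mem_left _ _ h
      · apply Submodule.mem_sup_left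
        apply Ideal.mul_mem_left
        refine Ideal.sum_mem _ fun i' hi' => ?_
        apply Ideal.mul_mem_left
        exact Ideal.subset_span ⟨i', Finset.ne_of_mem_erase hi', rfl⟩
    · exact Submodule.mem_sup_left (Ideal.subset_span ⟨i, hij, rfl⟩)
  have hle2 : maximalIdeal A ≤ Ideal.span S' :=
    Submodule.le_of_le_smul_of_le_jacobson_bot (IsNoetherian.noetherian _)
      (maximalIdeal_le_jacobson ⊥) hle
  have heq : Ideal.span S' = maximalIdeal A := by
    refine le_antisymm ?_ hle2
    rw [← ha]
    exact Ideal.span_mono (Set.image_subset_range _ _)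
  have hfin : S'.Finite := (Set.toFinite _).image _
  have hcard : S'.ncard ≤ d - 1 := by
    have h1 : S'.ncard ≤ ({i | i ≠ j} : Set (Fin d)).ncard := Set.ncard_image_le (Set.toFinite _)
    have h2 : ({i | i ≠ j} : Set (Fin d)).ncard = d - 1 := by
      have : ({i | i ≠ j} : Set (Fin d)) = ({j} : Set (Fin d))ᶜ := by ext; simp
      rw [this, Set.ncard_compl, Set.ncard_singleton, Nat.card_eq_fintype_card, Fintype.card_fin]
    omega
  have h3 := Submodule.spanFinrank_span_le_ncard_of_finite (R := A) hfin
  have h4 : (Ideal.span S').spanFinrank = d := by rw [heq, hd]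
  have hd0 : 0 < d := Fin.pos j
  change (Ideal.span S').spanFinrank ≤ S'.ncard at h3
  omega

end Minimal

section Presentation

variable {k A : Type u} [Field k] [CommRing A] [Algebra k A] [IsLocalRing A] [IsNoetherianRing A]
  [IsAdicComplete (maximalIdeal A) A] (π : A →ₐ[k] k) (hπ : RingHom.ker π = maximalIdeal A)

include hπ

theorem exists_presentation_of_gens {d : ℕ} (a : Fin d → A)
    (ha : Ideal.span (Set.range a) = maximalIdeal A) (hd : d = (maximalIdeal A).spanFinrank) :
    ∃ (Φ : MvPowerSeries (Fin d) k →ₐ[k] A),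
      Function.Surjective Φ ∧
      (∀ f ∈ maximalIdeal (MvPowerSeries (Fin d) k), Φ f ∈ maximalIdeal A) ∧
      RingHom.ker Φ.toRingHom ≤ maximalIdeal (MvPowerSeries (Fin d) k) ^ 2 := by
  classical
  have ham : ∀ i, a i ∈ maximalIdeal A := fun i => ha ▸ Ideal.subset_span ⟨i, rfl⟩
  obtain ⟨Φ, hΦ⟩ := PSEval.exists_algHom_eval (R := k) (maximalIdeal A) a ham
  have hmapX : (Ideal.span (Set.range (MvPowerSeries.X :
      Fin d → MvPowerSeries (Fin d) k))).map
      (Φ : MvPowerSeries (Fin d) k →+* A) = maximalIdeal A := by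
    rw [Ideal.map_span, ← Set.range_comp, ← ha]
    congr 2
    ext i
    exact hΦ i
  have hloc : ∀ f ∈ maximalIdeal (MvPowerSeries (Fin d) k),
      Φ f ∈ maximalIdeal A := by
    intro f hf
    rw [Groth.Agent.Lib.Helper1.RegPS.maximalIdeal_ps_eq] at hf
    rw [← hmapX]
    exact Ideal.mem_map_of_mem _ hf
  have hsurj : Function.Surjective Φ := by
    haveI : IsHausdorff ((Ideal.span (Set.range (MvPowerSeries.X :
        Fin d → MvPowerSeries (Fin d) k))).map
        (Φ : MvPowerSeries (Fin d) k →+* A)) A := by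
      rw [hmapX]
      infer_instance
    apply surjective_of_mk_map_comp_surjective
      (Φ : MvPowerSeries (Fin d) k →+* A)
      (I := Ideal.span (Set.range (MvPowerSeries.X :
        Fin d → MvPowerSeries (Fin d) k)))
    intro z
    obtain ⟨x, rfl⟩ := Ideal.Quotient.mk_surjective z
    refine ⟨MvPowerSeries.C (π x), ?_⟩
    rw [RingHom.comp_apply, Ideal.Quotient.mk_eq_mk_iff_sub_mem, hmapX, ← hπ, RingHom.mem_ker,
      map_sub]
    have h1 : (Φ : MvPowerSeries (Fin d) k →+* A)
        (MvPowerSeries.C (π x)) = algebraMap k A (π x) := Φ.commutes (π x)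
    rw [h1, AlgHom.commutes, Algebra.algebraMap_self_apply, sub_self]
  refine ⟨Φ, hsurj, hloc, ?_⟩
  intro g hg
  have hgm : g ∈ maximalIdeal (MvPowerSeries (Fin d) k) := by
    rw [mem_maximalIdeal, mem_nonunits_iff]
    intro hu
    have h1 := hu.map Φ
    rw [show Φ g = 0 from hg] at h1
    exact not_isUnit_zero h1
  rw [Groth.Agent.Lib.Helper1.RegPS.maximalIdeal_ps_eq] at hgm
  obtain ⟨c, hc⟩ := (Ideal.mem_span_range_iff_exists_fun).mp hgm
  have hcm : ∀ i, c i - MvPowerSeries.C (MvPowerSeries.constantCoeff (c i)) ∈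
      maximalIdeal (MvPowerSeries (Fin d) k) := by
    intro i
    rw [Groth.Agent.Lib.Helper1.PSDecomp.mem_maximalIdeal_iff, map_sub,
      MvPowerSeries.constantCoeff_C, sub_self]
    exact zero_mem _
  have hsum : ∑ i, algebraMap k A (MvPowerSeries.constantCoeff (c i)) * a i ∈
      maximalIdeal A ^ 2 := by
    have h0 : Φ g = 0 := hg
    rw [← hc, map_sum] at h0
    have h1 : ∑ i, algebraMap k A (MvPowerSeries.constantCoeff (c i)) * a i =
        -∑ i, Φ (c i - MvPowerSeries.C (MvPowerSeries.constantCoeff (c i))) * a i := by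
      rw [eq_neg_iff_add_eq_zero, ← Finset.sum_add_distrib, ← h0]
      refine Finset.sum_congr rfl fun i _ => ?_
      rw [map_mul, hΦ, map_sub, ← add_mul]
      congr 1
      have : Φ (MvPowerSeries.C (MvPowerSeries.constantCoeff (c i))) =
          algebraMap k A (MvPowerSeries.constantCoeff (c i)) := Φ.commutes _
      rw [this]
      ring
    rw [h1]
    refine neg_mem (Ideal.sum_mem _ fun i _ => ?_)
    rw [pow_two]
    exact Ideal.mul_mem_mul (hloc _ (hcm i)) (ham i)
  have hl := eq_zero_of_sum_mem_sq a ha hd _ hsum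
  rw [← hc, pow_two]
  refine Ideal.sum_mem _ fun i _ => ?_
  refine Ideal.mul_mem_mul ?_ (Groth.Agent.Lib.Helper1.PSDecomp.X_mem_maximalIdeal i)
  have := hcm i
  rwa [hl i, map_zero, sub_zero] at this

theorem exists_presentation :
    ∃ (d : ℕ) (Φ : MvPowerSeries (Fin d) k →ₐ[k] A), (d : ℕ) = (maximalIdeal A).spanFinrank ∧
      Function.Surjective Φ ∧
      (∀ f ∈ maximalIdeal (MvPowerSeries (Fin d) k), Φ f ∈ maximalIdeal A) ∧
      RingHom.ker Φ.toRingHom ≤ maximalIdeal (MvPowerSeries (Fin d) k) ^ 2 := by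
  classical
  obtain ⟨s, hs1, hs2⟩ := Submodule.FG.exists_span_finset_card_eq_spanFinrank
    (IsNoetherian.noetherian (maximalIdeal A))
  obtain ⟨d, hd⟩ : ∃ d : ℕ, d = (maximalIdeal A).spanFinrank := ⟨_, rfl⟩
  rw [← hd] at hs1
  let e : Fin d ≃ s := (Finset.equivFinOfCardEq hs1).symm
  let a : Fin d → A := fun i => (e i : A)
  have ha : Ideal.span (Set.range a) = maximalIdeal A := by
    rw [← hs2]
    congr 1
    ext x
    constructor
    · rintro ⟨i, rfl⟩
      exact (e i).2
    · intro hx
      exact ⟨e.symm ⟨x, hx⟩, by simp [a]⟩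
  obtain ⟨Φ, h1, h2, h3⟩ := exists_presentation_of_gens π hπ a ha hd
  exact ⟨d, Φ, hd, h1, h2, h3⟩

end Presentation

end Groth.Agent.Lib.Helper12.InfLift
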