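import Mathlib
import Groth.Agent.Lib.Helper12.InfLiftA

/-!
Helper library (helper12): a complete noetherian local `k`-algebra with residue field `k` is
regular iff it satisfies the infinitesimal lifting criterion for Artinian local test rings.
-/

set_option autoImplicit false
set_option linter.style.haveILetI false

namespace Groth.Agent.Lib.Helper12.InfLift

open IsLocalRing

universe u

theorem isHausdorff_of_pow_eq_bot {S : Type*} [CommRing S] (I : Ideal S) (n : ℕ)
    (h : I ^ n = ⊥) : IsHausdorff I S :=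
  ⟨fun x hx => by
    have := hx n
    rw [h, SModEq.zero, Submodule.bot_smul] at this
    exact this⟩

theorem isLocalHom_of_surjective {A T : Type*} [CommRing A] [CommRing T] [IsLocalRing A]
    [Nontrivial T] (φ : A →+* T) (hφ : Function.Surjective φ) : IsLocalHom φ := by
  constructor
  intro a ha
  by_contra hna
  have ham : a ∈ maximalIdeal A := hna
  obtain ⟨t, ht⟩ := ha.exists_right_inv
  obtain ⟨b, rfl⟩ := hφ t
  have hker : a * b - 1 ∈ RingHom.ker φ := by
    rw [RingHom.mem_ker, map_sub, map_mul, ht, map_one, sub_self]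
  have hle : RingHom.ker φ ≤ maximalIdeal A := le_maximalIdeal (RingHom.ker_ne_top φ)
  have h1 : (1 : A) ∈ maximalIdeal A := by
    have h2 : a * b - (a * b - 1) ∈ maximalIdeal A :=
      sub_mem (Ideal.mul_mem_right _ _ ham) (hle hker)
    simpa using h2
  exact (maximalIdeal.isMaximal A).ne_top ((Ideal.eq_top_iff_one _).mpr h1)

variable {k A : Type u} [Field k] [CommRing A] [Algebra k A] [IsLocalRing A] [IsNoetherianRing A]
  [IsAdicComplete (maximalIdeal A) A] (π : A →ₐ[k] k) (hπ : RingHom.ker π = maximalIdeal A)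

include hπ

theorem lifting_of_regular [IsRegularLocalRing A]
    (R : Type u) [CommRing R] [Algebra k R] [IsArtinianRing R] [IsLocalRing R] (J : Ideal R)
    (f : A →ₐ[k] R ⧸ J) (hf : IsLocalHom (f : A →+* R ⧸ J)) :
    ∃ g : A →ₐ[k] R, (Ideal.Quotient.mkₐ k J).comp g = f := by
  obtain ⟨d, Φ, hd, hsurj, hloc, -⟩ := exists_presentation π hπ
  haveI : IsDomain (MvPowerSeries (Fin d) k) := NoZeroDivisors.to_isDomain _
  have hdimA : ringKrullDim A = (d : ℕ) := by
    rw [hd]
    exact (IsRegularLocalRing.spanFinrank_maximalIdeal (R := A)).symm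
  have hinj : Function.Injective Φ :=
    Groth.Agent.Lib.Helper1.RegPS.injective_of_ringKrullDim_eq
      (Φ : MvPowerSeries (Fin d) k →+* A) hsurj d
      (Groth.Agent.Lib.Helper1.RegPS.ringKrullDim_ps d) hdimA
  let e : MvPowerSeries (Fin d) k ≃ₐ[k] A := AlgEquiv.ofBijective Φ ⟨hinj, hsurj⟩
  -- lift the images of the variables
  have hnu : ∀ i, ¬ IsUnit (f (Φ (MvPowerSeries.X i))) := by
    intro i hu
    have h1 : IsUnit (Φ (MvPowerSeries.X i)) := hf.map_nonunit _ hu
    exact (hloc _ (Groth.Agent.Lib.Helper1.PSDecomp.X_mem_maximalIdeal i)) h1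
  choose r hr using fun i => Ideal.Quotient.mk_surjective (f (Φ (MvPowerSeries.X i)))
  have hrm : ∀ i, r i ∈ maximalIdeal R := by
    intro i
    rw [mem_maximalIdeal, mem_nonunits_iff]
    intro hu
    apply hnu i
    rw [← hr i]
    exact hu.map _
  obtain ⟨g', hg'⟩ := PSEval.exists_algHom_eval (R := k) (maximalIdeal R) r hrm
  -- nilpotence
  obtain ⟨N, hN⟩ := (isArtinianRing_iff_isNilpotent_maximalIdeal R).mp inferInstance
  haveI : IsHausdorff ((maximalIdeal R).map (Ideal.Quotient.mk J)) (R ⧸ J) := by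
    apply isHausdorff_of_pow_eq_bot _ N
    rw [← Ideal.map_pow, hN, Submodule.zero_eq_bot, Ideal.map_bot]
  have heq : (Ideal.Quotient.mkₐ k J).comp g' = f.comp (Φ : MvPowerSeries (Fin d) k →ₐ[k] A) := by
    apply PSEval.algHom_ext_of_isHausdorff ((maximalIdeal R).map (Ideal.Quotient.mk J))
    · intro i
      show Ideal.Quotient.mk J (g' (MvPowerSeries.X i)) ∈ _
      rw [hg']
      exact Ideal.mem_map_of_mem _ (hrm i)
    · intro i
      show Ideal.Quotient.mk J (g' (MvPowerSeries.X i)) = f (Φ (MvPowerSeries.X i))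
      rw [hg', hr]
  refine ⟨g'.comp e.symm.toAlgHom, ?_⟩
  ext a
  obtain ⟨p, rfl⟩ := hsurj a
  have h1 : e.symm (Φ p) = p := e.symm_apply_apply p
  show Ideal.Quotient.mk J (g' (e.symm (Φ p))) = f (Φ p)
  rw [h1]
  exact AlgHom.congr_fun heq p

end Groth.Agent.Lib.Helper12.InfLift
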