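import Mathlib
import Groth.Agent.Lib.Helper12.InfLiftB

/-!
Helper library (helper12): the infinitesimal lifting criterion implies regularity.
-/

set_option autoImplicit false
set_option linter.style.haveILetI false

namespace Groth.Agent.Lib.Helper12.InfLift

open IsLocalRing

universe u

section Step

variable {k : Type u} [Field k] {P A : Type u} [CommRing P] [CommRing A] [Algebra k P]
  [Algebra k A] [IsLocalRing P] [IsNoetherianRing P] [IsLocalRing A]

/-- The key step: if `A = P/I` satisfies the lifting criterion and `I ≤ m²` then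
`I ≤ m I + m^n` for all `n ≥ 1`. -/
theorem ker_le_of_lifting (Φ : P →ₐ[k] A) (hsurj : Function.Surjective Φ)
    (hker : RingHom.ker Φ ≤ maximalIdeal P ^ 2)
    (h : ∀ (R : Type u) [CommRing R] [Algebra k R] [IsArtinianRing R] [IsLocalRing R] (J : Ideal R),
        J ^ 2 = ⊥ → ∀ f : A →ₐ[k] R ⧸ J, IsLocalHom (f : A →+* R ⧸ J) →
          ∃ g : A →ₐ[k] R, (Ideal.Quotient.mkₐ k J).comp g = f)
    (n : ℕ) (hn : 1 ≤ n) :
    RingHom.ker Φ ≤ maximalIdeal P * RingHom.ker Φ ⊔ maximalIdeal P ^ n := by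
  set m := maximalIdeal P with hm
  set I := RingHom.ker Φ with hI
  set 𝔟 : Ideal P := m * I ⊔ m ^ n with h𝔟
  have hIm : I ≤ m := hker.trans (Ideal.pow_le_self two_ne_zero)
  have hmn : m ^ n ≤ m := Ideal.pow_le_self (by omega)
  have h𝔟m : 𝔟 ≤ m := sup_le (Ideal.mul_le_right.trans hIm) hmn
  have h𝔟top : 𝔟 ≠ ⊤ := fun htop => (maximalIdeal.isMaximal P).ne_top (top_le_iff.mp (htop ▸ h𝔟m))
  haveI : Nontrivial (P ⧸ 𝔟) := Ideal.Quotient.nontrivial_iff.mpr h𝔟top
  haveI : IsLocalRing (P ⧸ 𝔟) :=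
    IsLocalRing.of_surjective' (Ideal.Quotient.mk 𝔟) Ideal.Quotient.mk_surjective
  -- maximal ideal of the quotient
  have hmax : maximalIdeal (P ⧸ 𝔟) ≤ m.map (Ideal.Quotient.mk 𝔟) := by
    intro x hx
    obtain ⟨p, rfl⟩ := Ideal.Quotient.mk_surjective x
    apply Ideal.mem_map_of_mem
    by_contra hp
    have hu : IsUnit p := by
      by_contra hnu
      exact hp hnu
    exact hx (hu.map _)
  haveI : IsArtinianRing (P ⧸ 𝔟) := by
    rw [isArtinianRing_iff_isNilpotent_maximalIdeal]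
    refine ⟨n, ?_⟩
    rw [Submodule.zero_eq_bot, eq_bot_iff]
    refine (Ideal.pow_right_mono hmax n).trans ?_
    rw [← Ideal.map_pow]
    exact (Ideal.map_mono (le_sup_right : m ^ n ≤ 𝔟)).trans (le_of_eq (Ideal.map_quotient_self 𝔟))
  set J : Ideal (P ⧸ 𝔟) := (I ⊔ m ^ n).map (Ideal.Quotient.mk 𝔟) with hJ
  have hmJ : m * (I ⊔ m ^ n) ≤ 𝔟 := by
    rw [Ideal.mul_sup]
    refine sup_le_sup le_rfl ?_
    rw [← pow_succ']
    exact Ideal.pow_le_pow_right (Nat.le_succ n)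
  have hJJ : (I ⊔ m ^ n) * (I ⊔ m ^ n) ≤ 𝔟 :=
    (Ideal.mul_mono_left (sup_le hIm hmn)).trans hmJ
  have hJ2 : J ^ 2 = ⊥ := by
    rw [hJ, ← Ideal.map_pow, pow_two, eq_bot_iff]
    exact (Ideal.map_mono hJJ).trans (le_of_eq (Ideal.map_quotient_self 𝔟))
  have hJne : J ≠ ⊤ := by
    intro htop
    rw [htop, Ideal.top_pow] at hJ2
    exact top_ne_bot hJ2
  haveI : Nontrivial ((P ⧸ 𝔟) ⧸ J) := Ideal.Quotient.nontrivial_iff.mpr hJne
  -- the map A → R/J
  let e₀ : (P ⧸ RingHom.ker Φ) ≃ₐ[k] A := Ideal.quotientKerAlgEquivOfSurjective hsurj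
  let q : P →ₐ[k] P ⧸ 𝔟 := Ideal.Quotient.mkₐ k 𝔟
  let lam : (P ⧸ RingHom.ker Φ) →ₐ[k] (P ⧸ 𝔟) ⧸ J :=
    Ideal.Quotient.liftₐ (RingHom.ker Φ) ((Ideal.Quotient.mkₐ k J).comp q) (by
      intro a ha
      show Ideal.Quotient.mk J (Ideal.Quotient.mk 𝔟 a) = 0
      rw [Ideal.Quotient.eq_zero_iff_mem]
      exact Ideal.mem_map_of_mem _ (Ideal.mem_sup_left ha))
  let f : A →ₐ[k] (P ⧸ 𝔟) ⧸ J := lam.comp e₀.symm.toAlgHom
  have hfΦ : ∀ p : P, f (Φ p) = Ideal.Quotient.mk J (q p) := by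
    intro p
    show lam (e₀.symm (Φ p)) = _
    rw [Ideal.quotientKerAlgEquivOfSurjective_symm_apply]
    rfl
  have hfsurj : Function.Surjective f := by
    intro z
    obtain ⟨y, rfl⟩ := Ideal.Quotient.mk_surjective z
    obtain ⟨p, rfl⟩ := Ideal.Quotient.mk_surjective y
    exact ⟨Φ p, hfΦ p⟩
  have hfloc : IsLocalHom (f : A →+* (P ⧸ 𝔟) ⧸ J) :=
    isLocalHom_of_surjective (f : A →+* (P ⧸ 𝔟) ⧸ J) hfsurj
  obtain ⟨g, hg⟩ := h (P ⧸ 𝔟) J hJ2 f hfloc
  -- compare g ∘ Φ with q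
  have hδ : ∀ p : P, g (Φ p) - q p ∈ J := by
    intro p
    rw [← Ideal.Quotient.mk_eq_mk_iff_sub_mem]
    have := AlgHom.congr_fun hg (Φ p)
    rw [hfΦ] at this
    exact this
  have hqJ : ∀ v ∈ m, ∀ j ∈ J, q v * j = 0 := by
    intro v hv j hj
    obtain ⟨z, hz, rfl⟩ := (Ideal.mem_map_iff_of_surjective _ Ideal.Quotient.mk_surjective).mp hj
    show Ideal.Quotient.mk 𝔟 v * Ideal.Quotient.mk 𝔟 z = 0
    rw [← map_mul, Ideal.Quotient.eq_zero_iff_mem]
    exact hmJ (Ideal.mul_mem_mul hv hz)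
  have hJJ0 : ∀ j ∈ J, ∀ j' ∈ J, j * j' = 0 := by
    intro j hj j' hj'
    have : j * j' ∈ J ^ 2 := by
      rw [pow_two]
      exact Ideal.mul_mem_mul hj hj'
    rw [hJ2] at this
    exact this
  have hsq : ∀ u ∈ m ^ 2, g (Φ u) = q u := by
    intro u hu
    rw [pow_two] at hu
    refine Submodule.mul_induction_on hu ?_ ?_
    · intro v hv w hw
      have hv' : g (Φ v) = q v + (g (Φ v) - q v) := by ring
      have hw' : g (Φ w) = q w + (g (Φ w) - q w) := by ring
      rw [map_mul, map_mul, map_mul, hv', hw', add_mul, mul_add, mul_add,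
        hqJ v hv _ (hδ w), hJJ0 _ (hδ v) _ (hδ w), mul_comm (g (Φ v) - q v) (q w),
        hqJ w hw _ (hδ v), add_zero, add_zero, add_zero]
    · intro x y hx hy
      rw [map_add, map_add, map_add, hx, hy]
  intro u hu
  have h1 : q u = 0 := by
    rw [← hsq u (hker hu)]
    have : Φ u = 0 := hu
    rw [this, map_zero]
  exact Ideal.Quotient.eq_zero_iff_mem.mp h1

end Step

section Main

variable {k A : Type u} [Field k] [CommRing A] [Algebra k A] [IsLocalRing A] [IsNoetherianRing A]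
  [IsAdicComplete (maximalIdeal A) A] (π : A →ₐ[k] k) (hπ : RingHom.ker π = maximalIdeal A)

include hπ

theorem regular_of_lifting
    (h : ∀ (R : Type u) [CommRing R] [Algebra k R] [IsArtinianRing R] [IsLocalRing R] (J : Ideal R),
        J ^ 2 = ⊥ → ∀ f : A →ₐ[k] R ⧸ J, IsLocalHom (f : A →+* R ⧸ J) →
          ∃ g : A →ₐ[k] R, (Ideal.Quotient.mkₐ k J).comp g = f) :
    IsRegularLocalRing A := by
  obtain ⟨d, Φ, hd, hsurj, hloc, hker⟩ := exists_presentation π hπ
  have hker' : RingHom.ker Φ ≤ maximalIdeal (MvPowerSeries (Fin d) k) ^ 2 := hker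
  have hstep := ker_le_of_lifting Φ hsurj hker' h
  -- I ≤ m I by Krull
  have hle : RingHom.ker Φ ≤
      maximalIdeal (MvPowerSeries (Fin d) k) • RingHom.ker Φ := by
    intro u hu
    rw [smul_eq_mul, ← Ideal.Quotient.eq_zero_iff_mem]
    apply IsHausdorff.haus (I := maximalIdeal (MvPowerSeries (Fin d) k))
      (M := MvPowerSeries (Fin d) k ⧸ maximalIdeal (MvPowerSeries (Fin d) k) * RingHom.ker Φ)
      inferInstance
    intro n
    rw [SModEq.zero]
    rcases Nat.eq_zero_or_pos n with rfl | hn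
    · rw [pow_zero, Ideal.one_eq_top, Submodule.top_smul]
      exact Submodule.mem_top
    obtain ⟨v, hv, w, hw, rfl⟩ := Submodule.mem_sup.mp (hstep n hn hu)
    rw [map_add, Ideal.Quotient.eq_zero_iff_mem.mpr hv, zero_add]
    have : Ideal.Quotient.mk (maximalIdeal (MvPowerSeries (Fin d) k) * RingHom.ker Φ) w =
        w • (1 : MvPowerSeries (Fin d) k ⧸
          maximalIdeal (MvPowerSeries (Fin d) k) * RingHom.ker Φ) := by
      rw [Algebra.smul_def, mul_one]
      rfl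
    rw [this]
    exact Submodule.smul_mem_smul hw Submodule.mem_top
  have hbot : RingHom.ker Φ = ⊥ :=
    Submodule.eq_bot_of_le_smul_of_le_jacobson_bot _ _ (IsNoetherian.noetherian _) hle
      (maximalIdeal_le_jacobson ⊥)
  have hinj : Function.Injective Φ := (RingHom.injective_iff_ker_eq_bot _).mpr hbot
  let e : MvPowerSeries (Fin d) k ≃+* A := RingEquiv.ofBijective Φ ⟨hinj, hsurj⟩
  exact IsRegularLocalRing.of_ringEquiv e

end Main

end Groth.Agent.Lib.Helper12.InfLift
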