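import Mathlib

/-!
# Strong form of Hensel's lemma (Newton) over adically complete rings

* `exists_root_of_isAdicComplete`: non-monic Hensel's lemma for `I`-adically complete rings
  (Mathlib's proof of `IsAdicComplete.henselianRing`, which never uses monicity).
* `exists_root_strong`: if `f(a₀) = f'(a₀)² e` with `e ∈ I`, there is a root `a₀ + f'(a₀) y`
  with `y * v = -e` for a unit `v`.
* `exists_pow_le_span_singleton`: in a one-dimensional Noetherian local domain, every nonzero
  principal ideal contains a power of the maximal ideal.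
-/

open Polynomial

namespace Groth.Agent.Lib.Helper12.Krasner

theorem exists_root_of_isAdicComplete {R : Type*} [CommRing R] (I : Ideal R)
    [IsAdicComplete I R] (f : R[X]) (a₀ : R) (h₁ : f.eval a₀ ∈ I)
    (h₂ : IsUnit (Ideal.Quotient.mk I (f.derivative.eval a₀))) :
    ∃ a : R, f.IsRoot a ∧ a - a₀ ∈ I := by
  classical
    let f' := derivative f
    let c : ℕ → R := fun n => Nat.recOn n a₀ fun _ b => b - f.eval b * Ring.inverse (f'.eval b)
    have hc : ∀ n, c (n + 1) = c n - f.eval (c n) * Ring.inverse (f'.eval (c n)) := by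
      intro n
      simp only [c]
    have hc_mod : ∀ n, c n ≡ a₀ [SMOD I] := by
      intro n
      induction n with
      | zero => rfl
      | succ n ih => ?_
      rw [hc, sub_eq_add_neg, ← add_zero a₀]
      refine ih.add ?_
      rw [SModEq.zero, Ideal.neg_mem_iff]
      refine I.mul_mem_right _ ?_
      rw [← SModEq.zero] at h₁ ⊢
      exact (ih.eval f).trans h₁
    have hf'c : ∀ n, IsUnit (f'.eval (c n)) := by
      intro n
      have := isLocalHom_of_le_jacobson_bot I (IsAdicComplete.le_jacobson_bot I)
      apply IsUnit.of_map (Ideal.Quotient.mk I)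
      convert! h₂ using 1
      exact SModEq.def.mp ((hc_mod n).eval _)
    have hfcI : ∀ n, f.eval (c n) ∈ I ^ (n + 1) := by
      intro n
      induction n with
      | zero => simpa only [Nat.rec_zero, zero_add, pow_one] using! h₁
      | succ n ih => ?_
      rw [← taylor_eval_sub (c n), hc, sub_eq_add_neg, sub_eq_add_neg,
        add_neg_cancel_comm]
      rw [eval_eq_sum, sum_over_range' _ _ _ (lt_add_of_pos_right _ zero_lt_two), ←
        Finset.sum_range_add_sum_Ico _ (Nat.le_add_left _ _)]
      swap
      · intro i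
        rw [zero_mul]
      refine Ideal.add_mem _ ?_ ?_
      · rw [← one_add_one_eq_two, Finset.sum_range_succ, Finset.range_one, Finset.sum_singleton,
          taylor_coeff_zero, taylor_coeff_one, pow_zero, pow_one, mul_one, mul_neg,
          mul_left_comm, Ring.mul_inverse_cancel _ (hf'c n), mul_one, add_neg_cancel]
        exact Ideal.zero_mem _
      · refine Submodule.sum_mem _ ?_
        simp only [Finset.mem_Ico]
        rintro i ⟨h2i, _⟩
        have aux : n + 2 ≤ i * (n + 1) := by trans 2 * (n + 1) <;> nlinarith only [h2i]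
        refine Ideal.mul_mem_left _ _ (Ideal.pow_le_pow_right aux ?_)
        rw [pow_mul']
        exact Ideal.pow_mem_pow ((Ideal.neg_mem_iff _).2 <| Ideal.mul_mem_right _ _ ih) _
    have aux : ∀ m n, m ≤ n → c m ≡ c n [SMOD (I ^ m • ⊤ : Ideal R)] := by
      intro m n hmn
      rw [← Ideal.one_eq_top, Ideal.smul_eq_mul, mul_one]
      obtain ⟨k, rfl⟩ := Nat.exists_eq_add_of_le hmn
      clear hmn
      induction k with
      | zero => rw [add_zero]
      | succ k ih => ?_
      rw [← add_assoc, hc, ← add_zero (c m), sub_eq_add_neg]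
      refine ih.add ?_
      symm
      rw [SModEq.zero, Ideal.neg_mem_iff]
      refine Ideal.mul_mem_right _ _ (Ideal.pow_le_pow_right ?_ (hfcI _))
      rw [add_assoc]
      exact le_self_add
    obtain ⟨a, ha⟩ := IsPrecomplete.prec' c (aux _ _)
    refine ⟨a, ?_, ?_⟩
    · show f.IsRoot a
      suffices ∀ n, f.eval a ≡ 0 [SMOD (I ^ n • ⊤ : Ideal R)] by exact IsHausdorff.haus' _ this
      intro n
      specialize ha n
      rw [← Ideal.one_eq_top, Ideal.smul_eq_mul, mul_one] at ha ⊢
      refine (ha.symm.eval f).trans ?_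
      rw [SModEq.zero]
      exact Ideal.pow_le_pow_right le_self_add (hfcI _)
    · show a - a₀ ∈ I
      specialize ha (0 + 1)
      rw [hc, pow_one, ← Ideal.one_eq_top, Ideal.smul_eq_mul, mul_one, sub_eq_add_neg] at ha
      rw [← SModEq.sub_mem, ← add_zero a₀]
      refine ha.symm.trans (SModEq.rfl.add ?_)
      rw [SModEq.zero, Ideal.neg_mem_iff]
      exact Ideal.mul_mem_right _ _ h₁

/-- Evaluating `f(p)` (a polynomial in `Y`) at `Y = y` is `f(p(y))`. -/
theorem eval_eval_map_C {R : Type*} [CommRing R] (f : R[X]) (p : R[X]) (y : R) :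
    (eval p (f.map C)).eval y = f.eval (p.eval y) := by
  have h := Polynomial.hom_eval₂ f (C : R →+* R[X]) (evalRingHom y) p
  rw [← Polynomial.eval_map] at h
  rw [← coe_evalRingHom, h]
  have : (evalRingHom y).comp (C : R →+* R[X]) = RingHom.id R := by
    ext r
    simp
  rw [this, Polynomial.eval₂_id]

theorem exists_root_strong {R : Type*} [CommRing R] (I : Ideal R) [IsAdicComplete I R]
    (f : R[X]) (a₀ e : R) (he : e ∈ I)
    (hf : f.eval a₀ = (f.derivative.eval a₀) ^ 2 * e) :
    ∃ y v : R, IsUnit v ∧ y * v = -e ∧ f.eval (a₀ + f.derivative.eval a₀ * y) = 0 := by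
  set d := f.derivative.eval a₀ with hd
  obtain ⟨k, hk⟩ := Polynomial.binomExpansion (f.map C) (C a₀) (C d * X)
  have h0 : (f.map C).eval (C a₀) = C (d ^ 2 * e) := by
    rw [← hf, Polynomial.eval_map, ← Polynomial.eval₂_at_apply]
  have h1 : (derivative (f.map C)).eval (C a₀) = C d := by
    rw [Polynomial.derivative_map, Polynomial.eval_map, hd, ← Polynomial.eval₂_at_apply]
  let H : R[X] := C e + X + k * X ^ 2
  have hH : (f.map C).eval (C a₀ + C d * X) = C (d ^ 2) * H := by
    rw [hk, h0, h1]
    simp only [H, C_mul, C_pow]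
    ring
  have hH0 : H.eval 0 = e := by simp [H]
  have hH1 : H.derivative.eval 0 = 1 := by simp [H]
  obtain ⟨y, hy, hyI⟩ := exists_root_of_isAdicComplete I H 0 (by rw [hH0]; exact he)
    (by rw [hH1, map_one]; exact isUnit_one)
  rw [sub_zero] at hyI
  have hy' : e + y + k.eval y * y ^ 2 = 0 := by
    have := hy
    simp only [H, IsRoot.def, eval_add, eval_C, eval_X, eval_mul, eval_pow] at this
    exact this
  refine ⟨y, 1 + k.eval y * y, ?_, by linear_combination hy', ?_⟩
  · have hjac : k.eval y * y ∈ (⊥ : Ideal R).jacobson :=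
      IsAdicComplete.le_jacobson_bot I (I.mul_mem_left _ hyI)
    have := (Ideal.mem_jacobson_bot.mp hjac) 1
    simpa [add_comm] using this
  · have := congrArg (Polynomial.eval y) hH
    rw [eval_eval_map_C] at this
    simp only [eval_add, eval_C, eval_mul, eval_X] at this
    rw [this]
    have : H.eval y = 0 := hy
    rw [this, mul_zero]

theorem exists_pow_le_span_singleton {A : Type*} [CommRing A] [IsDomain A] [IsLocalRing A]
    [IsNoetherianRing A] (hdim : ringKrullDim A = 1) (z : A) (hz : z ≠ 0) :
    ∃ r : ℕ, IsLocalRing.maximalIdeal A ^ r ≤ Ideal.span {z} := by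
  have hd1 : Ring.KrullDimLE 1 A := Ring.krullDimLE_iff.mpr (by rw [hdim]; rfl)
  apply Ideal.exists_pow_le_of_le_radical_of_fg _ (IsNoetherian.noetherian _)
  rw [Ideal.radical_eq_sInf]
  refine le_sInf ?_
  rintro p ⟨hzp, hp⟩
  have hpne : p ≠ ⊥ := by
    rintro rfl
    exact hz (by simpa using hzp (Ideal.mem_span_singleton_self z))
  have : p.IsMaximal := hp.isMaximal_of_ne_bot hpne
  rw [IsLocalRing.eq_maximalIdeal this]

end Groth.Agent.Lib.Helper12.Krasner
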