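import Mathlib
import Groth.Agent.Lib.Helper12.KrasnerA
import Groth.Agent.Lib.Helper22.DispNormal

/-!
# Roots of a nearby polynomial in `R[X]/(g̃)` for `R` adically complete

If `U g + V g' = b` and `I^r ≤ (b)`, then for any monic `g̃` with `g̃ ≡ g mod I^(2r+1)`,
`g` has a root in `R[X]/(g̃)`.
-/

set_option autoImplicit false
universe u

open Polynomial

namespace Groth.Agent.Lib.Helper12.Krasner

theorem isAdicComplete_adjoinRoot {R : Type u} [CommRing R] (I : Ideal R) [IsAdicComplete I R]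
    (f : R[X]) (hf : f.Monic) :
    IsAdicComplete (I.map (algebraMap R (AdjoinRoot f))) (AdjoinRoot f) := by
  rw [IsAdicComplete.map_algebraMap_iff]
  haveI : Module.Finite R (AdjoinRoot f) := hf.finite_adjoinRoot
  haveI : Module.Free R (AdjoinRoot f) := hf.free_adjoinRoot
  exact Groth.Agent.Lib.Helper22.DispNormal.isAdicComplete_of_finite_projective I

theorem aeval_mem_map_pow {R S : Type*} [CommRing R] [CommRing S] [Algebra R S] (I : Ideal R)
    (N : ℕ) (Q : R[X]) (hQ : ∀ i, Q.coeff i ∈ I ^ N) (x : S) :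
    aeval x Q ∈ (I.map (algebraMap R S)) ^ N := by
  rw [aeval_eq_sum_range]
  refine Ideal.sum_mem _ fun i _ => ?_
  rw [Algebra.smul_def]
  apply Ideal.mul_mem_right
  rw [← Ideal.map_pow]
  exact Ideal.mem_map_of_mem _ (hQ i)

theorem exists_root_adjoinRoot {R : Type u} [CommRing R] (I : Ideal R) [IsAdicComplete I R]
    (g gt U V : R[X]) (b : R) (hgt : gt.Monic) (r : ℕ) (hr : I ^ r ≤ Ideal.span {b})
    (hUV : U * g + V * derivative g = C b)
    (hQ : ∀ i, (gt - g).coeff i ∈ I ^ (2 * r + 1)) :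
    ∃ β : AdjoinRoot gt, aeval β g = 0 := by
  haveI := isAdicComplete_adjoinRoot I gt hgt
  set J := I.map (algebraMap R (AdjoinRoot gt)) with hJ
  set x : AdjoinRoot gt := AdjoinRoot.root gt with hxdef
  set bb : AdjoinRoot gt := algebraMap R (AdjoinRoot gt) b with hbb
  have hx : aeval x gt = 0 := by rw [hxdef, AdjoinRoot.aeval_eq, AdjoinRoot.mk_self]
  have hgx : aeval x g ∈ J ^ (2 * r + 1) := by
    have := aeval_mem_map_pow I _ (gt - g) hQ x
    rw [map_sub, hx, zero_sub] at this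
    exact (Ideal.neg_mem_iff _).mp this
  have hJr : J ^ r ≤ Ideal.span {bb} := by
    rw [hJ, ← Ideal.map_pow]
    refine (Ideal.map_mono hr).trans ?_
    rw [Ideal.map_span, Set.image_singleton]
  have hle : J ^ (2 * r + 1) ≤ Ideal.span {bb ^ 2} * J := by
    rw [show 2 * r + 1 = (r + r) + 1 by ring, pow_succ, pow_add, ← Ideal.span_singleton_pow,
      pow_two]
    exact Ideal.mul_mono_left (Ideal.mul_mono hJr hJr)
  obtain ⟨e₀, he₀, hge⟩ := Ideal.mem_span_singleton_mul.mp (hle hgx)
  have hrel : aeval x U * aeval x g + aeval x V * aeval x (derivative g) = bb := by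
    have := congrArg (aeval x) hUV
    rw [map_add, map_mul, map_mul, aeval_C] at this
    exact this
  set d := aeval x (derivative g) with hd
  have hw : IsUnit (1 - aeval x U * bb * e₀) := by
    have hmem : aeval x U * bb * e₀ ∈ (⊥ : Ideal (AdjoinRoot gt)).jacobson :=
      IsAdicComplete.le_jacobson_bot J (Ideal.mul_mem_left _ _ he₀)
    have := (Ideal.mem_jacobson_bot.mp hmem) (-1)
    have h2 : aeval x U * bb * e₀ * -1 + 1 = 1 - aeval x U * bb * e₀ := by ring
    rwa [h2] at this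
  obtain ⟨wu, hwu⟩ := hw
  have hVd : aeval x V * d = bb * wu := by
    rw [hwu]
    rw [← hge] at hrel
    linear_combination hrel
  set e := (aeval x V * ↑wu⁻¹) ^ 2 * e₀ with he
  have heJ : e ∈ J := Ideal.mul_mem_left _ _ he₀
  have hfe : (g.map (algebraMap R (AdjoinRoot gt))).eval x =
      ((g.map (algebraMap R (AdjoinRoot gt))).derivative.eval x) ^ 2 * e := by
    rw [derivative_map, eval_map_algebraMap, eval_map_algebraMap, ← hd, ← hge, he]
    have h1 : (wu : AdjoinRoot gt) * ↑wu⁻¹ = 1 := Units.mul_inv wu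
    have h2 : d ^ 2 * ((aeval x V * ↑wu⁻¹) ^ 2 * e₀) = (aeval x V * d) ^ 2 * (↑wu⁻¹) ^ 2 * e₀ := by
      ring
    rw [h2, hVd]
    linear_combination (-(bb ^ 2 * e₀) * (1 + (wu : AdjoinRoot gt) * ↑wu⁻¹)) * h1
  obtain ⟨y, v, -, -, hroot⟩ :=
    exists_root_strong J (g.map (algebraMap R (AdjoinRoot gt))) x e heJ hfe
  exact ⟨_, by rw [← eval_map_algebraMap]; exact hroot⟩

end Groth.Agent.Lib.Helper12.Krasner
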