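import Mathlib
import Groth.Agent.Lib.Helper12.KrasnerB

/-!
# Descending finite separable extensions of the fraction field of a complete DVR along a
dense subring
-/

set_option autoImplicit false
universe u

open Polynomial IsLocalRing TensorProduct
open scoped IntermediateField

namespace Groth.Agent.Lib.Helper12.Krasner

section Bezout

variable {R Kh : Type u} [CommRing R] [IsDomain R] [Field Kh] [Algebra R Kh] [IsFractionRing R Kh]

/-- Clearing denominators in a Bezout relation. -/
theorem exists_bezout_integer (g : R[X]) (hsep : (g.map (algebraMap R Kh)).Separable) :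
    ∃ (U V : R[X]) (b : R), b ≠ 0 ∧ U * g + V * derivative g = C b := by
  obtain ⟨u, v, huv⟩ := hsep
  obtain ⟨b₁, hb₁⟩ := IsLocalization.integerNormalization_map_to_map (nonZeroDivisors R) u
  obtain ⟨b₂, hb₂⟩ := IsLocalization.integerNormalization_map_to_map (nonZeroDivisors R) v
  refine ⟨(b₂ : R) • IsLocalization.integerNormalization (nonZeroDivisors R) u,
    (b₁ : R) • IsLocalization.integerNormalization (nonZeroDivisors R) v, (b₁ : R) * b₂,
    mul_ne_zero (nonZeroDivisors.coe_ne_zero _) (nonZeroDivisors.coe_ne_zero _), ?_⟩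
  apply Polynomial.map_injective _ (IsFractionRing.injective R Kh)
  rw [Polynomial.map_add, Polynomial.map_mul, Polynomial.map_mul, Polynomial.map_smul,
    Polynomial.map_smul, hb₁, hb₂, ← derivative_map, map_C, map_mul]
  rw [Algebra.smul_def, Algebra.smul_def, Algebra.smul_def, Algebra.smul_def,
    Polynomial.algebraMap_apply, Polynomial.algebraMap_apply, Polynomial.algebraMap_apply,
    Polynomial.algebraMap_apply, C_mul]
  simp only [Algebra.algebraMap_self, RingHom.id_apply]
  linear_combination (C (algebraMap R Kh ↑b₁) * C (algebraMap R Kh ↑b₂)) * huv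

end Bezout

section Approx

variable {A R : Type u} [CommRing A] [CommRing R] [Algebra A R]

/-- Approximating a monic polynomial over `R` by a monic polynomial over a dense subring. -/
theorem exists_monic_approx (I : Ideal R) (hI : I ≠ ⊤)
    (hdense : ∀ x : R, ∃ a : A, x - algebraMap A R a ∈ I) (g : R[X]) (hg : g.Monic) :
    ∃ q : A[X], q.Monic ∧ q.natDegree = g.natDegree ∧
      ∀ i, ((q.map (algebraMap A R)) - g).coeff i ∈ I := by
  haveI : Nontrivial (R ⧸ I) := Ideal.Quotient.nontrivial_iff.mpr hI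
  let φ : A →+* R ⧸ I := (Ideal.Quotient.mk I).comp (algebraMap A R)
  have hφ : Function.Surjective φ := by
    intro y
    obtain ⟨x, rfl⟩ := Ideal.Quotient.mk_surjective y
    obtain ⟨a, ha⟩ := hdense x
    refine ⟨a, ?_⟩
    show Ideal.Quotient.mk I (algebraMap A R a) = Ideal.Quotient.mk I x
    rw [eq_comm, Ideal.Quotient.eq]
    exact ha
  have hgm : (g.map (Ideal.Quotient.mk I)).Monic := hg.map _
  have hl : g.map (Ideal.Quotient.mk I) ∈ lifts φ := by
    rw [mem_lifts]
    exact Polynomial.map_surjective φ hφ _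
  obtain ⟨q, hq, hdeg, hqm⟩ := lifts_and_natDegree_eq_and_monic hl hgm
  refine ⟨q, hqm, ?_, fun i => ?_⟩
  · rw [hdeg, hg.natDegree_map]
  · rw [← Ideal.Quotient.eq_zero_iff_mem, coeff_sub, map_sub, ← coeff_map, ← coeff_map,
      Polynomial.map_map]
    show (q.map φ).coeff i - _ = 0
    rw [hq, sub_self]

end Approx

section Field

variable {F M : Type u} [Field F] [Field M] [Algebra F M] [FiniteDimensional F M]

/-- If `F[X]/(h)` (with `h` monic) is `F`-isomorphic to a field `M`, then `h` is the minimal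
polynomial of the image of the root, which generates `M`. -/
theorem minpoly_eq_of_adjoinRoot_equiv (h : F[X]) (hm : h.Monic) (E : AdjoinRoot h ≃ₐ[F] M) :
    minpoly F (E (AdjoinRoot.root h)) = h ∧ Algebra.adjoin F {E (AdjoinRoot.root h)} = ⊤ ∧
      Module.finrank F M = h.natDegree := by
  have htop' : Algebra.adjoin F {E (AdjoinRoot.root h)} = ⊤ := by
    have h1 := AdjoinRoot.adjoinRoot_eq_top (f := h)
    have h2 := congrArg (Subalgebra.map E.toAlgHom) h1
    rw [AlgHom.map_adjoin, Set.image_singleton, Algebra.map_top] at h2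
    rw [show (E.toAlgHom (AdjoinRoot.root h)) = E (AdjoinRoot.root h) from rfl] at h2
    rw [h2]
    exact (AlgHom.range_eq_top _).mpr E.surjective
  have htop : F⟮E (AdjoinRoot.root h)⟯ = ⊤ := IntermediateField.adjoin_eq_top_of_algebra _ _ htop'
  have hne : h ≠ 0 := hm.ne_zero
  have hfin : Module.finrank F M = h.natDegree := by
    rw [← E.toLinearEquiv.finrank_eq, (AdjoinRoot.powerBasis hne).finrank,
      AdjoinRoot.powerBasis_dim]
  refine ⟨?_, htop', hfin⟩
  have hint : IsIntegral F (E (AdjoinRoot.root h)) := Algebra.IsIntegral.isIntegral _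
  have hdvd : minpoly F (E (AdjoinRoot.root h)) ∣ h := by
    apply minpoly.dvd
    rw [Polynomial.aeval_algHom_apply E (AdjoinRoot.root h) h, AdjoinRoot.aeval_eq,
      AdjoinRoot.mk_self, map_zero]
  have hdeg : (minpoly F (E (AdjoinRoot.root h))).natDegree = h.natDegree := by
    rw [← IntermediateField.adjoin.finrank hint, htop, IntermediateField.finrank_top', hfin]
  exact (Polynomial.eq_of_monic_of_dvd_of_natDegree_le (minpoly.monic hint) hm hdvd hdeg.ge).symm

/-- Descent of a finite separable extension presented by a polynomial with coefficients in a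
subfield. -/
theorem exists_descent_of_adjoinRoot_equiv [Algebra.IsSeparable F M] {K : Type u} [Field K]
    [Algebra K F] (q : K[X]) (hq : q.Monic)
    (E : AdjoinRoot (q.map (algebraMap K F)) ≃ₐ[F] M) :
    ∃ (L : Type u) (_ : Field L) (_ : Algebra K L), FiniteDimensional K L ∧
      Algebra.IsSeparable K L ∧ Nonempty ((F ⊗[K] L) ≃ₐ[F] M) := by
  set h := q.map (algebraMap K F) with hh
  have hm : h.Monic := hq.map _
  obtain ⟨hmin, htop, hfin⟩ := minpoly_eq_of_adjoinRoot_equiv h hm E
  set θ := E (AdjoinRoot.root h) with hθ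
  have hint : IsIntegral F θ := Algebra.IsIntegral.isIntegral _
  have hirr : Irreducible h := hmin ▸ minpoly.irreducible hint
  have hsep : h.Separable := hmin ▸ (Algebra.IsSeparable.isSeparable F θ)
  have hqirr : Irreducible q := hq.irreducible_of_irreducible_map (algebraMap K F) q hirr
  have hqsep : q.Separable := (Polynomial.separable_map (algebraMap K F)).mp hsep
  haveI : Fact (Irreducible q) := ⟨hqirr⟩
  have hfinL : FiniteDimensional K (AdjoinRoot q) := (AdjoinRoot.powerBasis hq.ne_zero).finite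
  have hsepL : Algebra.IsSeparable K (AdjoinRoot q) := by
    rw [← separableClosure.eq_top_iff, eq_top_iff,
      ← IntermediateField.adjoin_eq_top_of_algebra K _ (AdjoinRoot.adjoinRoot_eq_top (f := q)),
      IntermediateField.adjoin_le_iff, Set.singleton_subset_iff]
    show AdjoinRoot.root q ∈ separableClosure K (AdjoinRoot q)
    rw [mem_separableClosure_iff, IsSeparable, AdjoinRoot.minpoly_root hq.ne_zero, hq.leadingCoeff,
      inv_one, C_1, mul_one]
    exact hqsep
  refine ⟨AdjoinRoot q, inferInstance, inferInstance, hfinL, hsepL, ?_⟩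
  letI : Algebra K M := ((algebraMap F M).comp (algebraMap K F)).toAlgebra
  haveI : IsScalarTower K F M := IsScalarTower.of_algebraMap_eq (fun _ => rfl)
  have hroot : q.eval₂ (Algebra.ofId K M : K →+* M) θ = 0 := by
    have h1 : aeval θ h = 0 := by rw [← hmin]; exact minpoly.aeval F θ
    rw [hh, aeval_def, Polynomial.eval₂_map] at h1
    exact h1
  let f₂ : AdjoinRoot q →ₐ[K] M := AdjoinRoot.liftAlgHom q (Algebra.ofId K M) θ hroot
  have hf₂ : f₂ (AdjoinRoot.root q) = θ := AdjoinRoot.lift_root hroot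
  let Φ : F ⊗[K] AdjoinRoot q →ₐ[F] M :=
    Algebra.TensorProduct.lift (Algebra.ofId F M) f₂ (fun _ _ => Commute.all _ _)
  have hΦsurj : Function.Surjective Φ := by
    rw [← AlgHom.range_eq_top, eq_top_iff, ← htop, Algebra.adjoin_le_iff,
      Set.singleton_subset_iff]
    refine ⟨1 ⊗ₜ AdjoinRoot.root q, ?_⟩
    show Φ (1 ⊗ₜ AdjoinRoot.root q) = θ
    rw [Algebra.TensorProduct.lift_tmul, map_one, one_mul, hf₂]
  have hrank : Module.finrank F (F ⊗[K] AdjoinRoot q) = Module.finrank F M := by
    rw [Module.finrank_baseChange, (AdjoinRoot.powerBasis hq.ne_zero).finrank,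
      AdjoinRoot.powerBasis_dim, hfin, hh, hq.natDegree_map]
  have hΦinj : Function.Injective Φ :=
    (LinearMap.injective_iff_surjective_of_finrank_eq_finrank (f := Φ.toLinearMap) hrank).mpr
      hΦsurj
  exact ⟨AlgEquiv.ofBijective Φ ⟨hΦinj, hΦsurj⟩⟩

end Field

section Main

/-- Abstract form: `R` a complete DVR with fraction field `Kh`, `A → R` with dense image, `K` a
field between `A` and `Kh`. Every finite separable extension of `Kh` descends to `K`. -/
theorem exists_descent {A K R Kh M : Type u} [CommRing A] [Field K] [Algebra A K]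
    [CommRing R] [IsDomain R] [IsDiscreteValuationRing R] [IsAdicComplete (maximalIdeal R) R]
    [Field Kh] [Algebra R Kh] [IsFractionRing R Kh] [Algebra A R] [Algebra A Kh] [Algebra K Kh]
    [IsScalarTower A R Kh] [IsScalarTower A K Kh]
    (hdense : ∀ (N : ℕ) (x : R), ∃ a : A, x - algebraMap A R a ∈ maximalIdeal R ^ N)
    [Field M] [Algebra Kh M] [FiniteDimensional Kh M] [Algebra.IsSeparable Kh M] :
    ∃ (L : Type u) (_ : Field L) (_ : Algebra K L), FiniteDimensional K L ∧
      Algebra.IsSeparable K L ∧ Nonempty ((Kh ⊗[K] L) ≃ₐ[Kh] M) := by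
  obtain ⟨θ₀, hθ₀⟩ := Field.exists_primitive_element Kh M
  letI : Algebra R M := ((algebraMap Kh M).comp (algebraMap R Kh)).toAlgebra
  haveI : IsScalarTower R Kh M := IsScalarTower.of_algebraMap_eq (fun _ => rfl)
  obtain ⟨a, ha⟩ := IsIntegral.exists_multiple_integral_of_isLocalization (nonZeroDivisors R) θ₀
    (Algebra.IsIntegral.isIntegral (R := Kh) θ₀)
  set θ := a • θ₀ with hθdef
  have hθ : Kh⟮θ⟯ = ⊤ := by
    rw [eq_top_iff, ← hθ₀, IntermediateField.adjoin_le_iff, Set.singleton_subset_iff]
    have hane : algebraMap R Kh (a : R) ≠ 0 :=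
      IsFractionRing.to_map_ne_zero_of_mem_nonZeroDivisors a.2
    have : θ₀ = (algebraMap R Kh a)⁻¹ • θ := by
      rw [hθdef, Submonoid.smul_def, ← algebraMap_smul Kh (a : R) θ₀, smul_smul,
        inv_mul_cancel₀ hane, one_smul]
    rw [this]
    exact (Kh⟮θ⟯).smul_mem (IntermediateField.mem_adjoin_simple_self Kh θ)
  set g := minpoly R θ with hg
  have hgm : g.Monic := minpoly.monic ha
  have hgK : minpoly Kh θ = g.map (algebraMap R Kh) :=
    minpoly.isIntegrallyClosed_eq_field_fractions' Kh ha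
  have hsep : (g.map (algebraMap R Kh)).Separable := hgK ▸ Algebra.IsSeparable.isSeparable Kh θ
  obtain ⟨U, V, b, hb, hUV⟩ := exists_bezout_integer g hsep
  obtain ⟨r, hr⟩ := exists_pow_le_span_singleton
    (IsDiscreteValuationRing.ringKrullDim_eq_one R) b hb
  have hNtop : maximalIdeal R ^ (2 * r + 1) ≠ ⊤ := by
    intro h
    have h1 : maximalIdeal R ^ (2 * r + 1) ≤ maximalIdeal R := Ideal.pow_le_self (by omega)
    rw [h, top_le_iff] at h1
    exact (IsLocalRing.maximalIdeal.isMaximal R).ne_top h1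
  obtain ⟨q, hqm, hqdeg, hqc⟩ := exists_monic_approx (A := A) (maximalIdeal R ^ (2 * r + 1)) hNtop
    (hdense _) g hgm
  set gt := q.map (algebraMap A R) with hgt
  have hgtm : gt.Monic := hqm.map _
  obtain ⟨β, hβ⟩ := exists_root_adjoinRoot (maximalIdeal R) g gt U V b hgtm r hr hUV hqc
  set gtK := gt.map (algebraMap R Kh) with hgtK
  have hgtKm : gtK.Monic := hgtm.map _
  let ρ : AdjoinRoot gt →ₐ[R] AdjoinRoot gtK :=
    AdjoinRoot.mapAlgHom (Algebra.ofId R Kh) gt gtK (dvd_refl _)
  have hβ' : (minpoly Kh θ).eval₂ (Algebra.ofId Kh (AdjoinRoot gtK) : Kh →+* AdjoinRoot gtK)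
      (ρ β) = 0 := by
    have h1 : aeval (ρ β) (minpoly Kh θ) = 0 := by
      rw [hgK, aeval_map_algebraMap, aeval_algHom_apply, hβ, map_zero]
    exact h1
  have hintK : IsIntegral Kh θ := Algebra.IsIntegral.isIntegral θ
  haveI : Fact (Irreducible (minpoly Kh θ)) := ⟨minpoly.irreducible hintK⟩
  let ψ : AdjoinRoot (minpoly Kh θ) →ₐ[Kh] AdjoinRoot gtK :=
    AdjoinRoot.liftAlgHom _ (Algebra.ofId Kh _) (ρ β) hβ'
  have hdeg : gtK.natDegree = (minpoly Kh θ).natDegree := by
    rw [hgK, hgm.natDegree_map, hgtK, hgtm.natDegree_map, hgt, hqm.natDegree_map, hqdeg]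
  have hdegpos : 0 < (minpoly Kh θ).natDegree := minpoly.natDegree_pos hintK
  haveI : Nontrivial (AdjoinRoot gtK) := by
    apply AdjoinRoot.nontrivial
    rw [Polynomial.degree_eq_natDegree hgtKm.ne_zero, hdeg]
    exact_mod_cast hdegpos.ne'
  have hψinj : Function.Injective ψ := ψ.toRingHom.injective
  haveI : FiniteDimensional Kh (AdjoinRoot gtK) := (AdjoinRoot.powerBasis hgtKm.ne_zero).finite
  haveI : FiniteDimensional Kh (AdjoinRoot (minpoly Kh θ)) :=
    (AdjoinRoot.powerBasis (minpoly.ne_zero hintK)).finite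
  have hrank : Module.finrank Kh (AdjoinRoot (minpoly Kh θ)) =
      Module.finrank Kh (AdjoinRoot gtK) := by
    rw [(AdjoinRoot.powerBasis (minpoly.ne_zero hintK)).finrank,
      (AdjoinRoot.powerBasis hgtKm.ne_zero).finrank, AdjoinRoot.powerBasis_dim,
      AdjoinRoot.powerBasis_dim, hdeg]
  have hψsurj : Function.Surjective ψ :=
    (LinearMap.injective_iff_surjective_of_finrank_eq_finrank (f := ψ.toLinearMap) hrank).mp hψinj
  let e₁ : AdjoinRoot (minpoly Kh θ) ≃ₐ[Kh] AdjoinRoot gtK :=
    AlgEquiv.ofBijective ψ ⟨hψinj, hψsurj⟩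
  let e₂ : AdjoinRoot (minpoly Kh θ) ≃ₐ[Kh] Kh⟮θ⟯ :=
    IntermediateField.adjoinRootEquivAdjoin Kh hintK
  let e₃ : Kh⟮θ⟯ ≃ₐ[Kh] M := (IntermediateField.equivOfEq hθ).trans IntermediateField.topEquiv
  let E : AdjoinRoot gtK ≃ₐ[Kh] M := e₁.symm.trans (e₂.trans e₃)
  have hgtK' : gtK = (q.map (algebraMap A K)).map (algebraMap K Kh) := by
    rw [hgtK, hgt, Polynomial.map_map, Polynomial.map_map, ← IsScalarTower.algebraMap_eq,
      ← IsScalarTower.algebraMap_eq]
  have E' : AdjoinRoot ((q.map (algebraMap A K)).map (algebraMap K Kh)) ≃ₐ[Kh] M := by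
    rw [← hgtK']
    exact E
  exact exists_descent_of_adjoinRoot_equiv (q.map (algebraMap A K)) (hqm.map _) E'

end Main

end Groth.Agent.Lib.Helper12.Krasner
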