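import Mathlib
import Groth.Prelude.Def_Conn
import Groth.Prelude.Def_W4swconnpcurvhiggsLogLam

/-!
# B-stability of the pieces `E_I` of a logarithmic λ-connection (S16792, S16795)
-/

set_option autoImplicit false
universe u v

namespace Groth.Agent.Lib.Helper12.LogConnPiece
open TensorProduct

variable {A : Type v} {B L E : Type u} [CommRing A] [CommRing B]
    [Algebra A B] [AddCommGroup L] [Module B L] [Module A L] [IsScalarTower A B L]
    [AddCommGroup E] [Module B E] [Module A E] [IsScalarTower A B E]
    (lam : B) {n : ℕ} (t : Fin n → B) (bΩ : Module.Basis (Fin n) B (KaehlerDifferential A B))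
    (hbΩ : ∀ i, bΩ i = KaehlerDifferential.D A B (t i))
    (ω : Module.Basis (Fin n) B L) (ι : KaehlerDifferential A B →ₗ[B] L)
    (hι : ∀ i, ι (KaehlerDifferential.D A B (t i)) = t i • ω i)
    (nabla : E →ₗ[A] E ⊗[B] L)
    (hc : Conn.IsLamConn (ι.compDer (KaehlerDifferential.D A B)) lam nabla)

/-- partial derivative -/
noncomputable def pd (i : Fin n) (b : B) : B := bΩ.repr (KaehlerDifferential.D A B b) i

include hbΩ in
lemma pd_t (i j : Fin n) : pd bΩ i (t j) = if j = i then 1 else 0 := by
  rw [pd, ← hbΩ, Module.Basis.repr_self, Finsupp.single_apply]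

lemma pd_mul (i : Fin n) (a b : B) : pd bΩ i (a * b) = a * pd bΩ i b + b * pd bΩ i a := by
  simp only [pd, Derivation.leibniz, map_add, map_smul, Finsupp.add_apply, Finsupp.smul_apply,
    smul_eq_mul]

lemma pd_one (i : Fin n) : pd bΩ i (1 : B) = 0 := by
  simp [pd]

include hbΩ in
lemma pd_prod (i : Fin n) (S : Finset (Fin n)) (hi : i ∉ S) : pd bΩ i (∏ k ∈ S, t k) = 0 := by
  classical
  induction S using Finset.induction_on with
  | empty => simpa using pd_one bΩ i
  | insert k S hk ih =>
    rw [Finset.prod_insert hk, pd_mul, ih (fun h => hi (Finset.mem_insert_of_mem h)),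
      pd_t t bΩ hbΩ, if_neg, mul_zero, mul_zero, add_zero]
    rintro rfl
    exact hi (Finset.mem_insert_self _ _)

include hbΩ hι in
lemma coord_iota (i : Fin n) (b : B) :
    ω.coord i (ι (KaehlerDifferential.D A B b)) = pd bΩ i b * t i := by
  conv_lhs => rw [← bΩ.sum_repr (KaehlerDifferential.D A B b)]
  simp only [map_sum, map_smul, hbΩ, hι, Module.Basis.coord_apply, Module.Basis.repr_self,
    Finsupp.smul_apply, Finsupp.single_apply, smul_eq_mul]
  rw [Finset.sum_eq_single i]
  · simp [pd]
  · intro j _ hj; simp [hj]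
  · intro h; exact absurd (Finset.mem_univ i) h

include hbΩ hι hc in
/-- Leibniz rule for the components. -/
lemma comp_smul (i : Fin n) (b : B) (e : E) :
    LogConn.comp nabla ω i (b • e) = b • LogConn.comp nabla ω i e + (lam * (pd bΩ i b * t i)) • e := by
  rw [LogConn.comp, Conn.along_apply, Conn.along_apply, hc b e, map_add, map_add, map_smul, map_smul,
    map_smul, map_smul]
  congr 1
  have e1 : (ι.compDer (KaehlerDifferential.D A B)) b = ι (KaehlerDifferential.D A B b) := rfl
  rw [e1, TensorProduct.map_tmul, LinearMap.id_apply, TensorProduct.rid_tmul,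
    coord_iota t bΩ hbΩ ω ι hι, smul_smul]


omit [Module A L] [IsScalarTower A B L] in
lemma compProd_empty : LogConn.compProd nabla ω (∅ : Finset (Fin n)) = LinearMap.id := by
  simp [LogConn.compProd]

omit [Module A L] [IsScalarTower A B L] in
lemma compProd_insert (a : Fin n) (s : Finset (Fin n)) (ha : ∀ x ∈ s, a < x) :
    LogConn.compProd nabla ω (insert a s) = LogConn.comp nabla ω a ∘ₗ LogConn.compProd nabla ω s := by
  have has : a ∉ s := fun h => lt_irrefl a (ha a h)
  rw [LogConn.compProd, Finset.sort_insert (r := (· ≤ ·)) (fun b hb => (ha b hb).le) has]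
  rfl

omit [Module A L] [IsScalarTower A B L] in
lemma mem_piece_of (I J : Finset (Fin n)) (hJ : J ⊆ I) (e : E) :
    (∏ i ∈ I \ J, t i) • LogConn.compProd nabla ω J e ∈ LogConn.piece nabla ω t I := by
  rw [LogConn.piece]
  refine Submodule.mem_iSup_of_mem J (Submodule.mem_iSup_of_mem (Finset.mem_powerset.mpr hJ) ?_)
  exact ⟨e, rfl⟩

omit [Module A L] [IsScalarTower A B L] in
/-- to prove that an `A`-linear map sends `piece J` into a submodule, check on generators -/
lemma piece_le_comap (J : Finset (Fin n)) (f : E →ₗ[A] E) (P : Submodule A E)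
    (hf : ∀ K ⊆ J, ∀ e : E, f ((∏ i ∈ J \ K, t i) • LogConn.compProd nabla ω K e) ∈ P) :
    LogConn.piece nabla ω t J ≤ P.comap f := by
  rw [LogConn.piece]
  refine iSup_le fun K => iSup_le fun hK => ?_
  rintro _ ⟨e, rfl⟩
  exact hf K (Finset.mem_powerset.mp hK) e

omit [Module A L] [IsScalarTower A B L] in
lemma smul_piece_le (I J : Finset (Fin n)) (hJ : J ⊆ I) (y : E) (hy : y ∈ LogConn.piece nabla ω t J) :
    (∏ i ∈ I \ J, t i) • y ∈ LogConn.piece nabla ω t I := by
  have := piece_le_comap t ω nabla J ((LinearMap.lsmul B E (∏ i ∈ I \ J, t i)).restrictScalars A)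
    (LogConn.piece nabla ω t I) (fun K hK e => by
      show (∏ i ∈ I \ J, t i) • ((∏ i ∈ J \ K, t i) • LogConn.compProd nabla ω K e) ∈ _
      rw [smul_smul]
      have hprod : (∏ i ∈ I \ J, t i) * (∏ i ∈ J \ K, t i) = ∏ i ∈ I \ K, t i := by
        classical
        rw [← Finset.prod_union]
        · congr 1
          ext x
          simp only [Finset.mem_union, Finset.mem_sdiff]
          constructor
          · rintro (⟨h1, h2⟩ | ⟨h1, h2⟩)
            · exact ⟨h1, fun h => h2 (hK h)⟩
            · exact ⟨hJ h1, h2⟩
          · rintro ⟨h1, h2⟩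
            by_cases hx : x ∈ J
            · exact Or.inr ⟨hx, h2⟩
            · exact Or.inl ⟨h1, hx⟩
        · rw [Finset.disjoint_left]
          intro x hx hx'
          exact (Finset.mem_sdiff.mp hx).2 (Finset.mem_sdiff.mp hx').1
      rw [hprod]
      exact mem_piece_of t ω nabla I K (hK.trans hJ) e)
  exact this hy

include hbΩ hι hc in
/-- `∇_a` maps `piece s` into `piece (insert a s)` when `a < s`. -/
lemma comp_piece_le (a : Fin n) (s : Finset (Fin n)) (ha : ∀ x ∈ s, a < x) (y : E)
    (hy : y ∈ LogConn.piece nabla ω t s) :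
    LogConn.comp nabla ω a y ∈ LogConn.piece nabla ω t (insert a s) := by
  have has : a ∉ s := fun h => lt_irrefl a (ha a h)
  have := piece_le_comap t ω nabla s (LogConn.comp nabla ω a) (LogConn.piece nabla ω t (insert a s))
    (fun K hK e => by
      rw [comp_smul lam t bΩ hbΩ ω ι hι nabla hc, pd_prod t bΩ hbΩ a (s \ K)
        (fun h => has (Finset.mem_sdiff.mp h).1), zero_mul, mul_zero, zero_smul, add_zero]
      have h1 : LogConn.comp nabla ω a (LogConn.compProd nabla ω K e) =
          LogConn.compProd nabla ω (insert a K) e := by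
        rw [compProd_insert ω nabla a K (fun x hx => ha x (hK hx))]; rfl
      have h2 : s \ K = insert a s \ insert a K := by
        ext x
        simp only [Finset.mem_sdiff, Finset.mem_insert]
        constructor
        · rintro ⟨k1, k2⟩
          refine ⟨Or.inr k1, ?_⟩
          rintro (k3 | k3)
          · exact has (k3 ▸ k1)
          · exact k2 k3
        · rintro ⟨k1 | k1, k2⟩
          · exact absurd (Or.inl k1) k2
          · exact ⟨k1, fun k3 => k2 (Or.inr k3)⟩
      rw [h1, h2]
      exact mem_piece_of t ω nabla _ _ (Finset.insert_subset_insert a hK) e)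
  exact this hy

include hbΩ hι hc in
/-- Claim': `b • ∇_J e ∈ piece J`. -/
lemma smul_compProd_mem (J : Finset (Fin n)) : ∀ (b : B) (e : E),
    b • LogConn.compProd nabla ω J e ∈ LogConn.piece nabla ω t J := by
  induction J using Finset.induction_on_min with
  | empty =>
    intro b e
    have := mem_piece_of t ω nabla ∅ ∅ (Finset.Subset.refl _) (b • e)
    simpa [compProd_empty] using this
  | insert a s ha ih =>
    intro b e
    have has : a ∉ s := fun h => lt_irrefl a (ha a h)
    rw [compProd_insert ω nabla a s ha, LinearMap.comp_apply]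
    set y := LogConn.compProd nabla ω s e with hy
    have h1 := comp_smul lam t bΩ hbΩ ω ι hι nabla hc a b y
    have h2 : b • LogConn.comp nabla ω a y =
        LogConn.comp nabla ω a (b • y) - (lam * (pd bΩ a b * t a)) • y := by
      rw [h1]; abel
    rw [h2]
    refine Submodule.sub_mem _ ?_ ?_
    · exact comp_piece_le lam t bΩ hbΩ ω ι hι nabla hc a s ha _ (ih b e)
    · have h3 := smul_piece_le t ω nabla (insert a s) s (Finset.subset_insert a s) _
        (ih (lam * pd bΩ a b) e)
      have h4 : insert a s \ s = {a} := by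
        ext x
        simp only [Finset.mem_sdiff, Finset.mem_insert, Finset.mem_singleton]
        constructor
        · rintro ⟨h | h, h'⟩
          · exact h
          · exact absurd h h'
        · rintro rfl
          exact ⟨Or.inl rfl, has⟩
      rw [h4, Finset.prod_singleton, smul_smul] at h3
      have h5 : t a * (lam * pd bΩ a b) = lam * (pd bΩ a b * t a) := by ring
      rw [h5] at h3
      exact h3

include hbΩ hι hc in
theorem main (I : Finset (Fin n)) (b : B) (x : E) (hx : x ∈ LogConn.piece nabla ω t I) :
    b • x ∈ LogConn.piece nabla ω t I := by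
  have := piece_le_comap t ω nabla I ((LinearMap.lsmul B E b).restrictScalars A)
    (LogConn.piece nabla ω t I) (fun K hK e => by
      show b • ((∏ i ∈ I \ K, t i) • LogConn.compProd nabla ω K e) ∈ _
      rw [smul_comm]
      exact smul_piece_le t ω nabla I K hK _ (smul_compProd_mem lam t bΩ hbΩ ω ι hι nabla hc K b e))
  exact this hx


end Groth.Agent.Lib.Helper12.LogConnPiece
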