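import Mathlib

/-!
# Linear disjointness of an algebraic extension and an extension in which the base field is
algebraically closed (characteristic zero)
-/

set_option autoImplicit false

namespace Groth.Agent.Lib.Helper12.Miln

open Polynomial IntermediateField

universe u v

/-- A monic irreducible polynomial over `k` stays irreducible over an extension field `F` in which
`k` is algebraically closed. -/
theorem irreducible_map_of_algClosedIn {k : Type u} {F : Type v} [Field k] [Field F] [Algebra k F]
    (h : ∀ x : F, IsAlgebraic k x → x ∈ (algebraMap k F).range) {f : k[X]} (hf : f.Monic)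
    (hirr : Irreducible f) : Irreducible (f.map (algebraMap k F)) := by
  have hlift : ∀ g : F[X], g.Monic → g ∣ f.map (algebraMap k F) →
      ∃ q : k[X], q.map (algebraMap k F) = g ∧ q.natDegree = g.natDegree ∧ q.Monic := by
    intro g hg hd
    have h1 := integralClosure.mem_lifts_of_monic_of_dvd_map F hf hg hd
    have h2 : g ∈ lifts (algebraMap k F) := by
      rw [lifts_iff_coeff_lifts] at h1 ⊢
      intro n
      obtain ⟨⟨y, hy⟩, hy'⟩ := h1 n
      have hy2 : IsAlgebraic k y := (hy : IsIntegral k y).isAlgebraic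
      obtain ⟨z, hz⟩ := h y hy2
      exact ⟨z, by rw [hz, ← hy']; rfl⟩
    exact lifts_and_natDegree_eq_and_monic h2 hg
  rw [(hf.map _).irreducible_iff_natDegree]
  refine ⟨?_, ?_⟩
  · intro h1
    have h2 : (f.map (algebraMap k F)).natDegree = 0 := by rw [h1, natDegree_one]
    rw [natDegree_map] at h2
    exact hirr.natDegree_pos.ne' h2
  · intro g₁ g₂ hg₁ hg₂ hmul
    obtain ⟨q₁, hq₁, hd₁, hm₁⟩ := hlift g₁ hg₁ ⟨g₂, hmul.symm⟩
    obtain ⟨q₂, hq₂, hd₂, hm₂⟩ := hlift g₂ hg₂ ⟨g₁, by rw [mul_comm]; exact hmul.symm⟩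
    have h3 : q₁ * q₂ = f := by
      apply map_injective (algebraMap k F) (algebraMap k F).injective
      rw [Polynomial.map_mul, hq₁, hq₂, hmul]
    have h4 := (hf.irreducible_iff_natDegree.mp hirr).2 q₁ q₂ hm₁ hm₂ h3
    rw [hd₁, hd₂] at h4
    exact h4

end Groth.Agent.Lib.Helper12.Miln
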