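import Mathlib
import Groth.Agent.Lib.Helper12.MilnA

/-!
# Linear disjointness from "algebraically closed in" (characteristic zero)
-/

set_option autoImplicit false

namespace Groth.Agent.Lib.Helper12.Miln

open Polynomial IntermediateField

universe u v

variable {k : Type u} {E : Type v} [Field k] [Field E] [Algebra k E]

/-- A simple algebraic extension is linearly disjoint from an intermediate field in which `k` is
algebraically closed. -/
theorem linearDisjoint_adjoin_simple (B : IntermediateField k E)
    (h : ∀ x ∈ B, IsAlgebraic k x → x ∈ (⊥ : IntermediateField k E)) (a : E)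
    (ha : IsIntegral k a) : (k⟮a⟯).LinearDisjoint B := by
  have h' : ∀ x : B, IsAlgebraic k x → x ∈ (algebraMap k B).range := by
    intro x hx
    have hx' : IsAlgebraic k (x : E) := by
      have := hx.algHom B.val
      simpa using this
    obtain ⟨y, hy⟩ := IntermediateField.mem_bot.mp (h x x.2 hx')
    exact ⟨y, Subtype.ext hy⟩
  have hirr := irreducible_map_of_algClosedIn h' (minpoly.monic ha) (minpoly.irreducible ha)
  have hmin : (minpoly k a).map (algebraMap k B) = minpoly B a := by
    apply minpoly.eq_of_irreducible_of_monic hirr
    · rw [aeval_map_algebraMap, minpoly.aeval]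
    · exact (minpoly.monic ha).map _
  have hdeg : (minpoly B a).natDegree = (minpoly k a).natDegree := by
    rw [← hmin, natDegree_map]
  apply IntermediateField.LinearDisjoint.of_basis_left (adjoin.powerBasis ha).basis
  have h1 := linearIndependent_pow (K := B) a
  have h2 : LinearIndependent B (fun i : Fin (minpoly k a).natDegree => a ^ (i : ℕ)) := by
    have := h1.comp (Fin.cast hdeg.symm) (Fin.cast_injective _)
    exact this
  have h3 : (k⟮a⟯.val ∘ (adjoin.powerBasis ha).basis) =
      (fun i : Fin (minpoly k a).natDegree => a ^ (i : ℕ)) := by
    funext i
    simp [PowerBasis.coe_basis]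
  exact h3 ▸ h2

/-- In characteristic zero, an algebraic intermediate field is linearly disjoint from an
intermediate field in which `k` is algebraically closed. -/
theorem linearDisjoint_of_algClosedIn [CharZero k] (A B : IntermediateField k E)
    [Algebra.IsAlgebraic k A]
    (h : ∀ x ∈ B, IsAlgebraic k x → x ∈ (⊥ : IntermediateField k E)) : A.LinearDisjoint B := by
  rw [IntermediateField.linearDisjoint_iff']
  haveI : Algebra.IsIntegral k A.toSubalgebra :=
    inferInstanceAs (Algebra.IsIntegral k A)
  apply Subalgebra.LinearDisjoint.of_linearDisjoint_finite_left
  intro A' hA' hfin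
  have hfield : IsField A' := by
    haveI : IsDomain A' := inferInstance
    exact isField_of_isIntegral_of_isField' (R := k) (S := A') (Field.toIsField k)
  let A'' : IntermediateField k E := Subalgebra.toIntermediateField' A' hfield
  have hA'' : A''.toSubalgebra = A' := toSubalgebra_toIntermediateField' A' hfield
  haveI : FiniteDimensional k A'' := by
    have : Module.Finite k A''.toSubalgebra := by rw [hA'']; exact hfin
    exact this
  obtain ⟨α, hα⟩ := Field.exists_primitive_element k A''
  have h1 : A'' = k⟮(α : E)⟯ := by
    have := congrArg IntermediateField.lift hα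
    rw [lift_adjoin_simple, lift_top] at this
    exact this.symm
  have h2 : IsIntegral k (α : E) := by
    have : IsIntegral k α := Algebra.IsIntegral.isIntegral α
    exact this.map A''.val
  have h3 := linearDisjoint_adjoin_simple B h (α : E) h2
  rw [IntermediateField.linearDisjoint_iff', ← h1, hA''] at h3
  exact h3

end Groth.Agent.Lib.Helper12.Miln
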