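import Mathlib

/-!
# Kernel of a map to a field is extended from a subring, under linear independence
-/

set_option autoImplicit false

namespace Groth.Agent.Lib.Helper12.Miln

universe u v w

/-- If `T` is spanned over `j(S)` by elements `iΩ (b l)` whose images in the field `E` are linearly
independent over a subfield containing `μ (j S)`, then `ker μ` is the extension of `ker (μ ∘ j)`. -/
theorem ker_eq_map_of_linearIndependent {k Ω E S T ι : Type*} [Field k] [Field Ω] [Field E]
    [Algebra k E] [Algebra Ω E] [CommRing S] [CommRing T]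
    (iΩ : Ω →+* T) (j : S →+* T) (μ : T →+* E) (hμ : ∀ ω, μ (iΩ ω) = algebraMap Ω E ω)
    (b : ι → Ω) (hspan : ∀ t : T, ∃ c : ι →₀ S, t = c.sum fun l s => iΩ (b l) * j s)
    (B : IntermediateField k E) (hB : ∀ s, μ (j s) ∈ B)
    (hLI : LinearIndependent B (fun l => algebraMap Ω E (b l))) :
    RingHom.ker μ = Ideal.map j (RingHom.ker (μ.comp j)) := by
  classical
  apply le_antisymm
  · intro t ht
    obtain ⟨c, rfl⟩ := hspan t
    rw [RingHom.mem_ker] at ht
    let g : ι →₀ B := c.mapRange (fun s => (⟨μ (j s), hB s⟩ : B)) (by ext; simp)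
    have hg : Finsupp.linearCombination B (fun l => algebraMap Ω E (b l)) g = 0 := by
      rw [Finsupp.linearCombination_apply]
      rw [Finsupp.sum_mapRange_index (by intro l; simp)]
      rw [Finsupp.sum, map_sum] at ht
      rw [Finsupp.sum]
      rw [← ht]
      refine Finset.sum_congr rfl fun l _ => ?_
      rw [map_mul, hμ, mul_comm]
      rfl
    have hg0 := linearIndependent_iff.mp hLI g hg
    have hc : ∀ l, c l ∈ RingHom.ker (μ.comp j) := by
      intro l
      have := DFunLike.congr_fun hg0 l
      rw [Finsupp.mapRange_apply] at this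
      rw [RingHom.mem_ker, RingHom.comp_apply]
      exact congrArg Subtype.val this
    rw [Finsupp.sum]
    exact Ideal.sum_mem _ fun l _ => Ideal.mul_mem_left _ _ (Ideal.mem_map_of_mem j (hc l))
  · rw [Ideal.map_le_iff_le_comap]
    intro s hs
    rw [RingHom.mem_ker, RingHom.comp_apply] at hs
    rw [Ideal.mem_comap, RingHom.mem_ker]
    exact hs

end Groth.Agent.Lib.Helper12.Miln
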