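import Mathlib

/-!
# An algebraic extension in characteristic zero with bounded degrees is finite
-/

set_option autoImplicit false

namespace Groth.Agent.Lib.Helper12.Miln

open Polynomial IntermediateField

universe u v

theorem finiteDimensional_of_natDegree_minpoly_le {K : Type u} {M : Type v} [Field K] [CharZero K]
    [Field M] [Algebra K M] [Algebra.IsAlgebraic K M] (n : ℕ)
    (h : ∀ x : M, (minpoly K x).natDegree ≤ n) : FiniteDimensional K M := by
  let f : M → ℕ := fun x => (minpoly K x).natDegree
  have hne : (Set.range f).Nonempty := ⟨f 0, 0, rfl⟩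
  have hbdd : BddAbove (Set.range f) := ⟨n, by rintro _ ⟨x, rfl⟩; exact h x⟩
  obtain ⟨x, hx⟩ := Nat.sSup_mem hne hbdd
  have hmax : ∀ y, f y ≤ f x := fun y => hx ▸ le_csSup hbdd ⟨y, rfl⟩
  have hint : ∀ y : M, IsIntegral K y := fun y => Algebra.IsIntegral.isIntegral y
  have htop : K⟮x⟯ = ⊤ := by
    rw [eq_top_iff]
    intro y _
    haveI : FiniteDimensional K K⟮x, y⟯ := finiteDimensional_adjoin_pair (hint x) (hint y)
    obtain ⟨γ, hγ⟩ := Field.exists_primitive_element K K⟮x, y⟯
    have h1 : K⟮(γ : M)⟯ = K⟮x, y⟯ := by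
      have := congrArg IntermediateField.lift hγ
      rw [lift_adjoin_simple, lift_top] at this
      exact this
    have h2 : K⟮x⟯ ≤ K⟮x, y⟯ := by
      apply adjoin.mono
      intro z hz
      rw [Set.mem_singleton_iff] at hz
      rw [hz]
      exact Set.mem_insert _ _
    have h3 : Module.finrank K K⟮x, y⟯ ≤ Module.finrank K K⟮x⟯ := by
      rw [← h1, adjoin.finrank (hint _), adjoin.finrank (hint x)]
      exact hmax _
    have h4 := eq_of_le_of_finrank_le h2 h3
    rw [h4]
    apply subset_adjoin
    exact Set.mem_insert_of_mem _ (Set.mem_singleton y)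
  haveI : FiniteDimensional K K⟮x⟯ := adjoin.finiteDimensional (hint x)
  have h5 : FiniteDimensional K (⊤ : IntermediateField K M) := htop ▸ this
  exact Module.Finite.equiv (IntermediateField.topEquiv (F := K) (E := M)).toLinearEquiv

end Groth.Agent.Lib.Helper12.Miln
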