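import Mathlib
import Groth.Agent.Lib.Helper12.MilnB
import Groth.Agent.Lib.Helper12.MilnC
import Groth.Agent.Lib.Helper12.MilnD

/-!
# Kernels of maps `L ⊗[V] B → E` to a field are finitely generated
-/

set_option autoImplicit false

namespace Groth.Agent.Lib.Helper12.Miln

open Polynomial IntermediateField TensorProduct

universe u

section

variable (V : Type u) [CommRing V] [IsDomain V] [CharZero V]
  (K : Type u) [Field K] [Algebra V K] [IsFractionRing V K]
  (L : Type u) [Field L] [IsAlgClosed L] [Algebra V L] [Algebra K L] [IsScalarTower V K L]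
  [Algebra.IsAlgebraic V L]
  (B : Type u) [CommRing B] [IsNoetherianRing B] [Algebra V B]
  (E : Type u) [Field E] [Algebra L E] [Algebra V E] [IsScalarTower V L E]
  (μ : L ⊗[V] B →ₐ[L] E)

/-- the map `B → E` -/
noncomputable def phi : B →ₐ[V] E :=
  (μ.restrictScalars V).comp Algebra.TensorProduct.includeRight

theorem phi_apply (c : B) : phi V L B E μ c = μ (1 ⊗ₜ c) := rfl

instance : (RingHom.ker (phi V L B E μ)).IsPrime := RingHom.ker_isPrime _

/-- the map `Frac (B / ker φ) → E` -/
noncomputable def iota : FractionRing (B ⧸ RingHom.ker (phi V L B E μ)) →ₐ[V] E :=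
  IsFractionRing.liftAlgHom (g := Ideal.kerLiftAlg (phi V L B E μ))
    (Ideal.kerLiftAlg_injective _)

theorem iota_algebraMap (c : B) :
    iota V L B E μ (algebraMap (B ⧸ RingHom.ker (phi V L B E μ)) _ (Ideal.Quotient.mk _ c)) =
      phi V L B E μ c := by
  rw [iota, IsFractionRing.liftAlgHom_apply, IsFractionRing.lift_algebraMap]
  rfl

theorem algebraMap_mem_fieldRange (v : V) :
    algebraMap V E v ∈ (iota V L B E μ).toRingHom.fieldRange :=
  ⟨algebraMap V _ v, (iota V L B E μ).commutes v⟩

include K in
theorem algebraMap_K_mem (x : K) :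
    algebraMap L E (algebraMap K L x) ∈ (iota V L B E μ).toRingHom.fieldRange := by
  obtain ⟨a, b, -, rfl⟩ := IsFractionRing.div_surjective (A := V) x
  rw [map_div₀, map_div₀, ← IsScalarTower.algebraMap_apply V K L,
    ← IsScalarTower.algebraMap_apply V K L, ← IsScalarTower.algebraMap_apply V L E,
    ← IsScalarTower.algebraMap_apply V L E]
  exact div_mem (algebraMap_mem_fieldRange V L B E μ a) (algebraMap_mem_fieldRange V L B E μ b)

/-- the subfield of `L` of elements whose image in `E` lies in `Frac (B / ker φ)`. -/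
noncomputable def K1 : IntermediateField K L :=
  Subfield.toIntermediateField ((iota V L B E μ).toRingHom.fieldRange.comap (algebraMap L E))
    (fun x => algebraMap_K_mem V K L B E μ x)

theorem mem_K1 (l : L) : l ∈ K1 V K L B E μ ↔ ∃ y, iota V L B E μ y = algebraMap L E l := Iff.rfl

theorem iota_injective : Function.Injective (iota V L B E μ) :=
  (iota V L B E μ).toRingHom.injective

instance : IsScalarTower V (K1 V K L B E μ) L :=
  IsScalarTower.of_algebraMap_eq (fun _ => rfl)

theorem finiteDimensional_K1 (n : ℕ)
    (hn : ∀ y : FractionRing (B ⧸ RingHom.ker (phi V L B E μ)), IsAlgebraic V y →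
        ∃ q : V[X], q ≠ 0 ∧ q.natDegree ≤ n ∧ aeval y q = 0) :
    FiniteDimensional K (K1 V K L B E μ) := by
  haveI : CharZero K := charZero_of_injective_algebraMap (IsFractionRing.injective V K)
  haveI : Algebra.IsAlgebraic K L :=
    Algebra.IsAlgebraic.extendScalars (R := V) (IsFractionRing.injective V K)
  apply finiteDimensional_of_natDegree_minpoly_le n
  intro x
  obtain ⟨y, hy'⟩ := x.2
  have hy : iota V L B E μ y = algebraMap L E x := hy'
  have hxalg : IsAlgebraic V (x : L) := Algebra.IsAlgebraic.isAlgebraic _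
  have hyalg : IsAlgebraic V y := by
    obtain ⟨p, hp0, hp⟩ := hxalg
    refine ⟨p, hp0, ?_⟩
    apply iota_injective V L B E μ
    rw [← aeval_algHom_apply, map_zero]
    rw [hy, aeval_algebraMap_apply, hp, map_zero]
  obtain ⟨q, hq0, hqn, hq⟩ := hn y hyalg
  have h1 : aeval (x : L) q = 0 := by
    apply (algebraMap L E).injective
    rw [← aeval_algebraMap_apply, map_zero]
    have : aeval ((iota V L B E μ) y) q = 0 := by
      rw [aeval_algHom_apply, hq, map_zero]
    rw [← this, hy]
  have h2 : aeval x (q.map (algebraMap V K)) = 0 := by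
    rw [aeval_map_algebraMap]
    apply (algebraMap (K1 V K L B E μ) L).injective
    rw [← aeval_algebraMap_apply, map_zero]
    exact h1
  have h3 : q.map (algebraMap V K) ≠ 0 := by
    rwa [Ne, Polynomial.map_eq_zero_iff (IsFractionRing.injective V K)]
  have h4 := minpoly.degree_le_of_ne_zero K x h3 h2
  have h5 := natDegree_le_natDegree h4
  exact h5.trans (natDegree_map_le.trans hqn)

end

end Groth.Agent.Lib.Helper12.Miln
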