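import Mathlib

/-!
# `K₁ ⊗[V] B` is Noetherian for `K₁` finite over `Frac V` and `B` Noetherian
-/

set_option autoImplicit false

namespace Groth.Agent.Lib.Helper12.Miln

open TensorProduct

universe u

theorem isNoetherianRing_tensor_of_finite (V : Type u) [CommRing V] [IsDomain V]
    (K : Type u) [Field K] [Algebra V K] [IsFractionRing V K]
    (B : Type u) [CommRing B] [IsNoetherianRing B] [Algebra V B]
    (K₁ : Type u) [Field K₁] [Algebra K K₁] [Algebra V K₁] [IsScalarTower V K K₁]
    [FiniteDimensional K K₁] : IsNoetherianRing (K₁ ⊗[V] B) := by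
  have h1 : IsNoetherianRing (B ⊗[V] K) :=
    IsLocalization.isNoetherianRing (Algebra.algebraMapSubmonoid B (nonZeroDivisors V))
      (B ⊗[V] K) inferInstance
  haveI h2 : IsNoetherianRing (K ⊗[V] B) :=
    isNoetherianRing_of_ringEquiv _ (Algebra.TensorProduct.comm V B K).toRingEquiv
  have h3 : IsNoetherianRing ((K ⊗[V] B) ⊗[K] K₁) :=
    Algebra.FiniteType.isNoetherianRing (K ⊗[V] B) _
  have h4 : IsNoetherianRing (K₁ ⊗[K] (K ⊗[V] B)) :=
    isNoetherianRing_of_ringEquiv _ (Algebra.TensorProduct.comm K (K ⊗[V] B) K₁).toRingEquiv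
  exact isNoetherianRing_of_ringEquiv _
    (Algebra.TensorProduct.cancelBaseChange V K K K₁ B).toRingEquiv

end Groth.Agent.Lib.Helper12.Miln
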