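import Mathlib
import Groth.Agent.Lib.Helper12.MilnE
import Groth.Agent.Lib.Helper12.MilnF

/-!
# Kernels of maps `L ⊗[V] B → E` to a field are finitely generated (assembly)
-/

set_option autoImplicit false

namespace Groth.Agent.Lib.Helper12.Miln

open Polynomial IntermediateField TensorProduct

universe u

section

variable (V : Type u) [CommRing V] [IsDomain V] [CharZero V]
  (K : Type u) [Field K] [Algebra V K] [IsFractionRing V K]
  (L : Type u) [Field L] [IsAlgClosed L] [Algebra V L] [Algebra K L] [IsScalarTower V K L]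
  [Algebra.IsAlgebraic V L]
  (B : Type u) [CommRing B] [IsNoetherianRing B] [Algebra V B]
  (E : Type u) [Field E] [Algebra L E] [Algebra V E] [IsScalarTower V L E]
  (μ : L ⊗[V] B →ₐ[L] E)

/-- the map `K₁ ⊗ B → L ⊗ B`. -/
noncomputable def jmap : (K1 V K L B E μ) ⊗[V] B →ₐ[V] L ⊗[V] B :=
  Algebra.TensorProduct.map (IsScalarTower.toAlgHom V (K1 V K L B E μ) L) (AlgHom.id V B)

theorem jmap_tmul (a : K1 V K L B E μ) (c : B) :
    jmap V K L B E μ (a ⊗ₜ c) = (a : L) ⊗ₜ c := rfl

theorem span_basis {ι : Type*} (b : Module.Basis ι (K1 V K L B E μ) L) (t : L ⊗[V] B) :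
    ∃ c : ι →₀ (K1 V K L B E μ) ⊗[V] B,
      t = c.sum fun l s => ((b l) ⊗ₜ[V] (1 : B)) * jmap V K L B E μ s := by
  classical
  induction t using TensorProduct.induction_on with
  | zero => exact ⟨0, by simp⟩
  | tmul l c' =>
    refine ⟨(b.repr l).mapRange (fun a => a ⊗ₜ[V] c') (by simp), ?_⟩
    rw [Finsupp.sum_mapRange_index (by intro i; simp)]
    conv_lhs => rw [← b.linearCombination_repr l, Finsupp.linearCombination_apply, Finsupp.sum,
      TensorProduct.sum_tmul]
    rw [Finsupp.sum]
    refine Finset.sum_congr rfl fun i _ => ?_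
    rw [jmap_tmul, Algebra.TensorProduct.tmul_mul_tmul, one_mul, mul_comm]
    rfl
  | add x y hx hy =>
    obtain ⟨c₁, rfl⟩ := hx
    obtain ⟨c₂, rfl⟩ := hy
    refine ⟨c₁ + c₂, ?_⟩
    rw [Finsupp.sum_add_index' (by intro i; simp) (by intro i s₁ s₂; rw [map_add, mul_add])]

theorem algebraMap_K1_mem (x : K1 V K L B E μ) :
    algebraMap (K1 V K L B E μ) E x ∈ (iota V L B E μ).toRingHom.fieldRange := x.2

/-- `Frac (B / ker φ)` inside `E`, as an intermediate field over `K₁`. -/
noncomputable def Bfield : IntermediateField (K1 V K L B E μ) E :=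
  Subfield.toIntermediateField (iota V L B E μ).toRingHom.fieldRange
    (fun x => algebraMap_K1_mem V K L B E μ x)

theorem mem_Bfield (x : E) : x ∈ Bfield V K L B E μ ↔ ∃ y, iota V L B E μ y = x := Iff.rfl

theorem mu_tmul (l : L) (c : B) : μ (l ⊗ₜ c) = algebraMap L E l * phi V L B E μ c := by
  have h1 : l ⊗ₜ[V] c = (algebraMap L (L ⊗[V] B) l) * ((1 : L) ⊗ₜ c) := by
    rw [Algebra.TensorProduct.algebraMap_apply, Algebra.TensorProduct.tmul_mul_tmul, one_mul]
    simp
  rw [h1, map_mul, AlgHom.commutes, phi_apply]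

theorem mu_jmap_mem (s : (K1 V K L B E μ) ⊗[V] B) :
    μ (jmap V K L B E μ s) ∈ Bfield V K L B E μ := by
  induction s using TensorProduct.induction_on with
  | zero => simp
  | tmul a c =>
    rw [jmap_tmul, mu_tmul]
    refine mul_mem (algebraMap_K1_mem V K L B E μ a) ?_
    exact ⟨_, iota_algebraMap V L B E μ c⟩
  | add x y hx hy =>
    rw [map_add, map_add]
    exact add_mem hx hy

theorem algClosedIn_Bfield (x : E) (hx : x ∈ Bfield V K L B E μ)
    (halg : IsAlgebraic (K1 V K L B E μ) x) :
    x ∈ (⊥ : IntermediateField (K1 V K L B E μ) E) := by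
  have h1 : IsAlgebraic L x := halg.tower_top L
  have h2 : IsIntegral L x := h1.isIntegral
  have h3 : (minpoly L x).degree = 1 :=
    IsAlgClosed.degree_eq_one_of_irreducible L (minpoly.irreducible h2)
  obtain ⟨l, hl⟩ := minpoly.mem_range_of_degree_eq_one L x h3
  obtain ⟨y, hy⟩ := hx
  have hl' : l ∈ K1 V K L B E μ := ⟨y, by rw [hl]; exact hy⟩
  rw [IntermediateField.mem_bot]
  exact ⟨⟨l, hl'⟩, hl⟩

include K in
theorem linearIndependent_basis {ι : Type*} (b : Module.Basis ι (K1 V K L B E μ) L) :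
    LinearIndependent (Bfield V K L B E μ) (fun l => algebraMap L E (b l)) := by
  haveI : CharZero K := charZero_of_injective_algebraMap (IsFractionRing.injective V K)
  haveI : CharZero (K1 V K L B E μ) :=
    charZero_of_injective_algebraMap (algebraMap K (K1 V K L B E μ)).injective
  haveI : Algebra.IsAlgebraic K L :=
    Algebra.IsAlgebraic.extendScalars (R := V) (IsFractionRing.injective V K)
  haveI : Algebra.IsAlgebraic (K1 V K L B E μ) L :=
    Algebra.IsAlgebraic.tower_top (K := K) (K1 V K L B E μ)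
  let A : IntermediateField (K1 V K L B E μ) E :=
    (IsScalarTower.toAlgHom (K1 V K L B E μ) L E).fieldRange
  haveI : Algebra.IsAlgebraic (K1 V K L B E μ) A := by
    refine ⟨fun x => ?_⟩
    rw [IntermediateField.isAlgebraic_iff]
    obtain ⟨l, hl⟩ := x.2
    rw [← hl]
    exact (Algebra.IsAlgebraic.isAlgebraic l).algHom _
  have hLD := linearDisjoint_of_algClosedIn A (Bfield V K L B E μ)
    (algClosedIn_Bfield V K L B E μ)
  let a : ι → A := fun l => ⟨algebraMap L E (b l), b l, rfl⟩
  have ha : LinearIndependent (K1 V K L B E μ) a := by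
    apply LinearIndependent.of_comp A.val.toLinearMap
    have h1 : (A.val.toLinearMap ∘ a) =
        (IsScalarTower.toAlgHom (K1 V K L B E μ) L E).toLinearMap ∘ b := rfl
    rw [h1]
    apply b.linearIndependent.map'
    rw [LinearMap.ker_eq_bot]
    exact (algebraMap L E).injective
  exact hLD.linearIndependent_left ha

include K in
theorem ker_fg (n : ℕ)
    (hn : ∀ y : FractionRing (B ⧸ RingHom.ker (phi V L B E μ)), IsAlgebraic V y →
        ∃ q : V[X], q ≠ 0 ∧ q.natDegree ≤ n ∧ aeval y q = 0) :
    (RingHom.ker μ).FG := by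
  haveI := finiteDimensional_K1 V K L B E μ n hn
  haveI : IsNoetherianRing ((K1 V K L B E μ) ⊗[V] B) :=
    isNoetherianRing_tensor_of_finite V K B (K1 V K L B E μ)
  let b := Module.Basis.ofVectorSpace (K1 V K L B E μ) L
  have hker := ker_eq_map_of_linearIndependent (k := K1 V K L B E μ) (Ω := L) (E := E)
    (iΩ := (Algebra.TensorProduct.includeLeft : L →ₐ[V] L ⊗[V] B).toRingHom)
    (j := (jmap V K L B E μ).toRingHom) (μ := μ.toRingHom)
    (hμ := fun ω => by
      have := mu_tmul V L B E μ ω 1
      rw [phi_apply] at this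
      have h1 : μ ((1 : L) ⊗ₜ[V] (1 : B)) = 1 := map_one μ
      rw [h1, mul_one] at this
      exact this)
    (b := fun l => b l) (hspan := fun t => span_basis V K L B E μ b t)
    (Bfield V K L B E μ) (fun s => mu_jmap_mem V K L B E μ s)
    (linearIndependent_basis V K L B E μ b)
  have h1 : RingHom.ker μ = RingHom.ker μ.toRingHom := rfl
  rw [h1, hker]
  exact Ideal.FG.map (IsNoetherian.noetherian _) _

end

end Groth.Agent.Lib.Helper12.Miln
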