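import Mathlib
import Groth.Agent.Lib.Helper12.MilnG

/-!
# `L ⊗[V] B` is Noetherian under a boundedness hypothesis on algebraic elements
-/

set_option autoImplicit false

namespace Groth.Agent.Lib.Helper12.Miln

open Polynomial IntermediateField TensorProduct

universe u

theorem isNoetherianRing_tensor
    (V : Type u) [CommRing V] [IsDomain V] [CharZero V]
    (L : Type u) [Field L] [IsAlgClosed L] [Algebra V L] [FaithfulSMul V L]
    [Algebra.IsAlgebraic V L]
    (B : Type u) [CommRing B] [IsNoetherianRing B] [Algebra V B]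
    (H : ∀ (𝔮 : Ideal B) [𝔮.IsPrime], Function.Injective (algebraMap V (B ⧸ 𝔮)) →
      ∃ n : ℕ, ∀ y : FractionRing (B ⧸ 𝔮), IsAlgebraic V y →
        ∃ q : V[X], q ≠ 0 ∧ q.natDegree ≤ n ∧ aeval y q = 0) :
    IsNoetherianRing (L ⊗[V] B) := by
  letI : Algebra (FractionRing V) L := FractionRing.liftAlgebra V L
  haveI : IsScalarTower V (FractionRing V) L := FractionRing.isScalarTower_liftAlgebra V L
  apply IsNoetherianRing.of_prime
  intro 𝔓 h𝔓
  let E := FractionRing ((L ⊗[V] B) ⧸ 𝔓)
  haveI : IsScalarTower V L E := inferInstance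
  let μ : L ⊗[V] B →ₐ[L] E :=
    (IsScalarTower.toAlgHom L ((L ⊗[V] B) ⧸ 𝔓) E).comp (Ideal.Quotient.mkₐ L 𝔓)
  have hker : RingHom.ker μ = 𝔓 := by
    ext t
    rw [RingHom.mem_ker]
    change algebraMap ((L ⊗[V] B) ⧸ 𝔓) E (Ideal.Quotient.mk 𝔓 t) = 0 ↔ _
    rw [map_eq_zero_iff _ (IsFractionRing.injective _ _), Ideal.Quotient.eq_zero_iff_mem]
  have hinj : Function.Injective (algebraMap V (B ⧸ RingHom.ker (phi V L B E μ))) := by
    rw [injective_iff_map_eq_zero]
    intro v hv
    rw [IsScalarTower.algebraMap_apply V B, Ideal.Quotient.algebraMap_eq,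
      Ideal.Quotient.eq_zero_iff_mem, RingHom.mem_ker, AlgHom.commutes,
      IsScalarTower.algebraMap_apply V L E, map_eq_zero_iff _ (algebraMap L E).injective] at hv
    exact (map_eq_zero_iff _ (FaithfulSMul.algebraMap_injective V L)).mp hv
  obtain ⟨n, hn⟩ := H (RingHom.ker (phi V L B E μ)) hinj
  rw [← hker]
  exact ker_fg V (FractionRing V) L B E μ n hn

end Groth.Agent.Lib.Helper12.Miln
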