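import Mathlib
import Groth.Agent.Lib.Helper12.HenselIntegralDomain

/-!
# Total ramification over a henselian DVR with algebraically closed residue field (char. 0)
-/

set_option autoImplicit false

namespace Groth.Agent.Lib.Helper12.Miln

open IsLocalRing

universe u

variable (V : Type u) [CommRing V] [IsDomain V] [IsDiscreteValuationRing V] [HenselianLocalRing V]
  [IsAlgClosed (IsLocalRing.ResidueField V)] [CharZero V]
  (K : Type u) [Field K] [Algebra V K] [IsFractionRing V K]
  (K' : Type u) [Field K'] [Algebra K K'] [Algebra V K'] [IsScalarTower V K K']
  [FiniteDimensional K K']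

theorem exists_local_dedekind_map_le_pow :
    ∃ (_ : IsLocalRing (integralClosure V K')) (_ : IsDedekindDomain (integralClosure V K')),
      (maximalIdeal V).map (algebraMap V (integralClosure V K')) ≤
        (maximalIdeal (integralClosure V K')) ^ (Module.finrank K K') := by
  classical
  haveI : CharZero K := charZero_of_injective_algebraMap (IsFractionRing.injective V K)
  haveI hDed : IsDedekindDomain (integralClosure V K') := integralClosure.isDedekindDomain V K K'
  haveI : Module.Finite V (integralClosure V K') :=
    IsIntegralClosure.finite V K K' (integralClosure V K')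
  haveI hloc : IsLocalRing (integralClosure V K') :=
    isLocalRing_of_isIntegral_of_isDomain V (integralClosure V K')
  refine ⟨hloc, hDed, ?_⟩
  have hinjK' : Function.Injective (algebraMap V K') := by
    rw [IsScalarTower.algebraMap_eq V K K']
    exact (algebraMap K K').injective.comp (IsFractionRing.injective V K)
  haveI : Module.IsTorsionFree V K' := by
    rw [← faithfulSMul_iff_algebraMap_injective] at hinjK'
    infer_instance
  haveI : Module.IsTorsionFree V (integralClosure V K') :=
    IsIntegralClosure.isTorsionFree V K'
  have hp0 : maximalIdeal V ≠ ⊥ := IsDiscreteValuationRing.not_a_field V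
  have hinj : Function.Injective (algebraMap V (integralClosure V K')) :=
    FaithfulSMul.algebraMap_injective _ _
  have hpmap : (maximalIdeal V).map (algebraMap V (integralClosure V K')) ≠ ⊥ := by
    rw [Ne, Ideal.map_eq_bot_iff_of_injective hinj]
    exact hp0
  haveI hlies : (maximalIdeal (integralClosure V K')).LiesOver (maximalIdeal V) := by
    constructor
    have h1 : ((maximalIdeal (integralClosure V K')).comap
        (algebraMap V (integralClosure V K'))).IsMaximal :=
      Ideal.isMaximal_comap_of_isIntegral_of_isMaximal _
    exact (IsLocalRing.eq_maximalIdeal h1).symm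
  have huniq : ∀ q : (maximalIdeal V).primesOver (integralClosure V K'),
      q.1 = maximalIdeal (integralClosure V K') := by
    intro q
    haveI := q.2.1
    haveI := q.2.2
    have hq0 : q.1 ≠ ⊥ := by
      intro h
      have h1 := Ideal.over_def q.1 (maximalIdeal V)
      rw [h, Ideal.under_def, Ideal.comap_bot_of_injective _ hinj] at h1
      exact hp0 h1
    exact IsLocalRing.eq_maximalIdeal (Ideal.IsPrime.isMaximal q.2.1 hq0)
  letI huq : Unique ((maximalIdeal V).primesOver (integralClosure V K')) :=
    { default := ⟨maximalIdeal (integralClosure V K'), inferInstance, hlies⟩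
      uniq := fun q => Subtype.ext (huniq q) }
  have hsum := Ideal.sum_ramification_inertia_eq_finrank (maximalIdeal V) (integralClosure V K')
  rw [Fintype.sum_unique] at hsum
  change (maximalIdeal (integralClosure V K')).ramificationIdx V *
    (maximalIdeal (integralClosure V K')).inertiaDeg V = _ at hsum
  have hf : (maximalIdeal (integralClosure V K')).inertiaDeg V = 1 := by
    rw [Ideal.inertiaDeg_eq_of_isMaximal (maximalIdeal V) (maximalIdeal (integralClosure V K'))]
    letI : Field (V ⧸ maximalIdeal V) := Ideal.Quotient.field _
    haveI : IsAlgClosed (V ⧸ maximalIdeal V) :=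
      inferInstanceAs (IsAlgClosed (IsLocalRing.ResidueField V))
    have hbij : Function.Bijective (algebraMap (V ⧸ maximalIdeal V)
        ((integralClosure V K') ⧸ maximalIdeal (integralClosure V K'))) :=
      IsAlgClosed.algebraMap_bijective_of_isIntegral
    have e := LinearEquiv.ofBijective (Algebra.linearMap (V ⧸ maximalIdeal V)
        ((integralClosure V K') ⧸ maximalIdeal (integralClosure V K'))) hbij
    rw [← e.finrank_eq, Module.finrank_self]
  rw [hf, mul_one, IsIntegralClosure.rank V K K' (integralClosure V K')] at hsum
  have he := Ideal.IsDedekindDomain.ramificationIdx_eq_multiplicity (maximalIdeal V)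
    (maximalIdeal (integralClosure V K')) hpmap
  rw [hsum] at he
  have hfin : FiniteMultiplicity (maximalIdeal (integralClosure V K'))
      ((maximalIdeal V).map (algebraMap V (integralClosure V K'))) := by
    apply FiniteMultiplicity.of_not_isUnit _ hpmap
    rw [Ideal.isUnit_iff]
    exact Ideal.IsPrime.ne_top'
  have hdvd := pow_multiplicity_dvd (maximalIdeal (integralClosure V K'))
    ((maximalIdeal V).map (algebraMap V (integralClosure V K')))
  rw [← he] at hdvd
  exact Ideal.le_of_dvd hdvd

end Groth.Agent.Lib.Helper12.Miln
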