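import Mathlib
import Groth.Agent.Lib.Helper12.MilnI

/-!
# Bounded degree of algebraic elements in the fraction field of a normal Noetherian domain
dominating a henselian DVR with algebraically closed residue field
-/

set_option autoImplicit false

namespace Groth.Agent.Lib.Helper12.Miln

open IsLocalRing Polynomial IntermediateField

universe u

theorem exists_ringHom_of_isIntegral (N F : Type*) [CommRing N] [IsDomain N]
    [IsIntegrallyClosed N] [Field F] [Algebra N F] [IsFractionRing N F]
    (W : Type*) [CommRing W] (f : W →+* F) (hf : ∀ w, IsIntegral N (f w)) :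
    ∃ ψ : W →+* N, ∀ w, algebraMap N F (ψ w) = f w := by
  have hmem : ∀ w, f w ∈ (algebraMap N F).range := fun w =>
    IsIntegrallyClosed.algebraMap_eq_of_integral (hf w)
  let f' : W →+* (algebraMap N F).range := f.codRestrict _ hmem
  let e : N ≃+* (algebraMap N F).range :=
    RingEquiv.ofBijective (algebraMap N F).rangeRestrict
      ⟨fun a b hab => IsFractionRing.injective N F (by
          have := congrArg Subtype.val hab
          rwa [RingHom.coe_rangeRestrict, RingHom.coe_rangeRestrict] at this),
        (algebraMap N F).rangeRestrict_surjective⟩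
  refine ⟨e.symm.toRingHom.comp f', fun w => ?_⟩
  have h1 : e (e.symm (f' w)) = f' w := e.apply_symm_apply _
  have h2 : ((e (e.symm (f' w)) : (algebraMap N F).range) : F) =
      algebraMap N F (e.symm (f' w)) := rfl
  rw [RingHom.comp_apply]
  change algebraMap N F (e.symm (f' w)) = f w
  rw [← h2, h1]
  rfl

section

variable (V : Type u) [CommRing V] [IsDomain V] [IsDiscreteValuationRing V] [HenselianLocalRing V]
  [IsAlgClosed (IsLocalRing.ResidueField V)] [CharZero V]
  (N : Type u) [CommRing N] [IsDomain N] [IsNoetherianRing N] [IsIntegrallyClosed N] [Algebra V N]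

attribute [local instance] FractionRing.liftAlgebra

theorem exists_bound (hinj : Function.Injective (algebraMap V N))
    (𝔫 : Ideal N) [𝔫.IsPrime] (h𝔫 : (maximalIdeal V).map (algebraMap V N) ≤ 𝔫) :
    ∃ n : ℕ, ∀ y : FractionRing N, IsAlgebraic V y →
      ∃ q : V[X], q ≠ 0 ∧ q.natDegree ≤ n ∧ aeval y q = 0 := by
  classical
  obtain ⟨ϖ, hϖ⟩ := IsDiscreteValuationRing.exists_irreducible V
  have hϖm : ϖ ∈ maximalIdeal V := by
    rw [(IsDiscreteValuationRing.irreducible_iff_uniformizer ϖ).mp hϖ]
    exact Ideal.mem_span_singleton_self ϖ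
  have hϖN0 : algebraMap V N ϖ ≠ 0 := by
    rw [Ne, map_eq_zero_iff _ hinj]
    exact hϖ.ne_zero
  -- Krull intersection
  obtain ⟨j, hj⟩ : ∃ j : ℕ, algebraMap V N ϖ ∉ 𝔫 ^ j := by
    by_contra hcon
    push Not at hcon
    have h1 : algebraMap V N ϖ ∈ ⨅ i : ℕ, 𝔫 ^ i := by
      rw [Ideal.mem_iInf]
      exact hcon
    rw [Ideal.iInf_pow_eq_bot_of_isDomain 𝔫 Ideal.IsPrime.ne_top'] at h1
    exact hϖN0 h1
  refine ⟨j, fun y hy => ?_⟩
  haveI : FaithfulSMul V (FractionRing N) := by
    rw [faithfulSMul_iff_algebraMap_injective, IsScalarTower.algebraMap_eq V N (FractionRing N)]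
    exact (IsFractionRing.injective N (FractionRing N)).comp hinj
  have hyK : IsIntegral (FractionRing V) y :=
    (hy.extendScalars (IsFractionRing.injective V (FractionRing V))).isIntegral
  haveI : FiniteDimensional (FractionRing V) (FractionRing V)⟮y⟯ := adjoin.finiteDimensional hyK
  obtain ⟨hloc, hDed, hle⟩ :=
    exists_local_dedekind_map_le_pow V (FractionRing V) (FractionRing V)⟮y⟯
  haveI : IsScalarTower V (FractionRing V)⟮y⟯ (FractionRing N) :=
    IsScalarTower.of_algebraMap_eq (fun v => by
      rw [IsScalarTower.algebraMap_apply V (FractionRing V) (FractionRing N),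
        IsScalarTower.algebraMap_apply V (FractionRing V) (FractionRing V)⟮y⟯]
      rfl)
  let f : integralClosure V (FractionRing V)⟮y⟯ →+* FractionRing N :=
    (algebraMap (FractionRing V)⟮y⟯ (FractionRing N)).comp
      (algebraMap (integralClosure V (FractionRing V)⟮y⟯) (FractionRing V)⟮y⟯)
  have hf : ∀ w, IsIntegral N (f w) := by
    intro w
    have h1 : IsIntegral V (w : (FractionRing V)⟮y⟯) := w.2
    have h2 : IsIntegral V (f w) :=
      h1.map (IsScalarTower.toAlgHom V (FractionRing V)⟮y⟯ (FractionRing N))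
    exact h2.tower_top
  obtain ⟨ψ, hψ⟩ := exists_ringHom_of_isIntegral N (FractionRing N) _ f hf
  have hψV : ∀ v : V, ψ (algebraMap V (integralClosure V (FractionRing V)⟮y⟯) v) =
      algebraMap V N v := by
    intro v
    apply IsFractionRing.injective N (FractionRing N)
    rw [hψ, ← IsScalarTower.algebraMap_apply V N (FractionRing N)]
    change algebraMap (FractionRing V)⟮y⟯ (FractionRing N)
      (algebraMap V (FractionRing V)⟮y⟯ v) = _
    rw [← IsScalarTower.algebraMap_apply V (FractionRing V)⟮y⟯ (FractionRing N)]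
  have hinjV' : Function.Injective (algebraMap V (integralClosure V (FractionRing V)⟮y⟯)) := by
    intro a b hab
    have := congrArg ψ hab
    rw [hψV, hψV] at this
    exact hinj this
  have hcomap : 𝔫.comap ψ = maximalIdeal (integralClosure V (FractionRing V)⟮y⟯) := by
    have hprime : (𝔫.comap ψ).IsPrime := Ideal.comap_isPrime ψ 𝔫
    have hne : 𝔫.comap ψ ≠ ⊥ := by
      intro h
      have h1 : algebraMap V (integralClosure V (FractionRing V)⟮y⟯) ϖ ∈ 𝔫.comap ψ := by
        rw [Ideal.mem_comap, hψV]
        exact h𝔫 (Ideal.mem_map_of_mem _ hϖm)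
      rw [h, Ideal.mem_bot, map_eq_zero_iff _ hinjV'] at h1
      exact hϖ.ne_zero h1
    exact IsLocalRing.eq_maximalIdeal (hprime.isMaximal hne)
  have hmem : algebraMap V N ϖ ∈ 𝔫 ^ (Module.finrank (FractionRing V) (FractionRing V)⟮y⟯) := by
    have h1 := hle (Ideal.mem_map_of_mem _ hϖm)
    have h2 := Ideal.mem_map_of_mem ψ h1
    rw [Ideal.map_pow, hψV] at h2
    have h3 : (maximalIdeal (integralClosure V (FractionRing V)⟮y⟯)).map ψ ≤ 𝔫 := by
      rw [Ideal.map_le_iff_le_comap, hcomap]
    exact Ideal.pow_right_mono h3 _ h2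
  have hlt : Module.finrank (FractionRing V) (FractionRing V)⟮y⟯ < j := by
    by_contra hge
    push Not at hge
    exact hj (Ideal.pow_le_pow_right hge hmem)
  rw [adjoin.finrank hyK] at hlt
  refine ⟨IsLocalization.integerNormalization (nonZeroDivisors V) (minpoly (FractionRing V) y),
    ?_, ?_, ?_⟩
  · rw [Ne, IsFractionRing.integerNormalization_eq_zero_iff]
    exact minpoly.ne_zero hyK
  · refine le_trans ?_ hlt.le
    apply natDegree_le_natDegree
    exact degree_mono (IsLocalization.integerNormalization_support _ _)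
  · exact IsLocalization.integerNormalization_aeval_eq_zero _ _ (minpoly.aeval _ y)

end

end Groth.Agent.Lib.Helper12.Miln
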