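import Mathlib
import Groth.Agent.Lib.Helper12.MilnJ
import Groth.Agent.Lib.Helper12.CompleteNagata
import Groth.Agent.Lib.Helper5.FlatCohenD
import Groth.Agent.Lib.helper19.CompletionNoetherian

/-!
# Bounded degree of algebraic elements in the fraction field of a Noetherian local domain
dominating a henselian DVR with algebraically closed residue field
-/

set_option autoImplicit false
set_option linter.style.haveILetI false

namespace Groth.Agent.Lib.Helper12.Miln

open IsLocalRing Polynomial

universe u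

variable (V : Type u) [CommRing V] [IsDomain V] [IsDiscreteValuationRing V] [HenselianLocalRing V]
  [IsAlgClosed (IsLocalRing.ResidueField V)] [CharZero V]

/-- transfer of the bound along an injective map of domains -/
theorem exists_bound_of_injective (C N : Type u) [CommRing C] [IsDomain C] [Algebra V C]
    [CommRing N] [IsDomain N] [Algebra V N] (g : C →ₐ[V] N) (hg : Function.Injective g)
    (h : ∃ n : ℕ, ∀ y : FractionRing N, IsAlgebraic V y →
      ∃ q : V[X], q ≠ 0 ∧ q.natDegree ≤ n ∧ aeval y q = 0) :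
    ∃ n : ℕ, ∀ y : FractionRing C, IsAlgebraic V y →
      ∃ q : V[X], q ≠ 0 ∧ q.natDegree ≤ n ∧ aeval y q = 0 := by
  obtain ⟨n, hn⟩ := h
  refine ⟨n, fun y hy => ?_⟩
  let g' : C →ₐ[V] FractionRing N := (IsScalarTower.toAlgHom V N (FractionRing N)).comp g
  have hg' : Function.Injective g' := (IsFractionRing.injective N (FractionRing N)).comp hg
  let G : FractionRing C →ₐ[V] FractionRing N := IsFractionRing.liftAlgHom (g := g') hg'
  have hG : Function.Injective G := G.toRingHom.injective
  obtain ⟨q, hq0, hqn, hq⟩ := hn (G y) (hy.algHom G)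
  refine ⟨q, hq0, hqn, ?_⟩
  apply hG
  rw [← aeval_algHom_apply, hq, map_zero]

theorem exists_bound_of_local_domain (C : Type u) [CommRing C] [IsDomain C] [IsNoetherianRing C]
    [IsLocalRing C] [Algebra V C] (hinj : Function.Injective (algebraMap V C))
    (hloc : (maximalIdeal V).map (algebraMap V C) ≤ maximalIdeal C) :
    ∃ n : ℕ, ∀ y : FractionRing C, IsAlgebraic V y →
      ∃ q : V[X], q ≠ 0 ∧ q.natDegree ≤ n ∧ aeval y q = 0 := by
  classical
  haveI : IsNoetherianRing (AdicCompletion (maximalIdeal C) C) :=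
    Groth.Agent.Lib.helper19.isNoetherianRing_adicCompletion C (maximalIdeal C)
  obtain ⟨⟨𝔓, h𝔓⟩⟩ := Ideal.nonempty_minimalPrimes
    (I := (⊥ : Ideal (AdicCompletion (maximalIdeal C) C))) (by
      rw [Ne, Ideal.eq_top_iff_one, Ideal.mem_bot]
      exact one_ne_zero)
  haveI : 𝔓.IsPrime := h𝔓.1.1
  haveI : IsLocalRing (AdicCompletion (maximalIdeal C) C ⧸ 𝔓) :=
    IsLocalRing.of_surjective' (Ideal.Quotient.mk 𝔓) Ideal.Quotient.mk_surjective
  haveI : IsAdicComplete (maximalIdeal (AdicCompletion (maximalIdeal C) C ⧸ 𝔓))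
      (AdicCompletion (maximalIdeal C) C ⧸ 𝔓) :=
    Groth.Agent.Lib.Helper5.FlatCohen.isAdicComplete_quotient 𝔓
  haveI hfin : Module.Finite (AdicCompletion (maximalIdeal C) C ⧸ 𝔓)
      (integralClosure (AdicCompletion (maximalIdeal C) C ⧸ 𝔓)
        (FractionRing (AdicCompletion (maximalIdeal C) C ⧸ 𝔓))) :=
    Groth.Agent.Lib.Helper12.CompleteNagata.isN2_complete_local_domain
      (AdicCompletion (maximalIdeal C) C ⧸ 𝔓)
      (FractionRing (AdicCompletion (maximalIdeal C) C ⧸ 𝔓)) inferInstance
  haveI : IsNoetherianRing (integralClosure (AdicCompletion (maximalIdeal C) C ⧸ 𝔓)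
        (FractionRing (AdicCompletion (maximalIdeal C) C ⧸ 𝔓))) :=
    IsNoetherianRing.of_finite (AdicCompletion (maximalIdeal C) C ⧸ 𝔓) _
  haveI : IsIntegrallyClosed (integralClosure (AdicCompletion (maximalIdeal C) C ⧸ 𝔓)
        (FractionRing (AdicCompletion (maximalIdeal C) C ⧸ 𝔓))) :=
    integralClosure.isIntegrallyClosedOfFiniteExtension
      (FractionRing (AdicCompletion (maximalIdeal C) C ⧸ 𝔓))
  -- injectivity of `C → Ĉ / 𝔓`
  have h1 : Function.Injective ((Ideal.Quotient.mk 𝔓).comp
      (algebraMap C (AdicCompletion (maximalIdeal C) C))) := by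
    rw [injective_iff_map_eq_zero]
    intro c hc
    by_contra hc0
    rw [RingHom.comp_apply, Ideal.Quotient.eq_zero_iff_mem] at hc
    have hreg : IsSMulRegular (AdicCompletion (maximalIdeal C) C) c :=
      Module.Flat.isSMulRegular_of_nonZeroDivisors (mem_nonZeroDivisors_of_ne_zero hc0)
    have hnzd : algebraMap C (AdicCompletion (maximalIdeal C) C) c ∈
        nonZeroDivisors (AdicCompletion (maximalIdeal C) C) := by
      rw [mem_nonZeroDivisors_iff_right]
      intro x hx
      apply hreg
      change c • x = c • 0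
      rw [smul_zero, Algebra.smul_def, mul_comm]
      exact hx
    exact Set.disjoint_left.mp (Ideal.disjoint_nonZeroDivisors_of_mem_minimalPrimes h𝔓) hc hnzd
  have h2 : Function.Injective (algebraMap (AdicCompletion (maximalIdeal C) C ⧸ 𝔓)
      (integralClosure (AdicCompletion (maximalIdeal C) C ⧸ 𝔓)
        (FractionRing (AdicCompletion (maximalIdeal C) C ⧸ 𝔓)))) := by
    have h3 : Function.Injective (algebraMap (AdicCompletion (maximalIdeal C) C ⧸ 𝔓)
        (FractionRing (AdicCompletion (maximalIdeal C) C ⧸ 𝔓))) := IsFractionRing.injective _ _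
    rw [IsScalarTower.algebraMap_eq (AdicCompletion (maximalIdeal C) C ⧸ 𝔓)
      (integralClosure (AdicCompletion (maximalIdeal C) C ⧸ 𝔓)
        (FractionRing (AdicCompletion (maximalIdeal C) C ⧸ 𝔓)))
      (FractionRing (AdicCompletion (maximalIdeal C) C ⧸ 𝔓)), RingHom.coe_comp] at h3
    exact Function.Injective.of_comp h3
  let ρ : C →+* integralClosure (AdicCompletion (maximalIdeal C) C ⧸ 𝔓)
        (FractionRing (AdicCompletion (maximalIdeal C) C ⧸ 𝔓)) :=
    (algebraMap _ _).comp ((Ideal.Quotient.mk 𝔓).comp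
      (algebraMap C (AdicCompletion (maximalIdeal C) C)))
  have hρ : Function.Injective ρ := h2.comp h1
  letI : Algebra V (integralClosure (AdicCompletion (maximalIdeal C) C ⧸ 𝔓)
        (FractionRing (AdicCompletion (maximalIdeal C) C ⧸ 𝔓))) :=
    (ρ.comp (algebraMap V C)).toAlgebra
  let g : C →ₐ[V] integralClosure (AdicCompletion (maximalIdeal C) C ⧸ 𝔓)
        (FractionRing (AdicCompletion (maximalIdeal C) C ⧸ 𝔓)) :=
    { ρ with commutes' := fun v => rfl }
  apply exists_bound_of_injective V C _ g hρ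
  obtain ⟨𝔫, h𝔫max, h𝔫⟩ := Ideal.exists_ideal_over_maximal_of_isIntegral
    (S := integralClosure (AdicCompletion (maximalIdeal C) C ⧸ 𝔓)
        (FractionRing (AdicCompletion (maximalIdeal C) C ⧸ 𝔓)))
    (maximalIdeal (AdicCompletion (maximalIdeal C) C ⧸ 𝔓)) (by
      rw [(RingHom.injective_iff_ker_eq_bot _).mp h2]
      exact bot_le)
  haveI := h𝔫max.isPrime
  refine exists_bound V _ (hρ.comp hinj) 𝔫 ?_
  rw [Ideal.map_le_iff_le_comap]
  intro v hv
  rw [Ideal.mem_comap]
  change ρ (algebraMap V C v) ∈ 𝔫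
  have h4 : algebraMap V C v ∈ maximalIdeal C := hloc (Ideal.mem_map_of_mem _ hv)
  have h5 : algebraMap C (AdicCompletion (maximalIdeal C) C) (algebraMap V C v) ∈
      maximalIdeal (AdicCompletion (maximalIdeal C) C) :=
    map_nonunit _ _ h4
  haveI : IsLocalHom (Ideal.Quotient.mk 𝔓) :=
    IsLocalHom.of_surjective _ Ideal.Quotient.mk_surjective
  have h6 : (Ideal.Quotient.mk 𝔓) (algebraMap C (AdicCompletion (maximalIdeal C) C)
      (algebraMap V C v)) ∈ maximalIdeal (AdicCompletion (maximalIdeal C) C ⧸ 𝔓) :=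
    map_nonunit _ _ h5
  rw [← h𝔫] at h6
  exact h6

end Groth.Agent.Lib.Helper12.Miln
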