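import Mathlib
import Groth.Agent.Lib.Helper12.MilnH
import Groth.Agent.Lib.Helper12.MilnK

/-!
# `L ⊗[V] B` is Noetherian for a Noetherian local algebra `B` over a henselian DVR `V` of
characteristic zero with algebraically closed residue field, `L` an algebraic closure of `Frac V`.
-/

set_option autoImplicit false
set_option linter.style.haveILetI false

namespace Groth.Agent.Lib.Helper12.Miln

open IsLocalRing Polynomial TensorProduct

universe u

theorem isNoetherianRing_tensor_of_local
    (V : Type u) [CommRing V] [IsDomain V] [IsDiscreteValuationRing V] [HenselianLocalRing V]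
    [IsAlgClosed (IsLocalRing.ResidueField V)] [CharZero V]
    (L : Type u) [Field L] [IsAlgClosed L] [Algebra V L] [FaithfulSMul V L]
    [Algebra.IsAlgebraic V L]
    (B : Type u) [CommRing B] [IsNoetherianRing B] [IsLocalRing B] [Algebra V B]
    (hloc : (maximalIdeal V).map (algebraMap V B) ≤ maximalIdeal B) :
    IsNoetherianRing (L ⊗[V] B) := by
  apply isNoetherianRing_tensor V L B
  intro 𝔮 h𝔮 hinj
  haveI : Nontrivial (B ⧸ 𝔮) := Ideal.Quotient.nontrivial_iff.mpr h𝔮.ne_top
  haveI : IsLocalRing (B ⧸ 𝔮) :=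
    IsLocalRing.of_surjective' (Ideal.Quotient.mk 𝔮) Ideal.Quotient.mk_surjective
  haveI : IsDomain (B ⧸ 𝔮) := Ideal.Quotient.isDomain 𝔮
  haveI : IsLocalHom (Ideal.Quotient.mk 𝔮) :=
    IsLocalHom.of_surjective _ Ideal.Quotient.mk_surjective
  apply exists_bound_of_local_domain V (B ⧸ 𝔮) hinj
  rw [Ideal.map_le_iff_le_comap]
  intro v hv
  rw [Ideal.mem_comap, IsScalarTower.algebraMap_apply V B (B ⧸ 𝔮), Ideal.Quotient.algebraMap_eq]
  exact map_nonunit _ _ (hloc (Ideal.mem_map_of_mem _ hv))

end Groth.Agent.Lib.Helper12.Miln
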