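import Mathlib

/-!
# A Noetherian space has finitely many connected components
-/

set_option autoImplicit false

namespace Groth.Agent.Lib.Helper12.Miln

theorem finite_connectedComponents_of_noetherianSpace (X : Type*) [TopologicalSpace X]
    [TopologicalSpace.NoetherianSpace X] : Finite (ConnectedComponents X) := by
  classical
  haveI : Finite (irreducibleComponents X) :=
    (TopologicalSpace.NoetherianSpace.finite_irreducibleComponents (α := X)).to_subtype
  let f : irreducibleComponents X → ConnectedComponents X := fun Z =>
    ConnectedComponents.mk (Z.2.prop.nonempty.some)
  have hf : Function.Surjective f := by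
    intro c
    obtain ⟨x, rfl⟩ := ConnectedComponents.surjective_coe c
    refine ⟨⟨irreducibleComponent x, irreducibleComponent_mem_irreducibleComponents x⟩, ?_⟩
    change ConnectedComponents.mk _ = ConnectedComponents.mk x
    symm
    rw [ConnectedComponents.coe_eq_coe']
    have hpre : IsPreconnected (irreducibleComponent x) :=
      (isIrreducible_irreducibleComponent (x := x)).isConnected.isPreconnected
    exact hpre.subset_connectedComponent (Set.Nonempty.some_mem _) mem_irreducibleComponent
  exact Finite.of_surjective f hf

end Groth.Agent.Lib.Helper12.Miln
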