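import Mathlib.RingTheory.AdjoinRoot
import Mathlib.RingTheory.Nakayama
import Mathlib.RingTheory.LocalRing.ResidueField.Basic

set_option autoImplicit false
universe u v

/-!
# A finite algebra over a local ring which is monogenic modulo the maximal ideal is monogenic
-/

namespace Groth.Agent.Lib.Helper12

open Polynomial

theorem eq_sum_fin_of_degree_lt {K : Type*} [CommRing K] (p : K[X]) (n : ℕ)
    (h : p.degree < (n : WithBot ℕ)) :
    p = ∑ i : Fin n, C (p.coeff i) * X ^ (i : ℕ) := by
  ext j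
  rw [finset_sum_coeff]
  simp only [coeff_C_mul, coeff_X_pow]
  by_cases hj : j < n
  · rw [Finset.sum_eq_single (⟨j, hj⟩ : Fin n)]
    · simp
    · intro i _ hi
      have : j ≠ (i : ℕ) := fun h' => hi (Fin.ext h'.symm)
      simp [this]
    · intro h'
      exact absurd (Finset.mem_univ _) h'
  · rw [coeff_eq_zero_of_degree_lt (lt_of_lt_of_le h (by exact_mod_cast not_lt.mp hj))]
    symm
    apply Finset.sum_eq_zero
    intro i _
    have : j ≠ (i : ℕ) := fun h' => hj (h' ▸ i.2)
    simp [this]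

theorem monogenic_of_quotient_algEquiv_adjoinRoot_aux
    (A : Type u) [CommRing A] [IsLocalRing A] (B : Type u) [CommRing B] [Algebra A B]
    [Module.Finite A B]
    (Q₀ : Polynomial (IsLocalRing.ResidueField A)) (hQ₀ : Q₀.Monic)
    (J : Ideal B) (hJ : J = Ideal.map (algebraMap A B) (IsLocalRing.maximalIdeal A))
    (e : (B ⧸ J) ≃ₐ[A] AdjoinRoot Q₀) (x : B)
    (hx : e (Ideal.Quotient.mk J x) = AdjoinRoot.root Q₀) :
    Algebra.adjoin A {x} = ⊤ ∧
      ∃ Q : Polynomial A, Q.Monic ∧ Q.natDegree = Q₀.natDegree ∧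
        Polynomial.map (IsLocalRing.residue A) Q = Q₀ ∧ Polynomial.aeval x Q = 0 := by
  classical
  have hjac : IsLocalRing.maximalIdeal A ≤ Ideal.jacobson ⊥ :=
    IsLocalRing.maximalIdeal_le_jacobson ⊥
  have hresmk : ∀ a : A, algebraMap A (AdjoinRoot Q₀) a =
      AdjoinRoot.mk Q₀ (C (IsLocalRing.residue A a)) := fun a => rfl
  -- description of `e` on polynomial expressions in `x`
  have he : ∀ (k : ℕ) (a : Fin k → A), e (Ideal.Quotient.mk J (∑ i, a i • x ^ (i : ℕ))) =
      AdjoinRoot.mk Q₀ (∑ i : Fin k, C (IsLocalRing.residue A (a i)) * X ^ (i : ℕ)) := by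
    intro k a
    rw [map_sum, map_sum, map_sum]
    apply Finset.sum_congr rfl
    intro i _
    rw [Algebra.smul_def, map_mul, map_mul, map_pow, map_pow, hx]
    have : Ideal.Quotient.mk J (algebraMap A B (a i)) = algebraMap A (B ⧸ J) (a i) := rfl
    rw [this, AlgEquiv.commutes, hresmk, map_mul, map_pow, AdjoinRoot.mk_X]
  have hkey : ∀ c : B, ∃ a : Fin Q₀.natDegree → A, c - ∑ i, a i • x ^ (i : ℕ) ∈ J := by
    intro c
    obtain ⟨p, hp⟩ := AdjoinRoot.mk_surjective (e (Ideal.Quotient.mk J c))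
    have hpmk : AdjoinRoot.mk Q₀ (p %ₘ Q₀) = e (Ideal.Quotient.mk J c) := by
      rw [← hp, AdjoinRoot.mk_eq_mk]
      have := modByMonic_add_div p Q₀
      exact ⟨-(p /ₘ Q₀), by linear_combination this⟩
    have hdeg : (p %ₘ Q₀).degree < (Q₀.natDegree : WithBot ℕ) := by
      rw [← degree_eq_natDegree hQ₀.ne_zero]
      exact degree_modByMonic_lt p hQ₀
    choose a ha using fun i : Fin Q₀.natDegree =>
      IsLocalRing.residue_surjective ((p %ₘ Q₀).coeff i)
    refine ⟨a, ?_⟩
    rw [← Ideal.Quotient.eq]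
    apply e.injective
    rw [← hpmk, he]
    congr 1
    conv_lhs => rw [eq_sum_fin_of_degree_lt (p %ₘ Q₀) Q₀.natDegree hdeg]
    apply Finset.sum_congr rfl
    intro i _
    rw [ha]
  let N : Submodule A B :=
    Submodule.span A (Set.range fun i : Fin Q₀.natDegree => x ^ (i : ℕ))
  have hNtop : (⊤ : Submodule A B) ≤ N := by
    apply Submodule.le_of_le_smul_of_le_jacobson_bot Module.Finite.fg_top hjac
    intro c _
    obtain ⟨a, ha⟩ := hkey c
    have e1 : c = ∑ i, a i • x ^ (i : ℕ) + (c - ∑ i, a i • x ^ (i : ℕ)) := by ring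
    rw [e1]
    refine Submodule.add_mem_sup ?_ ?_
    · apply Submodule.sum_mem
      intro i _
      exact Submodule.smul_mem _ _ (Submodule.subset_span ⟨i, rfl⟩)
    · rw [Ideal.smul_top_eq_map, ← hJ]
      exact ha
  have hmemN : ∀ c : B, ∃ a : Fin Q₀.natDegree → A, c = ∑ i, a i • x ^ (i : ℕ) := by
    intro c
    have : c ∈ N := hNtop Submodule.mem_top
    obtain ⟨a, ha⟩ := (Submodule.mem_span_range_iff_exists_fun A).mp this
    exact ⟨a, ha.symm⟩
  constructor
  · rw [eq_top_iff]
    intro c _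
    obtain ⟨a, rfl⟩ := hmemN c
    apply Subalgebra.sum_mem
    intro i _
    exact Subalgebra.smul_mem _ (Subalgebra.pow_mem _ (Algebra.subset_adjoin (Set.mem_singleton x)) _) _
  · obtain ⟨a, ha⟩ := hmemN (x ^ Q₀.natDegree)
    set S : A[X] := ∑ i : Fin Q₀.natDegree, C (a i) * X ^ (i : ℕ) with hS
    have hsumdeg : S.degree < (Q₀.natDegree : WithBot ℕ) := by
      apply lt_of_le_of_lt (degree_sum_le _ _)
      rw [Finset.sup_lt_iff (by exact_mod_cast WithBot.bot_lt_coe Q₀.natDegree)]
      intro i _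
      apply lt_of_le_of_lt (degree_C_mul_X_pow_le _ _)
      exact_mod_cast i.2
    have hQm : (X ^ Q₀.natDegree - S).Monic := by
      apply Monic.sub_of_left (monic_X_pow _)
      rw [degree_X_pow]
      exact hsumdeg
    have hQdeg : (X ^ Q₀.natDegree - S).natDegree = Q₀.natDegree := by
      apply natDegree_eq_of_degree_eq_some
      rw [degree_sub_eq_left_of_degree_lt (by rw [degree_X_pow]; exact hsumdeg), degree_X_pow]
    refine ⟨X ^ Q₀.natDegree - S, hQm, hQdeg, ?_, ?_⟩
    · set Q' := (X ^ Q₀.natDegree - S).map (IsLocalRing.residue A) with hQ'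
      have hQ'm : Q'.Monic := hQm.map _
      have hQ'deg : Q'.natDegree = Q₀.natDegree := by
        rw [hQ', hQm.natDegree_map, hQdeg]
      have hmk : AdjoinRoot.mk Q₀ Q' = 0 := by
        rw [hQ', Polynomial.map_sub, Polynomial.map_pow, map_X, hS, Polynomial.map_sum, map_sub,
          map_pow, AdjoinRoot.mk_X]
        have h1 : (∑ i : Fin Q₀.natDegree, (C (a i) * X ^ (i : ℕ)).map (IsLocalRing.residue A)) =
            ∑ i : Fin Q₀.natDegree, C (IsLocalRing.residue A (a i)) * X ^ (i : ℕ) := by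
          apply Finset.sum_congr rfl
          intro i _
          rw [Polynomial.map_mul, Polynomial.map_pow, map_X, map_C]
        rw [h1, ← he, ← ha, map_pow, map_pow, hx, sub_self]
      obtain ⟨c, hc⟩ := AdjoinRoot.mk_eq_zero.mp hmk
      have hcm : c.Monic := by
        have := hQ'm
        rw [hc] at this
        exact hQ₀.of_mul_monic_left this
      have hcdeg : c.natDegree = 0 := by
        have := congrArg natDegree hc
        rw [hQ₀.natDegree_mul hcm] at this
        omega
      rw [hc, eq_one_of_monic_natDegree_zero hcm hcdeg, mul_one]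
    · rw [map_sub, map_pow, aeval_X, hS, map_sum, ha, sub_eq_zero]
      apply Finset.sum_congr rfl
      intro i _
      rw [map_mul, aeval_C, map_pow, aeval_X, Algebra.smul_def]

theorem monogenic_of_quotient_algEquiv_adjoinRoot
    (A : Type u) [CommRing A] [IsLocalRing A] (B : Type u) [CommRing B] [Algebra A B]
    [Module.Finite A B]
    (Q₀ : Polynomial (IsLocalRing.ResidueField A)) (hQ₀ : Q₀.Monic)
    (e : (B ⧸ Ideal.map (algebraMap A B) (IsLocalRing.maximalIdeal A)) ≃ₐ[A] AdjoinRoot Q₀)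
    (x : B)
    (hx : e (Ideal.Quotient.mk (Ideal.map (algebraMap A B) (IsLocalRing.maximalIdeal A)) x) =
      AdjoinRoot.root Q₀) :
    Algebra.adjoin A {x} = ⊤ ∧
      ∃ Q : Polynomial A, Q.Monic ∧ Q.natDegree = Q₀.natDegree ∧
        Polynomial.map (IsLocalRing.residue A) Q = Q₀ ∧ Polynomial.aeval x Q = 0 :=
  monogenic_of_quotient_algEquiv_adjoinRoot_aux A B Q₀ hQ₀ _ rfl e x hx

end Groth.Agent.Lib.Helper12
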