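import Mathlib

/-!
# Limits and closed ideals in complete Noetherian local rings
-/

set_option autoImplicit false
universe u

namespace Groth.Agent.Lib.Helper12.NodeCompl

open IsLocalRing

/-- A sequence with `s (n+1) - s n ∈ I ^ n` has a limit `L` with `L - s n ∈ I ^ n`. -/
theorem exists_limit {S : Type*} [CommRing S] (I : Ideal S) [IsPrecomplete I S] (s : ℕ → S)
    (hs : ∀ n, s (n + 1) - s n ∈ I ^ n) : ∃ L : S, ∀ n, L - s n ∈ I ^ n := by
  have hmn : ∀ m k, s (m + k) - s m ∈ I ^ m := by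
    intro m k
    induction k with
    | zero => simp
    | succ k ih =>
      have h1 : s (m + (k + 1)) - s m = (s (m + k + 1) - s (m + k)) + (s (m + k) - s m) := by
        rw [← add_assoc]; ring
      rw [h1]
      exact (I ^ m).add_mem (Ideal.pow_le_pow_right (Nat.le_add_right m k) (hs (m + k))) ih
  have hsmul : ∀ n, (I ^ n • ⊤ : Ideal S) = I ^ n := fun n => by
    rw [smul_eq_mul, Ideal.mul_top]
  obtain ⟨L, hL⟩ := IsPrecomplete.prec' (I := I) s (by
    intro m n hle
    obtain ⟨k, rfl⟩ := Nat.exists_eq_add_of_le hle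
    rw [SModEq.sub_mem, hsmul]
    have := (I ^ m).neg_mem (hmn m k)
    rwa [neg_sub] at this)
  refine ⟨L, fun n => ?_⟩
  have := hL n
  rw [SModEq.sub_mem, hsmul] at this
  have h2 := (I ^ n).neg_mem this
  rwa [neg_sub] at h2

/-- Ideals of a Noetherian local ring are closed in the adic topology of the maximal ideal. -/
theorem mem_of_forall_exists_sub_mem {S : Type*} [CommRing S] [IsNoetherianRing S] [IsLocalRing S]
    (J : Ideal S) (x : S) (h : ∀ n : ℕ, ∃ y ∈ J, x - y ∈ maximalIdeal S ^ n) : x ∈ J := by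
  have hK := Ideal.iInf_pow_smul_eq_bot_of_isLocalRing (maximalIdeal S) (M := S ⧸ J)
    (Ideal.IsPrime.ne_top inferInstance)
  have hx : Ideal.Quotient.mk J x ∈ (⨅ i : ℕ, maximalIdeal S ^ i • ⊤ : Submodule S (S ⧸ J)) := by
    rw [Submodule.mem_iInf]
    intro i
    obtain ⟨y, hy, hxy⟩ := h i
    have h1 : Ideal.Quotient.mk J x = (x - y) • (1 : S ⧸ J) := by
      rw [Algebra.smul_def, mul_one, Ideal.Quotient.algebraMap_eq, map_sub,
        Ideal.Quotient.eq_zero_iff_mem.mpr hy, sub_zero]
    rw [h1]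
    exact Submodule.smul_mem_smul hxy Submodule.mem_top
  rw [hK, Submodule.mem_bot] at hx
  exact Ideal.Quotient.eq_zero_iff_mem.mp hx

end Groth.Agent.Lib.Helper12.NodeCompl
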