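import Mathlib
import Groth.Agent.Lib.Helper12.NodeComplA
import Groth.Agent.Lib.helper19.ComplMap1
import Groth.Agent.Lib.helper19.CompletionNoetherian

/-!
# Limits of node-approximating sequences in the completion
-/

set_option autoImplicit false
set_option linter.unusedSectionVars false
universe u

namespace Groth.Agent.Lib.Helper12.NodeCompl

open IsLocalRing Groth.Agent.Lib.Helper19.ComplMap

section One

variable (A : Type u) [CommRing A] [IsLocalRing A] [IsNoetherianRing A]

theorem of_mem_pow {k : ℕ} {a : A} (ha : a ∈ maximalIdeal A ^ k) :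
    algebraMap A (AdicCompletion (maximalIdeal A) A) a ∈
      maximalIdeal (AdicCompletion (maximalIdeal A) A) ^ k := by
  rw [AdicCompletion.maximalIdeal_eq_map, ← Ideal.map_pow]
  exact Ideal.mem_map_of_mem _ ha

theorem of_mem_maximalIdeal {a : A} (ha : a ∈ maximalIdeal A) :
    algebraMap A (AdicCompletion (maximalIdeal A) A) a ∈
      maximalIdeal (AdicCompletion (maximalIdeal A) A) := by
  rw [AdicCompletion.maximalIdeal_eq_map]
  exact Ideal.mem_map_of_mem _ ha

instance : IsNoetherianRing (AdicCompletion (maximalIdeal A) A) :=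
  Groth.Agent.Lib.helper19.isNoetherianRing_adicCompletion A (maximalIdeal A)

end One

variable (A B : Type u) [CommRing A] [IsLocalRing A] [IsNoetherianRing A]
    [CommRing B] [IsLocalRing B] [IsNoetherianRing B] [Algebra A B] [IsLocalHom (algebraMap A B)]

theorem map_maximalIdeal_le : (maximalIdeal A).map (algebraMap A B) ≤ maximalIdeal B := by
  have h02 := (local_hom_TFAE (algebraMap A B)).out 0 2
  exact h02.mp inferInstance

theorem algebraMap_mem_pow {k : ℕ} {b : B}
    (hb : b ∈ (maximalIdeal A ^ k).map (algebraMap A B)) :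
    algebraMap B (AdicCompletion (maximalIdeal B) B) b ∈
      maximalIdeal (AdicCompletion (maximalIdeal B) B) ^ k := by
  apply of_mem_pow B
  rw [Ideal.map_pow] at hb
  exact Ideal.pow_right_mono (map_maximalIdeal_le A B) k hb

theorem map_map_eq : ((maximalIdeal A).map (algebraMap A B)).map
      (algebraMap B (AdicCompletion (maximalIdeal B) B)) =
    (maximalIdeal A).map (algebraMap A (AdicCompletion (maximalIdeal B) B)) := by
  rw [Ideal.map_map]
  rfl

theorem complMap_of (a : A) :
    complMap A B (algebraMap A (AdicCompletion (maximalIdeal A) A) a) =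
      algebraMap B (AdicCompletion (maximalIdeal B) B) (algebraMap A B a) :=
  RingHom.congr_fun (complMap_comp A B) a

theorem map_complMap_eq : ((maximalIdeal A).map
      (algebraMap A (AdicCompletion (maximalIdeal A) A))).map (complMap A B) =
    (maximalIdeal A).map (algebraMap A (AdicCompletion (maximalIdeal B) B)) := by
  rw [Ideal.map_map, complMap_comp]
  rfl

theorem map_algebraMap_le : (maximalIdeal A).map (algebraMap A (AdicCompletion (maximalIdeal B) B)) ≤
    maximalIdeal (AdicCompletion (maximalIdeal B) B) := by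
  rw [← map_map_eq, AdicCompletion.maximalIdeal_eq_map]
  exact Ideal.map_mono (map_maximalIdeal_le A B)

theorem complMap_mem_pow {k : ℕ} {x : AdicCompletion (maximalIdeal A) A}
    (hx : x ∈ maximalIdeal (AdicCompletion (maximalIdeal A) A) ^ k) :
    complMap A B x ∈ maximalIdeal (AdicCompletion (maximalIdeal B) B) ^ k := by
  have h1 : (maximalIdeal (AdicCompletion (maximalIdeal A) A) ^ k).map (complMap A B) ≤
      maximalIdeal (AdicCompletion (maximalIdeal B) B) ^ k := by
    rw [Ideal.map_pow, AdicCompletion.maximalIdeal_eq_map (R := A), map_complMap_eq]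
    exact Ideal.pow_right_mono (map_algebraMap_le A B) k
  exact h1 (Ideal.mem_map_of_mem _ hx)

/-- Limit in `B̂` of a sequence in `B` whose increments lie in `𝔪_A^{n+1} B`. -/
theorem exists_limit_B (s : ℕ → B)
    (hd : ∀ n, s (n + 1) - s n ∈ (maximalIdeal A ^ (n + 1)).map (algebraMap A B)) :
    ∃ L : AdicCompletion (maximalIdeal B) B,
      (∀ n, L - algebraMap B (AdicCompletion (maximalIdeal B) B) (s n) ∈
        maximalIdeal (AdicCompletion (maximalIdeal B) B) ^ n) ∧
      L - algebraMap B (AdicCompletion (maximalIdeal B) B) (s 0) ∈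
        (maximalIdeal A).map (algebraMap A (AdicCompletion (maximalIdeal B) B)) := by
  obtain ⟨L, hL⟩ := exists_limit (maximalIdeal (AdicCompletion (maximalIdeal B) B))
    (fun n => algebraMap B (AdicCompletion (maximalIdeal B) B) (s n)) (fun n => by
      rw [← map_sub]
      exact Ideal.pow_le_pow_right (Nat.le_succ n) (algebraMap_mem_pow A B (hd n)))
  refine ⟨L, hL, ?_⟩
  have htel : ∀ n, s n - s 0 ∈ (maximalIdeal A).map (algebraMap A B) := by
    intro n
    induction n with
    | zero => simp
    | succ n ih =>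
      have h1 : s (n + 1) - s 0 = (s (n + 1) - s n) + (s n - s 0) := by ring
      rw [h1]
      exact Ideal.add_mem _ (Ideal.map_mono (Ideal.pow_le_self (Nat.succ_ne_zero n)) (hd n)) ih
  apply mem_of_forall_exists_sub_mem
  intro n
  refine ⟨algebraMap B (AdicCompletion (maximalIdeal B) B) (s n - s 0), ?_, ?_⟩
  · rw [← map_map_eq]
    exact Ideal.mem_map_of_mem _ (htel n)
  · have h1 : L - algebraMap B (AdicCompletion (maximalIdeal B) B) (s 0) -
        algebraMap B (AdicCompletion (maximalIdeal B) B) (s n - s 0) =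
        L - algebraMap B (AdicCompletion (maximalIdeal B) B) (s n) := by
      rw [map_sub]; ring
    rw [h1]
    exact hL n

/-- Limit in `Â` of a sequence in `𝔪_A` whose increments lie in `𝔪_A^{n+1}`. -/
theorem exists_limit_A (ε : ℕ → A) (hε : ∀ n, ε n ∈ maximalIdeal A)
    (hd : ∀ n, ε (n + 1) - ε n ∈ maximalIdeal A ^ (n + 1)) :
    ∃ α : AdicCompletion (maximalIdeal A) A,
      (∀ n, α - algebraMap A (AdicCompletion (maximalIdeal A) A) (ε n) ∈
        maximalIdeal (AdicCompletion (maximalIdeal A) A) ^ n) ∧
      α ∈ (maximalIdeal A).map (algebraMap A (AdicCompletion (maximalIdeal A) A)) := by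
  obtain ⟨α, hα⟩ := exists_limit (maximalIdeal (AdicCompletion (maximalIdeal A) A))
    (fun n => algebraMap A (AdicCompletion (maximalIdeal A) A) (ε n)) (fun n => by
      rw [← map_sub]
      exact Ideal.pow_le_pow_right (Nat.le_succ n) (of_mem_pow A (hd n)))
  refine ⟨α, hα, ?_⟩
  apply mem_of_forall_exists_sub_mem
  intro n
  exact ⟨algebraMap A (AdicCompletion (maximalIdeal A) A) (ε n),
    Ideal.mem_map_of_mem _ (hε n), hα n⟩

/-- The limits of node-approximating sequences. -/
theorem exists_limits (us vs : ℕ → B) (ε : ℕ → A)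
    (hus : ∀ n, us n ∈ maximalIdeal B) (hvs : ∀ n, vs n ∈ maximalIdeal B)
    (hε : ∀ n, ε n ∈ maximalIdeal A)
    (hdu : ∀ n, us (n + 1) - us n ∈ (maximalIdeal A ^ (n + 1)).map (algebraMap A B))
    (hdv : ∀ n, vs (n + 1) - vs n ∈ (maximalIdeal A ^ (n + 1)).map (algebraMap A B))
    (hdε : ∀ n, ε (n + 1) - ε n ∈ maximalIdeal A ^ (n + 1))
    (hp : ∀ n, us n * vs n - algebraMap A B (ε n) ∈
      (maximalIdeal A ^ (n + 1)).map (algebraMap A B)) :
    ∃ (uh vh : AdicCompletion (maximalIdeal B) B) (α : AdicCompletion (maximalIdeal A) A),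
      uh ∈ maximalIdeal (AdicCompletion (maximalIdeal B) B) ∧
      vh ∈ maximalIdeal (AdicCompletion (maximalIdeal B) B) ∧
      uh - algebraMap B (AdicCompletion (maximalIdeal B) B) (us 0) ∈
        (maximalIdeal A).map (algebraMap A (AdicCompletion (maximalIdeal B) B)) ∧
      vh - algebraMap B (AdicCompletion (maximalIdeal B) B) (vs 0) ∈
        (maximalIdeal A).map (algebraMap A (AdicCompletion (maximalIdeal B) B)) ∧
      α ∈ (maximalIdeal A).map (algebraMap A (AdicCompletion (maximalIdeal A) A)) ∧
      uh * vh = complMap A B α := by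
  obtain ⟨uh, huh, huh0⟩ := exists_limit_B A B us hdu
  obtain ⟨vh, hvh, hvh0⟩ := exists_limit_B A B vs hdv
  obtain ⟨α, hα, hα0⟩ := exists_limit_A A ε hε hdε
  have hmem : ∀ (L : AdicCompletion (maximalIdeal B) B) (b : B), b ∈ maximalIdeal B →
      L - algebraMap B (AdicCompletion (maximalIdeal B) B) b ∈
        maximalIdeal (AdicCompletion (maximalIdeal B) B) ^ 1 →
      L ∈ maximalIdeal (AdicCompletion (maximalIdeal B) B) := by
    intro L b hb hL
    rw [pow_one] at hL
    have := Ideal.add_mem _ hL (of_mem_maximalIdeal B hb)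
    rwa [sub_add_cancel] at this
  refine ⟨uh, vh, α, hmem uh _ (hus 1) (huh 1), hmem vh _ (hvs 1) (hvh 1), huh0, hvh0, hα0, ?_⟩
  rw [← sub_eq_zero]
  have hbot := Ideal.iInf_pow_eq_bot_of_isLocalRing
    (maximalIdeal (AdicCompletion (maximalIdeal B) B)) (Ideal.IsPrime.ne_top inferInstance)
  rw [← Ideal.mem_bot, ← hbot, Ideal.mem_iInf]
  intro n
  have hdec : uh * vh - complMap A B α =
      (uh - algebraMap B (AdicCompletion (maximalIdeal B) B) (us n)) * vh +
      algebraMap B (AdicCompletion (maximalIdeal B) B) (us n) *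
        (vh - algebraMap B (AdicCompletion (maximalIdeal B) B) (vs n)) +
      algebraMap B (AdicCompletion (maximalIdeal B) B)
        (us n * vs n - algebraMap A B (ε n)) -
      complMap A B (α - algebraMap A (AdicCompletion (maximalIdeal A) A) (ε n)) := by
    rw [map_sub (complMap A B), complMap_of, map_sub, map_mul]
    ring
  rw [hdec]
  refine Ideal.sub_mem _ (Ideal.add_mem _ (Ideal.add_mem _ ?_ ?_) ?_) ?_
  · exact Ideal.mul_mem_right _ _ (huh n)
  · exact Ideal.mul_mem_left _ _ (hvh n)
  · exact Ideal.pow_le_pow_right (Nat.le_succ n) (algebraMap_mem_pow A B (hp n))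
  · exact complMap_mem_pow A B (hα n)

end Groth.Agent.Lib.Helper12.NodeCompl
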