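import Mathlib
import Groth.Agent.Lib.Helper12.NodeComplB

/-!
# Surjectivity of the power-series presentation of the completed node
-/

set_option autoImplicit false
set_option linter.unusedSectionVars false
universe u

namespace Groth.Agent.Lib.Helper12.NodeCompl

open IsLocalRing Groth.Agent.Lib.Helper19.ComplMap

variable (A B : Type u) [CommRing A] [IsLocalRing A] [IsNoetherianRing A]
    [CommRing B] [IsLocalRing B] [IsNoetherianRing B] [Algebra A B] [IsLocalHom (algebraMap A B)]

/-- The maximal ideal of `B̂` is generated by `û`, `v̂` and `𝔪_A`. -/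
theorem maximalIdeal_eq_sup (u v : B) (uh vh : AdicCompletion (maximalIdeal B) B)
    (hgen : maximalIdeal B = Ideal.span {u, v} ⊔ (maximalIdeal A).map (algebraMap A B))
    (huh : uh - algebraMap B (AdicCompletion (maximalIdeal B) B) u ∈
      (maximalIdeal A).map (algebraMap A (AdicCompletion (maximalIdeal B) B)))
    (hvh : vh - algebraMap B (AdicCompletion (maximalIdeal B) B) v ∈
      (maximalIdeal A).map (algebraMap A (AdicCompletion (maximalIdeal B) B))) :
    maximalIdeal (AdicCompletion (maximalIdeal B) B) = Ideal.span {uh, vh} ⊔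
      (maximalIdeal A).map (algebraMap A (AdicCompletion (maximalIdeal B) B)) := by
  have h0 := congrArg (Ideal.map (algebraMap B (AdicCompletion (maximalIdeal B) B))) hgen
  rw [AdicCompletion.maximalIdeal_eq_map, h0, Ideal.map_sup, map_map_eq, Ideal.map_span,
    Set.image_pair]
  set K := (maximalIdeal A).map (algebraMap A (AdicCompletion (maximalIdeal B) B)) with hK
  apply le_antisymm
  · refine sup_le ?_ le_sup_right
    rw [Ideal.span_le]
    rintro x (rfl | rfl)
    · have h1 : algebraMap B (AdicCompletion (maximalIdeal B) B) u =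
          uh - (uh - algebraMap B (AdicCompletion (maximalIdeal B) B) u) := by ring
      rw [h1]
      exact Ideal.sub_mem _ (Ideal.mem_sup_left (Ideal.subset_span (by simp)))
        (Ideal.mem_sup_right huh)
    · have h1 : algebraMap B (AdicCompletion (maximalIdeal B) B) v =
          vh - (vh - algebraMap B (AdicCompletion (maximalIdeal B) B) v) := by ring
      rw [h1]
      exact Ideal.sub_mem _ (Ideal.mem_sup_left (Ideal.subset_span (by simp)))
        (Ideal.mem_sup_right hvh)
  · refine sup_le ?_ le_sup_right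
    rw [Ideal.span_le]
    rintro x (rfl | rfl)
    · have h1 : x = (x - algebraMap B (AdicCompletion (maximalIdeal B) B) u) +
          algebraMap B (AdicCompletion (maximalIdeal B) B) u := by ring
      rw [h1]
      exact Ideal.add_mem _ (Ideal.mem_sup_right huh)
        (Ideal.mem_sup_left (Ideal.subset_span (by simp)))
    · have h1 : x = (x - algebraMap B (AdicCompletion (maximalIdeal B) B) v) +
          algebraMap B (AdicCompletion (maximalIdeal B) B) v := by ring
      rw [h1]
      exact Ideal.add_mem _ (Ideal.mem_sup_right hvh)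
        (Ideal.mem_sup_left (Ideal.subset_span (by simp)))

/-- Every element of `B̂` is congruent modulo the maximal ideal to the image of an element
of `A`. -/
theorem exists_sub_mem_maximalIdeal
    (hres : Function.Surjective (ResidueField.map (algebraMap A B)))
    (y : AdicCompletion (maximalIdeal B) B) :
    ∃ a : A, y - algebraMap B (AdicCompletion (maximalIdeal B) B) (algebraMap A B a) ∈
      maximalIdeal (AdicCompletion (maximalIdeal B) B) := by
  obtain ⟨bb, hbb⟩ := (AdicCompletion.residueField_map_bijective B).2 (residue _ y)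
  obtain ⟨aa, rfl⟩ := hres bb
  obtain ⟨a, rfl⟩ := residue_surjective aa
  refine ⟨a, ?_⟩
  rw [ResidueField.map_residue, ResidueField.map_residue] at hbb
  have h1 := Ideal.Quotient.eq.mp hbb
  have h2 := Ideal.neg_mem_iff _ |>.mpr h1
  rwa [neg_sub] at h2

/-- Step A: `Â → B̂ ⧸ (û, v̂)` is surjective. -/
theorem exists_sub_complMap_mem (u v : B) (uh vh : AdicCompletion (maximalIdeal B) B)
    (hres : Function.Surjective (ResidueField.map (algebraMap A B)))
    (hgen : maximalIdeal B = Ideal.span {u, v} ⊔ (maximalIdeal A).map (algebraMap A B))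
    (huh : uh - algebraMap B (AdicCompletion (maximalIdeal B) B) u ∈
      (maximalIdeal A).map (algebraMap A (AdicCompletion (maximalIdeal B) B)))
    (hvh : vh - algebraMap B (AdicCompletion (maximalIdeal B) B) v ∈
      (maximalIdeal A).map (algebraMap A (AdicCompletion (maximalIdeal B) B)))
    (y : AdicCompletion (maximalIdeal B) B) :
    ∃ a : AdicCompletion (maximalIdeal A) A, y - complMap A B a ∈ Ideal.span {uh, vh} := by
  have hmax := maximalIdeal_eq_sup A B u v uh vh hgen huh hvh
  set J : Ideal (AdicCompletion (maximalIdeal B) B) := Ideal.span {uh, vh} with hJ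
  have hJle : J ≤ maximalIdeal (AdicCompletion (maximalIdeal B) B) := by
    rw [hmax]; exact le_sup_left
  let g : AdicCompletion (maximalIdeal A) A →+* (AdicCompletion (maximalIdeal B) B) ⧸ J :=
    (Ideal.Quotient.mk J).comp (complMap A B)
  have hmapg : (maximalIdeal (AdicCompletion (maximalIdeal A) A)).map g =
      ((maximalIdeal A).map (algebraMap A (AdicCompletion (maximalIdeal B) B))).map
        (Ideal.Quotient.mk J) := by
    rw [← Ideal.map_map, AdicCompletion.maximalIdeal_eq_map (R := A), map_complMap_eq]
  have hjac : (maximalIdeal (AdicCompletion (maximalIdeal A) A)).map g ≤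
      Ideal.jacobson ⊥ := by
    rw [hmapg, Ideal.map_le_iff_le_comap]
    intro x hx
    rw [Ideal.mem_comap, Ideal.mem_jacobson_bot]
    intro z
    obtain ⟨z, rfl⟩ := Ideal.Quotient.mk_surjective z
    rw [← map_mul, ← map_one (Ideal.Quotient.mk J), ← map_add]
    apply IsUnit.map
    have hxm : x * z ∈ maximalIdeal (AdicCompletion (maximalIdeal B) B) :=
      Ideal.mul_mem_right _ _ (map_algebraMap_le A B hx)
    by_contra hnu
    have h1 : x * z + 1 ∈ maximalIdeal (AdicCompletion (maximalIdeal B) B) := hnu
    have h2 := Ideal.sub_mem _ h1 hxm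
    rw [add_sub_cancel_left] at h2
    exact (Ideal.ne_top_iff_one _).mp (Ideal.IsPrime.ne_top inferInstance) h2
  haveI : IsHausdorff ((maximalIdeal (AdicCompletion (maximalIdeal A) A)).map g)
      ((AdicCompletion (maximalIdeal B) B) ⧸ J) := IsHausdorff.of_le_jacobson _ _ hjac
  have hsurj : Function.Surjective g := by
    apply surjective_of_mk_map_comp_surjective g
      (I := maximalIdeal (AdicCompletion (maximalIdeal A) A))
    intro z
    obtain ⟨z, rfl⟩ := Ideal.Quotient.mk_surjective z
    obtain ⟨z, rfl⟩ := Ideal.Quotient.mk_surjective z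
    obtain ⟨a, ha⟩ := exists_sub_mem_maximalIdeal A B hres z
    refine ⟨algebraMap A (AdicCompletion (maximalIdeal A) A) a, ?_⟩
    rw [RingHom.comp_apply]
    change Ideal.Quotient.mk _ (Ideal.Quotient.mk J (complMap A B _)) = _
    rw [complMap_of, eq_comm, ← sub_eq_zero, ← map_sub, ← map_sub,
      Ideal.Quotient.eq_zero_iff_mem, hmapg]
    rw [hmax] at ha
    obtain ⟨j, hj, k, hk, hjk⟩ := Submodule.mem_sup.mp ha
    rw [← hjk, map_add, Ideal.Quotient.eq_zero_iff_mem.mpr hj, zero_add]
    exact Ideal.mem_map_of_mem _ hk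
  obtain ⟨a, ha⟩ := hsurj (Ideal.Quotient.mk J y)
  refine ⟨a, ?_⟩
  rw [← Ideal.Quotient.eq_zero_iff_mem, map_sub, sub_eq_zero]
  exact ha.symm

/-- Step B: the evaluation map from the power series ring is surjective. -/
theorem surjective_of_gen (u v : B) (uh vh : AdicCompletion (maximalIdeal B) B)
    (hres : Function.Surjective (ResidueField.map (algebraMap A B)))
    (hgen : maximalIdeal B = Ideal.span {u, v} ⊔ (maximalIdeal A).map (algebraMap A B))
    (huh : uh - algebraMap B (AdicCompletion (maximalIdeal B) B) u ∈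
      (maximalIdeal A).map (algebraMap A (AdicCompletion (maximalIdeal B) B)))
    (hvh : vh - algebraMap B (AdicCompletion (maximalIdeal B) B) v ∈
      (maximalIdeal A).map (algebraMap A (AdicCompletion (maximalIdeal B) B)))
    (Φ : MvPowerSeries (Fin 2) (AdicCompletion (maximalIdeal A) A) →+*
      AdicCompletion (maximalIdeal B) B)
    (hC : ∀ c, Φ (MvPowerSeries.C c) = complMap A B c)
    (hX0 : Φ (MvPowerSeries.X 0) = uh) (hX1 : Φ (MvPowerSeries.X 1) = vh) :
    Function.Surjective Φ := by
  have hmax := maximalIdeal_eq_sup A B u v uh vh hgen huh hvh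
  set I : Ideal (MvPowerSeries (Fin 2) (AdicCompletion (maximalIdeal A) A)) :=
    Ideal.span (Set.range MvPowerSeries.X) with hI
  have hJle : Ideal.span {uh, vh} ≤ I.map Φ := by
    rw [Ideal.span_le]
    rintro x (rfl | rfl)
    · rw [← hX0]; exact Ideal.mem_map_of_mem _ (Ideal.subset_span ⟨0, rfl⟩)
    · rw [← hX1]; exact Ideal.mem_map_of_mem _ (Ideal.subset_span ⟨1, rfl⟩)
  have hle : I.map Φ ≤ maximalIdeal (AdicCompletion (maximalIdeal B) B) := by
    rw [Ideal.map_span, Ideal.span_le]
    rintro _ ⟨_, ⟨i, rfl⟩, rfl⟩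
    rw [hmax]
    apply Ideal.mem_sup_left
    fin_cases i
    · change Φ (MvPowerSeries.X 0) ∈ _
      rw [hX0]; exact Ideal.subset_span (by simp)
    · change Φ (MvPowerSeries.X 1) ∈ _
      rw [hX1]; exact Ideal.subset_span (by simp)
  haveI : IsHausdorff (I.map Φ) (AdicCompletion (maximalIdeal B) B) :=
    IsHausdorff.of_isLocalRing _ _ (fun h => (Ideal.IsPrime.ne_top inferInstance :
      maximalIdeal (AdicCompletion (maximalIdeal B) B) ≠ ⊤) (top_le_iff.mp (h ▸ hle)))
  apply surjective_of_mk_map_comp_surjective Φ (I := I)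
  intro z
  obtain ⟨z, rfl⟩ := Ideal.Quotient.mk_surjective z
  obtain ⟨a, ha⟩ := exists_sub_complMap_mem A B u v uh vh hres hgen huh hvh z
  refine ⟨MvPowerSeries.C a, ?_⟩
  rw [RingHom.comp_apply, hC, eq_comm, ← sub_eq_zero, ← map_sub, Ideal.Quotient.eq_zero_iff_mem]
  exact hJle ha

end Groth.Agent.Lib.Helper12.NodeCompl
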