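import Mathlib
import Groth.Agent.Lib.Helper12.NodeComplC
import Groth.Agent.Lib.Helper12.NodeComplD
import Groth.Agent.Lib.Helper5.FlatLiftIso

/-!
# The kernel of the power series presentation of a completed flat node
-/

set_option autoImplicit false
set_option linter.unusedSectionVars false
set_option linter.style.haveILetI false
universe u

namespace Groth.Agent.Lib.Helper12.NodeCompl

open IsLocalRing Groth.Agent.Lib.Helper19.ComplMap

section Kappa

variable (A : Type u) [CommRing A] [IsLocalRing A] [IsNoetherianRing A]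

/-- The power series ring `Â[[x, y]]`. -/
abbrev PS : Type u := MvPowerSeries (Fin 2) (AdicCompletion (maximalIdeal A) A)

/-- The residue map `Â → k`. -/
noncomputable def kappa : AdicCompletion (maximalIdeal A) A →+* ResidueField A :=
  (AdicCompletion.evalOneₐ (maximalIdeal A)).toRingHom

theorem kappa_surjective : Function.Surjective (kappa A) :=
  AdicCompletion.evalOneₐ_surjective _

theorem ker_kappa : RingHom.ker (kappa A) =
    (maximalIdeal A).map (algebraMap A (AdicCompletion (maximalIdeal A) A)) :=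
  AdicCompletion.ker_evalOneₐ_eq_map _ (IsNoetherian.noetherian _)

theorem ker_map_kappa_le : RingHom.ker (MvPowerSeries.map (σ := Fin 2) (kappa A)) ≤
    (maximalIdeal A).map (algebraMap A (PS A)) := by
  intro x hx
  apply mem_map_of_coeff_mem _ (IsNoetherian.noetherian _)
  intro d
  rw [← ker_kappa, RingHom.mem_ker, ← MvPowerSeries.coeff_map, (hx : MvPowerSeries.map _ x = 0),
    map_zero]

theorem isUnit_mul_add_one {S : Type*} [CommRing S] [IsLocalRing S] {m : S}
    (hm : m ∈ maximalIdeal S) (c : S) : IsUnit (m * c + 1) := by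
  by_contra hnu
  have h1 : m * c + 1 ∈ maximalIdeal S := hnu
  have h2 := Ideal.sub_mem _ h1 (Ideal.mul_mem_right c _ hm)
  rw [add_sub_cancel_left] at h2
  exact (Ideal.ne_top_iff_one _).mp (Ideal.IsPrime.ne_top inferInstance) h2

theorem map_le_jacobson_PS : (maximalIdeal A).map (algebraMap A (PS A)) ≤ Ideal.jacobson ⊥ := by
  rw [Ideal.map_le_iff_le_comap]
  intro a ha
  rw [Ideal.mem_comap, Ideal.mem_jacobson_bot]
  intro y
  rw [MvPowerSeries.isUnit_iff_constantCoeff, map_add, map_mul, map_one,
    MvPowerSeries.algebraMap_apply, MvPowerSeries.constantCoeff_C]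
  exact isUnit_mul_add_one (of_mem_maximalIdeal A ha) _

end Kappa

variable (A B : Type u) [CommRing A] [IsLocalRing A] [IsNoetherianRing A]
    [CommRing B] [IsLocalRing B] [IsNoetherianRing B] [Algebra A B] [IsLocalHom (algebraMap A B)]

theorem ker_le_span [Module.Flat A B] (uh vh : AdicCompletion (maximalIdeal B) B)
    (α : AdicCompletion (maximalIdeal A) A)
    (hα : α ∈ (maximalIdeal A).map (algebraMap A (AdicCompletion (maximalIdeal A) A)))
    (hprod : uh * vh = complMap A B α)
    (Φ : PS A →+* AdicCompletion (maximalIdeal B) B)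
    (hC : ∀ c, Φ (MvPowerSeries.C c) = complMap A B c)
    (hX0 : Φ (MvPowerSeries.X 0) = uh) (hX1 : Φ (MvPowerSeries.X 1) = vh)
    (hsurj : Function.Surjective Φ)
    (e : AdicCompletion ((maximalIdeal B).map (Ideal.Quotient.mk
          ((maximalIdeal A).map (algebraMap A B))))
          (B ⧸ (maximalIdeal A).map (algebraMap A B)) ≃+*
        (MvPowerSeries (Fin 2) (ResidueField A) ⧸
          Ideal.span {(MvPowerSeries.X 0 * MvPowerSeries.X 1 :
            MvPowerSeries (Fin 2) (ResidueField A))})) :
    RingHom.ker Φ ≤ Ideal.span {(MvPowerSeries.X 0 * MvPowerSeries.X 1 - MvPowerSeries.C α :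
      PS A)} := by
  classical
  have hg : Φ (MvPowerSeries.X 0 * MvPowerSeries.X 1 - MvPowerSeries.C α) = 0 := by
    rw [map_sub, map_mul, hX0, hX1, hC, hprod, sub_self]
  have hΦalg : Φ.comp (algebraMap A (PS A)) =
      algebraMap A (AdicCompletion (maximalIdeal B) B) := by
    refine RingHom.ext fun a => ?_
    rw [RingHom.comp_apply, MvPowerSeries.algebraMap_apply, hC, complMap_of]
    rfl
  have hΦ𝔞 : ((maximalIdeal A).map (algebraMap A (PS A))).map Φ ≤
      (maximalIdeal A).map (algebraMap A (AdicCompletion (maximalIdeal B) B)) := by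
    rw [Ideal.map_map, hΦalg]
  have hCα : MvPowerSeries.C α ∈ (maximalIdeal A).map (algebraMap A (PS A)) := by
    have h1 := Ideal.mem_map_of_mem (MvPowerSeries.C (σ := Fin 2)) hα
    rw [Ideal.map_map] at h1
    have h2 : (MvPowerSeries.C (σ := Fin 2)).comp
        (algebraMap A (AdicCompletion (maximalIdeal A) A)) = algebraMap A (PS A) := by
      refine RingHom.ext fun a => ?_
      rw [RingHom.comp_apply, MvPowerSeries.algebraMap_apply]
    rwa [h2] at h1
  have hjα : complMap A B α ∈
      (maximalIdeal A).map (algebraMap A (AdicCompletion (maximalIdeal B) B)) := by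
    rw [← map_complMap_eq]
    exact Ideal.mem_map_of_mem _ hα
  -- the map to the completed fibre
  have hθsurj : Function.Surjective (complQ (Ideal.Quotient.mk
      ((maximalIdeal A).map (algebraMap A B))) (maximalIdeal B)) :=
    complQ_surjective _ _ Ideal.Quotient.mk_surjective (IsNoetherian.noetherian _)
  have hθkill : (maximalIdeal A).map (algebraMap A (AdicCompletion (maximalIdeal B) B)) ≤
      RingHom.ker (complQ (Ideal.Quotient.mk
        ((maximalIdeal A).map (algebraMap A B))) (maximalIdeal B)) := by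
    rw [Ideal.map_le_iff_le_comap]
    intro a ha
    rw [Ideal.mem_comap, RingHom.mem_ker]
    change complQ _ _ (algebraMap B (AdicCompletion (maximalIdeal B) B) (algebraMap A B a)) = 0
    rw [complQ_of, Ideal.Quotient.eq_zero_iff_mem.mpr (Ideal.mem_map_of_mem _ ha), map_zero]
  have hρsurj := map_surjective' (σ := Fin 2) (kappa A) (kappa_surjective A)
  set f₁ : PS A →+* (MvPowerSeries (Fin 2) (ResidueField A) ⧸
      Ideal.span {(MvPowerSeries.X 0 * MvPowerSeries.X 1 :
        MvPowerSeries (Fin 2) (ResidueField A))}) :=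
    (Ideal.Quotient.mk _).comp (MvPowerSeries.map (kappa A)) with hf₁def
  set f₂ := (complQ (Ideal.Quotient.mk
      ((maximalIdeal A).map (algebraMap A B))) (maximalIdeal B)).comp Φ with hf₂def
  have hf₁ : Function.Surjective f₁ := Ideal.Quotient.mk_surjective.comp hρsurj
  have hf₂ : Function.Surjective f₂ := hθsurj.comp hsurj
  have hdecomp : ∀ x, f₁ x = 0 → ∃ h : PS A,
      x - MvPowerSeries.X 0 * MvPowerSeries.X 1 * h ∈
        (maximalIdeal A).map (algebraMap A (PS A)) := by
    intro x hx
    have h1 : MvPowerSeries.map (kappa A) x ∈ Ideal.span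
        {(MvPowerSeries.X 0 * MvPowerSeries.X 1 : MvPowerSeries (Fin 2) (ResidueField A))} :=
      Ideal.Quotient.eq_zero_iff_mem.mp hx
    obtain ⟨hb, hhb⟩ := Ideal.mem_span_singleton'.mp h1
    obtain ⟨h, rfl⟩ := hρsurj hb
    refine ⟨h, ker_map_kappa_le A ?_⟩
    rw [RingHom.mem_ker, map_sub, map_mul, map_mul, MvPowerSeries.map_X, MvPowerSeries.map_X,
      ← hhb]
    ring
  have hf₂𝔞 : ∀ y ∈ (maximalIdeal A).map (algebraMap A (PS A)), f₂ y = 0 := by
    intro y hy
    exact hθkill (hΦ𝔞 (Ideal.mem_map_of_mem _ hy))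
  have hle : RingHom.ker f₁ ≤ RingHom.ker f₂ := by
    intro x hx
    obtain ⟨h, hh⟩ := hdecomp x hx
    rw [RingHom.mem_ker]
    have hx' : x = MvPowerSeries.X 0 * MvPowerSeries.X 1 * h +
        (x - MvPowerSeries.X 0 * MvPowerSeries.X 1 * h) := by ring
    have hΦ1 : Φ (MvPowerSeries.X 0 * MvPowerSeries.X 1 * h) = complMap A B α * Φ h := by
      rw [map_mul, map_mul, hX0, hX1, hprod]
    rw [hx', map_add, hf₂𝔞 _ hh, add_zero, hf₂def, RingHom.comp_apply, hΦ1, map_mul,
      (hθkill hjα : complQ _ _ (complMap A B α) = 0), zero_mul]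
  have hker := ker_le_of_ringEquiv f₁ f₂ hf₁ hf₂ hle e
  -- flatness
  haveI : Module.Flat A (AdicCompletion (maximalIdeal B) B) :=
    Module.Flat.trans A B (AdicCompletion (maximalIdeal B) B)
  have hflat : ∀ y, y ∈ RingHom.ker Φ → y ∈ (maximalIdeal A).map (algebraMap A (PS A)) →
      y ∈ (maximalIdeal A).map (algebraMap A (PS A)) • RingHom.ker Φ := by
    intro y hyK hy𝔞
    let Φl : PS A →ₗ[A] AdicCompletion (maximalIdeal B) B :=
      { toFun := Φ
        map_add' := map_add Φ
        map_smul' := fun a x => by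
          simp only [RingHom.id_apply]
          rw [Algebra.smul_def, map_mul, Algebra.smul_def]
          congr 1
          exact RingHom.congr_fun hΦalg a }
    have h1 := Groth.Agent.Lib.Helper5.FlatLiftIso.ker_inf_smul_top_le Φl hsurj (maximalIdeal A)
    have hy1 : y ∈ LinearMap.ker Φl ⊓ (maximalIdeal A • ⊤ : Submodule A (PS A)) := by
      refine ⟨hyK, ?_⟩
      rw [Ideal.smul_top_eq_map]
      exact hy𝔞
    have hy2 := h1 hy1
    refine Submodule.smul_induction_on hy2 (fun a ha k hk => ?_)
      (fun x y hx hy => Submodule.add_mem _ hx hy)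
    rw [Algebra.smul_def]
    exact Submodule.smul_mem_smul (Ideal.mem_map_of_mem _ ha) hk
  have hK : RingHom.ker Φ ≤ Ideal.span
      {(MvPowerSeries.X 0 * MvPowerSeries.X 1 - MvPowerSeries.C α : PS A)} ⊔
      (maximalIdeal A).map (algebraMap A (PS A)) • RingHom.ker Φ := by
    intro x hx
    have hx2 : x ∈ RingHom.ker f₂ := by
      rw [RingHom.mem_ker, hf₂def, RingHom.comp_apply, (hx : Φ x = 0), map_zero]
    obtain ⟨h, hh⟩ := hdecomp x (hker hx2)
    have hy𝔞 : x - (MvPowerSeries.X 0 * MvPowerSeries.X 1 - MvPowerSeries.C α) * h ∈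
        (maximalIdeal A).map (algebraMap A (PS A)) := by
      have h1 : x - (MvPowerSeries.X 0 * MvPowerSeries.X 1 - MvPowerSeries.C α) * h =
          (x - MvPowerSeries.X 0 * MvPowerSeries.X 1 * h) + MvPowerSeries.C α * h := by ring
      rw [h1]
      exact Ideal.add_mem _ hh (Ideal.mul_mem_right _ _ hCα)
    have hyK : x - (MvPowerSeries.X 0 * MvPowerSeries.X 1 - MvPowerSeries.C α) * h ∈
        RingHom.ker Φ := by
      rw [RingHom.mem_ker, map_sub, map_mul, hg, zero_mul, sub_zero]
      exact hx
    have hx' : x = (MvPowerSeries.X 0 * MvPowerSeries.X 1 - MvPowerSeries.C α) * h +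
        (x - (MvPowerSeries.X 0 * MvPowerSeries.X 1 - MvPowerSeries.C α) * h) := by ring
    rw [hx']
    exact Submodule.add_mem_sup (Ideal.mul_mem_right _ _ (Ideal.subset_span rfl))
      (hflat _ hyK hy𝔞)
  exact Submodule.le_of_le_smul_of_le_jacobson_bot (IsNoetherian.noetherian _)
    (map_le_jacobson_PS A) hK

end Groth.Agent.Lib.Helper12.NodeCompl
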