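import Mathlib

set_option autoImplicit false

/-!
# The ideal `(α)` is intrinsic to the `A`-algebra `A⟦x,y⟧/(xy - α)`
-/

universe u

namespace Groth.Agent.Lib.Helper12.NodeIdeal

open MvPowerSeries

/-- The ideal generated by all values of `A`-derivations `B → B`. -/
def derivIdeal (A B : Type*) [CommRing A] [CommRing B] [Algebra A B] : Ideal B :=
  Ideal.span {b | ∃ (D : Derivation A B B) (x : B), D x = b}

theorem map_derivIdeal_le {A B B' : Type*} [CommRing A] [CommRing B] [CommRing B'] [Algebra A B]
    [Algebra A B'] (φ : B ≃ₐ[A] B') :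
    Ideal.map (φ : B →+* B') (derivIdeal A B) ≤ derivIdeal A B' := by
  rw [Ideal.map_le_iff_le_comap]
  change Ideal.span _ ≤ _
  rw [Ideal.span_le]
  rintro _ ⟨D, x, rfl⟩
  rw [SetLike.mem_coe, Ideal.mem_comap]
  have hd : ∀ x, φ x = 0 → φ (D x) = 0 := by
    intro x hx
    have : x = 0 := φ.injective (by rw [hx, map_zero])
    rw [this, map_zero, map_zero]
  let D' : Derivation A B' B' :=
    Derivation.liftOfRightInverse (f := φ) (f_inv := φ.symm) φ.apply_symm_apply hd
  refine Ideal.subset_span ⟨D', φ x, ?_⟩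
  exact Derivation.liftOfRightInverse_apply _ hd x

theorem comap_derivIdeal_le {A B B' : Type*} [CommRing A] [CommRing B] [CommRing B'] [Algebra A B]
    [Algebra A B'] (φ : B ≃ₐ[A] B') :
    (derivIdeal A B).comap (algebraMap A B) ≤ (derivIdeal A B').comap (algebraMap A B') := by
  intro a ha
  rw [Ideal.mem_comap] at ha ⊢
  have := map_derivIdeal_le φ (Ideal.mem_map_of_mem _ ha)
  simpa using this

theorem comap_derivIdeal_eq {A B B' : Type*} [CommRing A] [CommRing B] [CommRing B'] [Algebra A B]
    [Algebra A B'] (φ : B ≃ₐ[A] B') :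
    (derivIdeal A B).comap (algebraMap A B) = (derivIdeal A B').comap (algebraMap A B') :=
  le_antisymm (comap_derivIdeal_le φ) (comap_derivIdeal_le φ.symm)

section Node

variable {A : Type u} [CommRing A] (α : A)

theorem exists_decomp (f : MvPowerSeries (Fin 2) A) :
    ∃ g h : MvPowerSeries (Fin 2) A, f = C (constantCoeff f) + X 0 * g + X 1 * h := by
  classical
  let u : MvPowerSeries (Fin 2) A := fun m => if m 0 = 0 then 0 else coeff m f
  have hu : ∀ m, coeff m u = if m 0 = 0 then 0 else coeff m f := fun m => rfl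
  have hu0 : (X 0 : MvPowerSeries (Fin 2) A) ∣ u := by
    rw [X_dvd_iff]
    intro m hm
    rw [hu, if_pos hm]
  have hv1 : (X 1 : MvPowerSeries (Fin 2) A) ∣ f - C (constantCoeff f) - u := by
    rw [X_dvd_iff]
    intro m hm
    rw [map_sub, map_sub, hu]
    by_cases hm0 : m 0 = 0
    · have : m = 0 := by
        ext i
        fin_cases i
        · exact hm0
        · exact hm
      subst this
      simp
    · rw [if_neg hm0, coeff_C, if_neg]
      · ring
      · intro h0
        apply hm0
        rw [h0]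
        rfl
  obtain ⟨g, hg⟩ := hu0
  obtain ⟨h, hh⟩ := hv1
  refine ⟨g, h, ?_⟩
  rw [← hg, ← hh]
  ring

/-- The augmentation `A⟦x,y⟧/(xy - α) → A/(α)`. -/
noncomputable def eps : (MvPowerSeries (Fin 2) A ⧸ Ideal.span
    {(X 0 * X 1 - C α : MvPowerSeries (Fin 2) A)}) →+* A ⧸ Ideal.span {α} :=
  Ideal.Quotient.lift _ ((Ideal.Quotient.mk (Ideal.span {α})).comp
    (constantCoeff (σ := Fin 2) (R := A))) (by
      intro a ha
      obtain ⟨s, rfl⟩ := Ideal.mem_span_singleton'.mp ha
      rw [map_mul]
      have : ((Ideal.Quotient.mk (Ideal.span {α})).comp (constantCoeff (σ := Fin 2) (R := A)))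
          (X 0 * X 1 - C α) = 0 := by
        rw [RingHom.comp_apply, map_sub, map_mul, constantCoeff_X, constantCoeff_C, zero_mul,
          zero_sub, map_neg, neg_eq_zero]
        exact Ideal.Quotient.eq_zero_iff_mem.mpr (Ideal.mem_span_singleton_self α)
      rw [this, mul_zero])

theorem eps_mk (f : MvPowerSeries (Fin 2) A) :
    eps α (Ideal.Quotient.mk _ f) = Ideal.Quotient.mk _ (constantCoeff f) := rfl

end Node

end Groth.Agent.Lib.Helper12.NodeIdeal
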