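import Mathlib
import Groth.Agent.Lib.Helper12.NodeIdealA

set_option autoImplicit false

/-!
# The ideal `(α)` is intrinsic to the `A`-algebra `A⟦x,y⟧/(xy - α)`, part 2
-/

universe u

namespace Groth.Agent.Lib.Helper12.NodeIdeal

open MvPowerSeries

variable {A : Type u} [CommRing A] (α : A)

/-- The derivation `x ∂/∂x - y ∂/∂y`. -/
noncomputable def euler : Derivation A (MvPowerSeries (Fin 2) A) (MvPowerSeries (Fin 2) A) :=
  (X 0 : MvPowerSeries (Fin 2) A) • pderiv A (0 : Fin 2) -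
    (X 1 : MvPowerSeries (Fin 2) A) • pderiv A (1 : Fin 2)

theorem euler_apply (f : MvPowerSeries (Fin 2) A) :
    euler f = X 0 * pderiv A (0 : Fin 2) f - X 1 * pderiv A (1 : Fin 2) f := rfl

theorem euler_X0 : euler (X 0 : MvPowerSeries (Fin 2) A) = X 0 := by
  rw [euler_apply, pderiv_X_self, pderiv_X_of_ne (by decide)]
  ring

theorem euler_gen : euler (X 0 * X 1 - C α : MvPowerSeries (Fin 2) A) = 0 := by
  rw [euler_apply, map_sub, map_sub, Derivation.leibniz, Derivation.leibniz, pderiv_X_self,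
    pderiv_X_self, pderiv_X_of_ne (i := (0 : Fin 2)) (j := 1) (by decide),
    pderiv_X_of_ne (i := (1 : Fin 2)) (j := 0) (by decide), pderiv_C, pderiv_C]
  simp only [smul_eq_mul]
  ring

theorem euler_ker (x : MvPowerSeries (Fin 2) A)
    (hx : Ideal.Quotient.mkₐ A (Ideal.span {(X 0 * X 1 - C α : MvPowerSeries (Fin 2) A)}) x = 0) :
    Ideal.Quotient.mkₐ A (Ideal.span {(X 0 * X 1 - C α : MvPowerSeries (Fin 2) A)}) (euler x) = 0 := by
  rw [Ideal.Quotient.mkₐ_eq_mk, Ideal.Quotient.eq_zero_iff_mem] at hx ⊢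
  obtain ⟨s, rfl⟩ := Ideal.mem_span_singleton'.mp hx
  rw [Derivation.leibniz, euler_gen, smul_zero, zero_add, smul_eq_mul]
  exact Ideal.mul_mem_right _ _ (Ideal.mem_span_singleton_self _)

/-- The derivation induced by `euler` on the quotient. -/
noncomputable def eulerQ : Derivation A
    (MvPowerSeries (Fin 2) A ⧸ Ideal.span {(X 0 * X 1 - C α : MvPowerSeries (Fin 2) A)})
    (MvPowerSeries (Fin 2) A ⧸ Ideal.span {(X 0 * X 1 - C α : MvPowerSeries (Fin 2) A)}) :=
  Derivation.liftOfSurjective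
    (f := Ideal.Quotient.mkₐ A (Ideal.span {(X 0 * X 1 - C α : MvPowerSeries (Fin 2) A)}))
    (Ideal.Quotient.mkₐ_surjective A _) (d := euler) (euler_ker α)

theorem eulerQ_mk (f : MvPowerSeries (Fin 2) A) :
    eulerQ α (Ideal.Quotient.mk _ f) = Ideal.Quotient.mk _ (euler f) :=
  Derivation.liftOfSurjective_apply (f := Ideal.Quotient.mkₐ A
    (Ideal.span {(X 0 * X 1 - C α : MvPowerSeries (Fin 2) A)})) _ (euler_ker α) f

theorem algebraMap_mem_derivIdeal :
    algebraMap A (MvPowerSeries (Fin 2) A ⧸ Ideal.span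
      {(X 0 * X 1 - C α : MvPowerSeries (Fin 2) A)}) α ∈ derivIdeal A _ := by
  have h1 : algebraMap A (MvPowerSeries (Fin 2) A ⧸ Ideal.span
      {(X 0 * X 1 - C α : MvPowerSeries (Fin 2) A)}) α =
      Ideal.Quotient.mk _ (X 0) * Ideal.Quotient.mk _ (X 1) := by
    rw [← map_mul]
    have : algebraMap A (MvPowerSeries (Fin 2) A ⧸ Ideal.span
      {(X 0 * X 1 - C α : MvPowerSeries (Fin 2) A)}) α = Ideal.Quotient.mk _ (C α) := rfl
    rw [this]
    symm
    rw [Ideal.Quotient.eq]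
    exact Ideal.mem_span_singleton_self _
  rw [h1]
  refine Ideal.mul_mem_right _ _ (Ideal.subset_span ⟨eulerQ α, Ideal.Quotient.mk _ (X 0), ?_⟩)
  rw [eulerQ_mk, euler_X0]

end Groth.Agent.Lib.Helper12.NodeIdeal
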