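import Mathlib
import Groth.Agent.Lib.Helper12.NodeIdealB

set_option autoImplicit false

/-!
# The ideal `(α)` is intrinsic to the `A`-algebra `A⟦x,y⟧/(xy - α)`, part 3
-/

universe u

namespace Groth.Agent.Lib.Helper12.NodeIdeal

open MvPowerSeries

variable {A : Type u} [CommRing A] (α : A)

theorem coeff_single_X_mul (i : Fin 2) (p : MvPowerSeries (Fin 2) A) :
    coeff (Finsupp.single i 1) (X i * p) = constantCoeff p := by
  have h := coeff_add_monomial_mul (σ := Fin 2) (R := A) (m := Finsupp.single i 1) (n := 0)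
    (φ := p) (1 : A)
  rw [add_zero, one_mul, ← X_def] at h
  rw [h, coeff_zero_eq_constantCoeff_apply]

theorem coeff_single_X_mul_of_ne (i j : Fin 2) (hij : i ≠ j) (p : MvPowerSeries (Fin 2) A) :
    coeff (Finsupp.single i 1) (X j * p) = 0 := by
  have : (X j : MvPowerSeries (Fin 2) A) ∣ X j * p := dvd_mul_right _ _
  rw [X_dvd_iff] at this
  apply this
  rw [Finsupp.single_apply, if_neg hij]

/-- Key computation: if `X i * p + X j * q` is a multiple of `X 0 * X 1 - C α` (with `{i,j} = {0,1}`),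
then the constant coefficient of `p` is a multiple of `α`. -/
theorem constantCoeff_mem (i j : Fin 2) (hij : i ≠ j) (p q s : MvPowerSeries (Fin 2) A)
    (h : s * (X 0 * X 1 - C α) = X i * p + X j * q) :
    constantCoeff p ∈ Ideal.span {α} := by
  have h1 := congrArg (coeff (Finsupp.single i 1)) h
  rw [map_add, coeff_single_X_mul, coeff_single_X_mul_of_ne i j hij, add_zero] at h1
  have h2 : s * (X 0 * X 1 - C α) = X 0 * (X 1 * s) - C α * s := by ring
  rw [h2, map_sub, coeff_C_mul] at h1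
  have h3 : coeff (Finsupp.single i 1) (X 0 * (X 1 * s) : MvPowerSeries (Fin 2) A) = 0 := by
    fin_cases i
    · have : (X 1 : MvPowerSeries (Fin 2) A) ∣ X 0 * (X 1 * s) := ⟨X 0 * s, by ring⟩
      rw [X_dvd_iff] at this
      apply this
      simp
    · have : (X 0 : MvPowerSeries (Fin 2) A) ∣ X 0 * (X 1 * s) := dvd_mul_right _ _
      rw [X_dvd_iff] at this
      apply this
      simp
  rw [h3, zero_sub] at h1
  rw [← h1]
  exact neg_mem (Ideal.mul_mem_right _ _ (Ideal.mem_span_singleton_self α))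

theorem mk_X_mul_mk_X : (Ideal.Quotient.mk (Ideal.span
    {(X 0 * X 1 - C α : MvPowerSeries (Fin 2) A)}) (X 0)) * Ideal.Quotient.mk _ (X 1) =
    algebraMap A _ α := by
  rw [← map_mul]
  have : algebraMap A (MvPowerSeries (Fin 2) A ⧸ Ideal.span
    {(X 0 * X 1 - C α : MvPowerSeries (Fin 2) A)}) α = Ideal.Quotient.mk _ (C α) := rfl
  rw [this, Ideal.Quotient.eq]
  exact Ideal.mem_span_singleton_self _

theorem eps_deriv_X (D : Derivation A
    (MvPowerSeries (Fin 2) A ⧸ Ideal.span {(X 0 * X 1 - C α : MvPowerSeries (Fin 2) A)})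
    (MvPowerSeries (Fin 2) A ⧸ Ideal.span {(X 0 * X 1 - C α : MvPowerSeries (Fin 2) A)})) :
    eps α (D (Ideal.Quotient.mk _ (X 0))) = 0 ∧ eps α (D (Ideal.Quotient.mk _ (X 1))) = 0 := by
  obtain ⟨p, hp⟩ := Ideal.Quotient.mk_surjective (D (Ideal.Quotient.mk _ (X 0)))
  obtain ⟨q, hq⟩ := Ideal.Quotient.mk_surjective (D (Ideal.Quotient.mk _ (X 1)))
  have h1 := congrArg D (mk_X_mul_mk_X α)
  rw [Derivation.map_algebraMap, Derivation.leibniz, ← hp, ← hq, smul_eq_mul, smul_eq_mul,
    ← map_mul, ← map_mul, ← map_add, Ideal.Quotient.eq_zero_iff_mem] at h1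
  obtain ⟨s, hs⟩ := Ideal.mem_span_singleton'.mp h1
  constructor
  · rw [← hp, eps_mk, Ideal.Quotient.eq_zero_iff_mem]
    exact constantCoeff_mem α 1 0 (by decide) p q s (by rw [hs]; ring)
  · rw [← hq, eps_mk, Ideal.Quotient.eq_zero_iff_mem]
    exact constantCoeff_mem α 0 1 (by decide) q p s (by rw [hs])

theorem derivIdeal_le_ker_eps :
    derivIdeal A (MvPowerSeries (Fin 2) A ⧸ Ideal.span
      {(X 0 * X 1 - C α : MvPowerSeries (Fin 2) A)}) ≤ RingHom.ker (eps α) := by
  unfold derivIdeal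
  rw [Ideal.span_le]
  rintro _ ⟨D, x, rfl⟩
  rw [SetLike.mem_coe, RingHom.mem_ker]
  obtain ⟨f, rfl⟩ := Ideal.Quotient.mk_surjective x
  obtain ⟨g, h, hf⟩ := exists_decomp f
  have hC : Ideal.Quotient.mk (Ideal.span {(X 0 * X 1 - C α : MvPowerSeries (Fin 2) A)})
      (C (constantCoeff f)) = algebraMap A _ (constantCoeff f) := rfl
  have e1 : Ideal.Quotient.mk (Ideal.span {(X 0 * X 1 - C α : MvPowerSeries (Fin 2) A)}) f =
      algebraMap A _ (constantCoeff f) + Ideal.Quotient.mk _ (X 0) * Ideal.Quotient.mk _ g +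
        Ideal.Quotient.mk _ (X 1) * Ideal.Quotient.mk _ h := by
    conv_lhs => rw [hf]
    rw [map_add, map_add, map_mul, map_mul, hC]
  have e2 : D (Ideal.Quotient.mk _ f) =
      (Ideal.Quotient.mk _ (X 0) * D (Ideal.Quotient.mk _ g) +
        Ideal.Quotient.mk _ g * D (Ideal.Quotient.mk _ (X 0))) +
      (Ideal.Quotient.mk _ (X 1) * D (Ideal.Quotient.mk _ h) +
        Ideal.Quotient.mk _ h * D (Ideal.Quotient.mk _ (X 1))) := by
    rw [e1, map_add, map_add, Derivation.map_algebraMap, Derivation.leibniz, Derivation.leibniz,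
      zero_add]
    rfl
  rw [e2, map_add, map_add, map_add, map_mul, map_mul, map_mul, map_mul,
    (eps_deriv_X α D).1, (eps_deriv_X α D).2]
  simp only [eps_mk, constantCoeff_X, map_zero, zero_mul, mul_zero, add_zero]

theorem comap_derivIdeal :
    (derivIdeal A (MvPowerSeries (Fin 2) A ⧸ Ideal.span
      {(X 0 * X 1 - C α : MvPowerSeries (Fin 2) A)})).comap (algebraMap A _) = Ideal.span {α} := by
  apply le_antisymm
  · intro a ha
    have h1 := derivIdeal_le_ker_eps α ha
    rw [RingHom.mem_ker] at h1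
    have h2 : algebraMap A (MvPowerSeries (Fin 2) A ⧸ Ideal.span
      {(X 0 * X 1 - C α : MvPowerSeries (Fin 2) A)}) a = Ideal.Quotient.mk _ (C a) := rfl
    rw [h2, eps_mk, constantCoeff_C, Ideal.Quotient.eq_zero_iff_mem] at h1
    exact h1
  · rw [Ideal.span_le, Set.singleton_subset_iff]
    exact algebraMap_mem_derivIdeal α

end Groth.Agent.Lib.Helper12.NodeIdeal
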