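import Mathlib
import Groth.Agent.Lib.Helper12.NormalEtale
import Groth.Agent.Lib.Helper12.EssEtale2

/-!
# Essentially étale local algebras over a normal intermediate local ring

If `E` is an essentially étale local `A`-algebra and `R` is a normal local domain with
`A → R → E`, `R → E` local and injective, then `E` is an essentially étale local `R`-algebra
(namely the localization of `R ⊗[A] C` at the obvious prime).
-/

set_option autoImplicit false
universe u

namespace Groth.Agent.Lib.Helper12.NormalInter

open TensorProduct IsLocalRing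

theorem isEssentiallyEtale_of_injective_local
    (A : Type u) [CommRing A] [IsLocalRing A]
    (R : Type u) [CommRing R] [IsLocalRing R] [IsDomain R] [IsIntegrallyClosed R] [Algebra A R]
    (E : Type u) [CommRing E] [IsLocalRing E] [Algebra A E] [Algebra R E] [IsScalarTower A R E]
    [IsLocalHom (algebraMap R E)] (hinj : Function.Injective (algebraMap R E))
    (hE : EGA4loc.IsEssentiallyEtale A E) : EGA4loc.IsEssentiallyEtale R E := by
  obtain ⟨C, _, _, q, _, hC, hq, ⟨e⟩⟩ := hE
  let g : C →ₐ[A] E := (e.symm : Localization.AtPrime q →ₐ[A] E).comp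
    (IsScalarTower.toAlgHom A C (Localization.AtPrime q))
  let μ : R ⊗[A] C →ₐ[R] E :=
    Algebra.TensorProduct.lift (Algebra.ofId R E) g (fun _ _ => Commute.all _ _)
  let M' : Ideal (R ⊗[A] C) := (maximalIdeal E).comap μ.toRingHom
  haveI hM'p : M'.IsPrime := Ideal.comap_isPrime _ _
  have hM' : M'.comap (algebraMap R (R ⊗[A] C)) = maximalIdeal R := by
    rw [Ideal.comap_comap]
    have h1 : μ.toRingHom.comp (algebraMap R (R ⊗[A] C)) = algebraMap R E := μ.comp_algebraMap
    rw [h1]
    exact ((local_hom_TFAE (algebraMap R E)).out 0 4).mp ‹_›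
  have hT : EGA4loc.IsEssentiallyEtale R (Localization.AtPrime M') :=
    ⟨R ⊗[A] C, inferInstance, inferInstance, M', inferInstance, inferInstance, hM',
      ⟨AlgEquiv.refl⟩⟩
  have hunits : ∀ y : M'.primeCompl, IsUnit (μ y) := fun y => by
    have h1 : μ y ∉ maximalIdeal E := y.2
    rwa [mem_maximalIdeal, mem_nonunits_iff, not_not] at h1
  let ν : Localization.AtPrime M' →ₐ[R] E :=
    IsLocalization.liftAlgHom (M := M'.primeCompl) (f := μ) hunits
  -- surjectivity
  have hsurj : Function.Surjective ν := by
    intro x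
    obtain ⟨c, u, hcu⟩ := IsLocalization.exists_mk'_eq q.primeCompl (e x)
    have hgu : IsUnit (g u) := by
      have h1 : IsUnit (algebraMap C (Localization.AtPrime q) u) :=
        IsLocalization.map_units _ u
      exact h1.map (e.symm : Localization.AtPrime q →ₐ[A] E)
    have hμu : μ ((1 : R) ⊗ₜ[A] (u : C)) = g u := by
      simp [μ]
    have hμc : μ ((1 : R) ⊗ₜ[A] c) = g c := by
      simp [μ]
    have hu' : (1 : R) ⊗ₜ[A] (u : C) ∈ M'.primeCompl := by
      show ¬ (μ ((1 : R) ⊗ₜ[A] (u : C)) ∈ maximalIdeal E)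
      rw [hμu, mem_maximalIdeal, mem_nonunits_iff, not_not]
      exact hgu
    refine ⟨IsLocalization.mk' _ ((1 : R) ⊗ₜ[A] c) ⟨_, hu'⟩, ?_⟩
    have h1 : ν (IsLocalization.mk' (Localization.AtPrime M') ((1 : R) ⊗ₜ[A] c)
        (⟨_, hu'⟩ : M'.primeCompl)) = x ↔ _ :=
      IsLocalization.lift_mk'_spec (hg := hunits) ((1 : R) ⊗ₜ[A] c) x ⟨_, hu'⟩
    rw [h1]
    show μ ((1 : R) ⊗ₜ[A] c) = μ ((1 : R) ⊗ₜ[A] (u : C)) * x
    rw [hμc, hμu]
    have h2 : x = e.symm (IsLocalization.mk' (Localization.AtPrime q) c u) := by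
      rw [hcu, e.symm_apply_apply]
    rw [h2]
    show e.symm (algebraMap C (Localization.AtPrime q) c) =
      e.symm (algebraMap C (Localization.AtPrime q) u) * _
    rw [← map_mul, IsLocalization.mk'_spec']
  -- injectivity
  haveI : Module.Flat R (Localization.AtPrime M') := flat_of_isEssentiallyEtale hT
  obtain ⟨hdom, -⟩ := NormalEtale.ascend R (Localization.AtPrime M') (fun s =>
    ⟨Localization.AtPrime M', inferInstance, inferInstance, AlgHom.id R _, hT,
      Function.injective_id, fun x _ => ⟨x, rfl⟩⟩)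
  have hind : IndEtaleFibre.IsIndEssEtale R (Localization.AtPrime M') := fun s =>
    ⟨Localization.AtPrime M', inferInstance, inferInstance,
      essFiniteType_of_isEssentiallyEtale hT, formallyEtale_of_isEssentiallyEtale hT,
      AlgHom.id R _, fun x _ => ⟨x, rfl⟩⟩
  have hinjν : Function.Injective ν := by
    rw [injective_iff_map_eq_zero]
    intro x hx
    by_contra hx0
    obtain ⟨s', r, hr, h⟩ := NormalEtale.exists_vnr hind x
    have h1 : algebraMap R (Localization.AtPrime M') r = x * s' := by
      apply mul_left_cancel₀ hx0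
      rw [mul_comm x (algebraMap R _ r), h]; ring
    have h2 : algebraMap R E r = 0 := by
      have := congrArg ν h1
      rwa [AlgHom.commutes, map_mul, hx, zero_mul] at this
    exact hr (hinj (by rw [h2, map_zero]))
  let eν : Localization.AtPrime M' ≃ₐ[R] E := AlgEquiv.ofBijective ν ⟨hinjν, hsurj⟩
  exact ⟨R ⊗[A] C, inferInstance, inferInstance, M', inferInstance, inferInstance, hM',
    ⟨eν.symm⟩⟩

end Groth.Agent.Lib.Helper12.NormalInter
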