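import Mathlib
import Groth.Agent.Lib.Helper12.IndEtaleFibre

/-!
# The fraction field of an essentially étale domain is finite separable over the base
-/

set_option autoImplicit false
universe u

namespace Groth.Agent.Lib.Helper12.NormalInter

open TensorProduct Polynomial

/-- Images of elements of an essentially of finite type formally étale `A`-algebra in a field
extension `Ω` of a field `K` over `A` are separable over `K`. -/
theorem isSeparable_algHom (A : Type u) [CommRing A] (K : Type u) [Field K] [Algebra A K]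
    (E : Type u) [CommRing E] [Algebra A E] [Algebra.EssFiniteType A E]
    [Algebra.FormallyEtale A E]
    (Ω : Type u) [Field Ω] [Algebra A Ω] [Algebra K Ω] [IsScalarTower A K Ω] (φ : E →ₐ[A] Ω)
    (y : E) : IsSeparable K (φ y) := by
  obtain ⟨n, h, hh, hy⟩ := IndEtaleFibre.exists_separable_prod K (K ⊗[A] E) ((1 : K) ⊗ₜ[A] y)
  let θ : K ⊗[A] E →ₐ[K] Ω :=
    Algebra.TensorProduct.lift (Algebra.ofId K Ω) φ (fun _ _ => Commute.all _ _)
  have hθ : θ ((1 : K) ⊗ₜ[A] y) = φ y := by simp [θ]
  have h1 : aeval (φ y) (∏ j, h j) = 0 := by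
    rw [← hθ, Polynomial.aeval_algHom_apply, hy, map_zero]
  rw [map_prod, Finset.prod_eq_zero_iff] at h1
  obtain ⟨j, -, hj⟩ := h1
  have h2 : minpoly K (φ y) ∣ h j := minpoly.dvd K (φ y) hj
  exact (hh j).1.of_dvd h2

theorem finite_separable_fractionRing (A : Type u) [CommRing A] (K : Type u) [Field K]
    [Algebra A K]
    (E : Type u) [CommRing E] [Algebra A E] [Algebra.EssFiniteType A E]
    [Algebra.FormallyEtale A E]
    (Ω : Type u) [Field Ω] [Algebra A Ω] [Algebra K Ω] [IsScalarTower A K Ω]
    [Algebra E Ω] [IsScalarTower A E Ω] [IsFractionRing E Ω] :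
    FiniteDimensional K Ω ∧ Algebra.IsSeparable K Ω := by
  classical
  obtain ⟨σ, hσ⟩ := (Algebra.essFiniteType_iff A E).mp inferInstance
  let φ : E →ₐ[A] Ω := IsScalarTower.toAlgHom A E Ω
  let T : Set Ω := φ '' (σ : Set E)
  haveI : Finite T := (σ.finite_toSet.image φ).to_subtype
  have hsepT : ∀ x ∈ T, IsSeparable K x := by
    rintro _ ⟨y, -, rfl⟩
    exact isSeparable_algHom A K E Ω φ y
  have hadj : ∀ a ∈ Algebra.adjoin A (σ : Set E), φ a ∈ IntermediateField.adjoin K T := by
    intro a ha
    have h1 : φ a ∈ (Algebra.adjoin A (σ : Set E)).map φ := ⟨a, ha, rfl⟩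
    rw [AlgHom.map_adjoin] at h1
    have h2 : Algebra.adjoin A (φ '' (σ : Set E)) ≤
        (IntermediateField.adjoin K T).toSubalgebra.restrictScalars A :=
      Algebra.adjoin_le (fun x hx => IntermediateField.subset_adjoin K T hx)
    exact h2 h1
  have hE : ∀ a : E, φ a ∈ IntermediateField.adjoin K T := by
    intro a
    obtain ⟨t, ht, htu, hat⟩ := hσ a
    have h1 : φ (a * t) ∈ IntermediateField.adjoin K T := hadj _ hat
    have h2 : φ t ∈ IntermediateField.adjoin K T := hadj _ ht
    have h3 : φ t ≠ 0 := (htu.map φ).ne_zero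
    have h4 : φ a = φ (a * t) / φ t := by
      rw [map_mul]; field_simp
    rw [h4]
    exact div_mem h1 h2
  have htop : IntermediateField.adjoin K T = ⊤ := by
    rw [eq_top_iff]
    intro x _
    obtain ⟨a, b, -, rfl⟩ := IsFractionRing.div_surjective (A := E) x
    exact div_mem (hE a) (hE b)
  haveI h1 : FiniteDimensional K (IntermediateField.adjoin K T) :=
    IntermediateField.finiteDimensional_adjoin (fun x hx => (hsepT x hx).isIntegral)
  haveI h2 : Algebra.IsSeparable K (IntermediateField.adjoin K T) :=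
    (IntermediateField.isSeparable_adjoin_iff_isSeparable K Ω).mpr hsepT
  constructor
  · refine Module.Finite.of_surjective (IntermediateField.adjoin K T).val.toLinearMap ?_
    intro x
    exact ⟨⟨x, by rw [htop]; trivial⟩, rfl⟩
  · refine ⟨fun x => ?_⟩
    have hx : x ∈ IntermediateField.adjoin K T := by rw [htop]; trivial
    have h3 := Algebra.IsSeparable.isSeparable K (⟨x, hx⟩ : IntermediateField.adjoin K T)
    have h4 : minpoly K (⟨x, hx⟩ : IntermediateField.adjoin K T) = minpoly K x :=
      IntermediateField.minpoly_eq _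
    unfold IsSeparable at h3 ⊢
    rwa [h4] at h3

end Groth.Agent.Lib.Helper12.NormalInter
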