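import Mathlib
import Groth.Agent.Lib.Helper12.NormalInterA

/-!
# A normal local domain between `A` and an essentially étale local `A`-algebra, with finite
separable fraction field, is essentially of finite type
-/

set_option autoImplicit false
universe u

namespace Groth.Agent.Lib.Helper12.NormalInter

open TensorProduct IsLocalRing

theorem essFiniteType_of_finite_separable
    (A : Type u) [CommRing A] [IsLocalRing A] [IsDomain A] [IsIntegrallyClosed A]
    [IsNoetherianRing A]
    (D : Type u) [CommRing D] [IsLocalRing D] [IsDomain D] [IsIntegrallyClosed D] [Algebra A D]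
    (E : Type u) [CommRing E] [IsLocalRing E] [Algebra A E] [Algebra D E] [IsScalarTower A D E]
    [IsLocalHom (algebraMap D E)] (hinj : Function.Injective (algebraMap D E))
    (hE : EGA4loc.IsEssentiallyEtale A E)
    (K L : Type u) [Field K] [Field L] [Algebra A K] [IsFractionRing A K] [Algebra D L]
    [IsFractionRing D L] [Algebra A L] [IsScalarTower A D L] [Algebra K L] [IsScalarTower A K L]
    [FiniteDimensional K L] [Algebra.IsSeparable K L] :
    Algebra.EssFiniteType A D := by
  haveI hfin : Module.Finite A (integralClosure A L) :=
    IsIntegralClosure.finite A K L (integralClosure A L)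
  haveI hfrac : IsFractionRing (integralClosure A L) L :=
    integralClosure.isFractionRing_of_finite_extension K L
  haveI hic : IsIntegrallyClosed (integralClosure A L) :=
    integralClosure.isIntegrallyClosedOfFiniteExtension K
  let ι : D →ₐ[A] L := IsScalarTower.toAlgHom A D L
  have hι : Function.Injective ι := IsFractionRing.injective D L
  have hB : ∀ b : integralClosure A L, ∃ d : D, ι d = b := by
    intro b
    have h1 : IsIntegral D (b : L) := b.2.tower_top
    exact IsIntegrallyClosed.isIntegral_iff.mp h1
  choose j0 hj0 using hB
  let j : integralClosure A L →ₐ[A] D :=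
    { toFun := j0
      map_one' := hι (by rw [hj0, map_one]; rfl)
      map_mul' := fun x y => hι (by rw [hj0, map_mul, hj0, hj0]; rfl)
      map_zero' := hι (by rw [hj0, map_zero]; rfl)
      map_add' := fun x y => hι (by rw [hj0, map_add, hj0, hj0]; rfl)
      commutes' := fun a => hι (by rw [hj0, AlgHom.commutes]; rfl) }
  have hj : ∀ b, ι (j b) = b := hj0
  have hjinj : Function.Injective j := by
    intro x y hxy
    apply Subtype.ext
    rw [← hj x, ← hj y, hxy]
  let n : Ideal (integralClosure A L) := (maximalIdeal D).comap j.toRingHom
  haveI hn : n.IsPrime := Ideal.comap_isPrime _ _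
  have hnle : n.primeCompl ≤ nonZeroDivisors (integralClosure A L) :=
    Ideal.primeCompl_le_nonZeroDivisors n
  haveI : IsDomain (Localization.AtPrime n) :=
    IsLocalization.isDomain_of_le_nonZeroDivisors _ hnle
  haveI : IsIntegrallyClosed (Localization.AtPrime n) :=
    isIntegrallyClosed_of_isLocalization _ n.primeCompl hnle
  have hunits : ∀ y : n.primeCompl, IsUnit (j y) := by
    rintro ⟨y, hy⟩
    by_contra h
    exact hy h
  let ρ : Localization.AtPrime n →ₐ[A] D :=
    IsLocalization.liftAlgHom (M := n.primeCompl) (f := j) hunits
  have hρ : ∀ b, ρ (algebraMap _ (Localization.AtPrime n) b) = j b := fun b =>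
    IsLocalization.lift_eq _ b
  have hρinj : Function.Injective ρ := by
    have h1 : Function.Injective (IsLocalization.lift (M := n.primeCompl)
        (S := Localization.AtPrime n) (g := j.toRingHom) hunits) := by
      rw [IsLocalization.lift_injective_iff]
      intro x y
      constructor
      · intro h
        have := IsLocalization.injective (Localization.AtPrime n) hnle h
        rw [this]
      · intro h
        have : x = y := hjinj h
        rw [this]
    exact h1
  have hρloc : ∀ r, IsUnit (ρ r) → IsUnit r := by
    intro r hr
    obtain ⟨b, u, rfl⟩ := IsLocalization.exists_mk'_eq n.primeCompl r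
    rw [IsLocalization.AtPrime.isUnit_mk'_iff (Localization.AtPrime n) n]
    have h1 : ρ (IsLocalization.mk' (Localization.AtPrime n) b u) * j u = j b := by
      rw [← hρ (u : integralClosure A L), ← map_mul, IsLocalization.mk'_spec, hρ]
    have h2 : IsUnit (j b) := by
      rw [← h1]
      exact hr.mul (hunits u)
    intro hb
    exact hb h2
  letI algRE : Algebra (Localization.AtPrime n) E :=
    ((algebraMap D E).comp ρ.toRingHom).toAlgebra
  have halg : ∀ r : Localization.AtPrime n, algebraMap (Localization.AtPrime n) E r =
      algebraMap D E (ρ r) := fun r => rfl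
  haveI : IsScalarTower A (Localization.AtPrime n) E := IsScalarTower.of_algebraMap_eq (fun a => by
    rw [halg, AlgHom.commutes, ← IsScalarTower.algebraMap_apply])
  haveI : IsLocalHom (algebraMap (Localization.AtPrime n) E) := ⟨fun r hr => by
    rw [halg] at hr
    exact hρloc r (isUnit_of_map_unit (algebraMap D E) _ hr)⟩
  have hinjR : Function.Injective (algebraMap (Localization.AtPrime n) E) := by
    intro x y hxy
    rw [halg, halg] at hxy
    exact hρinj (hinj hxy)
  have hRE := isEssentiallyEtale_of_injective_local A (Localization.AtPrime n) E hinjR hE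
  haveI : Module.Flat (Localization.AtPrime n) E := flat_of_isEssentiallyEtale hRE
  haveI : Module.FaithfullyFlat (Localization.AtPrime n) E :=
    Module.FaithfullyFlat.of_flat_of_isLocalHom
  have hρsurj : Function.Surjective ρ := by
    intro d
    obtain ⟨b, b', hb', hd⟩ := IsFractionRing.div_surjective (A := integralClosure A L)
      (algebraMap D L d)
    have hb'0 : b' ≠ 0 := nonZeroDivisors.ne_zero hb'
    have hbL : algebraMap (integralClosure A L) L b' ≠ 0 := by
      intro h
      exact hb'0 (IsFractionRing.injective (integralClosure A L) L (by rw [h, map_zero]))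
    have h1 : d * j b' = j b := by
      apply hι
      rw [map_mul, hj, hj]
      show algebraMap D L d * algebraMap (integralClosure A L) L b' =
        algebraMap (integralClosure A L) L b
      rw [← hd]
      field_simp
    have h2 : algebraMap _ (Localization.AtPrime n) b ∈
        ((Ideal.span {algebraMap _ (Localization.AtPrime n) b'}).map
          (algebraMap (Localization.AtPrime n) E)).comap
            (algebraMap (Localization.AtPrime n) E) := by
      rw [Ideal.mem_comap, Ideal.map_span, Set.image_singleton, Ideal.mem_span_singleton']
      refine ⟨algebraMap D E d, ?_⟩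
      rw [halg, halg, hρ, hρ, ← map_mul, h1]
    rw [Ideal.comap_map_eq_self_of_faithfullyFlat, Ideal.mem_span_singleton'] at h2
    obtain ⟨r, hr⟩ := h2
    refine ⟨r, ?_⟩
    have h3 : ρ r * j b' = d * j b' := by
      rw [h1, ← hρ b', ← map_mul, hr, hρ]
    have hjb' : j b' ≠ 0 := by
      intro h
      exact hb'0 (hjinj (by rw [h, map_zero]))
    exact mul_right_cancel₀ hjb' h3
  let e : Localization.AtPrime n ≃ₐ[A] D := AlgEquiv.ofBijective ρ ⟨hρinj, hρsurj⟩
  haveI : Algebra.EssFiniteType (integralClosure A L) (Localization.AtPrime n) :=
    Algebra.EssFiniteType.of_isLocalization _ n.primeCompl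
  haveI : Algebra.EssFiniteType A (Localization.AtPrime n) :=
    Algebra.EssFiniteType.comp A (integralClosure A L) _
  exact (Algebra.EssFiniteType.iff_of_algEquiv e).mp inferInstance

end Groth.Agent.Lib.Helper12.NormalInter
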