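import Mathlib
import Groth.Agent.Lib.Helper12.NormalInterB
import Groth.Agent.Lib.Helper12.NormalInterC
import Groth.Agent.Lib.Helper12.EssEtaleStrict

/-!
# A normal local domain between `A` and an essentially étale local `A`-algebra is essentially of
finite type and unramified over `A`
-/

set_option autoImplicit false
universe u

namespace Groth.Agent.Lib.Helper12.NormalInter

open TensorProduct IsLocalRing

theorem core
    (A : Type u) [CommRing A] [IsLocalRing A] [IsDomain A] [IsIntegrallyClosed A]
    [IsNoetherianRing A]
    (D : Type u) [CommRing D] [IsLocalRing D] [IsDomain D] [IsIntegrallyClosed D] [Algebra A D]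
    (E : Type u) [CommRing E] [IsLocalRing E] [Algebra A E] [Algebra D E] [IsScalarTower A D E]
    [IsLocalHom (algebraMap D E)] (hinj : Function.Injective (algebraMap D E))
    (hE : EGA4loc.IsEssentiallyEtale A E) :
    Algebra.EssFiniteType A D ∧
      Ideal.map (algebraMap A D) (maximalIdeal A) = maximalIdeal D := by
  haveI := essFiniteType_of_isEssentiallyEtale hE
  haveI := formallyEtale_of_isEssentiallyEtale hE
  haveI : Module.Flat A E := flat_of_isEssentiallyEtale hE
  haveI : IsLocalHom (algebraMap A E) := StrictStruct.isLocalHom_of_isEssentiallyEtale A E hE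
  haveI : Module.FaithfullyFlat A E := Module.FaithfullyFlat.of_flat_of_isLocalHom
  have hAE : Function.Injective (algebraMap A E) := FaithfulSMul.algebraMap_injective A E
  obtain ⟨hEdom, -⟩ := NormalEtale.ascend A E (fun s =>
    ⟨E, inferInstance, inferInstance, AlgHom.id A E, hE, Function.injective_id,
      fun x _ => ⟨x, rfl⟩⟩)
  haveI : FaithfulSMul D E := (faithfulSMul_iff_algebraMap_injective D E).mpr hinj
  haveI : FaithfulSMul A D := (faithfulSMul_iff_algebraMap_injective A D).mpr (by
    intro x y hxy
    apply hAE
    rw [IsScalarTower.algebraMap_apply A D E, hxy, ← IsScalarTower.algebraMap_apply])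
  constructor
  · letI : Algebra (FractionRing A) (FractionRing D) := FractionRing.liftAlgebra A _
    letI : Algebra (FractionRing A) (FractionRing E) := FractionRing.liftAlgebra A _
    letI : Algebra (FractionRing D) (FractionRing E) := FractionRing.liftAlgebra D _
    haveI : IsScalarTower A D (FractionRing E) := inferInstance
    haveI : IsScalarTower (FractionRing A) (FractionRing D) (FractionRing E) := inferInstance
    obtain ⟨h1, h2⟩ := finite_separable_fractionRing A (FractionRing A) E (FractionRing E)
    haveI : FiniteDimensional (FractionRing A) (FractionRing D) :=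
      FiniteDimensional.left _ _ (FractionRing E)
    haveI : Algebra.IsSeparable (FractionRing A) (FractionRing D) :=
      Algebra.isSeparable_tower_bot_of_isSeparable _ _ (FractionRing E)
    exact essFiniteType_of_finite_separable A D E hinj hE (FractionRing A) (FractionRing D)
  · have hDE := isEssentiallyEtale_of_injective_local A D E hinj hE
    haveI : Module.Flat D E := flat_of_isEssentiallyEtale hDE
    haveI : Module.FaithfullyFlat D E := Module.FaithfullyFlat.of_flat_of_isLocalHom
    have h1 : (maximalIdeal A).map (algebraMap A E) = maximalIdeal E :=
      Algebra.FormallyUnramified.map_maximalIdeal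
    have h2 : (maximalIdeal E).comap (algebraMap D E) = maximalIdeal D :=
      ((local_hom_TFAE (algebraMap D E)).out 0 4).mp ‹_›
    rw [← h2, ← h1, IsScalarTower.algebraMap_eq A D E, ← Ideal.map_map,
      Ideal.comap_map_eq_self_of_faithfullyFlat]

end Groth.Agent.Lib.Helper12.NormalInter
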