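import Mathlib
import Groth.Agent.Lib.Helper12.NormalInterD
import Groth.Agent.Lib.Helper12.StrictStruct5

/-!
# Normal local intermediate rings of a strict henselization of a normal local domain
-/

set_option autoImplicit false
universe u

namespace Groth.Agent.Lib.Helper12.NormalInter

open TensorProduct IsLocalRing Polynomial

section Criterion

variable {R : Type*} [CommRing R] [IsDomain R]

/-- In an integrally closed domain, if `a / b` is integral then `b ∣ a`. -/
theorem dvd_of_isIntegrallyClosed [IsIntegrallyClosed R] (a b : R) (hb : b ≠ 0) (p : R[X])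
    (hp : p.Monic) (h : eval a (scaleRoots p b) = 0) : b ∣ a := by
  let f := algebraMap R (FractionRing R)
  have hfinj : Function.Injective f := IsFractionRing.injective R (FractionRing R)
  have hfb : f b ≠ 0 := fun h0 => hb (hfinj (by rw [h0, map_zero]))
  have hint : IsIntegral R (f a / f b) := by
    refine ⟨p, hp, ?_⟩
    have h2 := scaleRoots_eval₂_mul (p := p) f (f a / f b) b
    have h3 : f b * (f a / f b) = f a := by field_simp
    rw [h3, Polynomial.eval₂_at_apply, h, map_zero] at h2
    exact (mul_eq_zero.mp h2.symm).resolve_left (pow_ne_zero _ hfb)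
  obtain ⟨c, hc⟩ := IsIntegrallyClosed.isIntegral_iff.mp hint
  refine ⟨c, hfinj ?_⟩
  rw [map_mul, hc]
  field_simp

/-- Converse criterion. -/
theorem isIntegrallyClosed_of_dvd
    (H : ∀ a b : R, b ≠ 0 → ∀ p : R[X], p.Monic → eval a (scaleRoots p b) = 0 → b ∣ a) :
    IsIntegrallyClosed R := by
  rw [isIntegrallyClosed_iff (FractionRing R)]
  intro x hx
  obtain ⟨p, hp, hpx⟩ := hx
  obtain ⟨a, b, hb, rfl⟩ := IsFractionRing.div_surjective (A := R) x
  have hb0 : b ≠ 0 := nonZeroDivisors.ne_zero hb
  have h1 : eval a (scaleRoots p b) = 0 := by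
    have := scaleRoots_aeval_eq_zero_of_aeval_div_eq_zero
      (IsFractionRing.injective R (FractionRing R)) (p := p) (r := a) (s := b) hpx hb
    apply IsFractionRing.injective R (FractionRing R)
    rw [map_zero, ← this, Polynomial.aeval_def, Polynomial.eval₂_at_apply]
  obtain ⟨c, hc⟩ := H a b hb0 p hp h1
  refine ⟨c, ?_⟩
  have hfb : algebraMap R (FractionRing R) b ≠ 0 := fun h0 =>
    hb0 (IsFractionRing.injective R (FractionRing R) (by rw [h0, map_zero]))
  rw [hc, map_mul]
  field_simp

end Criterion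

section Strict

theorem isDomain_strict (A S : Type u) [CommRing A] [IsLocalRing A] [IsDomain A]
    [IsIntegrallyClosed A]
    [CommRing S] [IsLocalRing S] [Algebra A S] [IsLocalHom (algebraMap A S)]
    [Hensel.IsStrictHenselization A S] : IsDomain S ∧ IsIntegrallyClosed S := by
  haveI := StrictStruct.flat_of_isStrictHenselization A S
  refine NormalEtale.ascend A S fun s => ?_
  obtain ⟨i, ψ, hinj, -, hr⟩ := StrictStruct.exists_nbhd_range A S s
  exact ⟨i.G, inferInstance, inferInstance, ψ, i.isEssentiallyEtale, hinj, hr⟩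

end Strict

section Sub

variable {A S : Type u} [CommRing A] [CommRing S] [Algebra A S] [IsDomain S]

/-- If the fraction field of `D` is generated by finitely many elements of `E`, and divisibility
descends from `S` to `E`, then `D ≤ E`. -/
theorem le_of_closure_eq_top (D : Subalgebra A S) (E : Subalgebra A S)
    (hdiv : ∀ y z : S, y ∈ E → z ∈ E → (∃ x : S, y * x = z) → ∃ x' ∈ E, y * x' = z)
    (s : Finset D) (hs : ∀ d ∈ s, (d : S) ∈ E)
    (hfg : Subfield.closure (Set.range (algebraMap A (FractionRing D)) ∪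
        (algebraMap D (FractionRing D)) '' (s : Set D)) = ⊤) : D ≤ E := by
  let φ := algebraMap D (FractionRing D)
  have hφ : Function.Injective φ := IsFractionRing.injective D (FractionRing D)
  have hφ0 : ∀ b : D, b ≠ 0 → φ b ≠ 0 := fun b hb h0 => hb (hφ (by rw [h0, map_zero]))
  have key : ∀ x : FractionRing D, ∃ a b : D, b ≠ 0 ∧ (a : S) ∈ E ∧ (b : S) ∈ E ∧
      x * φ b = φ a := by
    intro x
    have hx : x ∈ Subfield.closure (Set.range (algebraMap A (FractionRing D)) ∪
        (algebraMap D (FractionRing D)) '' (s : Set D)) := by rw [hfg]; trivial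
    induction hx using Subfield.closure_induction with
    | mem x hx =>
      rcases hx with ⟨r, rfl⟩ | ⟨d, hd, rfl⟩
      · refine ⟨algebraMap A D r, 1, one_ne_zero, E.algebraMap_mem r, E.one_mem, ?_⟩
        rw [map_one, mul_one, ← IsScalarTower.algebraMap_apply]
      · exact ⟨d, 1, one_ne_zero, hs d hd, E.one_mem, by rw [map_one, mul_one]⟩
    | one => exact ⟨1, 1, one_ne_zero, E.one_mem, E.one_mem, by rw [map_one, mul_one]⟩
    | add x y _ _ hx hy =>
      obtain ⟨a, b, hb, haE, hbE, h1⟩ := hx
      obtain ⟨a', b', hb', haE', hbE', h2⟩ := hy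
      refine ⟨a * b' + a' * b, b * b', mul_ne_zero hb hb',
        E.add_mem (E.mul_mem haE hbE') (E.mul_mem haE' hbE), E.mul_mem hbE hbE', ?_⟩
      rw [map_add, map_mul, map_mul, map_mul, ← h1, ← h2]; ring
    | neg x _ hx =>
      obtain ⟨a, b, hb, haE, hbE, h1⟩ := hx
      exact ⟨-a, b, hb, E.neg_mem haE, hbE, by rw [map_neg, ← h1]; ring⟩
    | inv x _ hx =>
      obtain ⟨a, b, hb, haE, hbE, h1⟩ := hx
      by_cases ha : a = 0
      · have hx0 : x = 0 := by
          rw [ha, map_zero] at h1
          exact (mul_eq_zero.mp h1).resolve_right (hφ0 b hb)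
        exact ⟨0, 1, one_ne_zero, E.zero_mem, E.one_mem, by rw [hx0, inv_zero, map_zero, zero_mul]⟩
      · refine ⟨b, a, ha, hbE, haE, ?_⟩
        have hx0 : x ≠ 0 := by
          rintro rfl
          rw [zero_mul] at h1
          exact hφ0 a ha h1.symm
        rw [← h1]
        field_simp
    | mul x y _ _ hx hy =>
      obtain ⟨a, b, hb, haE, hbE, h1⟩ := hx
      obtain ⟨a', b', hb', haE', hbE', h2⟩ := hy
      refine ⟨a * a', b * b', mul_ne_zero hb hb', E.mul_mem haE haE', E.mul_mem hbE hbE', ?_⟩
      rw [map_mul, map_mul, ← h1, ← h2]; ring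
  intro d hd
  obtain ⟨a, b, hb, haE, hbE, h1⟩ := key (φ ⟨d, hd⟩)
  have h2 : (⟨d, hd⟩ : D) * b = a := hφ (by rw [map_mul, h1])
  have h3 : (b : S) * d = (a : S) := by
    have := congrArg (fun z : D => (z : S)) h2
    simpa [mul_comm] using this
  obtain ⟨x', hx'E, hx'⟩ := hdiv (b : S) (a : S) hbE haE ⟨d, h3⟩
  have hbS : (b : S) ≠ 0 := fun h0 => hb (Subtype.ext h0)
  have : d = x' := mul_left_cancel₀ hbS (by rw [h3, hx'])
  rw [this]
  exact hx'E

end Sub

end Groth.Agent.Lib.Helper12.NormalInter
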