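import Mathlib
import Groth.Agent.Lib.Helper12.NormalInterE

/-!
# Intersections of normal local subalgebras
-/

set_option autoImplicit false
universe u

namespace Groth.Agent.Lib.Helper12.NormalInter

open TensorProduct IsLocalRing Polynomial

variable {A S : Type u} [CommRing A] [CommRing S] [Algebra A S]

theorem isUnit_inf (D E : Subalgebra A S)
    (hD : ∀ x : D, IsUnit (x : S) → IsUnit x) (hE : ∀ x : E, IsUnit (x : S) → IsUnit x)
    (x : (D ⊓ E : Subalgebra A S)) (hx : IsUnit (x : S)) : IsUnit x := by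
  obtain ⟨x, hxD, hxE⟩ := x
  obtain ⟨yD, hyD⟩ := (hD ⟨x, hxD⟩ hx).exists_right_inv
  obtain ⟨yE, hyE⟩ := (hE ⟨x, hxE⟩ hx).exists_right_inv
  have h1 : x * (yD : S) = 1 := congrArg (fun z : D => (z : S)) hyD
  have h2 : x * (yE : S) = 1 := congrArg (fun z : E => (z : S)) hyE
  have h3 : (yD : S) = (yE : S) := hx.mul_left_cancel (h1.trans h2.symm)
  have hy : (yD : S) ∈ (D ⊓ E : Subalgebra A S) := ⟨yD.2, by rw [h3]; exact yE.2⟩
  exact IsUnit.of_mul_eq_one (⟨yD, hy⟩ : (D ⊓ E : Subalgebra A S)) (Subtype.ext h1)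

theorem isIntegrallyClosed_inf [IsDomain S] (D E : Subalgebra A S) [IsIntegrallyClosed D]
    [IsIntegrallyClosed E] : IsIntegrallyClosed (D ⊓ E : Subalgebra A S) := by
  apply isIntegrallyClosed_of_dvd
  intro a b hb p hp h
  have hbS : (b : S) ≠ 0 := fun h0 => hb (Subtype.ext h0)
  have aux : ∀ (F : Subalgebra A S) [IsIntegrallyClosed F] (hF : (D ⊓ E : Subalgebra A S) ≤ F),
      ∃ d : F, (a : S) = (b : S) * (d : S) := by
    intro F _ hF
    let f : (D ⊓ E : Subalgebra A S) →+* F := (Subalgebra.inclusion hF).toRingHom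
    have hf : Function.Injective f := Subalgebra.inclusion_injective hF
    have h1 : eval (f a) (scaleRoots (p.map f) (f b)) = 0 := by
      have hlc : f p.leadingCoeff ≠ 0 := by
        rw [hp.leadingCoeff, map_one]; exact one_ne_zero
      rw [← Polynomial.map_scaleRoots p b f hlc, Polynomial.eval_map, Polynomial.eval₂_at_apply,
        h, map_zero]
    have hfb : f b ≠ 0 := fun h0 => hb (hf (by rw [h0, map_zero]))
    obtain ⟨d, hd⟩ := dvd_of_isIntegrallyClosed (f a) (f b) hfb (p.map f) (hp.map f) h1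
    exact ⟨d, congrArg (fun z : F => (z : S)) hd⟩
  obtain ⟨d, hd⟩ := aux D inf_le_left
  obtain ⟨e, he⟩ := aux E inf_le_right
  have h3 : (d : S) = (e : S) := mul_left_cancel₀ hbS (hd.symm.trans he)
  have hy : (d : S) ∈ (D ⊓ E : Subalgebra A S) := ⟨d.2, by rw [h3]; exact e.2⟩
  exact ⟨⟨d, hy⟩, Subtype.ext hd⟩

end Groth.Agent.Lib.Helper12.NormalInter
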