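import Mathlib
import Groth.Agent.S2654
import Groth.Agent.Lib.Helper12.AUnD
import Groth.Agent.Lib.Helper13.Japanese3

/-!
# Integral closure of an excellent DVR in a finite purely inseparable extension
-/

set_option autoImplicit false
universe u

namespace Groth.Agent.Lib.Helper12.PInsep

section Local

variable (R K L : Type u) [CommRing R] [IsDomain R] [IsIntegrallyClosed R]
  [Field K] [Algebra R K] [IsFractionRing R K] [Field L] [Algebra K L]
  [IsPurelyInseparable K L] [Algebra R L] [IsScalarTower R K L]

/-- every element of the integral closure has a `q`-power in `R`. -/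
theorem exists_pow_eq_algebraMap (q : ℕ) [ExpChar K q] (x : integralClosure R L) :
    ∃ (n : ℕ) (r : R), (x : L) ^ q ^ n = algebraMap R L r := by
  obtain ⟨n, y, hy⟩ := IsPurelyInseparable.pow_mem K q (x : L)
  have hint : IsIntegral R (algebraMap K L y) := by
    rw [hy]; exact (x.2 : IsIntegral R (x : L)).pow _
  have hint' : IsIntegral R y :=
    (isIntegral_algebraMap_iff (algebraMap K L).injective).mp hint
  obtain ⟨r, hr⟩ := IsIntegrallyClosed.algebraMap_eq_of_integral hint'
  refine ⟨n, r, ?_⟩
  rw [← hy, ← hr, ← IsScalarTower.algebraMap_apply]

include K in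
theorem isLocalHom_algebraMap_integralClosure :
    IsLocalHom (algebraMap R (integralClosure R L)) := by
  have hinj : Function.Injective (algebraMap R (integralClosure R L)) := by
    have h1 : Function.Injective (algebraMap R L) := by
      rw [IsScalarTower.algebraMap_eq R K L]
      exact (algebraMap K L).injective.comp (IsFractionRing.injective R K)
    intro a b hab
    apply h1
    have := congrArg (fun z : integralClosure R L => (z : L)) hab
    simpa using this
  exact RingHom.IsIntegral.isLocalHom (algebraMap_isIntegral_iff.mpr inferInstance) hinj

include K in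
theorem isLocalRing_integralClosure [IsLocalRing R] : IsLocalRing (integralClosure R L) := by
  obtain ⟨q, hq⟩ := ExpChar.exists K
  haveI : ExpChar L q := expChar_of_injective_algebraMap (algebraMap K L).injective q
  haveI := isLocalHom_algebraMap_integralClosure R K L
  have hqpos : ∀ n : ℕ, q ^ n ≠ 0 := fun n => (expChar_pow_pos K q n).ne'
  -- key: for a nonunit, the corresponding element of R is a nonunit
  have key : ∀ (x : integralClosure R L) (n : ℕ) (r : R), (x : L) ^ q ^ n = algebraMap R L r →
      (IsUnit x ↔ IsUnit r) := by
    intro x n r h
    have h' : x ^ q ^ n = algebraMap R (integralClosure R L) r := by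
      apply Subtype.ext
      simpa using h
    constructor
    · intro hx
      have : IsUnit (algebraMap R (integralClosure R L) r) := by
        rw [← h']; exact hx.pow _
      exact isUnit_of_map_unit _ _ this
    · intro hr
      have : IsUnit (x ^ q ^ n) := by
        rw [h']; exact hr.map _
      exact (isUnit_pow_iff (hqpos n)).mp this
  apply IsLocalRing.of_nonunits_add
  intro a b ha hb
  obtain ⟨na, ra, hra⟩ := exists_pow_eq_algebraMap R K L q a
  obtain ⟨nb, rb, hrb⟩ := exists_pow_eq_algebraMap R K L q b
  have hra' : ra ∈ nonunits R := fun h => ha ((key a na ra hra).mpr h)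
  have hrb' : rb ∈ nonunits R := fun h => hb ((key b nb rb hrb).mpr h)
  have hsum : ((a + b : integralClosure R L) : L) ^ q ^ (na + nb) =
      algebraMap R L (ra ^ q ^ nb + rb ^ q ^ na) := by
    have e1 : ((a + b : integralClosure R L) : L) = (a : L) + (b : L) := rfl
    rw [e1, add_pow_expChar_pow, map_add, map_pow, map_pow, ← hra, ← hrb, ← pow_mul, ← pow_mul,
      ← pow_add, ← pow_add, add_comm nb na]
  intro hab
  have hu : IsUnit (ra ^ q ^ nb + rb ^ q ^ na) := (key (a + b) (na + nb) _ hsum).mp hab
  have h1 : ra ^ q ^ nb ∈ nonunits R := fun h => hra' ((isUnit_pow_iff (hqpos nb)).mp h)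
  have h2 : rb ^ q ^ na ∈ nonunits R := fun h => hrb' ((isUnit_pow_iff (hqpos na)).mp h)
  exact IsLocalRing.nonunits_add h1 h2 hu

end Local

/-- Integral closure of an excellent (indeed quasi-excellent) DVR in a finite purely inseparable
extension of its fraction field is a DVR, finite over the base. -/
theorem isDiscreteValuationRing_integralClosure (R K L : Type u) [CommRing R] [IsDomain R]
    [IsDiscreteValuationRing R] (hR : EGA4.IsQuasiExcellent R)
    [Field K] [Algebra R K] [IsFractionRing R K] [Field L] [Algebra K L] [FiniteDimensional K L]
    [IsPurelyInseparable K L] [Algebra R L] [IsScalarTower R K L] :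
    IsDiscreteValuationRing ↥(integralClosure R L) ∧ Module.Finite R ↥(integralClosure R L) := by
  have hNag : CAlg.IsNagata R := Groth.Agent.S2654.result R hR
  have hN2 : CAlg.IsN2 R := AUn.isN2_of_isNagata R hNag
  haveI hfin : Module.Finite R (integralClosure R L) :=
    Groth.Agent.Lib.Helper13.Japanese.finite_integralClosure_of_finite_of_isN2 R R K L hN2
  refine ⟨?_, hfin⟩
  haveI : IsNoetherianRing R := hR.1
  haveI : IsNoetherianRing (integralClosure R L) := IsNoetherianRing.of_finite R _
  haveI : IsIntegrallyClosed (integralClosure R L) :=
    integralClosure.isIntegrallyClosedOfFiniteExtension K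
  haveI : IsLocalRing (integralClosure R L) := isLocalRing_integralClosure R K L
  haveI : Ring.DimensionLEOne (integralClosure R L) := inferInstance
  have hinj : Function.Injective (algebraMap R (integralClosure R L)) := by
    have h1 : Function.Injective (algebraMap R L) := by
      rw [IsScalarTower.algebraMap_eq R K L]
      exact (algebraMap K L).injective.comp (IsFractionRing.injective R K)
    intro a b hab
    apply h1
    have := congrArg (fun z : integralClosure R L => (z : L)) hab
    simpa using this
  have hnf : ¬ IsField (integralClosure R L) := fun h =>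
    IsDiscreteValuationRing.not_isField R (isField_of_isIntegral_of_isField hinj h)
  have hDed : IsDedekindDomain (integralClosure R L) := { }
  exact ((IsDiscreteValuationRing.TFAE (integralClosure R L) hnf).out 0 2).mpr hDed

end Groth.Agent.Lib.Helper12.PInsep
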