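import Mathlib
import Groth.Agent.Lib.Helper12.PSEval

/-!
Helper library (helper12): an `(x)`-adically complete ring `A` with `x` a non-zero-divisor and a
ring section of `A → A/(x)` is a power series ring over `A/(x)`.
-/

set_option autoImplicit false
set_option linter.style.haveILetI false

namespace Groth.Agent.Lib.Helper12.PSStruct

universe u

theorem exists_algEquiv_powerSeries_of_section {k A : Type u} [CommRing k] [CommRing A]
    [Algebra k A] (x : A) (hx : x ∈ nonZeroDivisors A) [IsAdicComplete (Ideal.span {x}) A]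
    (s : (A ⧸ Ideal.span {x}) →ₐ[k] A)
    (hs : ∀ b, Ideal.Quotient.mk (Ideal.span {x}) (s b) = b) :
    ∃ e : PowerSeries (A ⧸ Ideal.span {x}) ≃ₐ[k] A,
      e PowerSeries.X = x ∧
      ∀ f : PowerSeries (A ⧸ Ideal.span {x}),
        Ideal.Quotient.mk (Ideal.span {x}) (e f) = PowerSeries.constantCoeff f := by
  letI algBA : Algebra (A ⧸ Ideal.span {x}) A := s.toRingHom.toAlgebra
  haveI : IsScalarTower k (A ⧸ Ideal.span {x}) A :=
    IsScalarTower.of_algebraMap_eq (fun c => (s.commutes c).symm)
  obtain ⟨l, hl⟩ := PSEval.exists_algHom_eval (R := A ⧸ Ideal.span {x}) (σ := Unit)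
    (Ideal.span {x}) (fun _ => x) (fun _ => Ideal.subset_span rfl)
  have hlX : l PowerSeries.X = x := hl ()
  have hlC : ∀ b, l (PowerSeries.C b) = s b := fun b => l.commutes b
  -- reduction mod x
  have hmk : ∀ f : PowerSeries (A ⧸ Ideal.span {x}),
      Ideal.Quotient.mk (Ideal.span {x}) (l f) = PowerSeries.constantCoeff f := by
    intro f
    conv_lhs => rw [PowerSeries.eq_X_mul_shift_add_const f]
    rw [map_add, map_mul, hlX, hlC, map_add, map_mul, hs]
    have : Ideal.Quotient.mk (Ideal.span {x}) x = 0 :=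
      Ideal.Quotient.eq_zero_iff_mem.mpr (Ideal.subset_span rfl)
    rw [this, zero_mul, zero_add]
  -- injectivity
  have hinj0 : ∀ f : PowerSeries (A ⧸ Ideal.span {x}), l f = 0 → f = 0 := by
    intro f hf
    by_contra hne
    have h1 : l (PowerSeries.X ^ f.order.toNat * PowerSeries.divXPowOrder f) = 0 := by
      rw [PowerSeries.X_pow_order_mul_divXPowOrder, hf]
    rw [map_mul, map_pow, hlX] at h1
    have h2 : l (PowerSeries.divXPowOrder f) = 0 :=
      (mul_left_mem_nonZeroDivisors_eq_zero_iff (pow_mem hx _)).mp h1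
    have h3 := hmk (PowerSeries.divXPowOrder f)
    rw [h2, map_zero] at h3
    exact hne (PowerSeries.constantCoeff_divXPowOrder_eq_zero_iff.mp h3.symm)
  have hinj : Function.Injective l := (injective_iff_map_eq_zero l).mpr hinj0
  -- surjectivity
  have hmap : (Ideal.span {(PowerSeries.X : PowerSeries (A ⧸ Ideal.span {x}))}).map
      (l : PowerSeries (A ⧸ Ideal.span {x}) →+* A) = Ideal.span {x} := by
    rw [Ideal.map_span, Set.image_singleton]
    congr 2
  have hsurj : Function.Surjective l := by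
    haveI : IsHausdorff ((Ideal.span {(PowerSeries.X : PowerSeries (A ⧸ Ideal.span {x}))}).map
        (l : PowerSeries (A ⧸ Ideal.span {x}) →+* A)) A := by
      rw [hmap]
      infer_instance
    apply surjective_of_mk_map_comp_surjective (l : PowerSeries (A ⧸ Ideal.span {x}) →+* A)
      (I := Ideal.span {(PowerSeries.X : PowerSeries (A ⧸ Ideal.span {x}))})
    intro z
    obtain ⟨a, rfl⟩ := Ideal.Quotient.mk_surjective z
    refine ⟨PowerSeries.C (Ideal.Quotient.mk (Ideal.span {x}) a), ?_⟩
    rw [RingHom.comp_apply, Ideal.Quotient.mk_eq_mk_iff_sub_mem, hmap,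
      ← Ideal.Quotient.eq_zero_iff_mem, map_sub, sub_eq_zero]
    show Ideal.Quotient.mk (Ideal.span {x}) (l (PowerSeries.C _)) = _
    rw [hlC, hs]
  let e : PowerSeries (A ⧸ Ideal.span {x}) ≃ₐ[k] A :=
    AlgEquiv.ofBijective (l.restrictScalars k) ⟨hinj, hsurj⟩
  exact ⟨e, hlX, hmk⟩

end Groth.Agent.Lib.Helper12.PSStruct
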