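import Groth.Agent.Lib.Helper12.PairTrunc
import Groth.Agent.Lib.Helper12.PairColimFin

/-!
# The henselization of a pair is a henselization over each stage, hence faithfully flat over it
-/

set_option autoImplicit false
universe u

namespace Groth.Agent.Lib.Helper12.PairNbhd

variable {A : Type u} [CommRing A] {I : Ideal A}

namespace Lim

/-- The algebra structure of the limit over the ring of a neighbourhood. (Not an instance.) -/
noncomputable abbrev algebraOver (i : PNbhd A I) : Algebra i.G (Lim A I) :=
  (of A I i).toAlgebra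

theorem ker_pt_stage (i : PNbhd A I) : RingHom.ker i.pt = I.map (algebraMap A i.G) := by
  apply le_antisymm
  · exact ker_zarPt_le_map i.Ring i.σ
  · rw [Ideal.map_le_iff_le_comap]
    intro a ha
    rw [Ideal.mem_comap, RingHom.mem_ker, AlgHom.commutes, Ideal.Quotient.algebraMap_eq,
      Ideal.Quotient.eq_zero_iff_mem]
    exact ha

theorem map_map_stage (i : PNbhd A I) (K : Ideal A) :
    (K.map (algebraMap A i.G)).map (of A I i) = K.map (algebraMap A (Lim A I)) := by
  rw [Ideal.map_map]
  congr 1
  ext a
  exact (algebraMap_eq i a).symm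

theorem isPairHenselization_over (i : PNbhd A I) :
    letI := algebraOver i
    Hens2.IsPairHenselization i.G (I.map (algebraMap A i.G)) (Lim A I) := by
  letI := algebraOver i
  refine ⟨?_, ?_⟩
  · have : (I.map (algebraMap A i.G)).map (algebraMap i.G (Lim A I)) =
        I.map (algebraMap A (Lim A I)) := map_map_stage i I
    rw [this]
    exact henselianRing A I
  · intro D _ J f hJ hle
    letI : Algebra A D := (f.comp (algebraMap A i.G)).toAlgebra
    have hf : I ≤ J.comap (Algebra.ofId A D) := by
      intro a ha
      rw [Ideal.mem_comap]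
      apply hle
      exact Ideal.mem_map_of_mem f (Ideal.mem_map_of_mem _ ha)
    let χ : i.G →ₐ[A] D := { f with commutes' := fun a => rfl }
    have hχ : χ = ψ J hf i := by
      apply ψ_unique
      intro z
      obtain ⟨a, ha⟩ := Ideal.Quotient.mk_surjective (i.pt z)
      have hker : z - algebraMap A i.G a ∈ RingHom.ker i.pt := by
        rw [RingHom.mem_ker, map_sub, AlgHom.commutes, Ideal.Quotient.algebraMap_eq, ha, sub_self]
      rw [ker_pt_stage] at hker
      have h1 : f (z - algebraMap A i.G a) ∈ J := hle (Ideal.mem_map_of_mem f hker)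
      rw [map_sub, ← Ideal.Quotient.eq_zero_iff_mem, map_sub, sub_eq_zero] at h1
      show Ideal.Quotient.mk J (f z) = _
      rw [h1, ← ha]
      show _ = gbar J hf (algebraMap A (A ⧸ I) a)
      rw [AlgHom.commutes]
      rfl
    refine ⟨Ψ J hf, ?_, ?_⟩
    · ext z
      show Ψ J hf (of A I i z) = f z
      rw [Ψ_of, ← hχ]
      rfl
    · intro g' hg'
      apply Ψ_unique J hf g'
      intro a
      rw [algebraMap_eq i a]
      exact RingHom.congr_fun hg' (algebraMap A i.G a)

theorem flat_over (i : PNbhd A I) :
    letI := algebraOver i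
    Module.Flat i.G (Lim A I) := by
  letI := algebraOver i
  exact PairUnique.flat_of_isPairHenselization (isPairHenselization_over i)

theorem faithfullyFlat_over (i : PNbhd A I) :
    letI := algebraOver i
    Module.FaithfullyFlat i.G (Lim A I) := by
  letI := algebraOver i
  haveI := flat_over i
  refine ⟨fun m hm h => ?_⟩
  -- `m` contains the kernel of the point
  have hker : RingHom.ker i.pt ≤ m := by
    have h1 : RingHom.ker i.pt ≤ Ideal.jacobson ⊥ := ker_zarPt_le_jacobson i.Ring i.σ
    refine h1.trans ?_
    rw [Ideal.jacobson]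
    exact sInf_le ⟨bot_le, hm⟩
  have hsurj : Function.Surjective i.pt := by
    intro q
    obtain ⟨a, rfl⟩ := Ideal.Quotient.mk_surjective q
    exact ⟨algebraMap A i.G a, by rw [AlgHom.commutes]; rfl⟩
  have hne : m.map i.pt ≠ ⊤ := by
    intro htop
    have h2 : (m.map i.pt).comap i.pt = m := by
      rw [Ideal.comap_map_of_surjective _ hsurj]
      exact sup_eq_left.mpr (by rwa [← RingHom.ker_eq_comap_bot])
    rw [htop, Ideal.comap_top] at h2
    exact hm.ne_top h2.symm
  have h1 : (1 : Lim A I) ∈ m • (⊤ : Submodule i.G (Lim A I)) := by rw [h]; trivial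
  have h2 : ∀ x ∈ m • (⊤ : Submodule i.G (Lim A I)), pt A I x ∈ m.map i.pt := by
    intro x hx
    refine Submodule.smul_induction_on hx ?_ ?_
    · intro r hr n _
      rw [Algebra.smul_def, map_mul]
      refine Ideal.mul_mem_right _ _ ?_
      show pt A I (of A I i r) ∈ _
      rw [pt_of]
      exact Ideal.mem_map_of_mem _ hr
    · intro x y hx hy
      rw [map_add]
      exact add_mem hx hy
  have h3 := h2 1 h1
  rw [map_one] at h3
  exact hne ((Ideal.eq_top_iff_one _).2 h3)

end Lim

end Groth.Agent.Lib.Helper12.PairNbhd
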