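import Groth.Agent.Lib.Helper12.PairNoethB
import Mathlib.RingTheory.AdicCompletion.Functoriality

/-!
# The completion of the henselization of a pair
-/

set_option autoImplicit false
universe u

namespace Groth.Agent.Lib.Helper12.PairNbhd

open LinearMap

section General

variable {R : Type*} [CommRing R] (I : Ideal R) {M N : Type*} [AddCommGroup M] [Module R M]
  [AddCommGroup N] [Module R N]

theorem adicCompletion_map_bijective (f : M →ₗ[R] N)
    (h : ∀ n : ℕ, Function.Bijective (f.reduceModIdeal (I ^ n))) :
    Function.Bijective (AdicCompletion.map I f) := by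
  constructor
  · intro x y hxy
    apply AdicCompletion.ext
    intro n
    apply (h n).1
    rw [← AdicCompletion.map_val_apply, ← AdicCompletion.map_val_apply, hxy]
  · intro y
    choose g hg using fun n => (h n).2 (y.val n)
    refine ⟨⟨g, ?_⟩, ?_⟩
    · intro m n hmn
      apply (h m).1
      have h1 := LinearMap.congr_fun (AdicCompletion.transitionMap_comp_reduceModIdeal I f hmn) (g n)
      simp only [LinearMap.comp_apply] at h1
      have h2 : (f.reduceModIdeal (I ^ m)) (AdicCompletion.transitionMap I M hmn (g n)) =
          AdicCompletion.transitionMap I N hmn (f.reduceModIdeal (I ^ n) (g n)) := h1.symm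
      rw [h2, hg n, hg m]
      exact y.2 hmn
    · apply AdicCompletion.ext
      intro n
      rw [AdicCompletion.map_val_apply]
      exact hg n

end General

variable {A : Type u} [CommRing A] {I : Ideal A}

theorem reduceModIdeal_bijective {B : Type u} [CommRing B] [Algebra A B]
    (hB : Hens2.IsPairHenselization A I B) (n : ℕ) :
    Function.Bijective ((Algebra.linearMap A B).reduceModIdeal (I ^ n)) := by
  have hq := PairUnique.quotientMap_pow_bijective hB n
  have hmem : ∀ b : B, b ∈ (I ^ n • ⊤ : Submodule A B) ↔ b ∈ (I ^ n).map (algebraMap A B) := by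
    intro b
    rw [Ideal.smul_top_eq_map]
    rfl
  have hmemA : ∀ a : A, a ∈ (I ^ n • ⊤ : Submodule A A) ↔ a ∈ I ^ n := by
    intro a
    rw [Ideal.smul_top_eq_map, Algebra.algebraMap_self, Ideal.map_id]
    rfl
  constructor
  · rw [injective_iff_map_eq_zero]
    intro x hx
    obtain ⟨a, rfl⟩ := Submodule.Quotient.mk_surjective _ x
    rw [LinearMap.reduceModIdeal_apply, Submodule.Quotient.mk_eq_zero, hmem] at hx
    rw [Submodule.Quotient.mk_eq_zero, hmemA]
    have h1 : Ideal.quotientMap ((I ^ n).map (algebraMap A B)) (algebraMap A B) Ideal.le_comap_map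
        (Ideal.Quotient.mk (I ^ n) a) = 0 := by
      rw [Ideal.quotientMap_mk, Ideal.Quotient.eq_zero_iff_mem]
      exact hx
    have h2 := (injective_iff_map_eq_zero _).1 hq.1 _ h1
    exact Ideal.Quotient.eq_zero_iff_mem.1 h2
  · intro y
    obtain ⟨b, rfl⟩ := Submodule.Quotient.mk_surjective _ y
    obtain ⟨x, hx⟩ := hq.2 (Ideal.Quotient.mk _ b)
    obtain ⟨a, rfl⟩ := Ideal.Quotient.mk_surjective x
    refine ⟨Submodule.Quotient.mk a, ?_⟩
    rw [LinearMap.reduceModIdeal_apply, Submodule.Quotient.eq, hmem]
    rw [Ideal.quotientMap_mk, Ideal.Quotient.eq] at hx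
    exact hx

theorem adicCompletion_map_bijective_of_isPairHenselization {B : Type u} [CommRing B]
    [Algebra A B] (hB : Hens2.IsPairHenselization A I B) :
    Function.Bijective (AdicCompletion.map I (Algebra.linearMap A B)) :=
  adicCompletion_map_bijective I _ (reduceModIdeal_bijective hB)

end Groth.Agent.Lib.Helper12.PairNbhd
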