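import Mathlib
import Groth.Agent.Lib.Helper12.PairColim

/-!
# Principal open neighbourhoods of `V(K)` congruent to `1` modulo `K`
-/

set_option autoImplicit false
universe u

namespace Groth.Agent.Lib.Helper12.PairNbhd

/-- An open neighbourhood of `V(K)` contains a principal open `D(f)` with `f ≡ 1 mod K`. -/
theorem exists_basicOpen_subset_of_zeroLocus_subset {R : Type*} [CommRing R] (K : Ideal R)
    (U : Set (PrimeSpectrum R)) (hU : IsOpen U) (hKU : PrimeSpectrum.zeroLocus (K : Set R) ⊆ U) :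
    ∃ f : R, f - 1 ∈ K ∧ (PrimeSpectrum.basicOpen f : Set (PrimeSpectrum R)) ⊆ U := by
  obtain ⟨𝔞, h𝔞⟩ := (PrimeSpectrum.isClosed_iff_zeroLocus_ideal Uᶜ).mp hU.isClosed_compl
  have htop : K ⊔ 𝔞 = ⊤ := by
    rw [← PrimeSpectrum.zeroLocus_empty_iff_eq_top, PrimeSpectrum.zeroLocus_sup, ← h𝔞]
    rw [Set.eq_empty_iff_forall_notMem]
    rintro x ⟨hx1, hx2⟩
    exact hx2 (hKU hx1)
  obtain ⟨κ, hκ, f, hf, hsum⟩ := Submodule.mem_sup.mp (htop ▸ Submodule.mem_top : (1 : R) ∈ K ⊔ 𝔞)
  refine ⟨f, ?_, ?_⟩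
  · have : f - 1 = -κ := by rw [← hsum]; ring
    rw [this]
    exact K.neg_mem hκ
  · intro x hx
    by_contra hxU
    have hx' : x ∈ PrimeSpectrum.zeroLocus (𝔞 : Set R) := by
      rw [← h𝔞]
      exact hxU
    exact hx (hx' hf)

/-- Localizing away from an element congruent to `1` modulo `K` does not change the quotient by
`K`. -/
theorem away_quotient_bijective_of_sub_one_mem {R : Type u} [CommRing R] (K : Ideal R) (f : R)
    (hf : f - 1 ∈ K) :
    Function.Bijective (Ideal.quotientMap (K.map (algebraMap R (Localization.Away f)))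
      (algebraMap R (Localization.Away f)) Ideal.le_comap_map) := by
  have hσf : IsUnit ((Ideal.Quotient.mkₐ R K) f) := by
    have : (Ideal.Quotient.mkₐ R K) f = 1 := by
      show Ideal.Quotient.mk K f = 1
      rw [← map_one (Ideal.Quotient.mk K), Ideal.Quotient.eq]
      exact hf
    rw [this]
    exact isUnit_one
  apply away_quotient_bijective (A := R) (I := K) (Ideal.Quotient.mkₐ R K) f hσf
  intro x hx
  refine ⟨0, ?_⟩
  rw [pow_zero, mul_one, Algebra.algebraMap_self, Ideal.map_id]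
  exact Ideal.Quotient.eq_zero_iff_mem.mp hx

end Groth.Agent.Lib.Helper12.PairNbhd
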