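import Groth.Agent.Lib.Helper12.IdemLiftNC
import Mathlib.RingTheory.Finiteness.Projective
import Mathlib.LinearAlgebra.Matrix.Charpoly.Coeff
import Mathlib.RingTheory.TensorProduct.Basic

set_option autoImplicit false
universe u v

/-!
# Lifting finite projective modules along a henselian pair
-/

namespace Groth.Agent.Lib.Helper12

open Polynomial TensorProduct

variable {R : Type u} [CommRing R] {I : Ideal R}

/-- Idempotent matrices lift along a henselian pair. -/
theorem exists_idempotent_matrix_lift (hjac : I ≤ Ideal.jacobson ⊥) (hfl : FactorLift I) (n : ℕ)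
    (m : Matrix (Fin n) (Fin n) (R ⧸ I)) (hm : m * m = m) :
    ∃ e : Matrix (Fin n) (Fin n) R, e * e = e ∧ e.map (Ideal.Quotient.mk I) = m := by
  let π : Matrix (Fin n) (Fin n) R →ₐ[R] Matrix (Fin n) (Fin n) (R ⧸ I) :=
    (Ideal.Quotient.mkₐ R I).mapMatrix
  have hπ : ∀ x, π x = x.map (Ideal.Quotient.mk I) := fun x => rfl
  let b : Matrix (Fin n) (Fin n) R :=
    Matrix.of fun i j => (Ideal.Quotient.mk_surjective (m i j)).choose
  have hb : π b = m := by
    ext i j
    exact (Ideal.Quotient.mk_surjective (m i j)).choose_spec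
  set z := b * b - b with hz
  have hzmap : z.map (Ideal.Quotient.mk I) = 0 := by
    have : π z = 0 := by rw [hz, map_sub, map_mul, hb, hm, sub_self]
    exact this
  have hI : ∀ a ∈ I, algebraMap R (Matrix (Fin n) (Fin n) (R ⧸ I)) a = 0 := by
    intro a ha
    ext i j
    rw [Matrix.algebraMap_matrix_apply]
    split_ifs
    · exact Ideal.Quotient.eq_zero_iff_mem.mpr ha
    · rfl
  obtain ⟨e, he, hπe⟩ := exists_idempotent_lift_nc hjac hfl π hI b (by rw [hb]; exact hm) n
    (X * z.charpoly) (monic_X.mul z.charpoly_monic)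
    (by rw [Polynomial.map_mul, map_X, ← Matrix.charpoly_map, hzmap, Matrix.charpoly_zero,
      Fintype.card_fin, pow_succ'])
    (by rw [map_mul, aeval_X, Matrix.aeval_self_charpoly, mul_zero])
  exact ⟨e, he, by rw [← hπ, hπe, hb]⟩

/-- Finite projective modules lift along a henselian pair. -/
theorem exists_finite_projective_lift (R : Type u) [CommRing R] (I : Ideal R) [HenselianRing R I]
    (Q : Type u) [AddCommGroup Q] [Module (R ⧸ I) Q] [Module.Finite (R ⧸ I) Q]
    [Module.Projective (R ⧸ I) Q] :
    ∃ (P : Type u) (_ : AddCommGroup P) (_ : Module R P), Module.Finite R P ∧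
      Module.Projective R P ∧ Nonempty (TensorProduct R (R ⧸ I) P ≃ₗ[R ⧸ I] Q) := by
  classical
  obtain ⟨n, s₀, i₀, hs₀, hi₀, hsi⟩ := Module.Finite.exists_comp_eq_id_of_projective (R ⧸ I) Q
  set ebar : (Fin n → R ⧸ I) →ₗ[R ⧸ I] (Fin n → R ⧸ I) := i₀ ∘ₗ s₀ with hebar
  have hsi' : ∀ q, s₀ (i₀ q) = q := fun q => LinearMap.congr_fun hsi q
  have hee : ebar ∘ₗ ebar = ebar := by
    refine LinearMap.ext fun v => ?_
    simp only [hebar, LinearMap.comp_apply, hsi']
  set m := LinearMap.toMatrix' ebar with hm
  have hmm : m * m = m := by rw [hm, ← LinearMap.toMatrix'_comp, hee]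
  obtain ⟨e, he, hem⟩ := exists_idempotent_matrix_lift HenselianRing.jac
    (factorLift_of_henselianRing (I := I)) n m hmm
  set E : (Fin n → R) →ₗ[R] (Fin n → R) := Matrix.toLin' e with hE
  have hEE : ∀ v, E (E v) = E v := by
    intro v
    rw [hE, ← LinearMap.comp_apply, ← Matrix.toLin'_mul, he]
  let red : (Fin n → R) →ₗ[R] (Fin n → R ⧸ I) :=
    (Ideal.Quotient.mkₐ R I).toLinearMap.compLeft (Fin n)
  have hredapp : ∀ v i, red v i = Ideal.Quotient.mk I (v i) := fun v i => rfl
  have hred : ∀ v, red (E v) = ebar (red v) := by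
    intro v
    have h1 : ebar (red v) = m.mulVec (red v) := by
      rw [hm, LinearMap.toMatrix'_mulVec]
    rw [h1, ← hem]
    ext i
    rw [hredapp, hE, Matrix.toLin'_apply, Matrix.mulVec, Matrix.mulVec, dotProduct, dotProduct,
      map_sum]
    apply Finset.sum_congr rfl
    intro j _
    rw [map_mul, Matrix.map_apply, hredapp]
  have hredsurj : Function.Surjective red := by
    intro w
    choose v hv using fun i => Ideal.Quotient.mk_surjective (w i)
    exact ⟨v, funext fun i => hv i⟩
  let P : Submodule R (Fin n → R) := LinearMap.range E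
  refine ⟨P, inferInstance, inferInstance, ?_, ?_, ?_⟩
  · exact Module.Finite.range E
  · apply Module.Projective.of_split P.subtype E.rangeRestrict
    refine LinearMap.ext fun ⟨x, y, hy⟩ => Subtype.ext ?_
    show E x = x
    rw [← hy]
    exact hEE y
  · letI : Module R Q := Module.compHom Q (Ideal.Quotient.mk I)
    haveI : IsScalarTower R (R ⧸ I) Q := by
      refine ⟨fun a c q => ?_⟩
      show (a • c) • q = Ideal.Quotient.mk I a • (c • q)
      rw [Algebra.smul_def, mul_smul]
      rfl
    let f : P →ₗ[R] Q := ((s₀.restrictScalars R).comp red).comp P.subtype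
    have hf : ∀ p : P, f p = s₀ (red p.1) := fun p => rfl
    let α : TensorProduct R (R ⧸ I) P →ₗ[R ⧸ I] Q := f.liftBaseChange (R ⧸ I)
    have hα : ∀ (c : R ⧸ I) (p : P), α (c ⊗ₜ[R] p) = c • s₀ (red p.1) := fun c p => rfl
    -- every element is `1 ⊗ p`
    have hone : ∀ t : TensorProduct R (R ⧸ I) P, ∃ p : P, t = (1 : R ⧸ I) ⊗ₜ[R] p := by
      intro t
      induction t using TensorProduct.induction_on with
      | zero => exact ⟨0, (TensorProduct.tmul_zero _ _).symm⟩
      | tmul c p =>
        obtain ⟨a, rfl⟩ := Ideal.Quotient.mk_surjective c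
        refine ⟨a • p, ?_⟩
        rw [TensorProduct.tmul_smul, TensorProduct.smul_tmul']
        congr 1
        rw [Algebra.smul_def, mul_one]
        rfl
      | add x y hx hy =>
        obtain ⟨p, rfl⟩ := hx
        obtain ⟨p', rfl⟩ := hy
        exact ⟨p + p', (TensorProduct.tmul_add _ _ _).symm⟩
    have hbij : Function.Bijective α := by
      constructor
      · rw [injective_iff_map_eq_zero]
        intro t ht
        obtain ⟨p, rfl⟩ := hone t
        rw [hα, one_smul] at ht
        have h1 : ebar (red p.1) = 0 := by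
          show i₀ (s₀ (red p.1)) = 0
          rw [ht, map_zero]
        obtain ⟨x, y, hy⟩ := p
        have hx : E x = x := by rw [← hy]; exact hEE y
        have h2 : red x = 0 := by
          have h3 : red x = ebar (red y) := by rw [← hy, hred]
          have h4 : ebar (red x) = red x := by
            rw [h3, ← LinearMap.comp_apply, hee]
          rw [← h4]
          exact h1
        have hsum : (⟨x, y, hy⟩ : P) = ∑ k, x k • (⟨E (fun j => if k = j then 1 else 0),
            (fun j => if k = j then 1 else 0), rfl⟩ : P) := by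
          apply Subtype.ext
          rw [AddSubmonoidClass.coe_finset_sum]
          simp only [Submodule.coe_smul]
          conv_lhs => rw [← hx]
          exact LinearMap.pi_apply_eq_sum_univ E x
        rw [hsum, TensorProduct.tmul_sum]
        apply Finset.sum_eq_zero
        intro k _
        rw [TensorProduct.tmul_smul, TensorProduct.smul_tmul']
        have : x k • (1 : R ⧸ I) = 0 := by
          rw [Algebra.smul_def, mul_one]
          have := congrFun h2 k
          rw [hredapp] at this
          exact this
        rw [this, TensorProduct.zero_tmul]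
      · intro q
        obtain ⟨v, hv⟩ := hredsurj (i₀ q)
        refine ⟨(1 : R ⧸ I) ⊗ₜ[R] ⟨E v, v, rfl⟩, ?_⟩
        rw [hα, one_smul]
        show s₀ (red (E v)) = q
        rw [hred, hv]
        show s₀ (i₀ (s₀ (i₀ q))) = q
        rw [hsi', hsi']
    exact ⟨LinearEquiv.ofBijective α hbij⟩

end Groth.Agent.Lib.Helper12
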