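import Groth.Agent.Lib.Helper12.PtNbhd
import Mathlib.Algebra.Colimit.Ring
import Mathlib.RingTheory.FinitePresentation

set_option autoImplicit false
universe u

namespace Groth.Agent.Lib.Helper12.PtNbhd

open IsLocalRing TensorProduct

/-- A small skeleton of étale neighbourhoods of `A` with a point in `L`. -/
structure Nbhd (A : Type u) [CommRing A] [IsLocalRing A] (L : Type u) [Field L] [Algebra A L] :
    Type u where
  n : ℕ
  I : Ideal (MvPolynomial (Fin n) A)
  etale : Algebra.Etale A (MvPolynomial (Fin n) A ⧸ I)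
  π : (MvPolynomial (Fin n) A ⧸ I) →ₐ[A] L

namespace Nbhd

variable {A : Type u} [CommRing A] [IsLocalRing A] {L : Type u} [Field L] [Algebra A L]
  [LocalPoint A L]

/-- The étale algebra of the neighbourhood. -/
abbrev Ring (i : Nbhd A L) : Type u := MvPolynomial (Fin i.n) A ⧸ i.I

instance (i : Nbhd A L) : Algebra.Etale A i.Ring := i.etale

/-- The local ring of the neighbourhood. -/
abbrev G (i : Nbhd A L) : Type u := Loc A L i.Ring i.π

/-- The point of the local ring of the neighbourhood. -/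
noncomputable abbrev pt (i : Nbhd A L) : i.G →ₐ[A] L := locPt A L i.Ring i.π

theorem isEssentiallyEtale (i : Nbhd A L) : EGA4loc.IsEssentiallyEtale A i.G :=
  PtNbhd.isEssentiallyEtale A L i.Ring i.π

instance (i : Nbhd A L) : Algebra.EssFiniteType A i.G :=
  essFiniteType_of_isEssentiallyEtale i.isEssentiallyEtale

instance (i : Nbhd A L) : Algebra.FormallyEtale A i.G :=
  formallyEtale_of_isEssentiallyEtale i.isEssentiallyEtale

theorem pt_eq_zero_iff (i : Nbhd A L) (x : i.G) : i.pt x = 0 ↔ x ∈ maximalIdeal i.G :=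
  locPt_eq_zero_iff A L i.Ring i.π x

/-- Pointed algebra maps between the local rings of two neighbourhoods are unique. -/
theorem algHom_eq_of_pt {i j : Nbhd A L} (φ₁ φ₂ : i.G →ₐ[A] j.G)
    (h₁ : j.pt.comp φ₁ = i.pt) (h₂ : j.pt.comp φ₂ = i.pt) : φ₁ = φ₂ := by
  apply algHom_eq_of_formallyUnramified_of_isLocalRing
  intro a
  rw [← pt_eq_zero_iff, map_sub, sub_eq_zero]
  have e1 := congrArg (fun f : i.G →ₐ[A] L => f a) h₁
  have e2 := congrArg (fun f : i.G →ₐ[A] L => f a) h₂
  simp only [AlgHom.comp_apply] at e1 e2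
  rw [e1, e2]

instance : Preorder (Nbhd A L) where
  le i j := ∃ φ : i.G →ₐ[A] j.G, j.pt.comp φ = i.pt
  le_refl i := ⟨AlgHom.id A _, AlgHom.comp_id _⟩
  le_trans _ _ _ := fun ⟨f, hf⟩ ⟨g, hg⟩ => ⟨g.comp f, by rw [← AlgHom.comp_assoc, hg, hf]⟩

/-- The transition maps. -/
noncomputable def trans (i j : Nbhd A L) (h : i ≤ j) : i.G →ₐ[A] j.G := h.choose

theorem pt_comp_trans (i j : Nbhd A L) (h : i ≤ j) : j.pt.comp (trans i j h) = i.pt :=
  h.choose_spec

theorem pt_trans (i j : Nbhd A L) (h : i ≤ j) (x : i.G) : j.pt (trans i j h x) = i.pt x :=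
  congrArg (fun f : i.G →ₐ[A] L => f x) (pt_comp_trans i j h)

theorem trans_eq {i j : Nbhd A L} (h : i ≤ j) (φ : i.G →ₐ[A] j.G) (hφ : j.pt.comp φ = i.pt) :
    trans i j h = φ :=
  algHom_eq_of_pt _ _ (pt_comp_trans i j h) hφ

/-- The transition maps as ring homomorphisms. -/
noncomputable def transR (i j : Nbhd A L) (h : i ≤ j) : i.G →+* j.G := (trans i j h).toRingHom

instance : DirectedSystem (fun i : Nbhd A L => i.G) (fun i j h => transR i j h) where
  map_self i x := by
    have : trans i i le_rfl = AlgHom.id A _ := trans_eq _ _ (AlgHom.comp_id _)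
    show trans i i le_rfl x = x
    rw [this]; rfl
  map_map k j i hij hjk x := by
    have : trans i k (hij.trans hjk) = (trans j k hjk).comp (trans i j hij) :=
      trans_eq _ _ (by rw [← AlgHom.comp_assoc, pt_comp_trans, pt_comp_trans])
    show trans j k hjk (trans i j hij x) = trans i k (hij.trans hjk) x
    rw [this]; rfl

/-- Every étale neighbourhood (in the same universe) is isomorphic to one in the skeleton. -/
theorem exists_equiv (C : Type u) [CommRing C] [Algebra A C] [Algebra.Etale A C]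
    (π : C →ₐ[A] L) :
    ∃ (i : Nbhd A L) (e : C ≃ₐ[A] i.Ring), i.π.comp (e : C →ₐ[A] i.Ring) = π := by
  obtain ⟨n, f, hf, -⟩ := (Algebra.FinitePresentation.out : ∃ n, ∃ f : MvPolynomial (Fin n) A →ₐ[A] C, _)
  let e : (MvPolynomial (Fin n) A ⧸ RingHom.ker f.toRingHom) ≃ₐ[A] C :=
    Ideal.quotientKerAlgEquivOfSurjective hf
  refine ⟨⟨n, RingHom.ker f.toRingHom, Algebra.Etale.of_equiv e.symm,
    π.comp (e : _ →ₐ[A] C)⟩, e.symm, ?_⟩
  ext c
  simp

/-- The local ring of any étale neighbourhood is isomorphic, compatibly with the points,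
to one in the skeleton. -/
theorem exists_loc_equiv (C : Type u) [CommRing C] [Algebra A C] [Algebra.Etale A C]
    (π : C →ₐ[A] L) : ∃ (i : Nbhd A L) (e : Loc A L C π ≃ₐ[A] i.G),
      i.pt.comp (e : Loc A L C π →ₐ[A] i.G) = locPt A L C π := by
  obtain ⟨i, e, he⟩ := exists_equiv C π
  exact ⟨i, locEquiv e he, locPt_comp_locEquiv e he⟩

instance : Nonempty (Nbhd A L) := by
  obtain ⟨i, -⟩ := exists_loc_equiv (A := A) (L := L) A (Algebra.ofId A L)
  exact ⟨i⟩

instance : IsDirectedOrder (Nbhd A L) where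
  directed i j := by
    haveI : Algebra.Etale A (i.Ring ⊗[A] j.Ring) := etale_tensorProduct A i.Ring j.Ring
    obtain ⟨k, e, he⟩ := exists_loc_equiv (i.Ring ⊗[A] j.Ring) (prodPi A L i.Ring i.π j.Ring j.π)
    refine ⟨k, ⟨?_, ?_⟩, ⟨?_, ?_⟩⟩
    · exact (e : _ →ₐ[A] k.G).comp
        (locMap (π' := prodPi A L i.Ring i.π j.Ring j.π) Algebra.TensorProduct.includeLeft
          (prodPi_comp_includeLeft A L i.Ring i.π j.Ring j.π))
    · rw [← AlgHom.comp_assoc, he, locPt_comp_locMap]
    · exact (e : _ →ₐ[A] k.G).comp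
        (locMap (π' := prodPi A L i.Ring i.π j.Ring j.π) Algebra.TensorProduct.includeRight
          (prodPi_comp_includeRight A L i.Ring i.π j.Ring j.π))
    · rw [← AlgHom.comp_assoc, he, locPt_comp_locMap]

end Nbhd

end Groth.Agent.Lib.Helper12.PtNbhd
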