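import Groth.Agent.Lib.Helper12.PtLimit
import Groth.Agent.Lib.Helper12.HenselZero
import Mathlib.RingTheory.Polynomial.ScaleRoots
import Mathlib.RingTheory.Localization.Integer
import Mathlib.Algebra.Polynomial.Lifts

set_option autoImplicit false
universe u

namespace Groth.Agent.Lib.Helper12.PtNbhd

open IsLocalRing TensorProduct Polynomial

variable {A : Type u} [CommRing A] [IsLocalRing A] {L : Type u} [Field L] [Algebra A L]
  [LocalPoint A L]

/-- Standard étale step: a monic polynomial over an étale neighbourhood `(C, π)` with a simple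
root at the point `π` acquires a root in a further étale neighbourhood. -/
theorem exists_nbhd_root (C : Type u) [CommRing C] [Algebra A C] [Algebra.Etale A C]
    (π : C →ₐ[A] L) (p : C[X]) (hp : p.Monic) (b₀ : L)
    (h0 : (p.map π.toRingHom).eval b₀ = 0) (h1 : (p.map π.toRingHom).derivative.eval b₀ ≠ 0) :
    ∃ (C' : Type u) (_ : CommRing C') (_ : Algebra A C') (_ : Algebra.Etale A C')
      (π' : C' →ₐ[A] L) (φ : C →ₐ[A] C') (_ : π'.comp φ = π) (y : C'),
      (p.map φ.toRingHom).eval y = 0 ∧ π' y = b₀ := by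
  let P : StandardEtalePair C := ⟨p, hp, derivative p, ⟨1, 0, 1, by simp⟩⟩
  letI : Algebra A P.Ring := ((algebraMap C P.Ring).comp (algebraMap A C)).toAlgebra
  haveI : IsScalarTower A C P.Ring := IsScalarTower.of_algebraMap_eq (fun _ => rfl)
  haveI : Algebra.Etale A P.Ring := Algebra.Etale.comp A C P.Ring
  letI : Algebra C L := π.toRingHom.toAlgebra
  haveI : IsScalarTower A C L :=
    IsScalarTower.of_algebraMap_eq (fun a => (π.commutes a).symm)
  have hmap : P.HasMap b₀ := by
    have e : ∀ q : C[X], aeval b₀ q = (q.map π.toRingHom).eval b₀ := by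
      intro q
      rw [aeval_def, eval_map]
      rfl
    refine ⟨?_, ?_⟩
    · rw [e]; exact h0
    · rw [e, ← derivative_map]; exact isUnit_iff_ne_zero.mpr h1
  let π'C : P.Ring →ₐ[C] L := P.lift b₀ hmap
  let π' : P.Ring →ₐ[A] L := π'C.restrictScalars A
  refine ⟨P.Ring, inferInstance, inferInstance, inferInstance, π',
    IsScalarTower.toAlgHom A C P.Ring, ?_, P.X, ?_, ?_⟩
  · ext c
    show π'C (algebraMap C P.Ring c) = π c
    rw [π'C.commutes]
    rfl
  · have := (StandardEtalePair.hasMap_X (P := P)).1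
    rw [← this]
    show eval P.X (p.map (algebraMap C P.Ring)) = _
    rw [eval_map_algebraMap]
  · show π'C P.X = b₀
    exact P.lift_X _ hmap

/-- Hensel's lemma at the root `0` holds after passing to a further étale neighbourhood. -/
theorem exists_nbhd_root_loc (C : Type u) [CommRing C] [Algebra A C] [Algebra.Etale A C]
    (π : C →ₐ[A] L) (p : (Loc A L C π)[X]) (hp : p.Monic)
    (h0 : p.coeff 0 ∈ maximalIdeal (Loc A L C π)) (h1 : IsUnit (p.coeff 1)) :
    ∃ (C' : Type u) (_ : CommRing C') (_ : Algebra A C') (_ : Algebra.Etale A C')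
      (π' : C' →ₐ[A] L) (φ : C →ₐ[A] C') (hφ : π'.comp φ = π) (a : Loc A L C' π'),
      a ∈ maximalIdeal (Loc A L C' π') ∧ (p.map (locMap φ hφ).toRingHom).eval a = 0 := by
  obtain ⟨s, hs⟩ := IsLocalization.exist_integer_multiples (RingHom.ker π).primeCompl
    (S := Loc A L C π) (Finset.range (p.natDegree + 1)) p.coeff
  have hσ : IsUnit (algebraMap C (Loc A L C π) s) := IsLocalization.map_units (Loc A L C π) s
  have hq : (scaleRoots p (algebraMap C (Loc A L C π) s)).Monic := (monic_scaleRoots_iff _).mpr hp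
  have hqlift : scaleRoots p (algebraMap C (Loc A L C π) s) ∈
      lifts (algebraMap C (Loc A L C π)) := by
    rw [lifts_iff_coeff_lifts]
    intro k
    rw [coeff_scaleRoots]
    rcases lt_trichotomy k p.natDegree with hk | hk | hk
    · obtain ⟨c, hc⟩ := hs k (by simp only [Finset.mem_range]; omega)
      refine ⟨c * s ^ (p.natDegree - k - 1), ?_⟩
      rw [map_mul, map_pow, hc, Algebra.smul_def]
      have : p.natDegree - k = (p.natDegree - k - 1) + 1 := by omega
      conv_rhs => rw [this, pow_succ]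
      ring
    · subst hk
      refine ⟨1, ?_⟩
      simp [hp.coeff_natDegree]
    · refine ⟨0, ?_⟩
      rw [coeff_eq_zero_of_natDegree_lt hk]
      simp
  obtain ⟨q, hqmap, -, hqm⟩ := lifts_and_natDegree_eq_and_monic hqlift hq
  have hcoeff : ∀ k, algebraMap C (Loc A L C π) (q.coeff k) =
      p.coeff k * algebraMap C (Loc A L C π) s ^ (p.natDegree - k) := by
    intro k
    rw [← coeff_map, hqmap, coeff_scaleRoots]
  have hc0 : π (q.coeff 0) = 0 := by
    rw [← algebraMap_mem_maximalIdeal_iff, hcoeff]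
    exact Ideal.mul_mem_right _ _ h0
  have hc1 : π (q.coeff 1) ≠ 0 := by
    rw [← isUnit_algebraMap_iff, hcoeff]
    exact h1.mul (hσ.pow _)
  obtain ⟨C', _, _, _, π', φ, hφ, y, hy, hπy⟩ := exists_nbhd_root C π q hqm 0
    (by rw [← coeff_zero_eq_eval_zero, coeff_map]; exact hc0)
    (by rw [← coeff_zero_eq_eval_zero, coeff_derivative, coeff_map]; simpa using hc1)
  refine ⟨C', inferInstance, inferInstance, inferInstance, π', φ, hφ, ?_⟩
  have hσ' : IsUnit (algebraMap C' (Loc A L C' π') (φ s)) := by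
    rw [← locMap_algebraMap φ hφ]
    exact hσ.map _
  have hy' : algebraMap C' (Loc A L C' π') y ∈ maximalIdeal (Loc A L C' π') := by
    rw [algebraMap_mem_maximalIdeal_iff, hπy]
  refine ⟨↑(hσ'.unit⁻¹) * algebraMap C' (Loc A L C' π') y, Ideal.mul_mem_left _ _ hy', ?_⟩
  have hne : (locMap φ hφ).toRingHom p.leadingCoeff ≠ 0 := by
    rw [hp.leadingCoeff, map_one]; exact one_ne_zero
  have e1 := map_scaleRoots p (algebraMap C (Loc A L C π) s) (locMap φ hφ).toRingHom hne
  have e2 : (scaleRoots p (algebraMap C (Loc A L C π) s)).map (locMap φ hφ).toRingHom =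
      (q.map φ.toRingHom).map (algebraMap C' (Loc A L C' π')) := by
    rw [← hqmap, Polynomial.map_map, Polynomial.map_map]
    congr 1
    ext c
    exact locMap_algebraMap φ hφ c
  have e3 : ((q.map φ.toRingHom).map (algebraMap C' (Loc A L C' π'))).eval
      (algebraMap C' (Loc A L C' π') y) = 0 := by
    rw [eval_map_apply, hy, map_zero]
  rw [← e2, e1] at e3
  have e4 : (locMap φ hφ).toRingHom (algebraMap C (Loc A L C π) s) =
      algebraMap C' (Loc A L C' π') (φ s) := locMap_algebraMap φ hφ s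
  rw [e4] at e3
  have e5 : algebraMap C' (Loc A L C' π') y =
      algebraMap C' (Loc A L C' π') (φ s) *
        (↑(hσ'.unit⁻¹) * algebraMap C' (Loc A L C' π') y) := by
    rw [← mul_assoc, IsUnit.mul_val_inv, one_mul]
  rw [e5, scaleRoots_eval_mul] at e3
  exact (hσ'.pow _).mul_right_eq_zero.mp e3

namespace Lim

variable (A L)

instance henselian : HenselianLocalRing (Lim A L) := by
  apply henselianLocalRing_of_root_zero
  intro p hp h0 h1
  obtain ⟨i, p₀, hp₀⟩ := Ring.DirectLimit.Polynomial.exists_of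
    (G := fun i : Nbhd A L => i.G) (f' := fun i j h => Nbhd.transR i j h) p
  have hlift : p ∈ lifts (of A L i) := ⟨p₀, hp₀⟩
  obtain ⟨pi, hpi, -, hpim⟩ := lifts_and_natDegree_eq_and_monic hlift hp
  have h0' : pi.coeff 0 ∈ maximalIdeal i.G := by
    rw [← of_mem_maximalIdeal_iff, ← coeff_map, hpi]
    exact h0
  have h1' : IsUnit (pi.coeff 1) := by
    apply (isLocalHom_of A L i).map_nonunit
    rw [← coeff_map, hpi]
    exact h1
  obtain ⟨C', _, _, _, π', φ, hφ, a, ha, hroot⟩ :=
    exists_nbhd_root_loc i.Ring i.π pi hpim h0' h1'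
  obtain ⟨j, e, he⟩ := Nbhd.exists_loc_equiv C' π'
  let ψ : i.G →ₐ[A] j.G := (e : _ →ₐ[A] j.G).comp (locMap φ hφ)
  have hψ : j.pt.comp ψ = i.pt := by
    rw [← AlgHom.comp_assoc, he, locPt_comp_locMap]
  refine ⟨of A L j (e a), ?_, ?_⟩
  · rw [of_mem_maximalIdeal_iff, mem_maximalIdeal, mem_nonunits_iff]
    intro h2
    have h3 : IsUnit (e.symm (e a)) := h2.map e.symm
    rw [e.symm_apply_apply] at h3
    exact ha h3
  · rw [IsRoot.def, ← hpi]
    have h4 : of A L i = (of A L j).comp ψ.toRingHom := by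
      ext x
      exact (of_algHom ψ hψ x).symm
    rw [h4, ← Polynomial.map_map, eval_map_apply]
    have h5 : pi.map ψ.toRingHom =
        (pi.map (locMap φ hφ).toRingHom).map (e : _ →ₐ[A] j.G).toRingHom := by
      rw [Polynomial.map_map]
      rfl
    have h6 : (pi.map ψ.toRingHom).eval (e a) = 0 := by
      rw [h5]
      have := eval_map_apply (p := pi.map (locMap φ hφ).toRingHom)
        (e : _ →ₐ[A] j.G).toRingHom a
      rw [hroot, map_zero] at this
      exact this
    rw [h6, map_zero]

end Lim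

end Groth.Agent.Lib.Helper12.PtNbhd
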