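import Groth.Agent.Lib.Helper12.PtCore
import Groth.Agent.Lib.Helper12.DirectLimitLocal
import Groth.Agent.Lib.Helper12.FlatDirected
import Mathlib.RingTheory.Smooth.Flat
import Mathlib.RingTheory.Flat.Localization
import Mathlib.RingTheory.Flat.Stability
import Mathlib.RingTheory.Flat.FaithfullyFlat.Algebra

set_option autoImplicit false
universe u

/-!
# The limit of the pointed étale neighbourhoods of `(A, L)`

For `L = κ(A)` this is the henselization, for `L` a separable closure of `κ(A)` the strict
henselization.
-/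

namespace Groth.Agent.Lib.Helper12.PtNbhd

open IsLocalRing TensorProduct

variable (A : Type u) [CommRing A] [IsLocalRing A] (L : Type u) [Field L] [Algebra A L]
  [LocalPoint A L]

/-- The limit of the local rings of the pointed étale neighbourhoods. -/
abbrev Lim : Type u :=
  Ring.DirectLimit (fun i : Nbhd A L => i.G) (fun i j h => Nbhd.transR i j h)

namespace Lim

/-- The canonical ring map from the local ring of a neighbourhood. -/
noncomputable abbrev of (i : Nbhd A L) : i.G →+* Lim A L :=
  Ring.DirectLimit.of (fun i : Nbhd A L => i.G) (fun i j h => Nbhd.transR i j h) i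

variable {A L}

theorem of_trans {i j : Nbhd A L} (h : i ≤ j) (x : i.G) :
    of A L j (Nbhd.trans i j h x) = of A L i x :=
  Ring.DirectLimit.of_f (G := fun i : Nbhd A L => i.G) (f := fun i j h => Nbhd.transR i j h) h x

theorem of_algHom {i j : Nbhd A L} (φ : i.G →ₐ[A] j.G) (hφ : j.pt.comp φ = i.pt) (x : i.G) :
    of A L j (φ x) = of A L i x := by
  rw [← Nbhd.trans_eq ⟨φ, hφ⟩ φ hφ, of_trans]

theorem of_algebraMap_eq (i j : Nbhd A L) (a : A) :
    of A L i (algebraMap A i.G a) = of A L j (algebraMap A j.G a) := by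
  obtain ⟨k, hik, hjk⟩ := exists_ge_ge i j
  rw [← of_trans hik, ← of_trans hjk, AlgHom.commutes, AlgHom.commutes]

variable (A L)

noncomputable instance algebra : Algebra A (Lim A L) :=
  ((of A L (Classical.arbitrary (Nbhd A L))).comp
    (algebraMap A (Classical.arbitrary (Nbhd A L)).G)).toAlgebra

variable {A L}

theorem algebraMap_eq (i : Nbhd A L) (a : A) :
    algebraMap A (Lim A L) a = of A L i (algebraMap A i.G a) :=
  of_algebraMap_eq _ i a

variable (A L)

/-- The canonical algebra map from the local ring of a neighbourhood. -/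
noncomputable def ofₐ (i : Nbhd A L) : i.G →ₐ[A] Lim A L :=
  { of A L i with commutes' := fun a => (algebraMap_eq i a).symm }

variable {A L}

@[simp] theorem ofₐ_apply (i : Nbhd A L) (x : i.G) : ofₐ A L i x = of A L i x := rfl

theorem transR_isLocalHom (i j : Nbhd A L) (h : i ≤ j) : IsLocalHom (Nbhd.transR i j h) :=
  isLocalHom_algHom_of_quasiFinite (Nbhd.trans i j h)

variable (A L)

instance isLocalRing : IsLocalRing (Lim A L) :=
  directLimit_isLocalRing (fun i : Nbhd A L => i.G) (fun i j h => Nbhd.transR i j h)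

instance isLocalHom_of (i : Nbhd A L) : IsLocalHom (of A L i) :=
  directLimit_isLocalHom_of (fun i : Nbhd A L => i.G) (fun i j h => Nbhd.transR i j h)
    transR_isLocalHom i

instance isLocalHom_algebraMap : IsLocalHom (algebraMap A (Lim A L)) := by
  have : algebraMap A (Lim A L) =
      (of A L (Classical.arbitrary (Nbhd A L))).comp
        (algebraMap A (Classical.arbitrary (Nbhd A L)).G) := rfl
  rw [this]
  exact RingHom.isLocalHom_comp _ _

variable {A L}

theorem exists_of (x : Lim A L) : ∃ (i : Nbhd A L) (a : i.G), of A L i a = x :=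
  Ring.DirectLimit.exists_of x

theorem of_mem_maximalIdeal_iff (i : Nbhd A L) (a : i.G) :
    of A L i a ∈ maximalIdeal (Lim A L) ↔ a ∈ maximalIdeal i.G := by
  rw [mem_maximalIdeal, mem_nonunits_iff, mem_maximalIdeal, mem_nonunits_iff, not_iff_not]
  exact ⟨fun h => (isLocalHom_of A L i).map_nonunit _ h, fun h => h.map _⟩

variable (A L)

/-- The point of the limit, as a ring homomorphism. -/
noncomputable def ptR : Lim A L →+* L :=
  Ring.DirectLimit.lift (fun i : Nbhd A L => i.G) (fun i j h => Nbhd.transR i j h) L
    (fun i => i.pt.toRingHom) (fun i j hij x => Nbhd.pt_trans i j hij x)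

variable {A L}

theorem ptR_of (i : Nbhd A L) (x : i.G) : ptR A L (of A L i x) = i.pt x :=
  Ring.DirectLimit.lift_of (G := fun i : Nbhd A L => i.G) (f := fun i j h => Nbhd.transR i j h) L
    (fun i : Nbhd A L => i.pt.toRingHom) (fun i j hij x => Nbhd.pt_trans i j hij x) i x

variable (A L)

/-- The point of the limit. -/
noncomputable def pt : Lim A L →ₐ[A] L :=
  { ptR A L with
    commutes' := fun a => by
      rw [algebraMap_eq (Classical.arbitrary (Nbhd A L)) a]
      show ptR A L (of A L _ _) = _
      rw [ptR_of]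
      exact (Nbhd.pt _).commutes a }

variable {A L}

@[simp] theorem pt_of (i : Nbhd A L) (x : i.G) : pt A L (of A L i x) = i.pt x :=
  ptR_of i x

theorem pt_eq_zero_iff (x : Lim A L) : pt A L x = 0 ↔ x ∈ maximalIdeal (Lim A L) := by
  obtain ⟨i, a, rfl⟩ := exists_of x
  rw [pt_of, Nbhd.pt_eq_zero_iff, of_mem_maximalIdeal_iff]

variable (A L)

instance _root_.Groth.Agent.Lib.Helper12.PtNbhd.Nbhd.flat_G (i : Nbhd A L) :
    Module.Flat A i.G :=
  Module.Flat.trans A i.Ring i.G

instance flat : Module.Flat A (Lim A L) :=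
  flat_of_directed_system (fun i : Nbhd A L => i.G) (fun i j h => Nbhd.trans i j h)
    (fun i => ofₐ A L i) (fun _ _ h x => of_trans h x) (fun x => exists_of x)
    (fun i a ha => by
      obtain ⟨j, hij, hj⟩ := Ring.DirectLimit.of.zero_exact
        (G := fun i : Nbhd A L => i.G) (f' := fun i j h => Nbhd.transR i j h) ha
      exact ⟨j, hij, hj⟩)

instance faithfullyFlat : Module.FaithfullyFlat A (Lim A L) :=
  Module.FaithfullyFlat.of_flat_of_isLocalHom

end Lim

end Groth.Agent.Lib.Helper12.PtNbhd
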