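import Groth.Agent.Lib.Helper12.EssEtale3
import Mathlib.RingTheory.Localization.AtPrime.Basic
import Mathlib.RingTheory.LocalRing.ResidueField.Ideal
import Mathlib.RingTheory.Etale.StandardEtale

set_option autoImplicit false
universe u

/-!
# Étale neighbourhoods of a local ring with a point in a field `L`

`L` is a field with an `A`-algebra structure whose kernel is the maximal ideal of `A`.
A pair `(C, π)` of an `A`-algebra `C` and an `A`-algebra map `π : C → L` determines the local
ring `Loc A L C π = C_{ker π}` with its point `locPt : Loc A L C π → L`.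
-/

namespace Groth.Agent.Lib.Helper12.PtNbhd

open IsLocalRing TensorProduct Polynomial

/-- The `A`-algebra `L` is a field extension of the residue field of `A`. -/
class LocalPoint (A : Type*) [CommRing A] [IsLocalRing A] (L : Type*) [Field L] [Algebra A L] :
    Prop where
  ker_algebraMap : RingHom.ker (algebraMap A L) = maximalIdeal A

section
variable (A : Type u) [CommRing A] [IsLocalRing A] (L : Type u) [Field L] [Algebra A L]
  [LocalPoint A L]
variable (C : Type u) [CommRing C] [Algebra A C] (π : C →ₐ[A] L)

instance ker_isPrime : (RingHom.ker π).IsPrime := RingHom.ker_isPrime π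

theorem comap_ker : (RingHom.ker π).comap (algebraMap A C) = maximalIdeal A := by
  rw [← LocalPoint.ker_algebraMap (A := A) (L := L)]
  ext a
  rw [Ideal.mem_comap, RingHom.mem_ker, π.commutes, RingHom.mem_ker]

/-- The local ring of the étale neighbourhood `(C, π)`. -/
abbrev Loc : Type u := Localization.AtPrime (RingHom.ker π)

instance isLocalHom_algebraMap_loc : IsLocalHom (algebraMap A (Loc A L C π)) := by
  refine ((local_hom_TFAE _).out 4 0).mp ?_
  rw [IsScalarTower.algebraMap_eq A C (Loc A L C π), ← Ideal.comap_comap]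
  have := IsLocalization.AtPrime.under_maximalIdeal (Loc A L C π) (RingHom.ker π)
  rw [Ideal.under] at this
  rw [this, comap_ker]

/-- The point of the local ring. -/
noncomputable def locPt : Loc A L C π →ₐ[A] L :=
  IsLocalization.liftAlgHom (M := (RingHom.ker π).primeCompl) (f := π) (by
    rintro ⟨y, hy⟩
    exact isUnit_iff_ne_zero.mpr (fun h => hy (RingHom.mem_ker.mpr h)))

@[simp] theorem locPt_algebraMap (c : C) : locPt A L C π (algebraMap C (Loc A L C π) c) = π c := by
  unfold locPt
  exact IsLocalization.lift_eq _ c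

theorem isEssentiallyEtale [Algebra.Etale A C] : EGA4loc.IsEssentiallyEtale A (Loc A L C π) :=
  ⟨C, inferInstance, inferInstance, RingHom.ker π, inferInstance, inferInstance,
    comap_ker A L C π, ⟨AlgEquiv.refl⟩⟩

instance [Algebra.Etale A C] : Algebra.QuasiFinite A (Loc A L C π) :=
  quasiFinite_of_isEssentiallyEtale (isEssentiallyEtale A L C π)

theorem algebraMap_mem_maximalIdeal_iff (c : C) :
    algebraMap C (Loc A L C π) c ∈ maximalIdeal (Loc A L C π) ↔ π c = 0 := by
  rw [IsLocalization.AtPrime.to_map_mem_maximal_iff (Loc A L C π) (RingHom.ker π), RingHom.mem_ker]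

theorem isUnit_algebraMap_iff (c : C) :
    IsUnit (algebraMap C (Loc A L C π) c) ↔ π c ≠ 0 := by
  rw [← not_iff_not, not_not, ← algebraMap_mem_maximalIdeal_iff, mem_maximalIdeal, mem_nonunits_iff]

theorem locPt_eq_zero_iff (x : Loc A L C π) : locPt A L C π x = 0 ↔ x ∈ maximalIdeal _ := by
  obtain ⟨c, s, rfl⟩ := IsLocalization.exists_mk'_eq (RingHom.ker π).primeCompl x
  have hs : IsUnit (algebraMap C (Loc A L C π) s) := IsLocalization.map_units _ s
  have h1 : IsLocalization.mk' (Loc A L C π) c s * algebraMap C (Loc A L C π) s =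
      algebraMap C (Loc A L C π) c := IsLocalization.mk'_spec _ c s
  have h2 : locPt A L C π (IsLocalization.mk' (Loc A L C π) c s) * π s = π c := by
    rw [← locPt_algebraMap A L C π s, ← map_mul, h1, locPt_algebraMap]
  have hπs : π s ≠ 0 := fun h => s.2 (RingHom.mem_ker.mpr h)
  constructor
  · intro h0
    rw [h0, zero_mul] at h2
    have : algebraMap C (Loc A L C π) c ∈ maximalIdeal (Loc A L C π) :=
      (algebraMap_mem_maximalIdeal_iff A L C π c).mpr h2.symm
    rw [← h1] at this
    exact ((Ideal.IsPrime.mem_or_mem inferInstance this).resolve_right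
      (fun h => h hs))
  · intro hx
    have : algebraMap C (Loc A L C π) c ∈ maximalIdeal (Loc A L C π) := by
      rw [← h1]; exact Ideal.mul_mem_right _ _ hx
    rw [algebraMap_mem_maximalIdeal_iff] at this
    rw [this] at h2
    exact (mul_eq_zero.mp h2).resolve_right hπs

end

section
variable {A : Type u} [CommRing A] [IsLocalRing A] {L : Type u} [Field L] [Algebra A L]
  [LocalPoint A L]
variable {C : Type u} [CommRing C] [Algebra A C] {π : C →ₐ[A] L}
variable {C' : Type u} [CommRing C'] [Algebra A C'] {π' : C' →ₐ[A] L}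

/-- A map of étale neighbourhoods induces a map of their local rings. -/
noncomputable def locMap (φ : C →ₐ[A] C') (h : π'.comp φ = π) : Loc A L C π →ₐ[A] Loc A L C' π' :=
  Localization.localAlgHom (RingHom.ker π) (RingHom.ker π') φ (by
    ext c
    rw [Ideal.mem_comap, RingHom.mem_ker, RingHom.mem_ker, ← h]
    rfl)

theorem locMap_algebraMap (φ : C →ₐ[A] C') (h : π'.comp φ = π) (c : C) :
    locMap φ h (algebraMap C (Loc A L C π) c) = algebraMap C' (Loc A L C' π') (φ c) := by
  unfold locMap
  rw [Localization.localAlgHom_apply, Localization.localRingHom_to_map]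
  rfl

theorem locPt_comp_locMap (φ : C →ₐ[A] C') (h : π'.comp φ = π) :
    (locPt A L C' π').comp (locMap φ h) = locPt A L C π := by
  apply AlgHom.coe_ringHom_injective
  apply IsLocalization.ringHom_ext (RingHom.ker π).primeCompl
  ext c
  simp only [RingHom.comp_apply, AlgHom.coe_toRingHom, AlgHom.comp_apply]
  rw [locMap_algebraMap, locPt_algebraMap, locPt_algebraMap, ← h]
  rfl

/-- An isomorphism of neighbourhoods induces an isomorphism of local rings. -/
noncomputable def locEquiv (e : C ≃ₐ[A] C') (h : π'.comp (e : C →ₐ[A] C') = π) :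
    Loc A L C π ≃ₐ[A] Loc A L C' π' :=
  Localization.localAlgEquiv (RingHom.ker π) (RingHom.ker π') e (by
    ext c
    rw [Ideal.mem_comap, RingHom.mem_ker, RingHom.mem_ker, ← h]
    rfl)

theorem locEquiv_algebraMap (e : C ≃ₐ[A] C') (h : π'.comp (e : C →ₐ[A] C') = π) (c : C) :
    locEquiv e h (algebraMap C (Loc A L C π) c) = algebraMap C' (Loc A L C' π') (e c) := by
  unfold locEquiv
  simp [Localization.localAlgEquiv_apply, Localization.localRingHom_to_map]

theorem locPt_comp_locEquiv (e : C ≃ₐ[A] C') (h : π'.comp (e : C →ₐ[A] C') = π) :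
    (locPt A L C' π').comp (locEquiv e h : Loc A L C π →ₐ[A] Loc A L C' π') = locPt A L C π := by
  apply AlgHom.coe_ringHom_injective
  apply IsLocalization.ringHom_ext (RingHom.ker π).primeCompl
  ext c
  simp only [RingHom.comp_apply, AlgHom.coe_toRingHom, AlgHom.comp_apply]
  have : (locEquiv e h : Loc A L C π →ₐ[A] Loc A L C' π') (algebraMap C (Loc A L C π) c) =
      algebraMap C' (Loc A L C' π') (e c) := locEquiv_algebraMap e h c
  rw [this, locPt_algebraMap, locPt_algebraMap, ← h]
  rfl

end

section Prod
variable (A : Type u) [CommRing A] [IsLocalRing A] (L : Type u) [Field L] [Algebra A L]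
variable (C₁ : Type u) [CommRing C₁] [Algebra A C₁] (π₁ : C₁ →ₐ[A] L)
variable (C₂ : Type u) [CommRing C₂] [Algebra A C₂] (π₂ : C₂ →ₐ[A] L)

/-- The point of the product neighbourhood. -/
noncomputable def prodPi : C₁ ⊗[A] C₂ →ₐ[A] L :=
  Algebra.TensorProduct.lift π₁ π₂ (fun _ _ => Commute.all _ _)

theorem prodPi_comp_includeLeft :
    (prodPi A L C₁ π₁ C₂ π₂).comp Algebra.TensorProduct.includeLeft = π₁ := by
  ext c
  simp [prodPi]

theorem prodPi_comp_includeRight :
    (prodPi A L C₁ π₁ C₂ π₂).comp Algebra.TensorProduct.includeRight = π₂ := by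
  ext c
  simp [prodPi]

theorem etale_tensorProduct [Algebra.Etale A C₁] [Algebra.Etale A C₂] :
    Algebra.Etale A (C₁ ⊗[A] C₂) :=
  Algebra.Etale.comp A C₁ (C₁ ⊗[A] C₂)

end Prod

end Groth.Agent.Lib.Helper12.PtNbhd
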