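import Groth.Prelude.Def_W4c5quivmodgenus0Quiv
import Mathlib

set_option autoImplicit false
universe u v
open PtQuiv

namespace Groth.Agent.Lib.Helper12.PtQuivAB

variable {K : Type u} [Field K] {κ : Type v} [Fintype κ] [DecidableEq κ] {a b : κ}

/-- the embedding of the complement of `{a,b}` -/
abbrev emb (a b : κ) : {i : κ // i ≠ a ∧ i ≠ b} ↪ κ := Function.Embedding.subtype _

lemma sum_map_emb (θ : κ → ℚ) (I' : Finset {i : κ // i ≠ a ∧ i ≠ b}) :
    ∑ i ∈ I', θ i.1 = ∑ i ∈ I'.map (emb a b), θ i := by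
  rw [Finset.sum_map]; rfl

lemma a_notMem (I' : Finset {i : κ // i ≠ a ∧ i ≠ b}) : a ∉ I'.map (emb a b) := by
  intro h
  obtain ⟨i, -, hi⟩ := Finset.mem_map.mp h
  exact i.2.1 hi

lemma b_notMem (I' : Finset {i : κ // i ≠ a ∧ i ≠ b}) : b ∉ I'.map (emb a b) := by
  intro h
  obtain ⟨i, -, hi⟩ := Finset.mem_map.mp h
  exact i.2.2 hi

lemma sum_split (θ : κ → ℚ) (hab : a ≠ b) (I : Finset κ) :
    ∑ i ∈ I, θ i = (if a ∈ I then θ a else 0) + (if b ∈ I then θ b else 0) +
      ∑ i ∈ I.subtype (fun i => i ≠ a ∧ i ≠ b), θ i.1 := by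
  rw [Finset.sum_subtype_eq_sum_filter (f := θ), Finset.sum_filter,
    ← Finset.sum_ite_eq' I a (fun _ => θ a), ← Finset.sum_ite_eq' I b (fun _ => θ b),
    ← Finset.sum_add_distrib, ← Finset.sum_add_distrib]
  refine Finset.sum_congr rfl (fun i _ => ?_)
  by_cases h1 : i = a
  · subst h1; simp [hab]
  · by_cases h2 : i = b
    · subst h2; simp [h1]
    · simp [h1, h2]

lemma sum_univ' (θ : κ → ℚ) (hab : a ≠ b) (h2 : ∑ i, θ i = 2) :
    ∑ i : {i : κ // i ≠ a ∧ i ≠ b}, θ i.1 = 2 - θ a - θ b := by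
  have := sum_split θ hab Finset.univ
  simp only [Finset.mem_univ, if_true, Finset.subtype_univ] at this
  linarith

lemma sum_le_univ' (θ : κ → ℚ) (h0 : ∀ i, 0 ≤ θ i) (hab : a ≠ b) (h2 : ∑ i, θ i = 2)
    (I' : Finset {i : κ // i ≠ a ∧ i ≠ b}) :
    ∑ i ∈ I', θ i.1 ≤ 2 - θ a - θ b := by
  rw [← sum_univ' θ hab h2]
  exact Finset.sum_le_sum_of_subset_of_nonneg (Finset.subset_univ _) (fun i _ _ => h0 i.1)

lemma finrank_bot_ne_top : (⊥ : Submodule K (Fin 2 → K)) ≠ ⊤ := by
  intro h
  have := congrArg (fun L : Submodule K (Fin 2 → K) => Module.finrank K L) h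
  simp at this

lemma PWt_eq (θ : κ → ℚ) (c : ℚ) (U : Fin 2 → Submodule K K)
    (I' : Finset {i : κ // i ≠ a ∧ i ≠ b}) :
    PWt K ![c * (θ a - 1), c * (θ b - 1)] (fun i : {i : κ // i ≠ a ∧ i ≠ b} => c * θ i.1) U I'
      = c * ((θ a - 1) * (Module.finrank K (U 0) : ℚ) + (θ b - 1) * (Module.finrank K (U 1) : ℚ)
        + ∑ i ∈ I', θ i.1) := by
  unfold PWt
  rw [Fin.sum_univ_two, ← Finset.mul_sum]
  simp only [Matrix.cons_val_zero, Matrix.cons_val_one]
  ring

theorem P2Q (hab : a ≠ b) (s : κ → (Fin 2 → K)) (θ : κ → ℚ)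
    (hLI : LinearIndependent K ![s a, s b])
    (t : {i : κ // i ≠ a ∧ i ≠ b} → (Fin 2 → K)) (ht : ∀ i, s i.1 = t i 0 • s a + t i 1 • s b)
    (c : ℚ) (U : Fin 2 → Submodule K K) (I' : Finset {i : κ // i ≠ a ∧ i ≠ b})
    (hsub : PSubrep t U I') :
    ∃ (L : Submodule K (Fin 2 → K)) (I : Finset κ), QSubrep s L I ∧
      PWt K ![c * (θ a - 1), c * (θ b - 1)] (fun i : {i : κ // i ≠ a ∧ i ≠ b} => c * θ i.1) U I'
        = c * QWt K (-1) θ L I ∧
      ((L = ⊥ ∧ I = ∅) → (U = ⊥ ∧ I' = ∅)) ∧
      ((L = ⊤ ∧ I = Finset.univ) → (U = ⊤ ∧ I' = Finset.univ)) := by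
  have hsa : s a ≠ 0 := by simpa using hLI.ne_zero 0
  have hsb : s b ≠ 0 := by simpa using hLI.ne_zero 1
  rw [PWt_eq, sum_map_emb θ I']
  have hna := a_notMem I'
  have hnb := b_notMem I'
  have hf1 : ∀ v : Fin 2 → K, v ≠ 0 → (K ∙ v) ≠ ⊥ ∧ (K ∙ v) ≠ ⊤ := by
    intro v hv
    have := finrank_span_singleton (K := K) hv
    constructor
    · intro h; rw [h] at this; simp at this
    · intro h; rw [h] at this; simp at this
  rcases Ideal.eq_bot_or_top (U 0) with h0 | h0 <;> rcases Ideal.eq_bot_or_top (U 1) with h1 | h1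
  · refine ⟨⊥, I'.map (emb a b), ?_, ?_, ?_, ?_⟩
    · intro i hi
      obtain ⟨j, hj, rfl⟩ := Finset.mem_map.mp hi
      have e0 := hsub j hj 0
      have e1 := hsub j hj 1
      rw [h0] at e0; rw [h1] at e1
      rw [Submodule.mem_bot] at e0 e1
      show s j.1 ∈ (⊥ : Submodule K (Fin 2 → K))
      rw [ht j, e0, e1]; simp
    · rw [h0, h1]
      unfold QWt
      rw [finrank_bot, finrank_bot]
      push_cast
      ring
    · rintro ⟨-, hI⟩
      refine ⟨funext (fun j => ?_), Finset.map_eq_empty.mp hI⟩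
      fin_cases j
      exacts [h0, h1]
    · rintro ⟨hL, -⟩
      exact absurd hL finrank_bot_ne_top
  · refine ⟨K ∙ s b, insert b (I'.map (emb a b)), ?_, ?_, ?_, ?_⟩
    · intro i hi
      rcases Finset.mem_insert.mp hi with rfl | hi
      · exact Submodule.mem_span_singleton_self _
      · obtain ⟨j, hj, rfl⟩ := Finset.mem_map.mp hi
        have e0 := hsub j hj 0
        rw [h0, Submodule.mem_bot] at e0
        show s j.1 ∈ K ∙ s b
        rw [ht j, e0]; simp
        exact Submodule.smul_mem _ _ (Submodule.mem_span_singleton_self _)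
    · rw [h0, h1]
      unfold QWt
      rw [Finset.sum_insert hnb, finrank_span_singleton hsb, finrank_bot, finrank_top,
        Module.finrank_self]
      push_cast
      ring
    · rintro ⟨hL, -⟩
      exact absurd hL (hf1 _ hsb).1
    · rintro ⟨hL, -⟩
      exact absurd hL (hf1 _ hsb).2
  · refine ⟨K ∙ s a, insert a (I'.map (emb a b)), ?_, ?_, ?_, ?_⟩
    · intro i hi
      rcases Finset.mem_insert.mp hi with rfl | hi
      · exact Submodule.mem_span_singleton_self _
      · obtain ⟨j, hj, rfl⟩ := Finset.mem_map.mp hi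
        have e1 := hsub j hj 1
        rw [h1, Submodule.mem_bot] at e1
        show s j.1 ∈ K ∙ s a
        rw [ht j, e1]; simp
        exact Submodule.smul_mem _ _ (Submodule.mem_span_singleton_self _)
    · rw [h0, h1]
      unfold QWt
      rw [Finset.sum_insert hna, finrank_span_singleton hsa, finrank_bot, finrank_top,
        Module.finrank_self]
      push_cast
      ring
    · rintro ⟨hL, -⟩
      exact absurd hL (hf1 _ hsa).1
    · rintro ⟨hL, -⟩
      exact absurd hL (hf1 _ hsa).2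
  · refine ⟨⊤, insert a (insert b (I'.map (emb a b))), ?_, ?_, ?_, ?_⟩
    · intro i _; exact Submodule.mem_top
    · have hna' : a ∉ insert b (I'.map (emb a b)) := by
        simp only [Finset.mem_insert, not_or]; exact ⟨hab, hna⟩
      rw [h0, h1]
      unfold QWt
      rw [Finset.sum_insert hna', Finset.sum_insert hnb, finrank_top, finrank_top,
        Module.finrank_self, Module.finrank_fin_fun]
      push_cast
      ring
    · rintro ⟨hL, -⟩
      exact absurd hL.symm finrank_bot_ne_top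
    · rintro ⟨-, hI⟩
      refine ⟨funext (fun j => ?_), ?_⟩
      · fin_cases j
        exacts [h0, h1]
      · rw [Finset.eq_univ_iff_forall]
        intro i
        have := Finset.mem_univ i.1
        rw [← hI] at this
        rcases Finset.mem_insert.mp this with h | this
        · exact absurd h i.2.1
        · rcases Finset.mem_insert.mp this with h | this
          · exact absurd h i.2.2
          · obtain ⟨j, hj, hji⟩ := Finset.mem_map.mp this
            have : j = i := Subtype.ext hji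
            rwa [← this]

theorem Q2P (hab : a ≠ b) (s : κ → (Fin 2 → K)) (θ : κ → ℚ) (h0 : ∀ i, 0 ≤ θ i)
    (h1 : ∀ i, θ i ≤ 1) (h2 : ∑ i, θ i = 2) (hθ : 1 < θ a + θ b)
    (hLI : LinearIndependent K ![s a, s b])
    (t : {i : κ // i ≠ a ∧ i ≠ b} → (Fin 2 → K)) (ht : ∀ i, s i.1 = t i 0 • s a + t i 1 • s b)
    (c : ℚ) (hc : 0 ≤ c) (L : Submodule K (Fin 2 → K)) (I : Finset κ) (hsub : QSubrep s L I) :
    QWt K (-1) θ L I < 0 ∨
    ∃ (U : Fin 2 → Submodule K K) (I' : Finset {i : κ // i ≠ a ∧ i ≠ b}), PSubrep t U I' ∧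
      c * QWt K (-1) θ L I ≤
        PWt K ![c * (θ a - 1), c * (θ b - 1)] (fun i : {i : κ // i ≠ a ∧ i ≠ b} => c * θ i.1)
          U I' ∧
      ((U = ⊥ ∧ I' = ∅) → (L = ⊥ ∧ I = ∅)) ∧
      ((U = ⊤ ∧ I' = Finset.univ) → (L = ⊤ ∧ I = Finset.univ)) := by
  have hsa : s a ≠ 0 := by simpa using hLI.ne_zero 0
  have hsb : s b ≠ 0 := by simpa using hLI.ne_zero 1
  have hpair := LinearIndependent.pair_iff.mp hLI
  have hnotboth : s a ∈ L → s b ∈ L → 2 ≤ Module.finrank K L := by
    intro ha hb
    have hle : Submodule.span K (Set.range ![s a, s b]) ≤ L := by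
      rw [Submodule.span_le]; rintro _ ⟨j, rfl⟩; fin_cases j; exacts [ha, hb]
    have := Submodule.finrank_mono hle
    rw [finrank_span_eq_card hLI] at this
    simpa using this
  have hsplit := sum_split θ hab I
  have hbound := sum_le_univ' θ h0 hab h2 (I.subtype (fun i => i ≠ a ∧ i ≠ b))
  have hmemI' : ∀ i : {i : κ // i ≠ a ∧ i ≠ b},
      i ∈ I.subtype (fun i => i ≠ a ∧ i ≠ b) ↔ i.1 ∈ I := fun i => Finset.mem_subtype
  have hsumnn : 0 ≤ ∑ i ∈ I.subtype (fun i => i ≠ a ∧ i ≠ b), θ i.1 :=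
    Finset.sum_nonneg (fun i _ => h0 i.1)
  have hfr : Module.finrank K L ≤ 2 := by simpa using Submodule.finrank_le L
  have hθa : 0 < θ a := by linarith [h1 b]
  have hθb : 0 < θ b := by linarith [h1 a]
  have hbt : (⊥ : Submodule K K) ≠ ⊤ := bot_ne_top
  simp only [PWt_eq]
  unfold QWt
  rcases Nat.lt_or_ge (Module.finrank K L) 1 with hf | hf
  · -- finrank = 0
    have hL : L = ⊥ := Submodule.finrank_eq_zero.mp (by omega)
    subst hL
    have haI : a ∉ I := fun h => hsa (by simpa using hsub a h)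
    have hbI : b ∉ I := fun h => hsb (by simpa using hsub b h)
    rw [if_neg haI, if_neg hbI] at hsplit
    right
    refine ⟨⊥, I.subtype (fun i => i ≠ a ∧ i ≠ b), ?_, ?_, ?_, ?_⟩
    · intro i hi j
      have := hsub i.1 ((hmemI' i).mp hi)
      rw [Submodule.mem_bot, ht i] at this
      obtain ⟨e0, e1⟩ := hpair _ _ this
      fin_cases j
      · simpa using e0
      · simpa using e1
    · apply mul_le_mul_of_nonneg_left _ hc
      rw [Pi.bot_apply, Pi.bot_apply, finrank_bot, finrank_bot, hsplit]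
      push_cast
      linarith
    · rintro ⟨-, hI⟩
      refine ⟨rfl, ?_⟩
      rw [Finset.eq_empty_iff_forall_notMem] at hI ⊢
      intro i hi
      have hia : i ≠ a := fun h => haI (h ▸ hi)
      have hib : i ≠ b := fun h => hbI (h ▸ hi)
      exact hI ⟨i, hia, hib⟩ ((hmemI' _).mpr hi)
    · rintro ⟨hU, -⟩
      exact absurd (congrFun hU 0) hbt
  rcases Nat.lt_or_ge (Module.finrank K L) 2 with hf2 | hf2
  · -- finrank = 1
    have hf1 : Module.finrank K L = 1 := by omega
    by_cases ha : s a ∈ L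
    · have hb : s b ∉ L := fun hb => by have := hnotboth ha hb; omega
      have hbI : b ∉ I := fun h => hb (hsub b h)
      rw [if_neg hbI] at hsplit
      right
      refine ⟨![⊤, ⊥], I.subtype (fun i => i ≠ a ∧ i ≠ b), ?_, ?_, ?_, ?_⟩
      · intro i hi j
        have hiL := hsub i.1 ((hmemI' i).mp hi)
        fin_cases j
        · exact Submodule.mem_top
        · show t i 1 ∈ (⊥ : Submodule K K)
          rw [Submodule.mem_bot]
          by_contra hne
          apply hb
          have : s b = (t i 1)⁻¹ • (s i.1 - t i 0 • s a) := by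
            rw [ht i, add_sub_cancel_left, smul_smul, inv_mul_cancel₀ hne, one_smul]
          rw [this]
          exact Submodule.smul_mem _ _ (Submodule.sub_mem _ hiL (Submodule.smul_mem _ _ ha))
      · apply mul_le_mul_of_nonneg_left _ hc
        have e0 : Module.finrank K ((![⊤, ⊥] : Fin 2 → Submodule K K) 0) = 1 := by
          show Module.finrank K (⊤ : Submodule K K) = 1
          rw [finrank_top, Module.finrank_self]
        have e1 : Module.finrank K ((![⊤, ⊥] : Fin 2 → Submodule K K) 1) = 0 := by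
          show Module.finrank K (⊥ : Submodule K K) = 0
          rw [finrank_bot]
        rw [e0, e1, hsplit, hf1]
        push_cast
        split_ifs <;> linarith
      · rintro ⟨hU, -⟩
        exact absurd (congrFun hU 0).symm hbt
      · rintro ⟨hU, -⟩
        exact absurd (congrFun hU 1) hbt
    · by_cases hb : s b ∈ L
      · have haI : a ∉ I := fun h => ha (hsub a h)
        rw [if_neg haI] at hsplit
        right
        refine ⟨![⊥, ⊤], I.subtype (fun i => i ≠ a ∧ i ≠ b), ?_, ?_, ?_, ?_⟩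
        · intro i hi j
          have hiL := hsub i.1 ((hmemI' i).mp hi)
          fin_cases j
          · show t i 0 ∈ (⊥ : Submodule K K)
            rw [Submodule.mem_bot]
            by_contra hne
            apply ha
            have : s a = (t i 0)⁻¹ • (s i.1 - t i 1 • s b) := by
              rw [ht i, add_sub_cancel_right, smul_smul, inv_mul_cancel₀ hne, one_smul]
            rw [this]
            exact Submodule.smul_mem _ _ (Submodule.sub_mem _ hiL (Submodule.smul_mem _ _ hb))
          · exact Submodule.mem_top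
        · apply mul_le_mul_of_nonneg_left _ hc
          have e0 : Module.finrank K ((![⊥, ⊤] : Fin 2 → Submodule K K) 0) = 0 := by
            show Module.finrank K (⊥ : Submodule K K) = 0
            rw [finrank_bot]
          have e1 : Module.finrank K ((![⊥, ⊤] : Fin 2 → Submodule K K) 1) = 1 := by
            show Module.finrank K (⊤ : Submodule K K) = 1
            rw [finrank_top, Module.finrank_self]
          rw [e0, e1, hsplit, hf1]
          push_cast
          split_ifs <;> linarith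
        · rintro ⟨hU, -⟩
          exact absurd (congrFun hU 1).symm hbt
        · rintro ⟨hU, -⟩
          exact absurd (congrFun hU 0) hbt
      · have haI : a ∉ I := fun h => ha (hsub a h)
        have hbI : b ∉ I := fun h => hb (hsub b h)
        rw [if_neg haI, if_neg hbI] at hsplit
        left
        rw [hsplit, hf1]
        push_cast
        linarith
  · -- finrank = 2
    have hf2' : Module.finrank K L = 2 := by omega
    have hL : L = ⊤ := Submodule.eq_top_of_finrank_eq (by simpa using hf2')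
    by_cases hmem : a ∈ I ∧ b ∈ I
    · rw [if_pos hmem.1, if_pos hmem.2] at hsplit
      right
      refine ⟨⊤, I.subtype (fun i => i ≠ a ∧ i ≠ b), ?_, ?_, ?_, ?_⟩
      · intro i _ j; exact Submodule.mem_top
      · apply mul_le_mul_of_nonneg_left _ hc
        rw [Pi.top_apply, Pi.top_apply, finrank_top, Module.finrank_self, hsplit, hf2']
        push_cast
        linarith
      · rintro ⟨hU, -⟩
        exact absurd (congrFun hU 0).symm hbt
      · rintro ⟨-, hI⟩
        refine ⟨hL, ?_⟩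
        rw [Finset.eq_univ_iff_forall] at hI ⊢
        intro i
        by_cases hia : i = a
        · rw [hia]; exact hmem.1
        by_cases hib : i = b
        · rw [hib]; exact hmem.2
        exact (hmemI' ⟨i, hia, hib⟩).mp (hI _)
    · left
      rw [hsplit, hf2']
      push_cast
      rw [not_and_or] at hmem
      rcases hmem with h | h
      · rw [if_neg h]
        split_ifs <;> linarith
      · rw [if_neg h]
        split_ifs <;> linarith

theorem linInd_of_semistable (hab : a ≠ b) (s : κ → (Fin 2 → K)) (θ : κ → ℚ)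
    (hθ : 1 < θ a + θ b)
    (hss : ∀ (L : Submodule K (Fin 2 → K)) (I : Finset κ), QSubrep s L I → QWt K (-1) θ L I ≤ 0) :
    LinearIndependent K ![s a, s b] := by
  by_contra hLI
  have hcard := (linearIndependent_iff_card_eq_finrank_span (b := ![s a, s b])).not.mp hLI
  have hle : (Set.range ![s a, s b]).finrank K ≤ 2 := by
    simpa using finrank_range_le_card (R := K) ![s a, s b]
  have h1' : (Set.range ![s a, s b]).finrank K ≤ 1 := by
    simp only [Fintype.card_fin] at hcard; omega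
  have := hss (Submodule.span K (Set.range ![s a, s b])) {a, b} (by
    intro i hi
    simp only [Finset.mem_insert, Finset.mem_singleton] at hi
    rcases hi with rfl | rfl
    · exact Submodule.subset_span ⟨0, rfl⟩
    · exact Submodule.subset_span ⟨1, rfl⟩)
  unfold QWt at this
  rw [Finset.sum_pair hab] at this
  have h3 : (Module.finrank K (Submodule.span K (Set.range ![s a, s b])) : ℚ) ≤ 1 := by
    exact_mod_cast h1'
  linarith

theorem exists_t (s : κ → (Fin 2 → K)) (hLI : LinearIndependent K ![s a, s b]) :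
    ∃ t : {i : κ // i ≠ a ∧ i ≠ b} → (Fin 2 → K), ∀ i, s i.1 = t i 0 • s a + t i 1 • s b := by
  let bs : Module.Basis (Fin 2) K (Fin 2 → K) :=
    basisOfLinearIndependentOfCardEqFinrank hLI (by simp)
  refine ⟨fun i j => bs.repr (s i.1) j, fun i => ?_⟩
  have := bs.sum_repr (s i.1)
  rw [Fin.sum_univ_two] at this
  simpa [bs] using this.symm

theorem semistable_iff (hab : a ≠ b) (s : κ → (Fin 2 → K))
    (θ : κ → ℚ) (h0 : ∀ i, 0 ≤ θ i) (h1 : ∀ i, θ i ≤ 1) (h2 : ∑ i, θ i = 2)
    (hθ : 1 < θ a + θ b) (hθ' : θ a + θ b < 2) :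
    PtQuiv.QSemistable (-1) θ s ↔
      (LinearIndependent K ![s a, s b] ∧
        ∀ t : {i : κ // i ≠ a ∧ i ≠ b} → (Fin 2 → K),
          (∀ i, s i.1 = t i 0 • s a + t i 1 • s b) →
            PtQuiv.PSemistable ![(2 - θ a - θ b)⁻¹ * (θ a - 1), (2 - θ a - θ b)⁻¹ * (θ b - 1)]
              (fun i : {i : κ // i ≠ a ∧ i ≠ b} => (2 - θ a - θ b)⁻¹ * θ i.1) t) := by
  have hc : 0 < (2 - θ a - θ b)⁻¹ := inv_pos.mpr (by linarith)
  constructor
  · rintro ⟨-, hss⟩
    have hLI := linInd_of_semistable hab s θ hθ hss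
    refine ⟨hLI, fun t ht => ⟨?_, fun U I' hP => ?_⟩⟩
    · rw [Fin.sum_univ_two, ← Finset.mul_sum, sum_univ' θ hab h2]
      simp only [Matrix.cons_val_zero, Matrix.cons_val_one]
      ring
    · obtain ⟨L, I, hQ, heq, -, -⟩ := P2Q hab s θ hLI t ht (2 - θ a - θ b)⁻¹ U I' hP
      rw [heq]
      exact mul_nonpos_of_nonneg_of_nonpos hc.le (hss L I hQ)
  · rintro ⟨hLI, hP⟩
    obtain ⟨t, ht⟩ := exists_t s hLI
    obtain ⟨-, hPss⟩ := hP t ht
    refine ⟨by rw [h2]; norm_num, fun L I hQ => ?_⟩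
    rcases Q2P hab s θ h0 h1 h2 hθ hLI t ht (2 - θ a - θ b)⁻¹ hc.le L I hQ with
      h | ⟨U, I', hPs, hle, -, -⟩
    · exact h.le
    · have := hPss U I' hPs
      by_contra hpos
      rw [not_le] at hpos
      have := mul_pos hc hpos
      linarith

theorem stable_iff (hab : a ≠ b) (s : κ → (Fin 2 → K))
    (θ : κ → ℚ) (h0 : ∀ i, 0 ≤ θ i) (h1 : ∀ i, θ i ≤ 1) (h2 : ∑ i, θ i = 2)
    (hθ : 1 < θ a + θ b) (hθ' : θ a + θ b < 2) :
    PtQuiv.QStable (-1) θ s ↔
      (LinearIndependent K ![s a, s b] ∧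
        ∀ t : {i : κ // i ≠ a ∧ i ≠ b} → (Fin 2 → K),
          (∀ i, s i.1 = t i 0 • s a + t i 1 • s b) →
            PtQuiv.PStable ![(2 - θ a - θ b)⁻¹ * (θ a - 1), (2 - θ a - θ b)⁻¹ * (θ b - 1)]
              (fun i : {i : κ // i ≠ a ∧ i ≠ b} => (2 - θ a - θ b)⁻¹ * θ i.1) t) := by
  have hc : 0 < (2 - θ a - θ b)⁻¹ := inv_pos.mpr (by linarith)
  have hss_iff := semistable_iff hab s θ h0 h1 h2 hθ hθ'
  constructor
  · rintro ⟨hQss, hQst⟩
    obtain ⟨hLI, hPss⟩ := hss_iff.mp hQss
    refine ⟨hLI, fun t ht => ⟨hPss t ht, fun U I' hP hw0 => ?_⟩⟩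
    obtain ⟨L, I, hQ, heq, hbot, htop⟩ := P2Q hab s θ hLI t ht (2 - θ a - θ b)⁻¹ U I' hP
    rw [heq] at hw0
    have hw0' : QWt K (-1) θ L I = 0 := by
      rcases mul_eq_zero.mp hw0 with h | h
      · exact absurd h hc.ne'
      · exact h
    rcases hQst L I hQ hw0' with h | h
    · exact Or.inl (hbot h)
    · exact Or.inr (htop h)
  · rintro ⟨hLI, hP⟩
    have hQss : QSemistable (-1) θ s := hss_iff.mpr ⟨hLI, fun t ht => (hP t ht).1⟩
    refine ⟨hQss, fun L I hQ hw0 => ?_⟩
    obtain ⟨t, ht⟩ := exists_t s hLI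
    obtain ⟨⟨-, hPss⟩, hPst⟩ := hP t ht
    rcases Q2P hab s θ h0 h1 h2 hθ hLI t ht (2 - θ a - θ b)⁻¹ hc.le L I hQ with
      h | ⟨U, I', hPs, hle, hbot, htop⟩
    · rw [hw0] at h; exact absurd h (lt_irrefl _)
    · rw [hw0, mul_zero] at hle
      have hz := le_antisymm (hPss U I' hPs) hle
      rcases hPst U I' hPs hz with h | h
      · exact Or.inl (hbot h)
      · exact Or.inr (htop h)

end Groth.Agent.Lib.Helper12.PtQuivAB
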