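import Groth.Agent.Lib.Helper12.PtHens
import Groth.Agent.Lib.Helper12.EssEtaleLift

set_option autoImplicit false
universe u

namespace Groth.Agent.Lib.Helper12.PtNbhd

open IsLocalRing TensorProduct

variable {A : Type u} [CommRing A] [IsLocalRing A] {L : Type u} [Field L] [Algebra A L]
  [LocalPoint A L]

namespace Lim

section
variable (T : Type u) [CommRing T] [HenselianLocalRing T] [Algebra A T]
  [IsLocalHom (algebraMap A T)]
  (τ : ResidueField (Lim A L) →+* ResidueField T)
  (hτ : ∀ a : A, τ (residue _ (algebraMap A (Lim A L) a)) = residue T (algebraMap A T a))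

/-- The residue map prescribed on the local ring of a neighbourhood. -/
noncomputable def resMap (i : Nbhd A L) : ResidueField i.G →+* ResidueField T :=
  τ.comp (ResidueField.map (of A L i))

include hτ in
theorem resMap_algebraMap (i : Nbhd A L) (a : A) :
    resMap T τ i (residue i.G (algebraMap A i.G a)) = residue T (algebraMap A T a) := by
  rw [resMap, RingHom.comp_apply, ResidueField.map_residue, ← algebraMap_eq i a, hτ]

include hτ in
theorem existsUnique_toT (i : Nbhd A L) :
    ∃! ψ : i.G →ₐ[A] T, ∀ x : i.G, residue T (ψ x) = resMap T τ i (residue i.G x) :=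
  existsUnique_algHom_of_isEssentiallyEtale A i.G i.isEssentiallyEtale T (resMap T τ i)
    (resMap_algebraMap T τ hτ i)

/-- The map from the local ring of a neighbourhood inducing the prescribed residue map. -/
noncomputable def toT (i : Nbhd A L) : i.G →ₐ[A] T := (existsUnique_toT T τ hτ i).choose

theorem residue_toT (i : Nbhd A L) (x : i.G) :
    residue T (toT T τ hτ i x) = resMap T τ i (residue i.G x) :=
  (existsUnique_toT T τ hτ i).choose_spec.1 x

theorem toT_unique (i : Nbhd A L) (ψ : i.G →ₐ[A] T)
    (h : ∀ x : i.G, residue T (ψ x) = resMap T τ i (residue i.G x)) : ψ = toT T τ hτ i :=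
  (existsUnique_toT T τ hτ i).choose_spec.2 ψ h

theorem toT_trans {i j : Nbhd A L} (h : i ≤ j) (x : i.G) :
    toT T τ hτ j (Nbhd.trans i j h x) = toT T τ hτ i x := by
  have : (toT T τ hτ j).comp (Nbhd.trans i j h) = toT T τ hτ i := by
    apply toT_unique
    intro y
    rw [AlgHom.comp_apply, residue_toT, resMap, resMap, RingHom.comp_apply, RingHom.comp_apply,
      ResidueField.map_residue, ResidueField.map_residue, of_trans]
  exact congrArg (fun f : i.G →ₐ[A] T => f x) this

/-- The ring map from the limit inducing the prescribed residue map. -/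
noncomputable def liftR : Lim A L →+* T :=
  Ring.DirectLimit.lift (fun i : Nbhd A L => i.G) (fun i j h => Nbhd.transR i j h) T
    (fun i => (toT T τ hτ i).toRingHom) (fun _ _ hij x => toT_trans T τ hτ hij x)

theorem liftR_of (i : Nbhd A L) (x : i.G) : liftR T τ hτ (of A L i x) = toT T τ hτ i x :=
  Ring.DirectLimit.lift_of (G := fun i : Nbhd A L => i.G)
    (f := fun i j h => Nbhd.transR i j h) T
    (fun i : Nbhd A L => (toT T τ hτ i).toRingHom) (fun _ _ hij x => toT_trans T τ hτ hij x) i x

/-- The algebra map from the limit inducing the prescribed residue map. -/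
noncomputable def liftRes : Lim A L →ₐ[A] T :=
  { liftR T τ hτ with
    commutes' := fun a => by
      rw [algebraMap_eq (Classical.arbitrary (Nbhd A L)) a]
      show liftR T τ hτ (of A L _ _) = _
      rw [liftR_of]
      exact (toT T τ hτ _).commutes a }

theorem liftRes_of (i : Nbhd A L) (x : i.G) : liftRes T τ hτ (of A L i x) = toT T τ hτ i x :=
  liftR_of T τ hτ i x

theorem residue_liftRes (x : Lim A L) :
    residue T (liftRes T τ hτ x) = τ (residue _ x) := by
  obtain ⟨i, a, rfl⟩ := exists_of x
  rw [liftRes_of, residue_toT, resMap, RingHom.comp_apply, ResidueField.map_residue]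

theorem liftRes_unique (g : Lim A L →ₐ[A] T) (hg : ∀ x, residue T (g x) = τ (residue _ x)) :
    g = liftRes T τ hτ := by
  apply AlgHom.coe_ringHom_injective
  apply Ring.DirectLimit.hom_ext
  intro i
  have : g.comp (ofₐ A L i) = toT T τ hτ i := by
    apply toT_unique
    intro x
    rw [AlgHom.comp_apply, ofₐ_apply, hg, resMap, RingHom.comp_apply, ResidueField.map_residue]
  ext x
  have h1 := congrArg (fun f : i.G →ₐ[A] T => f x) this
  simp only [AlgHom.comp_apply, ofₐ_apply] at h1
  show g (of A L i x) = liftRes T τ hτ (of A L i x)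
  rw [h1, liftRes_of]

end

end Lim

end Groth.Agent.Lib.Helper12.PtNbhd
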