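import Mathlib

/-!
# `f^* O = O` for morphisms of ringed sites whose set-valued sheaf pullback preserves the terminal object
-/

open CategoryTheory Limits Opposite

namespace Groth.Agent.Lib.Helper12.PullUnit

universe u v₁ v₂ u₁ u₂

section Types

variable {C : Type u₁} [Category.{v₁} C] {D : Type u₂} [Category.{v₂} D]

/-- homs from the terminal sheaf are sections -/
def homToSections (K : GrothendieckTopology D) (P : Sheaf K (Type u))
    (s : Sheaf.terminal K Types.isTerminalPUnit ⟶ P) :
    P.obj.sections :=
  ⟨fun X => s.hom.app X PUnit.unit, fun {X Y} f => by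
    have := ConcreteCategory.congr_hom (s.hom.naturality f) PUnit.unit
    exact this.symm⟩

def sectionsToHom (K : GrothendieckTopology D) (P : Sheaf K (Type u)) (σ : P.obj.sections) :
    Sheaf.terminal K Types.isTerminalPUnit ⟶ P :=
  ⟨{ app := fun X => TypeCat.ofHom (fun _ => σ.1 X)
     naturality := fun X Y f => by
      ext x
      exact (σ.2 f).symm }⟩

theorem bijective_sectionsPrecomp (J : GrothendieckTopology C) (K : GrothendieckTopology D)
    (F : C ⥤ D) [F.IsContinuous J K]
    [(F.sheafPushforwardContinuous (Type u) J K).IsRightAdjoint]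
    [PreservesFiniteLimits (F.sheafPullback (Type u) J K)] (P : Sheaf K (Type u)) :
    Function.Bijective (F.op.sectionsPrecomp (P := P.obj)) := by
  let TJ := Sheaf.terminal J (Types.isTerminalPUnit.{u})
  let TK := Sheaf.terminal K (Types.isTerminalPUnit.{u})
  have hTJ : IsTerminal TJ := Sheaf.isTerminalTerminal J _
  have hTK : IsTerminal TK := Sheaf.isTerminalTerminal K _
  let L := F.sheafPullback (Type u) J K
  let G := F.sheafPushforwardContinuous (Type u) J K
  let adj : L ⊣ G := F.sheafAdjunctionContinuous (Type u) J K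
  have hL : IsTerminal (L.obj TJ) := IsTerminal.isTerminalObj L TJ hTJ
  let t : L.obj TJ ≅ TK := hL.uniqueUpToIso hTK
  have hG : IsTerminal (G.obj TK) := IsTerminal.isTerminalObj G TK hTK
  -- Φ : (TK ⟶ P) → (TJ ⟶ G P)
  let Φ : (TK ⟶ P) → (TJ ⟶ G.obj P) := fun s => hG.from TJ ≫ G.map s
  have hΦ : Function.Bijective Φ := by
    have h1 : Φ = fun s => adj.homEquiv TJ P (t.hom ≫ s) := by
      funext s
      rw [Adjunction.homEquiv_unit, G.map_comp, ← Category.assoc]
      congr 1
    rw [h1]
    exact (adj.homEquiv TJ P).bijective.comp (Iso.homFromEquiv t.symm).bijective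
  have key : ∀ (s : TK ⟶ P) (X : Cᵒᵖ),
      (Φ s).hom.app X PUnit.unit = s.hom.app (F.op.obj X) PUnit.unit := by
    intro s X
    rfl
  constructor
  · intro σ σ' h
    have h2 : Φ (sectionsToHom K P σ) = Φ (sectionsToHom K P σ') := by
      ext X x
      cases x
      have e1 := key (sectionsToHom K P σ) X
      have e2 := key (sectionsToHom K P σ') X
      exact e1.trans ((congr_fun (congr_arg Subtype.val h) X).trans e2.symm)
    have h3 := hΦ.1 h2
    ext Y
    have := ConcreteCategory.congr_hom (congr_app (congr_arg (fun f => f.hom) h3) Y) PUnit.unit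
    exact this
  · intro τ
    let h : TJ ⟶ G.obj P :=
      ⟨{ app := fun X => TypeCat.ofHom (fun _ => τ.1 X)
         naturality := fun X Y f => by
          ext x
          exact (τ.2 f).symm }⟩
    obtain ⟨s, hs⟩ := hΦ.2 h
    refine ⟨homToSections K P s, ?_⟩
    ext X
    have := ConcreteCategory.congr_hom (congr_app (congr_arg (fun f => f.hom) hs) X) PUnit.unit
    rw [key] at this
    exact this

end Types

section Modules

open SheafOfModules

variable {C : Type u} [SmallCategory C] {D : Type u} [SmallCategory D]
  {J : GrothendieckTopology C} {K : GrothendieckTopology D} {F : C ⥤ D}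
  {S : Sheaf J RingCat.{u}} {R : Sheaf K RingCat.{u}}
  [Functor.IsContinuous F J K]
  (φ : S ⟶ (F.sheafPushforwardContinuous RingCat.{u} J K).obj R)
  [(F.sheafPushforwardContinuous (Type u) J K).IsRightAdjoint]
  [PreservesFiniteLimits (F.sheafPullback (Type u) J K)]

theorem bijective_pushforwardSections (M : SheafOfModules.{u} R) :
    Function.Bijective (SheafOfModules.pushforwardSections φ (M := M)) :=
  bijective_sectionsPrecomp J K F
    ((sheafCompose K (forget AddCommGrpCat)).obj ⟨M.val.presheaf, M.isSheaf⟩)

variable [(pushforward.{u} φ).IsRightAdjoint]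

theorem isIso_pullbackObjUnitToUnit : IsIso (pullbackObjUnitToUnit φ) := by
  rw [isIso_iff_coyoneda_map_bijective]
  intro M
  rw [← ((pullbackPushforwardAdjunction.{u} φ).homEquiv _ _).bijective.of_comp_iff',
    ← (unitHomEquiv _).bijective.of_comp_iff']
  convert! (bijective_pushforwardSections φ M).comp (unitHomEquiv _).bijective
  ext f : 1
  dsimp
  rw [pushforwardSections_unitHomEquiv, EmbeddingLike.apply_eq_iff_eq,
    Adjunction.homEquiv_naturality_right,
    pullbackPushforwardAdjunction_homEquiv_pullbackObjUnitToUnit]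

end Modules

end Groth.Agent.Lib.Helper12.PullUnit
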