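import Mathlib
import Groth.Prelude.Def_Found
import Groth.Prelude.Def_EGA4b
import Groth.Agent.Lib.Helper12.AUnB
import Groth.Agent.Lib.Helper12.ComplIntClosure
import Groth.Agent.Lib.Helper22.CplDescent
import Groth.Agent.Lib.Helper5.RegHomBC
import Groth.Agent.Lib.Helper5.RegHomIso
import Groth.Agent.Lib.Helper5.RegHomSmooth

/-!
# Regularity of the completion map passes to finite local algebras

If `R` is a Noetherian local ring with `R → R̂` regular and `S` is a finite local `R`-algebra,
then `S → Ŝ` is regular.
-/

set_option autoImplicit false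
set_option linter.style.haveILetI false
universe u

namespace Groth.Agent.Lib.Helper12.QFReg

open TensorProduct IsLocalRing

variable (R S : Type u) [CommRing R] [IsLocalRing R] [IsNoetherianRing R] [CommRing S]
  [IsLocalRing S] [Algebra R S] [Module.Finite R S]

/-- every maximal ideal of `R̂ ⊗[R] S` is generated by the maximal ideal of `S` -/
theorem eq_map_of_isMaximal
    (n : Ideal (AdicCompletion (maximalIdeal R) R ⊗[R] S)) (hn : n.IsMaximal) :
    n.comap (Algebra.TensorProduct.includeRight (R := R)
      (A := AdicCompletion (maximalIdeal R) R) (B := S)).toRingHom = maximalIdeal S ∧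
    n = (maximalIdeal S).map (Algebra.TensorProduct.includeRight (R := R)
      (A := AdicCompletion (maximalIdeal R) R) (B := S)).toRingHom := by
  haveI := hn
  obtain ⟨hmap, hres⟩ := AUn.baseChange_key (S := S) (AUn.FormalLike.cpl R) n
  set φ : S →+* AdicCompletion (maximalIdeal R) R ⊗[R] S :=
    (Algebra.TensorProduct.includeRight (R := R)
      (A := AdicCompletion (maximalIdeal R) R) (B := S)).toRingHom with hφ
  have hP : n.comap φ = maximalIdeal S := by
    haveI : (n.comap φ).IsPrime := Ideal.comap_isPrime _ _
    apply le_antisymm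
    · exact le_maximalIdeal (Ideal.IsPrime.ne_top inferInstance)
    · intro s hs
      by_contra hsP
      have hφs : φ s ∉ n := hsP
      obtain ⟨y, i, hi, hyi⟩ := hn.exists_inv hφs
      have hy : y * φ s - 1 ∈ n := by
        have : y * φ s - 1 = -i := by rw [← hyi]; ring
        rw [this]
        exact Ideal.neg_mem_iff _ |>.mpr hi
      obtain ⟨s', hs'⟩ := hres y
      have h1 : φ (s' * s - 1) ∈ n := by
        have : φ (s' * s - 1) = (y * φ s - 1) - (y - φ s') * φ s := by
          rw [map_sub, map_mul, map_one]; ring
        rw [this]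
        exact Ideal.sub_mem _ hy (Ideal.mul_mem_right _ _ hs')
      have h2 : s' * s - 1 ∈ maximalIdeal S :=
        le_maximalIdeal (Ideal.IsPrime.ne_top inferInstance) (show s' * s - 1 ∈ n.comap φ from h1)
      have h3 : s' * s ∈ maximalIdeal S := Ideal.mul_mem_left _ _ hs
      have h4 : (1 : S) ∈ maximalIdeal S := by
        have := Ideal.sub_mem _ h3 h2
        rwa [sub_sub_cancel] at this
      exact (Ideal.ne_top_iff_one _).mp (maximalIdeal.isMaximal S).ne_top h4
  refine ⟨hP, ?_⟩
  rw [← hP]
  exact hmap.symm

instance nontrivial_tensor : Nontrivial (AdicCompletion (maximalIdeal R) R ⊗[R] S) := by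
  haveI : Module.FaithfullyFlat R (AdicCompletion (maximalIdeal R) R) :=
    AnUnram.faithfullyFlat_cpl R
  infer_instance

theorem isLocalRing_tensor : IsLocalRing (AdicCompletion (maximalIdeal R) R ⊗[R] S) := by
  obtain ⟨n, hn⟩ := Ideal.exists_maximal (AdicCompletion (maximalIdeal R) R ⊗[R] S)
  refine IsLocalRing.of_unique_max_ideal ⟨n, hn, fun n' hn' => ?_⟩
  rw [(eq_map_of_isMaximal R S n hn).2, (eq_map_of_isMaximal R S n' hn').2]

theorem maximalIdeal_tensor [IsLocalRing (AdicCompletion (maximalIdeal R) R ⊗[R] S)] :
    (maximalIdeal (AdicCompletion (maximalIdeal R) R ⊗[R] S)).comap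
      (Algebra.TensorProduct.includeRight (R := R)
      (A := AdicCompletion (maximalIdeal R) R) (B := S)).toRingHom = maximalIdeal S :=
  (eq_map_of_isMaximal R S _ (maximalIdeal.isMaximal _)).1

end Groth.Agent.Lib.Helper12.QFReg
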