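import Mathlib
import Groth.Agent.Lib.Helper12.QFRegA

/-!
# Regularity of the completion map passes to finite local algebras (part B)
-/

set_option autoImplicit false
set_option linter.style.haveILetI false
universe u

namespace Groth.Agent.Lib.Helper12.QFReg

open TensorProduct IsLocalRing

/-- a complete Noetherian local ring has regular completion map (it is bijective) -/
theorem isRegularHom_cpl_of_isAdicComplete (W : Type u) [CommRing W] [IsLocalRing W]
    [IsNoetherianRing W] [IsAdicComplete (maximalIdeal W) W] :
    CAlg.IsRegularHom W (AdicCompletion (maximalIdeal W) W) := by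
  haveI : Algebra.FormallySmooth W (AdicCompletion (maximalIdeal W) W) :=
    Algebra.FormallySmooth.of_equiv (AdicCompletion.ofAlgEquiv (maximalIdeal W))
  haveI : IsNoetherianRing (AdicCompletion (maximalIdeal W) W) := inferInstance
  exact Groth.Agent.Lib.Helper5.RegHomSmooth.isRegularHom_of_formallySmooth W _

attribute [local instance] Algebra.TensorProduct.rightAlgebra

variable (R S : Type u) [CommRing R] [IsLocalRing R] [IsNoetherianRing R] [CommRing S]
  [IsLocalRing S] [Algebra R S] [Module.Finite R S]

theorem isRegularHom_cpl_of_finite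
    (h : CAlg.IsRegularHom R (AdicCompletion (maximalIdeal R) R)) :
    CAlg.IsRegularHom S (AdicCompletion (maximalIdeal S) S) := by
  haveI : IsNoetherianRing S := IsNoetherianRing.of_finite R S
  haveI hloc : IsLocalRing (AdicCompletion (maximalIdeal R) R ⊗[R] S) := isLocalRing_tensor R S
  haveI : IsNoetherianRing (AdicCompletion (maximalIdeal R) R) := inferInstance
  haveI hN : IsNoetherianRing (AdicCompletion (maximalIdeal R) R ⊗[R] S) :=
    IsNoetherianRing.of_finite (AdicCompletion (maximalIdeal R) R) _
  haveI : IsAdicComplete (maximalIdeal (AdicCompletion (maximalIdeal R) R))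
      (AdicCompletion (maximalIdeal R) R) := inferInstance
  haveI hcomp : IsAdicComplete (maximalIdeal (AdicCompletion (maximalIdeal R) R ⊗[R] S))
      (AdicCompletion (maximalIdeal R) R ⊗[R] S) :=
    ComplIntClosure.isAdicComplete_of_finite_local (AdicCompletion (maximalIdeal R) R) _
  have h1 : CAlg.IsRegularHom S (S ⊗[R] AdicCompletion (maximalIdeal R) R) :=
    Groth.Agent.Lib.Helper5.RegHom.isRegularHom_baseChange R _ S h
  let e : S ⊗[R] AdicCompletion (maximalIdeal R) R ≃ₐ[S]
      AdicCompletion (maximalIdeal R) R ⊗[R] S :=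
    AlgEquiv.ofRingEquiv (f := (Algebra.TensorProduct.comm R S
      (AdicCompletion (maximalIdeal R) R)).toRingEquiv) (fun s => by
        rw [Algebra.TensorProduct.algebraMap_apply]
        rfl)
  have h2 : CAlg.IsRegularHom S (AdicCompletion (maximalIdeal R) R ⊗[R] S) :=
    Groth.Agent.Lib.Helper5.RegHom.isRegularHom_of_algEquiv S _ _ e h1
  haveI : IsLocalHom (algebraMap S (AdicCompletion (maximalIdeal R) R ⊗[R] S)) := by
    refine ((IsLocalRing.local_hom_TFAE
      (algebraMap S (AdicCompletion (maximalIdeal R) R ⊗[R] S))).out 0 4).mpr ?_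
    exact maximalIdeal_tensor R S
  exact Groth.Agent.Lib.Helper22.CplDescent.isRegularHom_cpl S
    (AdicCompletion (maximalIdeal R) R ⊗[R] S) h2
    (isRegularHom_cpl_of_isAdicComplete _)

end Groth.Agent.Lib.Helper12.QFReg
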