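import Mathlib
import Groth.Agent.Lib.Helper12.QFRegB
import Groth.Agent.Lib.Helper12.HensRegD
import Groth.Agent.Lib.Helper12.HensQFMap
import Groth.Agent.Lib.Helper12.HenselizationUniv

/-!
# Quasi-finite transfer of regularity of the completion map (S9289)
-/

set_option autoImplicit false
set_option linter.style.haveILetI false
universe u

namespace Groth.Agent.Lib.Helper12.QFReg

open TensorProduct IsLocalRing

theorem isRegularHom_completion_localization_of_quasiFiniteAt (R R' : Type u) [CommRing R]
    [CommRing R'] [IsNoetherianRing R] [IsNoetherianRing R'] [Algebra R R'] [Algebra.FiniteType R R']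
    (p' : Ideal R') [p'.IsPrime] [Algebra.QuasiFiniteAt R p']
    (h : CAlg.IsRegularHom (Localization.AtPrime (Ideal.comap (algebraMap R R') p'))
      (AdicCompletion (IsLocalRing.maximalIdeal (Localization.AtPrime (Ideal.comap (algebraMap R R') p')))
        (Localization.AtPrime (Ideal.comap (algebraMap R R') p')))) :
    CAlg.IsRegularHom (Localization.AtPrime p')
      (AdicCompletion (IsLocalRing.maximalIdeal (Localization.AtPrime p')) (Localization.AtPrime p')) := by
  set p : Ideal R := Ideal.comap (algebraMap R R') p' with hp
  haveI : p'.LiesOver p := ⟨rfl⟩
  letI algAB : Algebra (Localization.AtPrime p) (Localization.AtPrime p') :=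
    Localization.AtPrime.algebraOfLiesOver p p'
  haveI : IsScalarTower R (Localization.AtPrime p) (Localization.AtPrime p') := inferInstance
  haveI hlocAB : IsLocalHom (algebraMap (Localization.AtPrime p) (Localization.AtPrime p')) :=
    HensQFMap.isLocalHom_of_liesOver R R' p p'
  -- henselizations
  letI algABh : Algebra (Localization.AtPrime p) (Henselization (Localization.AtPrime p')) :=
    ((algebraMap (Localization.AtPrime p') (Henselization (Localization.AtPrime p'))).comp
      (algebraMap (Localization.AtPrime p) (Localization.AtPrime p'))).toAlgebra
  haveI : IsScalarTower (Localization.AtPrime p) (Localization.AtPrime p')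
      (Henselization (Localization.AtPrime p')) := .of_algebraMap_eq (fun _ => rfl)
  haveI : IsLocalHom (algebraMap (Localization.AtPrime p)
      (Henselization (Localization.AtPrime p'))) := by
    show IsLocalHom ((algebraMap (Localization.AtPrime p')
      (Henselization (Localization.AtPrime p'))).comp
      (algebraMap (Localization.AtPrime p) (Localization.AtPrime p')))
    infer_instance
  letI algAhBh : Algebra (Henselization (Localization.AtPrime p))
      (Henselization (Localization.AtPrime p')) :=
    (Henselization.lift (Localization.AtPrime p)
      (Henselization (Localization.AtPrime p'))).toRingHom.toAlgebra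
  haveI : IsScalarTower (Localization.AtPrime p) (Henselization (Localization.AtPrime p))
      (Henselization (Localization.AtPrime p')) := .of_algebraMap_eq (fun a =>
    ((Henselization.lift (Localization.AtPrime p)
      (Henselization (Localization.AtPrime p'))).commutes a).symm)
  haveI hfin : Module.Finite (Henselization (Localization.AtPrime p))
      (Henselization (Localization.AtPrime p')) :=
    HensQFMap.finite_of_quasiFiniteAt R R' p p' _ _
  haveI : IsNoetherianRing (Localization.AtPrime p) := inferInstance
  haveI : IsNoetherianRing (Localization.AtPrime p') := inferInstance
  haveI : IsNoetherianRing (Henselization (Localization.AtPrime p)) :=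
    HensFibre.isNoetherianRing_of_isHenselization (Localization.AtPrime p) _
  have h1 : CAlg.IsRegularHom (Henselization (Localization.AtPrime p))
      (AdicCompletion (maximalIdeal (Henselization (Localization.AtPrime p)))
        (Henselization (Localization.AtPrime p))) :=
    HensReg.isRegularHom_henselization_cpl (Localization.AtPrime p) _ h
  have h2 : CAlg.IsRegularHom (Henselization (Localization.AtPrime p'))
      (AdicCompletion (maximalIdeal (Henselization (Localization.AtPrime p')))
        (Henselization (Localization.AtPrime p'))) :=
    isRegularHom_cpl_of_finite (Henselization (Localization.AtPrime p))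
      (Henselization (Localization.AtPrime p')) h1
  exact HensReg.isRegularHom_cpl_of_henselization (Localization.AtPrime p') _ h2

end Groth.Agent.Lib.Helper12.QFReg
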