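import Mathlib.RingTheory.ZariskisMainTheorem
import Mathlib.Topology.NoetherianSpace
import Mathlib.Topology.DiscreteSubset

set_option autoImplicit false
universe u

namespace Groth.Agent.Lib.Helper12

/-- Quasi-finiteness at a prime of the quotient by an idempotent lifts to the ring. -/
theorem quasiFiniteAt_of_quotient_idem {R S : Type*} [CommRing R] [CommRing S] [Algebra R S]
    (e : S) (he : IsIdempotentElem e) (q : Ideal (S ⧸ Ideal.span {e})) [q.IsPrime]
    [Algebra.QuasiFiniteAt R q] (q' : Ideal S) [q'.IsPrime]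
    (hq' : q' = Ideal.comap (Ideal.Quotient.mk (Ideal.span {e})) q) :
    Algebra.QuasiFiniteAt R q' := by
  let A := Localization.AtPrime q'
  have hmem' : ∀ y : S, Ideal.Quotient.mk (Ideal.span {e}) y ∈ q → y ∈ q' := fun y hy => by
    rw [hq']
    exact hy
  have heq' : e ∈ q' := by
    rw [hq', Ideal.mem_comap, Ideal.Quotient.eq_zero_iff_mem.mpr (Ideal.mem_span_singleton_self e)]
    exact q.zero_mem
  have h1e : (1 - e) ∉ q' := fun h => by
    have : (1 : S) ∈ q' := by simpa using q'.add_mem heq' h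
    exact (Ideal.IsPrime.ne_top ‹_›) ((Ideal.eq_top_iff_one _).mpr this)
  have he0 : algebraMap S A e = 0 := by
    have hu : IsUnit (algebraMap S A (1 - e)) :=
      IsLocalization.map_units A (⟨1 - e, h1e⟩ : q'.primeCompl)
    have : algebraMap S A e * algebraMap S A (1 - e) = 0 := by
      rw [← map_mul, mul_sub, mul_one, he.eq, sub_self, map_zero]
    exact (hu.mul_left_eq_zero).mp this
  let g : (S ⧸ Ideal.span {e}) →ₐ[R] A :=
    Ideal.Quotient.liftₐ (Ideal.span {e}) (IsScalarTower.toAlgHom R S A) (by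
      intro x hx
      obtain ⟨c, rfl⟩ := Ideal.mem_span_singleton'.mp hx
      simp [he0])
  have hgmk : ∀ x : S, g (Ideal.Quotient.mk _ x) = algebraMap S A x := fun x => rfl
  have hg : ∀ y : q.primeCompl, IsUnit (g y) := by
    rintro ⟨y, hy⟩
    obtain ⟨x, rfl⟩ := Ideal.Quotient.mk_surjective y
    rw [hgmk]
    refine IsLocalization.map_units A (⟨x, ?_⟩ : q'.primeCompl)
    intro hx
    apply hy
    rw [hq'] at hx
    exact hx
  let g' : Localization.AtPrime q →ₐ[R] A := IsLocalization.liftAlgHom (M := q.primeCompl) hg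
  refine Algebra.QuasiFinite.of_surjective_algHom g' ?_
  intro z
  obtain ⟨x, s, rfl⟩ := IsLocalization.exists_mk'_eq q'.primeCompl z
  have hs : Ideal.Quotient.mk (Ideal.span {e}) s.1 ∈ q.primeCompl := by
    intro hh
    exact s.2 (hmem' _ hh)
  refine ⟨IsLocalization.mk' _ (Ideal.Quotient.mk (Ideal.span {e}) x) ⟨_, hs⟩, ?_⟩
  show IsLocalization.lift hg _ = _
  rw [IsLocalization.lift_mk'_spec]
  show g (Ideal.Quotient.mk _ x) = g (Ideal.Quotient.mk _ s.1) * _
  rw [hgmk, hgmk, mul_comm, IsLocalization.mk'_spec]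

/-- Only finitely many primes in a fibre of a finite type algebra are quasi-finite points. -/
theorem finite_quasiFiniteAt_fiber (R S : Type*) [CommRing R] [CommRing S] [Algebra R S]
    [Algebra.FiniteType R S] (P : PrimeSpectrum R) :
    {x : PrimeSpectrum.comap (algebraMap R S) ⁻¹' {P} |
      Algebra.QuasiFiniteAt R x.1.asIdeal}.Finite := by
  have : IsNoetherianRing (P.asIdeal.Fiber S) :=
    Algebra.FiniteType.isNoetherianRing P.asIdeal.ResidueField _
  have : TopologicalSpace.NoetherianSpace (PrimeSpectrum.comap (algebraMap R S) ⁻¹' {P}) :=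
    (TopologicalSpace.noetherianSpace_iff_of_homeomorph
      (PrimeSpectrum.preimageHomeomorphFiber R S P)).mpr inferInstance
  apply (TopologicalSpace.NoetherianSpace.isCompact _).finite
  rw [isDiscrete_iff_forall_mem_exists_isOpen]
  intro y hy
  refine ⟨{y}, ?_, by simpa using hy⟩
  obtain ⟨y, hy'⟩ := y
  have hy'' : PrimeSpectrum.comap (algebraMap R S) y = P := hy'
  subst hy''
  exact (Algebra.quasiFiniteAt_iff_isOpen_singleton_fiber (R := R) y).mp hy

theorem finite_quasiFiniteAt_primesOver (R S : Type*) [CommRing R] [CommRing S] [Algebra R S]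
    [Algebra.FiniteType R S] (p : Ideal R) [p.IsPrime] :
    {q : Ideal S | ∃ (_ : q.IsPrime), q.LiesOver p ∧ Algebra.QuasiFiniteAt R q}.Finite := by
  refine ((finite_quasiFiniteAt_fiber R S ⟨p, inferInstance⟩).image
    (fun x => x.1.asIdeal)).subset ?_
  rintro q ⟨hq, hqp, hqf⟩
  exact ⟨⟨⟨q, hq⟩, PrimeSpectrum.ext hqp.over.symm⟩, hqf, rfl⟩

end Groth.Agent.Lib.Helper12
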