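import Mathlib

/-!
# Quasi-finite principal opens
-/

set_option autoImplicit false
universe u

namespace Groth.Agent.Lib.Helper12

open Algebra

/-- At a quasi-finite point of a finite type algebra there is a quasi-finite principal open
neighbourhood. -/
theorem exists_notMem_quasiFinite_away {A R : Type*} [CommRing A] [CommRing R] [Algebra A R]
    [Algebra.FiniteType A R] (p : Ideal R) [p.IsPrime] [Algebra.QuasiFiniteAt A p] :
    ∃ r : R, r ∉ p ∧ Algebra.QuasiFinite A (Localization.Away r) := by
  obtain ⟨S', hS', r, hrp, H⟩ :=
    Algebra.QuasiFiniteAt.exists_fg_and_exists_notMem_and_awayMap_bijective (R := A) p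
  have : Module.Finite A S' := ⟨(Submodule.fg_top _).mpr hS'⟩
  have : Algebra.QuasiFinite A (Localization.Away r) := .trans _ S' _
  exact ⟨r.1, hrp, .of_surjective_algHom (Localization.awayMapₐ S'.val r) H.2⟩

/-- An algebra which is a localization of `R` in which `r` becomes a unit is quasi-finite as soon
as `R[1/r]` is. -/
theorem quasiFinite_of_away {A R T : Type*} [CommRing A] [CommRing R] [CommRing T] [Algebra A R]
    [Algebra R T] [Algebra A T] [IsScalarTower A R T] (r : R)
    [Algebra.QuasiFinite A (Localization.Away r)] (hr : IsUnit (algebraMap R T r))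
    (hT : ∀ x : T, ∃ u z : R, IsUnit (algebraMap R T u) ∧ x * algebraMap R T u = algebraMap R T z) :
    Algebra.QuasiFinite A T := by
  let g : Localization.Away r →ₐ[A] T :=
    IsLocalization.liftAlgHom (M := Submonoid.powers r) (f := IsScalarTower.toAlgHom A R T) (by
      rintro ⟨y, m, rfl⟩
      show IsUnit (algebraMap R T (r ^ m))
      rw [map_pow]
      exact hr.pow m)
  have hg : ∀ z : R, g (algebraMap R (Localization.Away r) z) = algebraMap R T z := fun z =>
    IsLocalization.lift_eq _ z
  apply Algebra.QuasiFinite.of_forall_exists_mul_mem_range g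
  intro x
  obtain ⟨u, z, hu, hxz⟩ := hT x
  refine ⟨algebraMap R (Localization.Away r) u, ?_, ?_⟩
  · rw [hg]; exact hu
  · rw [hg, hxz]
    exact ⟨algebraMap R (Localization.Away r) z, hg z⟩

/-- If every point of `D(f)` has a quasi-finite principal open neighbourhood then `R[1/f]` is
quasi-finite. -/
theorem quasiFinite_away_of_forall {A R : Type u} [CommRing A] [CommRing R] [Algebra A R]
    (f : R)
    (h : ∀ q : PrimeSpectrum R, f ∉ q.asIdeal →
      ∃ r : R, r ∉ q.asIdeal ∧ Algebra.QuasiFinite A (Localization.Away r)) :
    Algebra.QuasiFinite A (Localization.Away f) := by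
  rw [← RingHom.quasiFinite_algebraMap]
  let s : Set (Localization.Away f) :=
    {y | ∃ r : R, Algebra.QuasiFinite A (Localization.Away r) ∧
      algebraMap R (Localization.Away f) r = y}
  have hs : Ideal.span s = ⊤ := by
    by_contra hne
    obtain ⟨M, hM, hsM⟩ := Ideal.exists_le_maximal _ hne
    let q : PrimeSpectrum R := ⟨M.comap (algebraMap R (Localization.Away f)), inferInstance⟩
    have hfq : f ∉ q.asIdeal := by
      intro hf
      have : algebraMap R (Localization.Away f) f ∈ M := hf
      exact hM.ne_top (Ideal.eq_top_of_isUnit_mem _ this (IsLocalization.Away.algebraMap_isUnit f))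
    obtain ⟨r, hrq, hr⟩ := h q hfq
    apply hrq
    show algebraMap R (Localization.Away f) r ∈ M
    exact hsM (Ideal.subset_span ⟨r, hr, rfl⟩)
  apply RingHom.QuasiFinite.ofLocalizationSpanTarget (algebraMap A (Localization.Away f)) s hs
  rintro ⟨y, r, hr, rfl⟩
  haveI := hr
  have hcomp : (algebraMap (Localization.Away f)
      (Localization.Away (algebraMap R (Localization.Away f) r))).comp
      (algebraMap A (Localization.Away f)) =
      algebraMap A (Localization.Away (algebraMap R (Localization.Away f) r)) :=
    (IsScalarTower.algebraMap_eq A _ _).symm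
  show RingHom.QuasiFinite ((algebraMap (Localization.Away f)
      (Localization.Away (algebraMap R (Localization.Away f) r))).comp
      (algebraMap A (Localization.Away f)))
  rw [hcomp, RingHom.quasiFinite_algebraMap]
  -- `T = (R_f)_r` as an `R`-algebra
  let T := Localization.Away (algebraMap R (Localization.Away f) r)
  have hfu : IsUnit (algebraMap R T f) := by
    rw [IsScalarTower.algebraMap_apply R (Localization.Away f) T]
    exact (IsLocalization.Away.algebraMap_isUnit f).map _
  have hru : IsUnit (algebraMap R T r) := by
    rw [IsScalarTower.algebraMap_apply R (Localization.Away f) T]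
    exact IsLocalization.Away.algebraMap_isUnit _
  apply quasiFinite_of_away (A := A) (R := R) (T := T) r hru
  intro x
  obtain ⟨y, ⟨_, n, rfl⟩, rfl⟩ := IsLocalization.exists_mk'_eq
    (Submonoid.powers (algebraMap R (Localization.Away f) r)) x
  obtain ⟨z, ⟨_, m, rfl⟩, rfl⟩ := IsLocalization.exists_mk'_eq (Submonoid.powers f) y
  refine ⟨r ^ n * f ^ m, z, ?_, ?_⟩
  · rw [map_mul, map_pow, map_pow]
    exact (hru.pow n).mul (hfu.pow m)
  · rw [map_mul, ← mul_assoc, IsScalarTower.algebraMap_apply R (Localization.Away f) T (r ^ n),
      map_pow]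
    rw [IsLocalization.mk'_spec, IsScalarTower.algebraMap_apply R (Localization.Away f) T (f ^ m),
      ← map_mul, IsLocalization.mk'_spec, ← IsScalarTower.algebraMap_apply]

end Groth.Agent.Lib.Helper12
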