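import Mathlib

/-!
# Residue-field-trivial primes and points with values in `κ(p)`
-/

set_option autoImplicit false
universe u

namespace Groth.Agent.Lib.Helper12.RFPoint

variable {R : Type u} [CommRing R] (p : Ideal R) [p.IsPrime]

theorem comap_ker_eq {S : Type u} [CommRing S] [Algebra R S] (σ : S →ₐ[R] p.ResidueField) :
    p = (RingHom.ker σ).comap (algebraMap R S) := by
  ext x
  rw [Ideal.mem_comap, RingHom.mem_ker, AlgHom.commutes, Ideal.algebraMap_residueField_eq_zero]

/-- The retraction `κ(ker σ) → κ(p)` attached to a point. -/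
noncomputable def retr {S : Type u} [CommRing S] [Algebra R S] (σ : S →ₐ[R] p.ResidueField)
    [(RingHom.ker σ).IsPrime] : (RingHom.ker σ).ResidueField →+* p.ResidueField :=
  Ideal.ResidueField.lift (RingHom.ker σ) (σ : S →+* p.ResidueField) le_rfl (by
    intro x hx
    show IsUnit (σ x)
    exact isUnit_iff_ne_zero.mpr hx)

theorem retr_algebraMap {S : Type u} [CommRing S] [Algebra R S] (σ : S →ₐ[R] p.ResidueField)
    [(RingHom.ker σ).IsPrime] (x : S) :
    retr p σ (algebraMap S (RingHom.ker σ).ResidueField x) = σ x :=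
  Ideal.ResidueField.lift_algebraMap _ _ _ _ x

theorem retr_comp_map {S : Type u} [CommRing S] [Algebra R S] (σ : S →ₐ[R] p.ResidueField)
    [(RingHom.ker σ).IsPrime] :
    (retr p σ).comp (Ideal.ResidueField.map p (RingHom.ker σ) (algebraMap R S) (comap_ker_eq p σ)) =
      RingHom.id _ := by
  apply Ideal.ResidueField.ringHom_ext
  refine RingHom.ext fun r => ?_
  simp only [RingHom.comp_apply, RingHom.id_apply]
  rw [Ideal.ResidueField.map_algebraMap, retr_algebraMap, AlgHom.commutes]

/-- From a point `σ : S → κ(p)` over `R` we get a residue-field-trivial prime. -/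
theorem bijective_of_point {S : Type u} [CommRing S] [Algebra R S] (σ : S →ₐ[R] p.ResidueField)
    [(RingHom.ker σ).IsPrime] :
    Function.Bijective
      (Ideal.ResidueField.map p (RingHom.ker σ) (algebraMap R S) (comap_ker_eq p σ)) := by
  refine ⟨RingHom.injective _, fun y => ⟨retr p σ y, ?_⟩⟩
  apply (retr p σ).injective
  exact RingHom.congr_fun (retr_comp_map p σ) (retr p σ y)

instance ker_isPrime {S : Type u} [CommRing S] [Algebra R S] (σ : S →ₐ[R] p.ResidueField) :
    (RingHom.ker σ).IsPrime := RingHom.ker_isPrime (σ : S →+* p.ResidueField)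

/-- A residue-field-trivial prime gives a point. -/
theorem exists_point_of_bijective {S : Type u} [CommRing S] [Algebra R S] (q : Ideal S) [q.IsPrime]
    (hq : p = q.comap (algebraMap R S))
    (hbij : Function.Bijective (Ideal.ResidueField.map p q (algebraMap R S) hq)) :
    ∃ σ : S →ₐ[R] p.ResidueField, RingHom.ker σ = q := by
  let e := RingEquiv.ofBijective _ hbij
  refine ⟨{ (e.symm : q.ResidueField →+* p.ResidueField).comp (algebraMap S q.ResidueField) with
    commutes' := ?_ }, ?_⟩
  · intro r
    show e.symm (algebraMap S q.ResidueField (algebraMap R S r)) = algebraMap R p.ResidueField r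
    rw [RingEquiv.symm_apply_eq]
    exact (Ideal.ResidueField.map_algebraMap p q (algebraMap R S) hq r).symm
  · ext x
    rw [RingHom.mem_ker]
    show e.symm (algebraMap S q.ResidueField x) = 0 ↔ _
    rw [map_eq_zero_iff _ e.symm.injective, Ideal.algebraMap_residueField_eq_zero]

/-- Points with a given residue-field-trivial kernel are unique. -/
theorem point_unique {S : Type u} [CommRing S] [Algebra R S] (τ₁ τ₂ : S →ₐ[R] p.ResidueField)
    (h : RingHom.ker τ₁ = RingHom.ker τ₂) : τ₁ = τ₂ := by
  -- both factor through `κ(ker τ₁)`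
  have hle : RingHom.ker τ₁ ≤ RingHom.ker (τ₂ : S →+* p.ResidueField) := h.le
  let j₂ : (RingHom.ker τ₁).ResidueField →+* p.ResidueField :=
    Ideal.ResidueField.lift (RingHom.ker τ₁) (τ₂ : S →+* p.ResidueField) hle (by
      intro x hx
      show IsUnit (τ₂ x)
      refine isUnit_iff_ne_zero.mpr fun h0 => hx ?_
      show x ∈ RingHom.ker τ₁
      rw [h]
      exact h0)
  have hj₂ : ∀ x, j₂ (algebraMap S _ x) = τ₂ x := fun x =>
    Ideal.ResidueField.lift_algebraMap _ _ _ _ x
  have h2 : j₂.comp (Ideal.ResidueField.map p (RingHom.ker τ₁) (algebraMap R S)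
      (comap_ker_eq p τ₁)) = RingHom.id _ := by
    apply Ideal.ResidueField.ringHom_ext
    refine RingHom.ext fun r => ?_
    simp only [RingHom.comp_apply, RingHom.id_apply]
    rw [Ideal.ResidueField.map_algebraMap, hj₂, AlgHom.commutes]
  have hjj : j₂ = retr p τ₁ := by
    refine RingHom.ext fun y => ?_
    obtain ⟨z, rfl⟩ := (bijective_of_point p τ₁).2 y
    have e1 := RingHom.congr_fun h2 z
    have e2 := RingHom.congr_fun (retr_comp_map p τ₁) z
    simp only [RingHom.comp_apply, RingHom.id_apply] at e1 e2
    rw [e1, e2]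
  ext x
  rw [← retr_algebraMap p τ₁ x, ← hj₂ x, hjj]

end Groth.Agent.Lib.Helper12.RFPoint
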