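import Mathlib
import Groth.Prelude.Def_Found
import Groth.Agent.Lib.Helper12.RedTensorA
import Groth.Agent.Lib.Helper12.QExcC

/-!
# Stabilization of `(C ⊗ B)_red` for finite subalgebras `C` of a finite field extension
-/

set_option autoImplicit false

namespace Groth.Agent.Lib.Helper12.RedTensor

open TensorProduct

universe u

/-- under going down, minimal primes contract to minimal primes -/
theorem under_mem_minimalPrimes (R S : Type*) [CommRing R] [CommRing S] [Algebra R S]
    [Algebra.HasGoingDown R S] (P : Ideal S) (hP : P ∈ minimalPrimes S) :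
    P.under R ∈ minimalPrimes R := by
  haveI : P.IsPrime := hP.1.1
  obtain ⟨q₀, hq₀, hle⟩ := Ideal.exists_minimalPrimes_le (I := ⊥) (J := P.under R) bot_le
  haveI : q₀.IsPrime := hq₀.1.1
  haveI : P.LiesOver (P.under R) := ⟨rfl⟩
  obtain ⟨P₀, hP₀le, hP₀prime, hP₀over⟩ := Ideal.exists_ideal_le_liesOver_of_le
    (p := q₀) (q := P.under R) P hle
  have hP₀ : P₀ = P := le_antisymm hP₀le (hP.2 ⟨hP₀prime, bot_le⟩ hP₀le)
  have : q₀ = P.under R := by rw [hP₀over.over, hP₀]
  rw [← this]
  exact hq₀

section Main

variable {A B K' : Type u} [CommRing A] [CommRing B] [Algebra A B] [Field K'] [Algebra A K']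

/-- the family of subalgebras -/
def Fam (A K' : Type u) [CommRing A] [Field K'] [Algebra A K'] (C : Subalgebra A K') : Prop :=
  Module.Finite A C ∧ ∀ x : K', ∃ a b : C, (b : K') ≠ 0 ∧ x * b = a

theorem Fam.exists (A K' : Type u) [CommRing A] [IsDomain A] [Field K'] [Algebra A K']
    [Algebra (FractionRing A) K'] [IsScalarTower A (FractionRing A) K']
    [FiniteDimensional (FractionRing A) K'] : ∃ C : Subalgebra A K', Fam A K' C := by
  obtain ⟨s, hsint, hs⟩ := QExc.spanFin_of_finiteDimensional A (FractionRing A) K'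
  refine ⟨Algebra.adjoin A (s : Set K'), ?_, ?_⟩
  · have hfg : (Subalgebra.toSubmodule (Algebra.adjoin A (s : Set K'))).FG :=
      fg_adjoin_of_finite s.finite_toSet hsint
    haveI : Module.Finite A (Subalgebra.toSubmodule (Algebra.adjoin A (s : Set K'))) :=
      Module.Finite.iff_fg.mpr hfg
    exact Module.Finite.equiv (Subalgebra.toSubmoduleEquiv _)
  · intro x
    obtain ⟨a, ha, hax⟩ := hs x
    have hmem : a • x ∈ Algebra.adjoin A (s : Set K') := by
      have : Submodule.span A (s : Set K') ≤ Subalgebra.toSubmodule (Algebra.adjoin A (s : Set K')) :=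
        Submodule.span_le.mpr Algebra.subset_adjoin
      exact this hax
    refine ⟨⟨a • x, hmem⟩, algebraMap A _ a, ?_, ?_⟩
    · change algebraMap A K' a ≠ 0
      exact ha
    · change x * algebraMap A K' a = a • x
      rw [Algebra.smul_def, mul_comm]

/-- the comparison map `C ⊗ B → B ⊗ K'` -/
noncomputable def jMap (B : Type u) [CommRing B] [Algebra A B] (C : Subalgebra A K') :
    C ⊗[A] B →ₐ[A] B ⊗[A] K' :=
  (Algebra.TensorProduct.map (AlgHom.id A B) C.val).comp
    (Algebra.TensorProduct.comm A C B).toAlgHom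

theorem jMap_tmul (C : Subalgebra A K') (c : C) (b : B) :
    jMap B C (c ⊗ₜ[A] b) = b ⊗ₜ[A] (c : K') := rfl

theorem jMap_injective [Module.Flat A B] (C : Subalgebra A K') :
    Function.Injective (jMap B C) := by
  have h1 : Function.Injective (Algebra.TensorProduct.map (AlgHom.id A B) C.val) := by
    have : Function.Injective (LinearMap.lTensor B C.val.toLinearMap) :=
      Module.Flat.lTensor_preserves_injective_linearMap _ Subtype.val_injective
    exact this
  exact h1.comp (Algebra.TensorProduct.comm A C B).injective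

theorem jMap_inclusion {C₁ C₂ : Subalgebra A K'} (hle : C₁ ≤ C₂) (x : C₁ ⊗[A] B) :
    jMap B C₂ (Algebra.TensorProduct.map (Subalgebra.inclusion hle) (AlgHom.id A B) x) =
      jMap B C₁ x := by
  have : (jMap B C₂).comp
      (Algebra.TensorProduct.map (Subalgebra.inclusion hle) (AlgHom.id A B)) = jMap B C₁ :=
    Algebra.TensorProduct.ext' fun a b => rfl
  exact DFunLike.congr_fun this x

theorem isNilpotent_of_jMap [Module.Flat A B] (C : Subalgebra A K') (z : C ⊗[A] B)
    (h : IsNilpotent (jMap B C z)) : IsNilpotent z := by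
  obtain ⟨n, hn⟩ := h
  refine ⟨n, jMap_injective C ?_⟩
  rw [map_pow, map_zero]
  exact hn

theorem jMap_smul (C : Subalgebra A K') (b : B) (z : C ⊗[A] B) :
    jMap B C ((1 : C) ⊗ₜ[A] b * z) = b • jMap B C z := by
  induction z using TensorProduct.induction_on with
  | zero => simp
  | add x y hx hy => rw [mul_add, map_add, hx, hy, map_add, smul_add]
  | tmul c b' =>
    rw [Algebra.TensorProduct.tmul_mul_tmul, jMap_tmul, jMap_tmul, one_mul, smul_tmul', smul_eq_mul]

end Main

end Groth.Agent.Lib.Helper12.RedTensor
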