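import Mathlib
import Groth.Prelude.Def_Found
import Groth.Agent.Lib.Helper12.RedTensorB

/-!
# Stabilization of `(C ⊗ B)_red`: main theorem
-/

set_option autoImplicit false

namespace Groth.Agent.Lib.Helper12.RedTensor

open TensorProduct

universe u

section Main

variable {A B K' : Type u} [CommRing A] [CommRing B] [Algebra A B] [Field K'] [Algebra A K']

/-- the image of `C ⊗ B` in `B ⊗ K'`, a `B`-submodule -/
def W (B : Type u) [CommRing B] [Algebra A B] (C : Subalgebra A K') :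
    Submodule B (B ⊗[A] K') where
  carrier := Set.range (jMap B C)
  add_mem' := by rintro _ _ ⟨x, rfl⟩ ⟨y, rfl⟩; exact ⟨x + y, map_add _ _ _⟩
  zero_mem' := ⟨0, map_zero _⟩
  smul_mem' := by rintro b _ ⟨x, rfl⟩; exact ⟨(1 ⊗ₜ b) * x, jMap_smul C b x⟩

theorem mem_W {C : Subalgebra A K'} {t : B ⊗[A] K'} : t ∈ W B C ↔ ∃ z, jMap B C z = t := Iff.rfl

theorem W_mono {C₁ C₂ : Subalgebra A K'} (hle : C₁ ≤ C₂) : W B C₁ ≤ W B C₂ := by
  rintro _ ⟨x, rfl⟩
  exact ⟨_, jMap_inclusion hle x⟩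

theorem isIntegral_jMap (C : Subalgebra A K') (hC : ∀ c : C, IsIntegral A (c : K'))
    (z : C ⊗[A] B) : IsIntegral B (jMap B C z) := by
  induction z using TensorProduct.induction_on with
  | zero => rw [map_zero]; exact isIntegral_zero
  | add x y hx hy => rw [map_add]; exact hx.add hy
  | tmul c b =>
    rw [jMap_tmul]
    have h1 : b ⊗ₜ[A] (c : K') = algebraMap B (B ⊗[A] K') b * (1 ⊗ₜ (c : K')) := by
      rw [Algebra.TensorProduct.algebraMap_apply, Algebra.TensorProduct.tmul_mul_tmul]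
      simp
    rw [h1]
    refine isIntegral_algebraMap.mul ?_
    have h2 : IsIntegral A ((Algebra.TensorProduct.includeRight : K' →ₐ[A] B ⊗[A] K') (c : K')) :=
      (hC c).map _
    exact h2.tower_top

theorem Fam.isIntegral {C : Subalgebra A K'} (hC : Fam A K' C) (c : C) :
    IsIntegral A (c : K') := by
  haveI := hC.1
  have h1 : IsIntegral A c := Algebra.IsIntegral.isIntegral c
  exact h1.map C.val

theorem exists_stable [IsDomain A] [IsNoetherianRing B] [Module.Flat A B]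
    [Algebra (FractionRing A) K'] [IsScalarTower A (FractionRing A) K']
    [FiniteDimensional (FractionRing A) K']
    (hJ : ∀ (q : Ideal B) [q.IsPrime], q ∈ minimalPrimes B → CAlg.IsN2 (B ⧸ q)) :
    ∃ Cα : Subalgebra A K', Fam A K' Cα ∧ ∀ C : Subalgebra A K', Fam A K' C →
      ∀ hle : Cα ≤ C, ∀ y : C ⊗[A] B, ∃ x : Cα ⊗[A] B,
        IsNilpotent (Algebra.TensorProduct.map (Subalgebra.inclusion hle) (AlgHom.id A B) x - y) := by
  classical
  haveI : Module.Flat A (FractionRing A) := IsLocalization.flat _ (nonZeroDivisors A)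
  haveI : Module.Flat A K' := Module.Flat.trans A (FractionRing A) K'
  haveI : IsNoetherianRing (B ⊗[A] K') :=
    AnUnram.isNoetherianRing_tensor A B (FractionRing A) K'
  have hfinite : (minimalPrimes (B ⊗[A] K')).Finite :=
    minimalPrimes.finite_of_isNoetherianRing (B ⊗[A] K')
  haveI : Finite (minimalPrimes (B ⊗[A] K')) := hfinite
  haveI hprime : ∀ Q : minimalPrimes (B ⊗[A] K'), Q.1.IsPrime := fun Q => Q.2.1.1
  let φ : ∀ Q : minimalPrimes (B ⊗[A] K'),
      B ⊗[A] K' →ₐ[B] FractionRing ((B ⊗[A] K') ⧸ Q.1) := fun Q =>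
    (IsScalarTower.toAlgHom B ((B ⊗[A] K') ⧸ Q.1) (FractionRing ((B ⊗[A] K') ⧸ Q.1))).comp
      (Ideal.Quotient.mkₐ B Q.1)
  have hφ_apply : ∀ (Q : minimalPrimes (B ⊗[A] K')) (t : B ⊗[A] K'),
      φ Q t = algebraMap ((B ⊗[A] K') ⧸ Q.1) (FractionRing ((B ⊗[A] K') ⧸ Q.1))
        (Ideal.Quotient.mk Q.1 t) := fun _ _ => rfl
  have hφ : ∀ (Q : minimalPrimes (B ⊗[A] K')) (z : FractionRing ((B ⊗[A] K') ⧸ Q.1)),
      ∃ t₁ t₂ : B ⊗[A] K', φ Q t₂ ≠ 0 ∧ z = φ Q t₁ / φ Q t₂ := by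
    intro Q z
    obtain ⟨a, b, hb, rfl⟩ := IsFractionRing.div_surjective ((B ⊗[A] K') ⧸ Q.1) z
    obtain ⟨t₁, rfl⟩ := Ideal.Quotient.mk_surjective a
    obtain ⟨t₂, rfl⟩ := Ideal.Quotient.mk_surjective b
    refine ⟨t₁, t₂, ?_, rfl⟩
    rw [hφ_apply, Ne, map_eq_zero_iff _ (IsFractionRing.injective _ _)]
    exact nonZeroDivisors.ne_zero hb
  have hzero : ∀ t : B ⊗[A] K', (∀ Q, φ Q t = 0) → IsNilpotent t := by
    intro t ht
    have hmem : t ∈ sInf (minimalPrimes (B ⊗[A] K')) := by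
      rw [Ideal.mem_sInf]
      intro Q hQ
      have h1 := ht ⟨Q, hQ⟩
      rw [hφ_apply, map_eq_zero_iff _ (IsFractionRing.injective _ _)] at h1
      exact Ideal.Quotient.eq_zero_iff_mem.mp h1
    rw [minimalPrimes, Ideal.sInf_minimalPrimes] at hmem
    exact mem_nilradical.mp hmem
  -- finiteness of the integral closures
  have hfinQ : ∀ Q : minimalPrimes (B ⊗[A] K'),
      Module.Finite B (integralClosure B (FractionRing ((B ⊗[A] K') ⧸ Q.1))) := by
    intro Q
    refine finite_integralClosure_field' A B (FractionRing A) K' _ ?_ (φ Q) (hφ Q)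
    intro hq
    refine hJ _ ?_
    have hker : RingHom.ker (algebraMap B (FractionRing ((B ⊗[A] K') ⧸ Q.1))) =
        Q.1.under B := by
      ext x
      rw [RingHom.mem_ker, Ideal.mem_comap]
      have : algebraMap B (FractionRing ((B ⊗[A] K') ⧸ Q.1)) x =
          φ Q (algebraMap B (B ⊗[A] K') x) := ((φ Q).commutes x).symm
      rw [this, hφ_apply, map_eq_zero_iff _ (IsFractionRing.injective _ _)]
      exact Ideal.Quotient.eq_zero_iff_mem
    rw [hker]
    exact under_mem_minimalPrimes B (B ⊗[A] K') Q.1 Q.2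
  haveI := hfinQ
  haveI : Module.Finite B (∀ Q : minimalPrimes (B ⊗[A] K'),
      integralClosure B (FractionRing ((B ⊗[A] K') ⧸ Q.1))) := by
    haveI : Fintype (minimalPrimes (B ⊗[A] K')) := Fintype.ofFinite _
    exact Module.Finite.pi
  haveI hnoeth : IsNoetherian B (∀ Q : minimalPrimes (B ⊗[A] K'),
      integralClosure B (FractionRing ((B ⊗[A] K') ⧸ Q.1))) :=
    isNoetherian_of_isNoetherianRing_of_finite B _
  -- the maps
  let Θ : B ⊗[A] K' →ₗ[B] (∀ Q : minimalPrimes (B ⊗[A] K'),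
      FractionRing ((B ⊗[A] K') ⧸ Q.1)) := LinearMap.pi fun Q => (φ Q).toLinearMap
  let incl : (∀ Q : minimalPrimes (B ⊗[A] K'),
      integralClosure B (FractionRing ((B ⊗[A] K') ⧸ Q.1))) →ₗ[B]
      (∀ Q : minimalPrimes (B ⊗[A] K'), FractionRing ((B ⊗[A] K') ⧸ Q.1)) :=
    LinearMap.pi fun Q => (Subalgebra.val _).toLinearMap.comp (LinearMap.proj Q)
  let N : Subalgebra A K' → Submodule B (∀ Q : minimalPrimes (B ⊗[A] K'),
      integralClosure B (FractionRing ((B ⊗[A] K') ⧸ Q.1))) := fun C =>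
    ((W B C).map Θ).comap incl
  have hNmono : ∀ {C₁ C₂ : Subalgebra A K'}, C₁ ≤ C₂ → N C₁ ≤ N C₂ := fun hle =>
    Submodule.comap_mono (Submodule.map_mono (W_mono hle))
  obtain ⟨C₀, hC₀⟩ := Fam.exists A K'
  obtain ⟨_, ⟨Cα, hCα, rfl⟩, hmax⟩ := set_has_maximal_iff_noetherian.mpr hnoeth
    {M' | ∃ C, Fam A K' C ∧ N C = M'} ⟨N C₀, C₀, hC₀, rfl⟩
  refine ⟨Cα, hCα, fun C hC hle y => ?_⟩
  have hN : N C = N Cα :=
    (eq_of_le_of_not_lt (hNmono hle) (hmax (N C) ⟨C, hC, rfl⟩)).symm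
  -- the element `m` of the product of integral closures
  let m : ∀ Q : minimalPrimes (B ⊗[A] K'),
      integralClosure B (FractionRing ((B ⊗[A] K') ⧸ Q.1)) := fun Q =>
    ⟨φ Q (jMap B C y), (isIntegral_jMap C hC.isIntegral y).map (φ Q)⟩
  have hm : incl m = Θ (jMap B C y) := rfl
  have hmN : m ∈ N C := by
    change incl m ∈ (W B C).map Θ
    rw [hm]
    exact Submodule.mem_map_of_mem ⟨y, rfl⟩
  rw [hN] at hmN
  obtain ⟨t', ⟨x, rfl⟩, ht'⟩ := hmN
  refine ⟨x, isNilpotent_of_jMap C _ ?_⟩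
  rw [map_sub, jMap_inclusion]
  apply hzero
  intro Q
  have h1 := congrFun ht' Q
  have h2 := congrFun hm Q
  change φ Q (jMap B Cα x) = (m Q : FractionRing ((B ⊗[A] K') ⧸ Q.1)) at h1
  rw [map_sub, h1]
  exact sub_self _

end Main

end Groth.Agent.Lib.Helper12.RedTensor
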