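import Mathlib
import Groth.Prelude.Def_Found
import Groth.Agent.Lib.Helper12.RedTensorC

/-!
# Stabilization of `(C ⊗ B)_red`: the radicial statement
-/

set_option autoImplicit false

namespace Groth.Agent.Lib.Helper12.RedTensor

open TensorProduct AlgebraicGeometry CategoryTheory

universe u

section Ring

variable {A B K' : Type u} [CommRing A] [CommRing B] [Algebra A B] [Field K'] [Algebra A K']

/-- ring-level radicial statement -/
theorem hom_ext_of_stable [Module.FaithfullyFlat A B] (Cα : Subalgebra A K')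
    (hCα : Fam A K' Cα)
    (hstab : ∀ C : Subalgebra A K', Fam A K' C → ∀ hle : Cα ≤ C, ∀ y : C ⊗[A] B,
      ∃ x : Cα ⊗[A] B,
        IsNilpotent (Algebra.TensorProduct.map (Subalgebra.inclusion hle) (AlgHom.id A B) x - y))
    (hint : Cα ≤ integralClosure A K') (Ω : Type u) [Field Ω]
    (φ ψ : integralClosure A K' →+* Ω)
    (h : φ.comp (Subalgebra.inclusion hint).toRingHom = ψ.comp (Subalgebra.inclusion hint).toRingHom) :
    φ = ψ := by
  classical
  have hagree : ∀ c : Cα, φ (Subalgebra.inclusion hint c) = ψ (Subalgebra.inclusion hint c) :=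
    fun c => DFunLike.congr_fun h c
  ext ⟨x, hx⟩
  -- the subalgebra `C`
  haveI := hCα.1
  haveI : Module.Finite A (Algebra.adjoin A {x}) := by
    have hfg : (Subalgebra.toSubmodule (Algebra.adjoin A ({x} : Set K'))).FG :=
      fg_adjoin_of_finite (Set.finite_singleton x) (by rintro _ rfl; exact hx)
    haveI : Module.Finite A (Subalgebra.toSubmodule (Algebra.adjoin A ({x} : Set K'))) :=
      Module.Finite.iff_fg.mpr hfg
    exact Module.Finite.equiv (Subalgebra.toSubmoduleEquiv _)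
  set C : Subalgebra A K' := Cα ⊔ Algebra.adjoin A {x} with hCdef
  have hle : Cα ≤ C := le_sup_left
  have hxC : x ∈ C := (le_sup_right : Algebra.adjoin A {x} ≤ C) (Algebra.subset_adjoin rfl)
  have hC : Fam A K' C := by
    refine ⟨Subalgebra.finite_sup _ _, fun z => ?_⟩
    obtain ⟨a, b, hb, hab⟩ := hCα.2 z
    exact ⟨Subalgebra.inclusion hle a, Subalgebra.inclusion hle b, hb, hab⟩
  have hCint : C ≤ integralClosure A K' := fun c hc => hC.isIntegral ⟨c, hc⟩
  -- `Ω` as an `A`-algebra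
  letI : Algebra A Ω := (φ.comp (algebraMap A (integralClosure A K'))).toAlgebra
  let φC : C →ₐ[A] Ω :=
    { toRingHom := φ.comp (Subalgebra.inclusion hCint).toRingHom
      commutes' := fun a => rfl }
  let ψC : C →ₐ[A] Ω :=
    { toRingHom := ψ.comp (Subalgebra.inclusion hCint).toRingHom
      commutes' := fun a => by
        have h1 := hagree (algebraMap A Cα a)
        exact h1.symm }
  -- the field `Ω'`
  haveI : Nontrivial (Ω ⊗[A] B) :=
    (Module.FaithfullyFlat.nontrivial_tensorProduct_iff_left A Ω).mpr inferInstance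
  obtain ⟨𝔐, h𝔐⟩ := Ideal.exists_maximal (Ω ⊗[A] B)
  letI : Field ((Ω ⊗[A] B) ⧸ 𝔐) := Ideal.Quotient.field 𝔐
  let ι : Ω →ₐ[A] (Ω ⊗[A] B) ⧸ 𝔐 :=
    (Ideal.Quotient.mkₐ A 𝔐).comp Algebra.TensorProduct.includeLeft
  let β : B →ₐ[A] (Ω ⊗[A] B) ⧸ 𝔐 :=
    (Ideal.Quotient.mkₐ A 𝔐).comp Algebra.TensorProduct.includeRight
  have hι : Function.Injective ι := ι.toRingHom.injective
  let pφ : C ⊗[A] B →ₐ[A] (Ω ⊗[A] B) ⧸ 𝔐 := Algebra.TensorProduct.productMap (ι.comp φC) β
  let pψ : C ⊗[A] B →ₐ[A] (Ω ⊗[A] B) ⧸ 𝔐 := Algebra.TensorProduct.productMap (ι.comp ψC) β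
  have hpp : ∀ z : Cα ⊗[A] B,
      pφ (Algebra.TensorProduct.map (Subalgebra.inclusion hle) (AlgHom.id A B) z) =
      pψ (Algebra.TensorProduct.map (Subalgebra.inclusion hle) (AlgHom.id A B) z) := by
    intro z
    induction z using TensorProduct.induction_on with
    | zero => simp
    | add z₁ z₂ h₁ h₂ => simp only [map_add, h₁, h₂]
    | tmul c b =>
      simp only [Algebra.TensorProduct.map_tmul, pφ, pψ, Algebra.TensorProduct.productMap_apply_tmul]
      congr 1
      change ι (φ _) = ι (ψ _)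
      congr 1
      exact hagree c
  obtain ⟨z, hz⟩ := hstab C hC hle ((⟨x, hxC⟩ : C) ⊗ₜ[A] (1 : B))
  have h1 : pφ (Algebra.TensorProduct.map (Subalgebra.inclusion hle) (AlgHom.id A B) z -
      (⟨x, hxC⟩ : C) ⊗ₜ[A] (1 : B)) = 0 := (hz.map pφ).eq_zero
  have h2 : pψ (Algebra.TensorProduct.map (Subalgebra.inclusion hle) (AlgHom.id A B) z -
      (⟨x, hxC⟩ : C) ⊗ₜ[A] (1 : B)) = 0 := (hz.map pψ).eq_zero
  rw [map_sub, sub_eq_zero] at h1 h2
  have h3 : pφ ((⟨x, hxC⟩ : C) ⊗ₜ[A] (1 : B)) = pψ ((⟨x, hxC⟩ : C) ⊗ₜ[A] (1 : B)) := by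
    rw [← h1, ← h2, hpp]
  simp only [pφ, pψ, Algebra.TensorProduct.productMap_apply_tmul, map_one, mul_one] at h3
  exact hι h3

end Ring

section Scheme

/-- ring-level injectivity on field-valued points implies universal injectivity of `Spec.map` -/
theorem universallyInjective_of_hom_ext {R S : Type u} [CommRing R] [CommRing S] (f : R →+* S)
    (h : ∀ (Ω : Type u) [Field Ω] (φ ψ : S →+* Ω), φ.comp f = ψ.comp f → φ = ψ) :
    UniversallyInjective (Spec.map (CommRingCat.ofHom f)) := by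
  refine ((tfae_universallyInjective (Spec.map (CommRingCat.ofHom f))).out 0 1).mpr ?_
  intro K _ g₁ g₂ hg
  dsimp only at hg
  rw [← Spec.map_preimage g₁, ← Spec.map_preimage g₂, ← Spec.map_comp, ← Spec.map_comp,
    Spec.map_inj] at hg
  have h1 := h K (Spec.preimage g₁).hom (Spec.preimage g₂).hom (by
    have := congrArg CommRingCat.Hom.hom hg
    simpa using this)
  rw [← Spec.map_preimage g₁, ← Spec.map_preimage g₂]
  congr 1
  exact CommRingCat.hom_ext h1

end Scheme

end Groth.Agent.Lib.Helper12.RedTensor
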