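import Mathlib.LinearAlgebra.TensorProduct.Quotient
import Mathlib.RingTheory.TensorProduct.Basic
import Mathlib.RingTheory.LocalRing.ResidueField.Basic
import Mathlib.RingTheory.Idempotents

set_option autoImplicit false
universe u

namespace Groth.Agent.Lib.Helper12

open IsLocalRing TensorProduct

theorem one_tmul_eq_zero_iff (R : Type*) [CommRing R] [IsLocalRing R] {M : Type*}
    [AddCommGroup M] [Module R M] (x : M) :
    (1 : ResidueField R) ⊗ₜ[R] x = 0 ↔ x ∈ (maximalIdeal R • ⊤ : Submodule R M) := by
  have h := TensorProduct.quotTensorEquivQuotSMul_mk_one_tmul (M := M) (maximalIdeal R) x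
  rw [← Submodule.Quotient.mk_eq_zero, ← h]
  exact (LinearEquiv.map_eq_zero_iff _).symm

theorem exists_one_tmul_eq (R : Type*) [CommRing R] [IsLocalRing R] {M : Type*}
    [AddCommGroup M] [Module R M] (y : ResidueField R ⊗[R] M) :
    ∃ x : M, (1 : ResidueField R) ⊗ₜ[R] x = y :=
  TensorProduct.mk_surjective R M (ResidueField R) residue_surjective y

/-- Membership in `I S` can be tested in the factors of a decomposition by idempotents. -/
theorem mem_map_of_forall_quotient {R S : Type*} [CommRing R] [CommRing S] [Algebra R S]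
    {ι : Type*} [Fintype ι] (ε : ι → S) (hε : CompleteOrthogonalIdempotents ε) (m : Ideal R)
    (s : S)
    (h : ∀ j, Ideal.Quotient.mk (Ideal.span {1 - ε j}) s ∈
      Ideal.map (algebraMap R (S ⧸ Ideal.span {1 - ε j})) m) :
    s ∈ Ideal.map (algebraMap R S) m := by
  have hs : s = ∑ j, ε j * s := by rw [← Finset.sum_mul, hε.complete, one_mul]
  rw [hs]
  refine sum_mem (fun j _ => ?_)
  have hj := h j
  rw [IsScalarTower.algebraMap_eq R S (S ⧸ Ideal.span {1 - ε j}), ← Ideal.map_map,
    Ideal.Quotient.algebraMap_eq,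
    Ideal.mem_map_iff_of_surjective _ Ideal.Quotient.mk_surjective] at hj
  obtain ⟨t, ht, hts⟩ := hj
  rw [Ideal.Quotient.eq, Ideal.mem_span_singleton'] at hts
  obtain ⟨c, hc⟩ := hts
  have : ε j * s = ε j * t := by
    have h0 : ε j * (1 - ε j) = 0 := by rw [mul_sub, mul_one, (hε.idem j).eq, sub_self]
    linear_combination (ε j) * hc - c * h0
  rw [this]
  exact Ideal.mul_mem_left _ _ ht

end Groth.Agent.Lib.Helper12
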