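import Groth.Prelude.Def_W4c1hurwitzcptBd
import Mathlib

/-!
# Lattices in `k⟦x⟧` over `k⟦x^p⟧`: bases by valuations distinct mod `p`
-/

open Module

namespace Groth.Agent.Lib.Helper12.RootLattice

universe u

section General

/-- a full-rank free submodule of a module spanned by `n` elements contains a nonzero multiple
of everything -/
theorem exists_smul_mem {R V : Type*} [CommRing R] [IsDomain R] [AddCommGroup V] [Module R V]
    {n : ℕ} (e : Fin n → V) (he : Submodule.span R (Set.range e) = ⊤) (M : Submodule R V)
    (b : Basis (Fin n) R M) : ∃ d : R, d ≠ 0 ∧ ∀ v : V, d • v ∈ M := by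
  classical
  have hA : ∀ j : Fin n, ∃ c : Fin n → R, ∑ i, c i • e i = (b j : V) := fun j =>
    (Submodule.mem_span_range_iff_exists_fun R).mp (he ▸ Submodule.mem_top)
  choose A hA using hA
  let A' : Matrix (Fin n) (Fin n) R := Matrix.of fun i j => A j i
  refine ⟨A'.det, ?_, ?_⟩
  · intro hdet
    obtain ⟨v, hv0, hv⟩ := Matrix.exists_mulVec_eq_zero_iff.mpr hdet
    have h1 : ∑ j, v j • (b j : V) = 0 := by
      calc ∑ j, v j • (b j : V) = ∑ j, v j • ∑ i, A j i • e i := by simp_rw [hA]
        _ = ∑ i, (A'.mulVec v) i • e i := by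
          simp_rw [Finset.smul_sum, smul_smul]
          rw [Finset.sum_comm]
          refine Finset.sum_congr rfl fun i _ => ?_
          rw [Matrix.mulVec, dotProduct, Finset.sum_smul]
          refine Finset.sum_congr rfl fun j _ => ?_
          simp [A', mul_comm]
        _ = 0 := by rw [hv]; simp
    have h2 : ∑ j, v j • b j = 0 := by
      apply Subtype.ext
      simpa using h1
    have := Fintype.linearIndependent_iff.mp b.linearIndependent v h2
    exact hv0 (funext this)
  · have hel : ∀ l : Fin n, A'.det • e l ∈ M := by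
      intro l
      have : A'.det • e l = ∑ j, A'.adjugate j l • (b j : V) := by
        calc A'.det • e l = ∑ i, (A' * A'.adjugate) i l • e i := by
              rw [Matrix.mul_adjugate]
              simp [Matrix.smul_apply, Matrix.one_apply, Finset.sum_ite_eq']
          _ = ∑ j, A'.adjugate j l • (b j : V) := by
              simp_rw [← hA, Finset.smul_sum, smul_smul]
              rw [Finset.sum_comm]
              refine Finset.sum_congr rfl fun i _ => ?_
              rw [Matrix.mul_apply, Finset.sum_smul]
              refine Finset.sum_congr rfl fun j _ => ?_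
              simp [A', mul_comm]
      rw [this]
      exact M.sum_mem fun j _ => M.smul_mem _ (b j).2
    intro v
    have hv : v ∈ Submodule.span R (Set.range e) := he ▸ Submodule.mem_top
    induction hv using Submodule.span_induction with
    | mem x hx =>
      obtain ⟨l, rfl⟩ := hx
      exact hel l
    | zero => simp
    | add x y _ _ hx hy => rw [smul_add]; exact M.add_mem hx hy
    | smul a x _ hx => rw [smul_comm]; exact M.smul_mem a hx

end General

section Root

open W4c1hurwitzcpt

variable {p : ℕ} [NeZero p] {k : Type u} [Field k]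

theorem val_smul (r : PowerSeries k) (f : RootDisk p k) :
    RootDisk.val (r • f) = PowerSeries.expand p (NeZero.ne p) r * RootDisk.val f := by
  rw [Algebra.smul_def, map_mul]; rfl

theorem val_X_pow_smul (c : ℕ) (f : RootDisk p k) :
    RootDisk.val ((PowerSeries.X ^ c : PowerSeries k) • f) =
      PowerSeries.X ^ (p * c) * RootDisk.val f := by
  rw [val_smul, map_pow, PowerSeries.expand_X, ← pow_mul]

/-- the element `x^i` of `RootDisk p k` -/
noncomputable def xpow (i : ℕ) : RootDisk p k := RootDisk.val.symm (PowerSeries.X ^ i)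

@[simp] theorem val_xpow (i : ℕ) : RootDisk.val (xpow (p := p) (k := k) i) = PowerSeries.X ^ i := by
  simp [xpow]

/-- the `i`-th component of `f` in the decomposition `k⟦x⟧ = ⊕ x^i k⟦x^p⟧` -/
noncomputable def comp (i : ℕ) (f : RootDisk p k) : PowerSeries k :=
  PowerSeries.mk fun n => PowerSeries.coeff (p * n + i) (RootDisk.val f)

theorem decomp (f : RootDisk p k) : f = ∑ i : Fin p, comp (i : ℕ) f • xpow (p := p) (i : ℕ) := by
  apply RootDisk.val.injective
  rw [map_sum]
  ext m
  rw [map_sum]
  simp only [val_smul, val_xpow, PowerSeries.coeff_mul_X_pow', PowerSeries.coeff_expand, comp,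
    PowerSeries.coeff_mk]
  have hp : 0 < p := NeZero.pos p
  rw [Finset.sum_eq_single (⟨m % p, Nat.mod_lt _ hp⟩ : Fin p)]
  · have h1 : m % p ≤ m := Nat.mod_le _ _
    have h2 : p ∣ m - m % p := Nat.dvd_sub_mod m
    simp only []
    rw [if_pos h1, if_pos h2]
    congr 1
    rw [Nat.mul_div_cancel' h2, Nat.sub_add_cancel h1]
  · intro i _ hi
    split_ifs with h1 h2
    · exfalso
      apply hi
      apply Fin.ext
      obtain ⟨q, hq⟩ := h2
      have hm : m = (i : ℕ) + p * q := by omega
      show (i : ℕ) = m % p
      rw [hm, Nat.add_mul_mod_self_left, Nat.mod_eq_of_lt i.2]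
    · rfl
    · rfl
  · simp

theorem span_xpow :
    Submodule.span (PowerSeries k) (Set.range fun i : Fin p => xpow (p := p) (k := k) (i : ℕ)) = ⊤ := by
  rw [eq_top_iff]
  rintro f -
  rw [decomp f]
  exact Submodule.sum_mem _ fun i _ => Submodule.smul_mem _ _ (Submodule.subset_span ⟨i, rfl⟩)

/-- from a nonzero multiplier to a power of the uniformizer -/
theorem exists_X_pow_smul_mem_of_ne_zero {V : Type*} [AddCommGroup V] [Module (PowerSeries k) V]
    (M : Submodule (PowerSeries k) V) (d : PowerSeries k) (hd : d ≠ 0) (h : ∀ v : V, d • v ∈ M) :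
    ∃ c : ℕ, ∀ v : V, (PowerSeries.X ^ c : PowerSeries k) • v ∈ M := by
  refine ⟨d.order.toNat, fun v => ?_⟩
  have hu : IsUnit (PowerSeries.divXPowOrder d) := by
    rw [PowerSeries.isUnit_iff_constantCoeff, PowerSeries.constantCoeff_divXPowOrder]
    exact isUnit_iff_ne_zero.mpr (PowerSeries.coeff_order hd)
  obtain ⟨w, hw⟩ := hu.exists_left_inv
  have h1 : (PowerSeries.X ^ d.order.toNat : PowerSeries k) = w * d := by
    conv_rhs => rw [← PowerSeries.X_pow_order_mul_divXPowOrder (f := d)]
    rw [mul_comm w, mul_assoc, mul_comm _ w, hw, mul_one]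
  rw [h1, mul_smul]
  exact M.smul_mem _ (h v)

theorem exists_X_pow_smul_mem (M : Submodule (PowerSeries k) (RootDisk p k))
    (b : Basis (Fin p) (PowerSeries k) M) :
    ∃ c : ℕ, ∀ f : RootDisk p k, (PowerSeries.X ^ c : PowerSeries k) • f ∈ M := by
  obtain ⟨d, hd, h⟩ := exists_smul_mem (fun i : Fin p => xpow (p := p) (k := k) (i : ℕ)) span_xpow M b
  exact exists_X_pow_smul_mem_of_ne_zero M d hd h

theorem order_val_smul (a : PowerSeries k) (f : RootDisk p k) :
    (RootDisk.val (a • f)).order = p • a.order + (RootDisk.val f).order := by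
  rw [val_smul, PowerSeries.order_mul, PowerSeries.order_expand]

theorem order_eq_coe {φ : PowerSeries k} (h : φ ≠ 0) : φ.order = (φ.order.toNat : ℕ∞) :=
  (ENat.natCast_toNat (fun h' => h (PowerSeries.order_eq_top.mp h'))).symm

/-- one descent step: kill the leading term of `f` using `g` of smaller valuation in the same
residue class -/
theorem descent_step (f g : RootDisk p k) (n m j : ℕ) (hf : (RootDisk.val f).order = n)
    (hg : (RootDisk.val g).order = m) (hn : n = m + p * j) :
    ∃ a : PowerSeries k, ((n + 1 : ℕ) : ℕ∞) ≤ (RootDisk.val (f - a • g)).order := by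
  have hg0 : PowerSeries.coeff m (RootDisk.val g) ≠ 0 := by
    have hgne : RootDisk.val g ≠ 0 := by
      intro h0; rw [h0, PowerSeries.order_zero] at hg; exact ENat.top_ne_natCast _ hg
    have := PowerSeries.coeff_order hgne
    rwa [hg, ENat.toNat_natCast] at this
  refine ⟨PowerSeries.C (PowerSeries.coeff n (RootDisk.val f) / PowerSeries.coeff m (RootDisk.val g)) *
    PowerSeries.X ^ j, ?_⟩
  apply PowerSeries.nat_le_order
  intro i hi
  rw [map_sub, val_smul, map_mul, PowerSeries.expand_C, map_pow, PowerSeries.expand_X, ← pow_mul,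
    map_sub, mul_assoc, PowerSeries.coeff_C_mul, PowerSeries.coeff_X_pow_mul']
  rcases Nat.lt_succ_iff_lt_or_eq.mp hi with hlt | heq
  · have h1 : PowerSeries.coeff i (RootDisk.val f) = 0 :=
      PowerSeries.coeff_of_lt_order i (by rw [hf]; exact_mod_cast hlt)
    rw [h1]
    split_ifs with h2
    · have h3 : PowerSeries.coeff (i - p * j) (RootDisk.val g) = 0 :=
        PowerSeries.coeff_of_lt_order _ (by rw [hg]; exact_mod_cast (by omega))
      rw [h3]; simp
    · simp
  · subst heq
    rw [if_pos (by omega)]
    have : i - p * j = m := by omega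
    rw [this, div_mul_cancel₀ _ hg0, sub_self]

theorem exists_good_generators (M : Submodule (PowerSeries k) (RootDisk p k)) (hfg : M.FG)
    (c : ℕ) (hc : ∀ f : RootDisk p k, (PowerSeries.X ^ c : PowerSeries k) • f ∈ M) :
    ∃ g : Fin p → RootDisk p k, (∀ r, g r ∈ M) ∧ (∀ r, g r ≠ 0) ∧
      (∀ r : Fin p, (RootDisk.val (g r)).order.toNat % p = r) ∧
      LinearIndependent (PowerSeries k) g ∧ Submodule.span (PowerSeries k) (Set.range g) = M := by
  classical
  have hp : 0 < p := NeZero.pos p
  have hP : ∀ r : Fin p, ∃ n : ℕ, ∃ f ∈ M, (RootDisk.val f).order = (n : ℕ∞) ∧ n % p = r := by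
    intro r
    refine ⟨p * c + r, (PowerSeries.X ^ c : PowerSeries k) • xpow (r : ℕ), hc _, ?_, ?_⟩
    · rw [val_X_pow_smul, val_xpow, ← pow_add, PowerSeries.order_X_pow]
    · rw [Nat.mul_add_mod]; exact Nat.mod_eq_of_lt r.2
  let m : Fin p → ℕ := fun r => Nat.find (hP r)
  have hm : ∀ r, ∃ f ∈ M, (RootDisk.val f).order = (m r : ℕ∞) ∧ m r % p = r :=
    fun r => Nat.find_spec (hP r)
  choose g hgM hgord hgmod using hm
  have hmin : ∀ (r : Fin p) (f : RootDisk p k) (n : ℕ), f ∈ M → (RootDisk.val f).order = n →
      n % p = r → m r ≤ n :=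
    fun r f n hf ho hn => Nat.find_min' (hP r) ⟨f, hf, ho, hn⟩
  have hg0 : ∀ r, g r ≠ 0 := by
    intro r h0
    have := hgord r
    rw [h0, map_zero, PowerSeries.order_zero] at this
    exact ENat.top_ne_natCast _ this
  refine ⟨g, hgM, hg0, ?_, ?_, ?_⟩
  · intro r; rw [hgord, ENat.toNat_natCast]; exact hgmod r
  · -- linear independence
    rw [Fintype.linearIndependent_iff]
    intro a ha
    by_contra hne
    push Not at hne
    obtain ⟨r₁, hr₁⟩ := hne
    let T : Finset (Fin p) := Finset.univ.filter fun r => a r ≠ 0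
    have hT : T.Nonempty := ⟨r₁, by simp [T, hr₁]⟩
    let ν : Fin p → ℕ := fun r => p * (a r).order.toNat + m r
    obtain ⟨r₀, hr₀T, hr₀min⟩ := T.exists_min_image ν hT
    have hord : ∀ r ∈ T, (RootDisk.val (a r • g r)).order = (ν r : ℕ∞) := by
      intro r hr
      have har : a r ≠ 0 := (Finset.mem_filter.mp hr).2
      rw [order_val_smul, hgord, order_eq_coe har]
      simp [ν]
    have hcoeff : PowerSeries.coeff (ν r₀) (RootDisk.val (∑ r, a r • g r)) ≠ 0 := by
      rw [map_sum, map_sum, Finset.sum_eq_single r₀]
      · have h1 := hord r₀ hr₀T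
        have hne0 : RootDisk.val (a r₀ • g r₀) ≠ 0 := by
          intro h0; rw [h0, PowerSeries.order_zero] at h1; exact ENat.top_ne_natCast _ h1
        have := PowerSeries.coeff_order hne0
        rwa [h1, ENat.toNat_natCast] at this
      · intro r _ hr
        by_cases har : a r = 0
        · simp [har]
        · have hrT : r ∈ T := by simp [T, har]
          apply PowerSeries.coeff_of_lt_order
          rw [hord r hrT]
          have h1 := hr₀min r hrT
          have h2 : ν r ≠ ν r₀ := by
            intro h
            apply hr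
            have h3 : ν r % p = ν r₀ % p := by rw [h]
            simp only [ν, Nat.mul_add_mod] at h3
            apply Fin.ext
            rw [← hgmod r, ← hgmod r₀]; exact h3
          exact_mod_cast lt_of_le_of_ne h1 (Ne.symm h2)
      · simp
    rw [ha] at hcoeff
    simp at hcoeff
  · -- spanning
    set N' := Submodule.span (PowerSeries k) (Set.range g) with hN'
    have hN'M : N' ≤ M := by
      rw [hN', Submodule.span_le]; rintro _ ⟨r, rfl⟩; exact hgM r
    apply le_antisymm hN'M
    have hdesc : ∀ (B d : ℕ) (f : RootDisk p k), f ∈ M →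
        (B : ℕ∞) ≤ (RootDisk.val f).order + (d : ℕ∞) →
        ∃ n' ∈ N', (B : ℕ∞) ≤ (RootDisk.val (f - n')).order := by
      intro B d
      induction d with
      | zero =>
        intro f hf hB
        exact ⟨0, N'.zero_mem, by simpa using hB⟩
      | succ d ih =>
        intro f hf hB
        by_cases hfB : (B : ℕ∞) ≤ (RootDisk.val f).order
        · exact ⟨0, N'.zero_mem, by simpa using hfB⟩
        · push_neg at hfB
          have hf0 : RootDisk.val f ≠ 0 := by
            intro h0; rw [h0, PowerSeries.order_zero] at hfB; exact not_top_lt hfB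
          set n := (RootDisk.val f).order.toNat with hn
          have hfo : (RootDisk.val f).order = (n : ℕ∞) := order_eq_coe hf0
          let r : Fin p := ⟨n % p, Nat.mod_lt _ hp⟩
          have hle : m r ≤ n := hmin r f n hf hfo rfl
          have hdvd : p ∣ n - m r := by
            apply (Nat.modEq_iff_dvd' hle).mp
            show m r % p = n % p
            rw [hgmod r]
          obtain ⟨j, hj⟩ := hdvd
          obtain ⟨a, ha⟩ := descent_step f (g r) n (m r) j hfo (hgord r) (by omega)
          have hf'M : f - a • g r ∈ M := M.sub_mem hf (M.smul_mem _ (hgM r))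
          have hB' : (B : ℕ∞) ≤ (RootDisk.val (f - a • g r)).order + (d : ℕ∞) := by
            calc (B : ℕ∞) ≤ (RootDisk.val f).order + ((d + 1 : ℕ) : ℕ∞) := hB
              _ = ((n + 1 : ℕ) : ℕ∞) + (d : ℕ∞) := by rw [hfo]; push_cast; ring
              _ ≤ _ := add_le_add_left ha _
          obtain ⟨n'', hn'', hB''⟩ := ih (f - a • g r) hf'M hB'
          refine ⟨a • g r + n'', N'.add_mem (N'.smul_mem _ (Submodule.subset_span ⟨r, rfl⟩)) hn'', ?_⟩
          rw [← sub_sub]; exact hB''
    have hI : Ideal.span {(PowerSeries.X : PowerSeries k)} ≤ Ideal.jacobson ⊥ := by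
      rw [Ideal.span_le, Set.singleton_subset_iff, SetLike.mem_coe, Ideal.mem_jacobson_bot]
      intro y
      rw [PowerSeries.isUnit_iff_constantCoeff]
      simp
    apply Submodule.le_of_le_smul_of_le_jacobson_bot hfg hI
    intro f hf
    obtain ⟨n', hn', hB⟩ := hdesc (p * (c + 1)) (p * (c + 1)) f hf le_add_self
    have hdvd : (PowerSeries.X : PowerSeries k) ^ (p * (c + 1)) ∣ RootDisk.val (f - n') := by
      rw [PowerSeries.X_pow_dvd_iff]
      intro i hi
      exact PowerSeries.coeff_of_lt_order i (lt_of_lt_of_le (by exact_mod_cast hi) hB)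
    obtain ⟨q, hq⟩ := hdvd
    have h1 : f - n' = (PowerSeries.X : PowerSeries k) •
        ((PowerSeries.X ^ c : PowerSeries k) • RootDisk.val.symm q) := by
      apply RootDisk.val.injective
      rw [hq, ← mul_smul, ← pow_succ', val_X_pow_smul, RingEquiv.apply_symm_apply]
    have h2 : f = n' + (f - n') := by abel
    rw [h2]
    refine Submodule.add_mem_sup hn' ?_
    rw [h1]
    exact Submodule.smul_mem_smul (Ideal.mem_span_singleton_self _) (hc _)

end Root

end Groth.Agent.Lib.Helper12.RootLattice
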