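import Mathlib
import Groth.Prelude.Def_Found
import Groth.Agent.Lib.Helper12.FlatDirected
import Groth.Agent.Lib.Helper5.RegLimitD
import Groth.Agent.Lib.Helper5.RegSmooth

/-!
# A Noetherian-fibred directed colimit of smooth algebras is a regular homomorphism
-/

set_option autoImplicit false
set_option linter.style.haveILetI false
universe u
open TensorProduct

namespace Groth.Agent.Lib.Helper12.SmoothLim

/-- regularity of a Noetherian ring presented as a directed colimit of regular rings -/
theorem isRegularRing_of_isColim {ι : Type u} [Preorder ι] [Nonempty ι] [IsDirectedOrder ι]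
    (G : ι → Type u) [∀ i, CommRing (G i)] (f : ∀ i j, i ≤ j → G i →+* G j)
    [DirectedSystem G fun i j h => f i j h]
    (H : Type u) [CommRing H] [IsNoetherianRing H] (o : ∀ i, G i →+* H)
    (ho : ∀ i j h x, o j (f i j h x) = o i x)
    (hsurj : ∀ z : H, ∃ i y, o i y = z) (hzero : ∀ i y, o i y = 0 → ∃ j h, f i j h y = 0)
    (hreg : ∀ i, IsRegularRing (G i)) : IsRegularRing H := by
  let Φ : Ring.DirectLimit G (fun i j h => f i j h) →+* H :=
    Ring.DirectLimit.lift G (fun i j h => f i j h) H o ho
  have hΦ : ∀ i y, Φ (Ring.DirectLimit.of G (fun i j h => f i j h) i y) = o i y := fun i y =>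
    Ring.DirectLimit.lift_of _ _ _ _ _
  have hbij : Function.Bijective Φ := by
    constructor
    · rw [injective_iff_map_eq_zero]
      intro z hz
      obtain ⟨i, y, rfl⟩ := Ring.DirectLimit.exists_of z
      rw [hΦ] at hz
      obtain ⟨j, h, hj⟩ := hzero i y hz
      rw [← Ring.DirectLimit.of_f h, hj, map_zero]
    · intro z
      obtain ⟨i, y, rfl⟩ := hsurj z
      exact ⟨_, hΦ i y⟩
  let e : Ring.DirectLimit G (fun i j h => f i j h) ≃+* H := RingEquiv.ofBijective Φ hbij
  haveI : IsNoetherianRing (Ring.DirectLimit G (fun i j h => f i j h)) :=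
    isNoetherianRing_of_ringEquiv _ e.symm
  haveI := Groth.Agent.Lib.Helper5.RegLimit.regular_directLimit G f hreg
  exact IsRegularRing.of_ringEquiv e

end Groth.Agent.Lib.Helper12.SmoothLim
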