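import Mathlib
import Groth.Prelude.Def_Found
import Groth.Agent.Lib.Helper12.SmoothLimA

/-!
# Directed colimits of algebras: structure maps, flatness, tensor products
-/

set_option autoImplicit false
set_option linter.style.haveILetI false
universe u
open TensorProduct

namespace Groth.Agent.Lib.Helper12.SmoothLim

variable (R : Type u) [CommRing R] {ι : Type u} [Preorder ι] [IsDirectedOrder ι] [Nonempty ι]
  (G : ι → Type u) [∀ i, CommRing (G i)] [∀ i, Algebra R (G i)]
  (f : ∀ i j : ι, i ≤ j → (G i →ₐ[R] G j)) [DirectedSystem G (fun i j h => f i j h)]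

/-- the structure maps into the direct limit, as algebra maps -/
noncomputable def oA (i : ι) : G i →ₐ[R] DirectLimit G f :=
  { DirectLimit.Ring.of G f i with
    commutes' := fun r => (DirectLimit.algebraMap_def i r).symm }

theorem oA_f (i j : ι) (h : i ≤ j) (x : G i) : oA R G f j (f i j h x) = oA R G f i x :=
  DirectLimit.Ring.of_f h x

theorem oA_surj (z : DirectLimit G f) : ∃ i y, oA R G f i y = z := by
  obtain ⟨i, x, rfl⟩ := DirectLimit.exists_eq_mk f z
  exact ⟨i, x, rfl⟩

theorem oA_zero (i : ι) (y : G i) (h : oA R G f i y = 0) : ∃ j hij, f i j hij y = 0 :=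
  (DirectLimit.exists_eq_zero ⟨i, y⟩).mp h

theorem flat_directLimit [∀ i, Module.Flat R (G i)] : Module.Flat R (DirectLimit G f) :=
  flat_of_directed_system G f (oA R G f) (oA_f R G f) (oA_surj R G f) (oA_zero R G f)

end Groth.Agent.Lib.Helper12.SmoothLim
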