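import Mathlib
import Groth.Prelude.Def_Found
import Groth.Agent.Lib.Helper12.SmoothLimB

/-!
# Tensor products commute with directed colimits of algebras (presentation form)
-/

set_option autoImplicit false
set_option linter.style.haveILetI false
universe u
open TensorProduct

namespace Groth.Agent.Lib.Helper12.SmoothLim

variable (R : Type u) [CommRing R] {ι : Type u} [Preorder ι] [IsDirectedOrder ι] [Nonempty ι]
  (G : ι → Type u) [∀ i, CommRing (G i)] [∀ i, Algebra R (G i)]
  (f : ∀ i j : ι, i ≤ j → (G i →ₐ[R] G j)) [DirectedSystem G (fun i j h => f i j h)]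
  (k' : Type u) [CommRing k'] [Algebra R k']

/-- the base-changed transition maps -/
noncomputable def f' (i j : ι) (h : i ≤ j) : k' ⊗[R] G i →+* k' ⊗[R] G j :=
  (Algebra.TensorProduct.map (AlgHom.id k' k') (f i j h)).toRingHom

/-- the base-changed structure maps -/
noncomputable def o' (i : ι) : k' ⊗[R] G i →+* k' ⊗[R] DirectLimit G f :=
  (Algebra.TensorProduct.map (AlgHom.id k' k') (oA R G f i)).toRingHom

theorem f'_tmul (i j : ι) (h : i ≤ j) (a : k') (x : G i) :
    f' R G f k' i j h (a ⊗ₜ x) = a ⊗ₜ f i j h x := by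
  simp [f']

theorem o'_tmul (i : ι) (a : k') (x : G i) :
    o' R G f k' i (a ⊗ₜ x) = a ⊗ₜ oA R G f i x := by
  simp [o']

instance : DirectedSystem (fun i => k' ⊗[R] G i) (fun i j h => f' R G f k' i j h) where
  map_self i x := by
    induction x using TensorProduct.induction_on with
    | zero => simp
    | tmul a b =>
      rw [f'_tmul]
      congr 1
      exact DirectedSystem.map_self' (f := fun i j h => f i j h) b
    | add x y hx hy => rw [map_add, hx, hy]
  map_map k j i hij hjk x := by
    induction x using TensorProduct.induction_on with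
    | zero => simp
    | tmul a b =>
      rw [f'_tmul, f'_tmul, f'_tmul]
      congr 1
      exact DirectedSystem.map_map' (f := fun i j h => f i j h) hij hjk b
    | add x y hx hy => rw [map_add, map_add, map_add, hx, hy]

theorem o'_f' (i j : ι) (h : i ≤ j) (x : k' ⊗[R] G i) :
    o' R G f k' j (f' R G f k' i j h x) = o' R G f k' i x := by
  induction x using TensorProduct.induction_on with
  | zero => simp
  | tmul a b => rw [f'_tmul, o'_tmul, o'_tmul, oA_f]
  | add x y hx hy => rw [map_add, map_add, map_add, hx, hy]

theorem o'_surj (z : k' ⊗[R] DirectLimit G f) : ∃ i y, o' R G f k' i y = z := by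
  induction z using TensorProduct.induction_on with
  | zero => exact ⟨Classical.arbitrary ι, 0, map_zero _⟩
  | tmul a b =>
    obtain ⟨i, x, rfl⟩ := oA_surj R G f b
    exact ⟨i, a ⊗ₜ x, o'_tmul R G f k' i a x⟩
  | add x y hx hy =>
    obtain ⟨i, x', rfl⟩ := hx
    obtain ⟨j, y', rfl⟩ := hy
    obtain ⟨k, hik, hjk⟩ := exists_ge_ge i j
    refine ⟨k, f' R G f k' i k hik x' + f' R G f k' j k hjk y', ?_⟩
    rw [map_add, o'_f', o'_f']

end Groth.Agent.Lib.Helper12.SmoothLim
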