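import Mathlib
import Groth.Prelude.Def_Found
import Groth.Agent.Lib.Helper12.SmoothLimC

/-!
# Tensor products commute with directed colimits of algebras: kernel control
-/

set_option autoImplicit false
set_option linter.style.haveILetI false
universe u
open TensorProduct

namespace Groth.Agent.Lib.Helper12.SmoothLim

variable (R : Type u) [CommRing R] {ι : Type u} [Preorder ι] [IsDirectedOrder ι] [Nonempty ι]
  (G : ι → Type u) [∀ i, CommRing (G i)] [∀ i, Algebra R (G i)]
  (f : ∀ i j : ι, i ≤ j → (G i →ₐ[R] G j)) [DirectedSystem G (fun i j h => f i j h)]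
  (k' : Type u) [CommRing k'] [Algebra R k']

theorem o'_zero (i : ι) (y : k' ⊗[R] G i) (h : o' R G f k' i y = 0) :
    ∃ j hij, f' R G f k' i j hij y = 0 := by
  classical
  let fl : ∀ i j, i ≤ j → G i →ₗ[R] G j := fun i j h => (f i j h).toLinearMap
  haveI : DirectedSystem G (fun i j h => fl i j h) :=
    ⟨fun i x => DirectedSystem.map_self' (f := fun i j h => f i j h) x,
      fun _ _ _ hij hjk x => DirectedSystem.map_map' (f := fun i j h => f i j h) hij hjk x⟩
  let θ : DirectLimit G f →ₗ[R] Module.DirectLimit G fl :=
    DirectLimit.Module.lift R ι G f (fun i => Module.DirectLimit.of R ι G fl i)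
      (fun i j hij x => Module.DirectLimit.of_f)
  have hθ : ∀ i x, θ (oA R G f i x) = Module.DirectLimit.of R ι G fl i x := fun i x => rfl
  have ho' : ∀ y : k' ⊗[R] G i,
      o' R G f k' i y = LinearMap.lTensor k' (oA R G f i).toLinearMap y := by
    intro y
    induction y using TensorProduct.induction_on with
    | zero => simp
    | tmul a b => rw [o'_tmul]; rfl
    | add x y hx hy => rw [map_add, map_add, hx, hy]
  have h1 : LinearMap.lTensor k' (Module.DirectLimit.of R ι G fl i) y = 0 := by
    have h2 : LinearMap.lTensor k' (Module.DirectLimit.of R ι G fl i) =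
        (LinearMap.lTensor k' θ).comp (LinearMap.lTensor k' (oA R G f i).toLinearMap) := by
      rw [← LinearMap.lTensor_comp]
      congr 1
    rw [h2, LinearMap.comp_apply, ← ho', h, map_zero]
  have h3 : ∀ y : k' ⊗[R] G i, TensorProduct.directLimitRight fl k'
      (LinearMap.lTensor k' (Module.DirectLimit.of R ι G fl i) y) =
      Module.DirectLimit.of R ι (fun i => k' ⊗[R] G i)
        (fun i j h => LinearMap.lTensor k' (fl i j h)) i y := by
    intro y
    induction y using TensorProduct.induction_on with
    | zero => simp
    | tmul a b =>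
      rw [LinearMap.lTensor_tmul, TensorProduct.directLimitRight_tmul_of]
    | add x y hx hy => rw [map_add, map_add, map_add, hx, hy]
  have h4 : Module.DirectLimit.of R ι (fun i => k' ⊗[R] G i)
      (fun i j h => LinearMap.lTensor k' (fl i j h)) i y = 0 := by
    rw [← h3, h1, map_zero]
  obtain ⟨j, hij, hj⟩ := Module.DirectLimit.of.zero_exact h4
  refine ⟨j, hij, ?_⟩
  have hf' : ∀ y : k' ⊗[R] G i,
      f' R G f k' i j hij y = LinearMap.lTensor k' (fl i j hij) y := by
    intro y
    induction y using TensorProduct.induction_on with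
    | zero => simp
    | tmul a b => rw [f'_tmul]; rfl
    | add x y hx hy => rw [map_add, map_add, hx, hy]
  rw [hf']
  exact hj

end Groth.Agent.Lib.Helper12.SmoothLim
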