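import Mathlib
import Groth.Prelude.Def_Found
import Groth.Agent.Lib.Helper12.SmoothLimD

/-!
# A directed colimit of smooth algebras with Noetherian fibres is a regular homomorphism
-/

set_option autoImplicit false
set_option linter.style.haveILetI false
universe u
open TensorProduct

namespace Groth.Agent.Lib.Helper12.SmoothLim

variable (R : Type u) [CommRing R] {ι : Type u} [Preorder ι] [IsDirectedOrder ι] [Nonempty ι]
  (G : ι → Type u) [∀ i, CommRing (G i)] [∀ i, Algebra R (G i)]
  (f : ∀ i j : ι, i ≤ j → (G i →ₐ[R] G j)) [DirectedSystem G (fun i j h => f i j h)]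

/-- **S9308** -/
theorem isRegularHom_directLimit_of_smooth (hs : ∀ i, Algebra.Smooth R (G i))
    (hN : ∀ (p : Ideal R) [p.IsPrime], IsNoetherianRing (p.Fiber (DirectLimit G f))) :
    CAlg.IsRegularHom R (DirectLimit G f) := by
  haveI : ∀ i, Module.Flat R (G i) := fun i => by
    haveI := hs i
    infer_instance
  refine ⟨flat_directLimit R G f, fun p hp => ⟨hN p, ?_⟩⟩
  intro k' _ _ hfin
  haveI := hN p
  letI : Algebra R k' :=
    ((algebraMap p.ResidueField k').comp (algebraMap R p.ResidueField)).toAlgebra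
  haveI hst : IsScalarTower R p.ResidueField k' := IsScalarTower.of_algebraMap_eq (fun _ => rfl)
  let e4 : k' ⊗[p.ResidueField] (p.ResidueField ⊗[R] DirectLimit G f) ≃ₐ[k']
      k' ⊗[R] DirectLimit G f :=
    Algebra.TensorProduct.cancelBaseChange R p.ResidueField k' k' (DirectLimit G f)
  have hfinT : Module.Finite (p.Fiber (DirectLimit G f))
      ((p.Fiber (DirectLimit G f)) ⊗[p.ResidueField] k') := inferInstance
  have hNT : IsNoetherianRing ((p.Fiber (DirectLimit G f)) ⊗[p.ResidueField] k') :=
    IsNoetherianRing.of_finite (p.Fiber (DirectLimit G f))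
      ((p.Fiber (DirectLimit G f)) ⊗[p.ResidueField] k')
  have hNT2 : IsNoetherianRing (k' ⊗[p.ResidueField] (p.Fiber (DirectLimit G f))) :=
    isNoetherianRing_of_ringEquiv _
      (Algebra.TensorProduct.comm p.ResidueField (p.Fiber (DirectLimit G f)) k').toRingEquiv
  haveI hNT3 : IsNoetherianRing (k' ⊗[R] DirectLimit G f) :=
    isNoetherianRing_of_ringEquiv _ e4.toRingEquiv
  haveI : IsRegularRing (k' ⊗[R] DirectLimit G f) :=
    isRegularRing_of_isColim (fun i => k' ⊗[R] G i) (f' R G f k') (k' ⊗[R] DirectLimit G f)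
      (o' R G f k') (o'_f' R G f k') (o'_surj R G f k') (o'_zero R G f k')
      (fun i => by
        haveI := hs i
        haveI : IsRegularRing k' := inferInstance
        exact Groth.Agent.Lib.Helper5.RegSmooth.isRegularRing_of_smooth k' (k' ⊗[R] G i))
  exact IsRegularRing.of_ringEquiv (R := k' ⊗[R] DirectLimit G f) e4.symm.toRingEquiv

end Groth.Agent.Lib.Helper12.SmoothLim
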