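import Mathlib.RingTheory.FinitePresentation
import Mathlib.RingTheory.Localization.Away.Basic
import Mathlib.RingTheory.Localization.Integer

set_option autoImplicit false
universe u

/-!
# Lifting a ring map from a finitely presented `ℤ`-algebra into a localization to a finite stage
-/

namespace Groth.Agent.Lib.Helper12.SpreadOut

open IsLocalization

variable {A : Type u} [CommRing A] (B : Type u) [CommRing B] [Algebra A B] (M : Submonoid A)
  [IsLocalization M B]

theorem isUnit_algebraMap_of_mem {s : A} (hs : s ∈ M) : IsUnit (algebraMap A B s) :=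
  IsLocalization.map_units B (⟨s, hs⟩ : M)

theorem isUnit_ofId_powers {s : A} (hs : s ∈ M) (y : Submonoid.powers s) :
    IsUnit (Algebra.ofId A B y) := by
  obtain ⟨_, e, rfl⟩ := y
  show IsUnit (algebraMap A B (s ^ e))
  rw [map_pow]
  exact (isUnit_algebraMap_of_mem B M hs).pow e

/-- the canonical map `A_s → B` for `s ∈ M` -/
noncomputable def awayTo {s : A} (hs : s ∈ M) : Localization.Away s →ₐ[A] B :=
  IsLocalization.liftAlgHom (M := Submonoid.powers s) (f := Algebra.ofId A B)
    (isUnit_ofId_powers B M hs)

theorem algHom_away_ext {s : A} {T : Type*} [CommRing T] [Algebra A T]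
    (f g : Localization.Away s →ₐ[A] T) : f = g := by
  apply AlgHom.coe_ringHom_injective
  apply IsLocalization.ringHom_ext (Submonoid.powers s)
  ext a
  simp

theorem ringHom_away_ext {s : A} {T : Type*} [CommRing T] [Algebra A T]
    (f g : Localization.Away s →+* T) (hf : ∀ a, f (algebraMap A _ a) = algebraMap A T a)
    (hg : ∀ a, g (algebraMap A _ a) = algebraMap A T a) : f = g := by
  apply IsLocalization.ringHom_ext (Submonoid.powers s)
  ext a
  simp [hf, hg]

/-- an element of `A_s` killed in `B` is killed by some element of `M` -/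
theorem exists_mul_eq_zero_of_awayTo_eq_zero {s : A} (hs : s ∈ M) (x : Localization.Away s)
    (hx : awayTo B M hs x = 0) :
    ∃ t ∈ M, algebraMap A (Localization.Away s) t * x = 0 := by
  obtain ⟨c, ⟨_, e, rfl⟩, rfl⟩ := IsLocalization.exists_mk'_eq (Submonoid.powers s) x
  set y : Submonoid.powers s := ⟨s ^ e, e, rfl⟩ with hy
  have h0 : IsLocalization.mk' (Localization.Away s) c y *
      algebraMap A (Localization.Away s) (s ^ e) = algebraMap A (Localization.Away s) c :=
    IsLocalization.mk'_spec _ c y
  have h1 : algebraMap A B c = 0 := by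
    have := congrArg (awayTo B M hs) h0
    rw [map_mul, AlgHom.commutes, AlgHom.commutes] at this
    rw [← this]
    change awayTo B M hs (IsLocalization.mk' (Localization.Away s) c y) * _ = 0
    rw [hx, zero_mul]
  obtain ⟨m, hm⟩ := (IsLocalization.map_eq_zero_iff M B c).1 h1
  refine ⟨m, m.2, ?_⟩
  have hu : IsUnit (algebraMap A (Localization.Away s) (s ^ e)) :=
    IsLocalization.map_units (Localization.Away s) y
  change algebraMap A (Localization.Away s) m * IsLocalization.mk' (Localization.Away s) c y = 0
  rw [← hu.mul_left_eq_zero, mul_assoc, h0, ← map_mul, hm, map_zero]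

end Groth.Agent.Lib.Helper12.SpreadOut
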