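import Groth.Agent.Lib.Helper12.SpreadOutA

set_option autoImplicit false
universe u

namespace Groth.Agent.Lib.Helper12.SpreadOut

open IsLocalization

variable {A : Type u} [CommRing A] (B : Type u) [CommRing B] [Algebra A B] (M : Submonoid A)
  [IsLocalization M B]

/-- finitely many elements of `A_s` killed in `B` are killed by a common element of `M` -/
theorem exists_mul_eq_zero_of_finset {s : A} (hs : s ∈ M) (T : Finset (Localization.Away s))
    (hT : ∀ x ∈ T, awayTo B M hs x = 0) :
    ∃ t ∈ M, ∀ x ∈ T, algebraMap A (Localization.Away s) t * x = 0 := by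
  classical
  induction T using Finset.induction_on with
  | empty => exact ⟨1, M.one_mem, fun x hx => absurd hx (Finset.notMem_empty x)⟩
  | insert a T _ ih =>
    obtain ⟨t, ht, h⟩ := ih (fun x hx => hT x (Finset.mem_insert_of_mem hx))
    obtain ⟨t', ht', h'⟩ := exists_mul_eq_zero_of_awayTo_eq_zero B M hs a
      (hT a (Finset.mem_insert_self a T))
    refine ⟨t * t', M.mul_mem ht ht', fun x hx => ?_⟩
    rcases Finset.mem_insert.mp hx with rfl | hx
    · rw [map_mul, mul_assoc, h', mul_zero]
    · rw [map_mul, mul_comm (algebraMap A _ t), mul_assoc, h x hx, mul_zero]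

/-- the transition map `A_s → A_{s t}` -/
noncomputable def awayMul (s t : A) : Localization.Away s →ₐ[A] Localization.Away (s * t) :=
  IsLocalization.liftAlgHom (M := Submonoid.powers s) (f := Algebra.ofId A _) (by
    rintro ⟨_, e, rfl⟩
    show IsUnit (algebraMap A (Localization.Away (s * t)) (s ^ e))
    rw [map_pow]
    refine IsUnit.pow e ?_
    have h := IsLocalization.Away.algebraMap_isUnit (S := Localization.Away (s * t)) (s * t)
    rw [map_mul] at h
    exact isUnit_of_mul_isUnit_left h)

theorem isUnit_algebraMap_awayMul_right (s t : A) :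
    IsUnit (algebraMap A (Localization.Away (s * t)) t) := by
  have h := IsLocalization.Away.algebraMap_isUnit (S := Localization.Away (s * t)) (s * t)
  rw [map_mul] at h
  exact isUnit_of_mul_isUnit_right h

theorem exists_lift_away {P : Type*} [CommRing P] [Algebra.FinitePresentation ℤ P]
    (g : P →+* B) :
    ∃ s, ∃ hs : s ∈ M, ∃ h : P →+* Localization.Away s,
      ((awayTo B M hs : Localization.Away s →ₐ[A] B) : Localization.Away s →+* B).comp h = g := by
  classical
  obtain ⟨n, f, hf, hker⟩ := (Algebra.FinitePresentation.out :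
    ∃ n, ∃ f : MvPolynomial (Fin n) ℤ →ₐ[ℤ] P, _)
  obtain ⟨⟨s₀, hs₀⟩, hint⟩ := IsLocalization.exist_integer_multiples_of_finite M
    (fun i : Fin n => g (f (MvPolynomial.X i)))
  choose a ha using hint
  -- first stage
  let y₀ : Submonoid.powers s₀ := ⟨s₀, Submonoid.mem_powers s₀⟩
  let γ₀ : MvPolynomial (Fin n) ℤ →+* Localization.Away s₀ :=
    MvPolynomial.eval₂Hom (Int.castRingHom _)
      (fun i => IsLocalization.mk' (Localization.Away s₀) (a i) y₀)
  have hγ₀ : ((awayTo B M hs₀ : Localization.Away s₀ →ₐ[A] B) :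
      Localization.Away s₀ →+* B).comp γ₀ = g.comp (f : MvPolynomial (Fin n) ℤ →+* P) := by
    apply MvPolynomial.ringHom_ext
    · intro r
      simp
    · intro i
      have hu : IsUnit (algebraMap A B s₀) := isUnit_algebraMap_of_mem B M hs₀
      have h0 : IsLocalization.mk' (Localization.Away s₀) (a i) y₀ *
          algebraMap A (Localization.Away s₀) s₀ = algebraMap A (Localization.Away s₀) (a i) :=
        IsLocalization.mk'_spec _ (a i) y₀
      have h1 := congrArg (awayTo B M hs₀) h0
      rw [map_mul, AlgHom.commutes, AlgHom.commutes, ha i, Algebra.smul_def, mul_comm] at h1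
      have h2 := hu.mul_left_cancel h1
      simpa [γ₀] using h2
  obtain ⟨T, hT⟩ := hker
  obtain ⟨t, ht, htT⟩ := exists_mul_eq_zero_of_finset B M hs₀ (T.image γ₀) (by
    intro x hx
    obtain ⟨k, hk, rfl⟩ := Finset.mem_image.mp hx
    have hk' : k ∈ RingHom.ker f.toRingHom := hT ▸ Ideal.subset_span hk
    have := congrArg (fun φ : MvPolynomial (Fin n) ℤ →+* B => φ k) hγ₀
    simp only [RingHom.comp_apply] at this
    rw [RingHom.mem_ker] at hk'
    change awayTo B M hs₀ (γ₀ k) = 0
    have h3 : (f : MvPolynomial (Fin n) ℤ →+* P) k = 0 := hk'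
    rw [h3, map_zero] at this
    exact this)
  have hst : s₀ * t ∈ M := M.mul_mem hs₀ ht
  let γ : MvPolynomial (Fin n) ℤ →+* Localization.Away (s₀ * t) :=
    ((awayMul s₀ t : _ →ₐ[A] _) : Localization.Away s₀ →+* Localization.Away (s₀ * t)).comp γ₀
  have hγker : RingHom.ker f.toRingHom ≤ RingHom.ker γ := by
    rw [← hT, Ideal.span_le]
    intro k hk
    rw [SetLike.mem_coe, RingHom.mem_ker]
    have h1 := htT (γ₀ k) (Finset.mem_image_of_mem γ₀ hk)
    have h2 := congrArg (awayMul s₀ t) h1
    rw [map_mul, AlgHom.commutes, map_zero] at h2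
    exact (isUnit_algebraMap_awayMul_right s₀ t).mul_right_eq_zero.mp h2
  let h : P →+* Localization.Away (s₀ * t) :=
    RingHom.liftOfSurjective (f : MvPolynomial (Fin n) ℤ →+* P) hf ⟨γ, hγker⟩
  have hh : h.comp (f : MvPolynomial (Fin n) ℤ →+* P) = γ :=
    RingHom.liftOfRightInverse_comp _ _ _ _
  refine ⟨s₀ * t, hst, h, ?_⟩
  have hsurj : Function.Surjective (f : MvPolynomial (Fin n) ℤ →+* P) := hf
  apply RingHom.cancel_right hsurj |>.mp
  rw [RingHom.comp_assoc, hh, ← hγ₀]
  show _ = ((awayTo B M hs₀ : Localization.Away s₀ →ₐ[A] B) : Localization.Away s₀ →+* B).comp γ₀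
  have : (awayTo B M hst).comp (awayMul s₀ t) = awayTo B M hs₀ := algHom_away_ext _ _
  rw [← this]
  rfl

end Groth.Agent.Lib.Helper12.SpreadOut
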