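import Groth.Agent.Lib.Helper12.SpreadOutB
import Mathlib.RingTheory.Smooth.NoetherianDescent
import Mathlib.RingTheory.Etale.Basic

set_option autoImplicit false
universe u

/-!
# Spreading out an étale algebra over a localization `M⁻¹A` to an étale `A`-algebra
-/

namespace Groth.Agent.Lib.Helper12.SpreadOut

open IsLocalization TensorProduct

variable {A : Type u} [CommRing A] (B : Type u) [CommRing B] [Algebra A B] (M : Submonoid A)
  [IsLocalization M B]

section Model

variable (B₀ : Subalgebra ℤ B) (C₀ : Type u) [CommRing C₀] [Algebra B₀ C₀]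

/-- the model `A_s ⊗[B₀] C₀` with its `A`-algebra structure -/
theorem model_aux [Algebra.Etale B₀ C₀] {s : A} (hs : s ∈ M)
    (h : B₀ →+* Localization.Away s)
    (hh : ((awayTo B M hs : Localization.Away s →ₐ[A] B) : Localization.Away s →+* B).comp h =
      (B₀.val : B₀ →+* B)) :
    ∃ (C' : Type u) (_ : CommRing C') (_ : Algebra A C') (_ : Algebra.Etale A C')
      (φ : C' →ₐ[A] B ⊗[B₀] C₀),
      (∀ y : B ⊗[B₀] C₀, ∃ m ∈ M, ∃ c' : C', φ c' = m • y) ∧
      (∀ (T : Type u) [CommRing T] [Algebra A T] [Algebra B T] [IsScalarTower A B T]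
        (ψ : C' →ₐ[A] T), ∃ ψ' : B ⊗[B₀] C₀ →ₐ[B] T, ∀ c', ψ' (φ c') = ψ c') := by
  letI : Algebra B₀ (Localization.Away s) := h.toAlgebra
  letI : Algebra (Localization.Away s) B := (awayTo B M hs).toRingHom.toAlgebra
  haveI : IsScalarTower A (Localization.Away s) B :=
    .of_algebraMap_eq (fun a => ((awayTo B M hs).commutes a).symm)
  haveI : IsScalarTower B₀ (Localization.Away s) B :=
    .of_algebraMap_eq (fun b => (congrArg (fun f : B₀ →+* B => f b) hh).symm)
  haveI : SMulCommClass B₀ A (Localization.Away s) :=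
    ⟨fun b a x => by simp only [Algebra.smul_def]; ring⟩
  haveI : SMulCommClass B₀ A B :=
    ⟨fun b a x => by simp only [Algebra.smul_def]; ring⟩
  haveI : Algebra.Etale A (Localization.Away s) := Algebra.Etale.of_isLocalizationAway s
  haveI : Algebra.Etale A (Localization.Away s ⊗[B₀] C₀) :=
    Algebra.Etale.comp A (Localization.Away s) _
  let φ₀ : Localization.Away s ⊗[B₀] C₀ →ₐ[Localization.Away s] B ⊗[B₀] C₀ :=
    Algebra.TensorProduct.map (Algebra.ofId (Localization.Away s) B) (AlgHom.id B₀ C₀)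
  let φ : Localization.Away s ⊗[B₀] C₀ →ₐ[A] B ⊗[B₀] C₀ := φ₀.restrictScalars A
  refine ⟨Localization.Away s ⊗[B₀] C₀, inferInstance, inferInstance, inferInstance, φ, ?_, ?_⟩
  · intro y
    induction y using TensorProduct.induction_on with
    | zero => exact ⟨1, M.one_mem, 0, by simp⟩
    | tmul b c₀ =>
      obtain ⟨⟨a, m⟩, hb⟩ := IsLocalization.surj M b
      refine ⟨m, m.2, algebraMap A (Localization.Away s) a ⊗ₜ c₀, ?_⟩
      show φ₀ _ = _
      simp only [φ₀, Algebra.TensorProduct.map_tmul, AlgHom.id_apply, Algebra.ofId_apply,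
        TensorProduct.smul_tmul']
      rw [← IsScalarTower.algebraMap_apply, ← hb, Algebra.smul_def, mul_comm]
    | add y₁ y₂ h₁ h₂ =>
      obtain ⟨m₁, hm₁, c₁, hc₁⟩ := h₁
      obtain ⟨m₂, hm₂, c₂, hc₂⟩ := h₂
      refine ⟨m₁ * m₂, M.mul_mem hm₁ hm₂, m₂ • c₁ + m₁ • c₂, ?_⟩
      rw [map_add, map_smul, map_smul, hc₁, hc₂, smul_add, smul_smul, smul_smul, mul_comm m₂ m₁]
  · intro T _ _ _ _ ψ
    have hψ : ∀ z : Localization.Away s, ψ (algebraMap _ _ z) = algebraMap B T (awayTo B M hs z) := by
      intro z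
      have := ringHom_away_ext (T := T)
        ((ψ : _ →+* T).comp (algebraMap (Localization.Away s) (Localization.Away s ⊗[B₀] C₀)))
        ((algebraMap B T).comp ((awayTo B M hs : Localization.Away s →ₐ[A] B) : _ →+* B))
        (fun a => by
          simp only [RingHom.comp_apply]
          rw [← IsScalarTower.algebraMap_apply A (Localization.Away s)]
          exact ψ.commutes a)
        (fun a => by
          simp only [RingHom.comp_apply, RingHom.coe_coe, AlgHom.commutes]
          rw [← IsScalarTower.algebraMap_apply])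
      exact congrArg (fun f : Localization.Away s →+* T => f z) this
    let g₀ : C₀ →ₐ[B₀] T :=
      { toRingHom := (ψ : Localization.Away s ⊗[B₀] C₀ →+* T).comp
          ((Algebra.TensorProduct.includeRight : C₀ →ₐ[B₀] Localization.Away s ⊗[B₀] C₀) :
            C₀ →+* Localization.Away s ⊗[B₀] C₀)
        commutes' := fun b₀ => by
          show ψ ((1 : Localization.Away s) ⊗ₜ[B₀] algebraMap B₀ C₀ b₀) = _
          rw [Algebra.algebraMap_eq_smul_one, ← TensorProduct.smul_tmul,
            ← Algebra.algebraMap_eq_smul_one]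
          have h1 : (algebraMap B₀ (Localization.Away s) b₀) ⊗ₜ[B₀] (1 : C₀) =
              algebraMap (Localization.Away s) (Localization.Away s ⊗[B₀] C₀)
                (algebraMap B₀ (Localization.Away s) b₀) := rfl
          rw [h1, hψ]
          have h2 : awayTo B M hs (algebraMap B₀ (Localization.Away s) b₀) = (b₀ : B) :=
            congrArg (fun f : B₀ →+* B => f b₀) hh
          rw [h2]
          rfl }
    let ψ' : B ⊗[B₀] C₀ →ₐ[B] T :=
      Algebra.TensorProduct.lift (Algebra.ofId B T) g₀ (fun _ _ => Commute.all _ _)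
    refine ⟨ψ', fun c' => ?_⟩
    induction c' using TensorProduct.induction_on with
    | zero => simp
    | tmul x c₀ =>
      show ψ' (φ₀ (x ⊗ₜ c₀)) = ψ (x ⊗ₜ c₀)
      simp only [φ₀, ψ', Algebra.TensorProduct.map_tmul, AlgHom.id_apply, Algebra.ofId_apply,
        Algebra.TensorProduct.lift_tmul]
      have h3 : x ⊗ₜ[B₀] c₀ = algebraMap (Localization.Away s) (Localization.Away s ⊗[B₀] C₀) x *
          ((1 : Localization.Away s) ⊗ₜ[B₀] c₀) := by
        rw [Algebra.TensorProduct.algebraMap_apply, Algebra.TensorProduct.tmul_mul_tmul]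
        simp
      rw [h3, map_mul, hψ]
      rfl
    | add y₁ y₂ h₁ h₂ => rw [map_add, map_add, map_add, h₁, h₂]

end Model

end Groth.Agent.Lib.Helper12.SpreadOut
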