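import Mathlib
import Groth.Agent.Lib.Helper12.SerreNormalA
import Groth.Agent.Lib.Helper12.AssFlatB
import Groth.Agent.Lib.Helper12.HensFCD
import Groth.Agent.Lib.Helper17.HeightOne

/-!
# Local analysis at height-one primes of a Noetherian normal domain
-/

set_option autoImplicit false
universe u

namespace Groth.Agent.Lib.Helper12.WUnr

open IsLocalRing

/-- Going down: heights do not increase under contraction along a flat map. -/
theorem height_comap_le_of_flat (R T : Type u) [CommRing R] [CommRing T] [Algebra R T]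
    [Module.Flat R T] (M : Ideal T) [hM : M.IsPrime] :
    (M.comap (algebraMap R T)).height ≤ M.height := by
  haveI : (M.comap (algebraMap R T)).IsPrime := Ideal.comap_isPrime _ _
  have hh1 : M.height = Order.height (⟨M, hM⟩ : PrimeSpectrum T) :=
    PrimeSpectrum.height_eq_orderHeight ⟨M, hM⟩
  have hh2 : (M.comap (algebraMap R T)).height =
      Order.height (PrimeSpectrum.comap (algebraMap R T) ⟨M, hM⟩) :=
    PrimeSpectrum.height_eq_orderHeight (PrimeSpectrum.comap (algebraMap R T) ⟨M, hM⟩)
  rw [hh1, hh2, Order.height_le_iff']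
  intro l hl
  haveI : M.LiesOver l.last.asIdeal := ⟨by rw [hl]; rfl⟩
  obtain ⟨L, hlen, hlast, -⟩ := Ideal.exists_ltSeries_of_hasGoingDown l M
  rw [← hlen]
  exact Order.length_le_height (le_of_eq hlast)

section Unif

variable (B : Type u) [CommRing B] [IsDomain B] [IsNoetherianRing B] [IsIntegrallyClosed B]
  (q : Ideal B) [q.IsPrime]

/-- Every nonzero element is a unit multiple of a power of the uniformizer, written in `B`. -/
theorem exists_unif_data (hq : q.height ≤ 1) (ϖ : B)
    (hϖ : maximalIdeal (Localization.AtPrime q) =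
      Ideal.span {algebraMap B (Localization.AtPrime q) ϖ})
    (x : B) (hx : x ≠ 0) :
    ∃ (v : ℕ) (σ σ' : B), σ ∉ q ∧ σ' ∉ q ∧ x * σ = σ' * ϖ ^ v := by
  have hle : q.primeCompl ≤ nonZeroDivisors B := q.primeCompl_le_nonZeroDivisors
  have hinj : Function.Injective (algebraMap B (Localization.AtPrime q)) :=
    IsLocalization.injective _ hle
  haveI : IsDomain (Localization.AtPrime q) := IsLocalization.isDomain_localization hle
  obtain ⟨-, hpow⟩ := Groth.Agent.Lib.Helper17.HeightOne.localization_height_le_one B q hq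
  have hx' : Ideal.span {algebraMap B (Localization.AtPrime q) x} ≠ ⊥ := by
    rw [Ne, Ideal.span_singleton_eq_bot, map_eq_zero_iff _ hinj]; exact hx
  obtain ⟨v, hv⟩ := hpow _ hx'
  rw [hϖ, Ideal.span_singleton_pow, Ideal.span_singleton_eq_span_singleton] at hv
  obtain ⟨u, hu⟩ := hv
  obtain ⟨σ, σ', hσ⟩ := IsLocalization.exists_mk'_eq q.primeCompl (u : Localization.AtPrime q)
  have hσq : σ ∉ q := by
    intro hmem
    have : IsLocalization.mk' (Localization.AtPrime q) σ σ' ∈
        maximalIdeal (Localization.AtPrime q) :=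
      (IsLocalization.AtPrime.mk'_mem_maximal_iff (Localization.AtPrime q) q σ σ').mpr hmem
    rw [hσ] at this
    exact (IsLocalRing.mem_maximalIdeal _).mp this u.isUnit
  refine ⟨v, σ, σ', hσq, σ'.2, ?_⟩
  apply hinj
  rw [map_mul, map_mul, map_pow, ← hu, ← hσ, mul_comm (algebraMap B (Localization.AtPrime q) ↑σ'),
    mul_assoc, IsLocalization.mk'_spec]

/-- A uniformizer coming from `B`, with the maximal ideal data written in `B`. -/
theorem exists_unif (hq : q.height ≤ 1) :
    ∃ ϖ ∈ q, maximalIdeal (Localization.AtPrime q) =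
      Ideal.span {algebraMap B (Localization.AtPrime q) ϖ} ∧
      ∀ a ∈ q, ∃ (s a' : B), s ∉ q ∧ s * a = ϖ * a' := by
  have hle : q.primeCompl ≤ nonZeroDivisors B := q.primeCompl_le_nonZeroDivisors
  have hinj : Function.Injective (algebraMap B (Localization.AtPrime q)) :=
    IsLocalization.injective _ hle
  obtain ⟨⟨z, hz⟩, -⟩ := Groth.Agent.Lib.Helper17.HeightOne.localization_height_le_one B q hq
  obtain ⟨ϖ, s, rfl⟩ := IsLocalization.exists_mk'_eq q.primeCompl z
  have hspan : maximalIdeal (Localization.AtPrime q) =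
      Ideal.span {algebraMap B (Localization.AtPrime q) ϖ} := by
    rw [hz]
    change Ideal.span _ = _
    rw [Ideal.span_singleton_eq_span_singleton]
    have hsu : IsUnit (algebraMap B (Localization.AtPrime q) (s : B)) :=
      IsLocalization.map_units _ s
    refine ⟨hsu.unit, ?_⟩
    rw [IsUnit.unit_spec, IsLocalization.mk'_spec]
  have hϖq : ϖ ∈ q := by
    have : algebraMap B (Localization.AtPrime q) ϖ ∈ maximalIdeal (Localization.AtPrime q) := by
      rw [hspan]; exact Ideal.mem_span_singleton_self _
    exact (IsLocalization.AtPrime.to_map_mem_maximal_iff (Localization.AtPrime q) q ϖ).mp this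
  refine ⟨ϖ, hϖq, hspan, fun a ha => ?_⟩
  have h1 : algebraMap B (Localization.AtPrime q) a ∈ maximalIdeal (Localization.AtPrime q) :=
    (IsLocalization.AtPrime.to_map_mem_maximal_iff (Localization.AtPrime q) q a).mpr ha
  rw [hspan, Ideal.mem_span_singleton'] at h1
  obtain ⟨y, hy⟩ := h1
  obtain ⟨a', t, rfl⟩ := IsLocalization.exists_mk'_eq q.primeCompl y
  refine ⟨t, a', t.2, ?_⟩
  apply hinj
  rw [map_mul, map_mul, ← hy, mul_comm (IsLocalization.mk' _ a' t), mul_comm, mul_assoc,
    IsLocalization.mk'_spec]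

end Unif

end Groth.Agent.Lib.Helper12.WUnr
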