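import Mathlib
import Groth.Agent.Lib.Helper12.WUnrA

/-!
# Principal ideals of a Noetherian normal domain: local criteria at height-one primes
-/

set_option autoImplicit false
universe u

namespace Groth.Agent.Lib.Helper12.SqFree

open IsLocalRing

variable (A : Type u) [CommRing A] [IsDomain A] [IsNoetherianRing A] [IsIntegrallyClosed A]

/-- Membership in a principal ideal can be tested at the height-one primes containing the
generator. -/
theorem mem_span_of_local (g : A) (hg : g ≠ 0) (x : A)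
    (h : ∀ r : Ideal A, r.IsPrime → r.height = 1 → g ∈ r → ∃ s, s ∉ r ∧ s * x ∈ Ideal.span {g}) :
    x ∈ Ideal.span {g} := by
  by_contra hnot
  have hne : Ideal.Quotient.mk (Ideal.span {g}) x ≠ 0 := by
    rwa [Ne, Ideal.Quotient.eq_zero_iff_mem]
  obtain ⟨P, hP, hPle⟩ := exists_le_isAssociatedPrime_of_isNoetherianRing A
    (Ideal.Quotient.mk (Ideal.span {g}) x) hne
  have hht := SerreNormal.height_eq_one_of_mem_associatedPrimes A g hg P hP
  haveI := hP.isPrime
  have hgP : g ∈ P := by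
    obtain ⟨-, y, hy⟩ := (isAssociatedPrime_iff (R := A)).1 hP
    obtain ⟨c, rfl⟩ := Ideal.Quotient.mk_surjective y
    rw [hy, Submodule.mem_colon_singleton, Submodule.mem_bot]
    show Ideal.Quotient.mk _ (g * c) = 0
    rw [Ideal.Quotient.eq_zero_iff_mem]
    exact Ideal.mul_mem_right _ _ (Ideal.mem_span_singleton_self g)
  obtain ⟨s, hs, hsx⟩ := h P hP.isPrime hht hgP
  apply hs
  apply hPle
  rw [Submodule.mem_colon_singleton, Submodule.mem_bot]
  show Ideal.Quotient.mk _ (s * x) = 0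
  rw [Ideal.Quotient.eq_zero_iff_mem]
  exact hsx

/-- `f` generates `r` locally at `r`. -/
def OrdOne {A : Type u} [CommRing A] (r : Ideal A) (f : A) : Prop :=
  f ∈ r ∧ ∀ a ∈ r, ∃ s, s ∉ r ∧ ∃ a', s * a = f * a'

theorem isReduced_quotient_of_ordOne (f : A) (hf : f ≠ 0)
    (h : ∀ r : Ideal A, r.IsPrime → r.height = 1 → f ∈ r → OrdOne r f) :
    IsReduced (A ⧸ Ideal.span {f}) := by
  rw [← Ideal.isRadical_iff_quotient_reduced]
  intro x hx
  obtain ⟨n, hn⟩ := Ideal.mem_radical_iff.1 hx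
  apply mem_span_of_local A f hf x
  intro r hr hht hfr
  haveI := hr
  have hxr : x ∈ r := by
    apply hr.mem_of_pow_mem n
    exact ((Ideal.span_singleton_le_iff_mem _).2 hfr) hn
  obtain ⟨s, hs, a', ha'⟩ := (h r hr hht hfr).2 x hxr
  exact ⟨s, hs, ha' ▸ Ideal.mul_mem_right _ _ (Ideal.mem_span_singleton_self f)⟩

/-- Height-one primes containing `f` are minimal over `(f)`. -/
theorem mem_minimalPrimes_of_height_one (f : A) (hf : f ≠ 0) (r : Ideal A) [hr : r.IsPrime]
    (hht : r.height = 1) (hfr : f ∈ r) : r ∈ (Ideal.span {f}).minimalPrimes := by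
  refine ⟨⟨hr, (Ideal.span_singleton_le_iff_mem _).2 hfr⟩, ?_⟩
  rintro P ⟨hP, hfP⟩ hPr
  by_contra hnot
  have hlt : P < r := lt_of_le_not_ge hPr hnot
  haveI := hP
  have h1 : P.height < r.height := Ideal.height_strict_mono_of_isPrime_of_isPrime hlt
  rw [hht, ENat.lt_one_iff_eq_zero, Ideal.height_eq_zero_iff_eq_bot] at h1
  apply hf
  have : f ∈ P := (Ideal.span_singleton_le_iff_mem _).1 hfP
  rw [h1] at this
  exact this

theorem height_eq_one_of_mem_minimalPrimes (f : A) (hf : f ≠ 0) (r : Ideal A)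
    (hr : r ∈ (Ideal.span {f}).minimalPrimes) : r.height = 1 := by
  haveI := hr.1.1
  apply le_antisymm
  · exact Ideal.height_le_one_of_isPrincipal_of_mem_minimalPrimes _ r hr
  · rw [Order.one_le_iff_pos, pos_iff_ne_zero, Ne, Ideal.height_eq_zero_iff_eq_bot]
    intro h0
    apply hf
    have : f ∈ r := (Ideal.span_singleton_le_iff_mem _).1 hr.1.2
    rw [h0] at this
    exact this

/-- If `A/(f)` is not reduced, `f` vanishes to order at least two along some height-one prime. -/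
theorem exists_ord_ge_two (f : A) (hf : f ≠ 0) (hnr : ¬ IsReduced (A ⧸ Ideal.span {f})) :
    ∃ (r : Ideal A) (_ : r.IsPrime), r.height = 1 ∧ f ∈ r ∧
      ∃ (ϖ σ σ' : A) (v : ℕ), ϖ ∈ r ∧ σ ∉ r ∧ σ' ∉ r ∧ 2 ≤ v ∧ f * σ = σ' * ϖ ^ v := by
  by_contra hcon
  apply hnr
  apply isReduced_quotient_of_ordOne A f hf
  intro r hr hht hfr
  haveI := hr
  obtain ⟨ϖ, hϖr, hϖ, hgen⟩ := WUnr.exists_unif A r hht.le
  obtain ⟨v, σ, σ', hσ, hσ', hv⟩ := WUnr.exists_unif_data A r hht.le ϖ hϖ f hf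
  have hv2 : v < 2 := by
    by_contra h2
    exact hcon ⟨r, hr, hht, hfr, ϖ, σ, σ', v, hϖr, hσ, hσ', by omega, hv⟩
  have hv1 : v = 1 := by
    rcases v with _ | _ | v
    · exfalso
      rw [pow_zero, mul_one] at hv
      exact hσ' (hv ▸ r.mul_mem_right _ hfr)
    · rfl
    · omega
  subst hv1
  rw [pow_one] at hv
  refine ⟨hfr, fun a ha => ?_⟩
  obtain ⟨s, a', hs, hsa⟩ := hgen a ha
  refine ⟨s * σ', fun hmem => ?_, σ * a', ?_⟩
  · rcases hr.mem_or_mem hmem with h | h
    · exact hs h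
    · exact hσ' h
  · linear_combination σ' * hsa - a' * hv

end Groth.Agent.Lib.Helper12.SqFree
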