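import Mathlib
import Groth.Agent.Lib.Helper12.SqFreeA

/-!
# The perturbation step
-/

set_option autoImplicit false
universe u

namespace Groth.Agent.Lib.Helper12.SqFree

open IsLocalRing

variable (A : Type u) [CommRing A] [IsDomain A] [IsNoetherianRing A] [IsIntegrallyClosed A]

/-- Along a height-one prime containing `f` and `c`, a high power of `c` is divisible by `f` times
an element of the prime, up to a local unit. -/
theorem exists_pow_data (f c : A) (hf : f ≠ 0) (r : Ideal A) [hr : r.IsPrime] (hht : r.height = 1)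
    (hcr : c ∈ r) :
    ∃ (E : ℕ) (τ : A), τ ∉ r ∧ ∀ E', E ≤ E' → ∃ y' ∈ r, τ * c ^ E' = f * y' := by
  obtain ⟨ϖ, hϖr, hϖ, hgen⟩ := WUnr.exists_unif A r hht.le
  obtain ⟨e, σ, σ', hσ, hσ', hv⟩ := WUnr.exists_unif_data A r hht.le ϖ hϖ f hf
  obtain ⟨s, c', hs, hsc⟩ := hgen c hcr
  refine ⟨e + 1, σ' * s ^ (e + 1), fun hmem => ?_, fun E' hE' => ?_⟩
  · rcases hr.mem_or_mem hmem with h | h
    · exact hσ' h
    · exact hs (hr.mem_of_pow_mem _ h)
  · obtain ⟨k, rfl⟩ : ∃ k, E' = e + 1 + k := ⟨E' - (e + 1), by omega⟩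
    refine ⟨σ * ϖ * c' ^ (e + 1) * c ^ k, ?_, ?_⟩
    · exact r.mul_mem_right _ (r.mul_mem_right _ (r.mul_mem_left _ hϖr))
    · have h1 : s ^ (e + 1) * c ^ (e + 1) = ϖ ^ (e + 1) * c' ^ (e + 1) := by
        rw [← mul_pow, ← mul_pow, hsc]
      calc σ' * s ^ (e + 1) * c ^ (e + 1 + k)
          = σ' * (s ^ (e + 1) * c ^ (e + 1)) * c ^ k := by ring
        _ = σ' * (ϖ ^ (e + 1) * c' ^ (e + 1)) * c ^ k := by rw [h1]
        _ = (σ' * ϖ ^ e) * ϖ * c' ^ (e + 1) * c ^ k := by ring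
        _ = (f * σ) * ϖ * c' ^ (e + 1) * c ^ k := by rw [hv]
        _ = f * (σ * ϖ * c' ^ (e + 1) * c ^ k) := by ring

variable [IsLocalRing A]

theorem exists_perturbation (f h : A) (hf : f ≠ 0) (hfh : f ∉ Ideal.span {h})
    (hh : ∀ r : Ideal A, r.IsPrime → r.height = 1 → f ∈ r → h ∉ r)
    (hnr : ¬ IsReduced (A ⧸ Ideal.span {f})) :
    ∃ b ∈ (Ideal.span {f}).radical, ∃ (q : Ideal A) (_ : q.IsPrime),
      q.height = 1 ∧ f + b * h ∈ q ∧ f ∉ q := by
  classical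
  obtain ⟨r₁, hr₁, hht₁, hfr₁, ϖ, σ, σ', v, hϖ, hσ, hσ', hv2, hv⟩ := exists_ord_ge_two A f hf hnr
  haveI := hr₁
  obtain ⟨k, rfl⟩ : ∃ k, v = k + 2 := ⟨v - 2, by omega⟩
  have hr₁min : r₁ ∈ (Ideal.span {f}).minimalPrimes :=
    mem_minimalPrimes_of_height_one A f hf r₁ hht₁ hfr₁
  obtain ⟨Supp, hSupp⟩ : ∃ Supp : Finset (Ideal A),
      ∀ r, r ∈ Supp ↔ r ∈ (Ideal.span {f}).minimalPrimes :=
    ⟨(Ideal.finite_minimalPrimes_of_isNoetherianRing A (Ideal.span {f})).toFinset, fun r => by simp⟩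
  -- the element `c`
  have hc : ∃ c ∈ (Supp.erase r₁).inf id, c ∉ r₁ := by
    have h1 : ¬ ((Supp.erase r₁).inf id ≤ r₁) := by
      rw [Ideal.IsPrime.inf_le' hr₁]
      rintro ⟨r, hr, hle⟩
      have hrmin := (hSupp r).1 (Finset.mem_of_mem_erase hr)
      have := hr₁min.2 hrmin.1 hle
      exact Finset.ne_of_mem_erase hr (le_antisymm hle this)
    exact Set.not_subset.1 h1
  obtain ⟨c, hcinf, hcr₁⟩ := hc
  have hcmem : ∀ r ∈ Supp.erase r₁, c ∈ r := fun r hr =>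
    (Finset.inf_le hr : (Supp.erase r₁).inf id ≤ id r) hcinf
  have key : ∀ r : Ideal A, r ∈ Supp.erase r₁ →
      ∃ (E : ℕ) (τ : A), τ ∉ r ∧ ∀ E', E ≤ E' → ∃ y' ∈ r, τ * c ^ E' = f * y' := by
    intro r hr
    have hrmin := (hSupp r).1 (Finset.mem_of_mem_erase hr)
    haveI := hrmin.1.1
    exact exists_pow_data A f c hf r (height_eq_one_of_mem_minimalPrimes A f hf r hrmin)
      (hcmem r hr)
  choose! E τ hτ hEτ using key
  obtain ⟨N, hN⟩ : ∃ N : ℕ, N = (Supp.erase r₁).sup E + 1 := ⟨_, rfl⟩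
  have hNE : ∀ r ∈ Supp.erase r₁, E r ≤ N := fun r hr => by
    have := Finset.le_sup (f := E) hr
    omega
  have hN1 : 1 ≤ N := by omega
  obtain ⟨b, hb⟩ : ∃ b, b = ϖ * c ^ N := ⟨_, rfl⟩
  have hbrad : b ∈ (Ideal.span {f}).radical := by
    rw [← Ideal.sInf_minimalPrimes, Ideal.mem_sInf]
    intro r hr
    by_cases hrr : r = r₁
    · rw [hrr, hb]
      exact r₁.mul_mem_right _ hϖ
    · have hr' : r ∈ Supp.erase r₁ := Finset.mem_erase.2 ⟨hrr, (hSupp r).2 hr⟩
      rw [hb]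
      apply r.mul_mem_left
      obtain ⟨m, rfl⟩ : ∃ m, N = m + 1 := ⟨N - 1, by omega⟩
      rw [pow_succ]
      exact r.mul_mem_left _ (hcmem r hr')
  refine ⟨b, hbrad, ?_⟩
  by_contra hcon
  push Not at hcon
  have hcon' : ∀ q : Ideal A, q.IsPrime → q.height = 1 → f + b * h ∈ q → f ∈ q :=
    fun q hq hht hmem => hcon q hq hht hmem
  have hf'' : f + b * h ≠ 0 := by
    intro h0
    apply hfh
    rw [Ideal.mem_span_singleton']
    exact ⟨-b, by linear_combination (-1 : A) * h0⟩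
  -- the local unit at `r₁`
  obtain ⟨w₁, hw₁⟩ : ∃ w₁, w₁ = σ' * ϖ ^ (k + 1) + σ * c ^ N * h := ⟨_, rfl⟩
  have hw₁r : w₁ ∉ r₁ := by
    intro hmem
    have h1 : σ' * ϖ ^ (k + 1) ∈ r₁ := r₁.mul_mem_left _ (r₁.pow_mem_of_mem hϖ _ (by omega))
    have h2 : σ * c ^ N * h ∈ r₁ := by
      have := r₁.sub_mem hmem h1
      rwa [hw₁, add_sub_cancel_left] at this
    rcases hr₁.mem_or_mem h2 with h3 | h3
    · rcases hr₁.mem_or_mem h3 with h4 | h4
      · exact hσ h4
      · exact hcr₁ (hr₁.mem_of_pow_mem _ h4)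
    · exact hh r₁ hr₁ hht₁ hfr₁ h3
  have hkey₁ : (w₁ * σ) * f = (σ' * ϖ ^ (k + 1) * σ) * (f + b * h) := by
    rw [hw₁, hb]
    linear_combination (σ * c ^ N * h) * hv
  have hmem : f ∈ Ideal.span {f + b * h} := by
    apply mem_span_of_local A (f + b * h) hf'' f
    intro q hq hht hq''
    haveI := hq
    have hfq := hcon' q hq hht hq''
    by_cases hqr : q = r₁
    · subst hqr
      refine ⟨w₁ * σ, fun hm => ?_, ?_⟩
      · rcases hq.mem_or_mem hm with h1 | h1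
        · exact hw₁r h1
        · exact hσ h1
      · rw [hkey₁]
        exact Ideal.mul_mem_left _ _ (Ideal.mem_span_singleton_self _)
    · have hq' : q ∈ Supp.erase r₁ :=
        Finset.mem_erase.2 ⟨hqr, (hSupp q).2 (mem_minimalPrimes_of_height_one A f hf q hht hfq)⟩
      obtain ⟨y', hy', hy⟩ := hEτ q hq' N (hNE q hq')
      refine ⟨τ q + ϖ * h * y', fun hm => ?_, ?_⟩
      · apply hτ q hq'
        have h1 : ϖ * h * y' ∈ q := q.mul_mem_left _ hy'
        have := q.sub_mem hm h1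
        rwa [add_sub_cancel_right] at this
      · have : (τ q + ϖ * h * y') * f = τ q * (f + b * h) := by
          rw [hb]
          linear_combination (-ϖ * h) * hy
        rw [this]
        exact Ideal.mul_mem_left _ _ (Ideal.mem_span_singleton_self _)
  obtain ⟨u, hu⟩ := Ideal.mem_span_singleton'.1 hmem
  have hur : u ∈ r₁ := by
    have h1 : (w₁ * σ * u - σ' * ϖ ^ (k + 1) * σ) * (f + b * h) = 0 := by
      linear_combination (w₁ * σ) * hu + hkey₁
    rcases mul_eq_zero.1 h1 with h2 | h2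
    · have h3 : w₁ * σ * u ∈ r₁ := by
        rw [sub_eq_zero.1 h2]
        exact r₁.mul_mem_right _ (r₁.mul_mem_left _ (r₁.pow_mem_of_mem hϖ _ (by omega)))
      rcases hr₁.mem_or_mem h3 with h4 | h4
      · rcases hr₁.mem_or_mem h4 with h5 | h5
        · exact absurd h5 hw₁r
        · exact absurd h5 hσ
      · exact h4
    · exact absurd h2 hf''
  have hunit : IsUnit (1 - u) := by
    apply IsLocalRing.isUnit_one_sub_self_of_mem_nonunits
    exact (IsLocalRing.mem_maximalIdeal u).1 (IsLocalRing.le_maximalIdeal hr₁.ne_top hur)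
  obtain ⟨w, hw⟩ := hunit
  apply hfh
  rw [Ideal.mem_span_singleton']
  refine ⟨u * (↑w⁻¹ : A) * b, ?_⟩
  have h1 : (w : A) * (f + b * h) = b * h := by
    rw [hw]
    linear_combination -hu
  have h2 : f + b * h = (↑w⁻¹ : A) * (b * h) := by
    calc f + b * h = (↑w⁻¹ : A) * ((w : A) * (f + b * h)) := by
          rw [← mul_assoc, Units.inv_mul, one_mul]
      _ = (↑w⁻¹ : A) * (b * h) := by rw [h1]
  calc u * (↑w⁻¹ : A) * b * h = u * ((↑w⁻¹ : A) * (b * h)) := by ring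
    _ = u * (f + b * h) := by rw [← h2]
    _ = f := hu

end Groth.Agent.Lib.Helper12.SqFree
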