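import Mathlib
import Groth.Agent.Lib.Helper12.SqFreeB

/-!
# Reduced principal divisors through given prime divisors, dimension two
-/

set_option autoImplicit false
universe u

namespace Groth.Agent.Lib.Helper12.SqFree

open IsLocalRing

variable (A : Type u) [CommRing A] [IsDomain A] [IsNoetherianRing A] [IsIntegrallyClosed A]
  [IsLocalRing A]

/-- Two height-one primes, one inside the other, are equal. -/
theorem eq_of_le_of_height_one {r r' : Ideal A} [r.IsPrime] [r'.IsPrime] (h : r ≤ r')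
    (hr : r.height = 1) (hr' : r'.height ≤ 1) : r = r' := by
  by_contra hne
  have hlt : r < r' := lt_of_le_of_ne h hne
  have := Ideal.height_strict_mono_of_isPrime_of_isPrime hlt
  rw [hr] at this
  exact absurd (this.trans_le hr') (lt_irrefl _)

theorem exists_reduced_in_radical (hdim : ringKrullDim A = 2) (f₀ : A) (hf₀ : f₀ ≠ 0)
    (hf₀m : f₀ ∈ maximalIdeal A) :
    ∃ f ∈ (Ideal.span {f₀}).radical, f ≠ 0 ∧ IsReduced (A ⧸ Ideal.span {f}) := by
  classical
  have hmht : (maximalIdeal A).height = 2 := by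
    have h1 := IsLocalRing.maximalIdeal_height_eq_ringKrullDim (R := A)
    rw [hdim] at h1
    have h2 : ((maximalIdeal A).height : WithBot ℕ∞) = ((2 : ℕ∞) : WithBot ℕ∞) := h1
    exact WithBot.coe_injective h2
  -- choose `h`
  obtain ⟨Supp, hSupp⟩ : ∃ Supp : Finset (Ideal A),
      ∀ r, r ∈ Supp ↔ r ∈ (Ideal.span {f₀}).minimalPrimes :=
    ⟨(Ideal.finite_minimalPrimes_of_isNoetherianRing A (Ideal.span {f₀})).toFinset,
      fun r => by simp⟩
  have hh : ∃ h ∈ maximalIdeal A, ∀ r ∈ (Ideal.span {f₀}).minimalPrimes, h ∉ r := by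
    have h1 : ¬ ((maximalIdeal A : Set A) ⊆ ⋃ r ∈ (Supp : Set (Ideal A)), (r : Set A)) := by
      rw [Ideal.subset_union_prime (maximalIdeal A) (maximalIdeal A)
        (fun r hr _ _ => ((hSupp r).1 hr).1.1)]
      rintro ⟨r, hr, hle⟩
      have hrmin := (hSupp r).1 hr
      haveI := hrmin.1.1
      have heq : r = maximalIdeal A :=
        le_antisymm (IsLocalRing.le_maximalIdeal hrmin.1.1.ne_top) hle
      have := height_eq_one_of_mem_minimalPrimes A f₀ hf₀ r hrmin
      rw [heq, hmht] at this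
      exact absurd this (by decide)
    obtain ⟨h, hhm, hh⟩ := Set.not_subset.1 h1
    refine ⟨h, hhm, fun r hr hmem => hh ?_⟩
    simp only [Set.mem_iUnion]
    exact ⟨r, (hSupp r).2 hr, hmem⟩
  obtain ⟨h, hhm, hh⟩ := hh
  -- `f₀ ∉ (h)`
  have hf₀h : f₀ ∉ Ideal.span {h} := by
    intro hmem
    have hle : Ideal.span {h} ≤ maximalIdeal A := (Ideal.span_singleton_le_iff_mem _).2 hhm
    obtain ⟨r', hr'min, -⟩ := Ideal.exists_minimalPrimes_le hle
    haveI := hr'min.1.1
    have hr'ht : r'.height ≤ 1 := Ideal.height_le_one_of_isPrincipal_of_mem_minimalPrimes _ r' hr'min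
    have hf₀r' : Ideal.span {f₀} ≤ r' :=
      (Ideal.span_singleton_le_iff_mem _).2 (hr'min.1.2 hmem)
    obtain ⟨r, hrmin, hrr'⟩ := Ideal.exists_minimalPrimes_le hf₀r'
    haveI := hrmin.1.1
    have heq := eq_of_le_of_height_one A hrr' (height_eq_one_of_mem_minimalPrimes A f₀ hf₀ r hrmin)
      hr'ht
    apply hh r hrmin
    rw [heq]
    exact hr'min.1.2 (Ideal.mem_span_singleton_self h)
  -- facts about the family
  have hfam : ∀ b ∈ (Ideal.span {f₀}).radical,
      f₀ + b * h ∉ Ideal.span {h} ∧ f₀ + b * h ≠ 0 ∧ f₀ + b * h ∈ (Ideal.span {f₀}).radical ∧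
        ∀ r : Ideal A, r.IsPrime → r.height = 1 → f₀ + b * h ∈ r → h ∉ r := by
    intro b hb
    have h1 : f₀ + b * h ∉ Ideal.span {h} := by
      intro hmem
      apply hf₀h
      have := Ideal.sub_mem _ hmem (Ideal.mul_mem_left _ b (Ideal.mem_span_singleton_self h))
      rwa [add_sub_cancel_right] at this
    refine ⟨h1, fun h0 => h1 (h0 ▸ Ideal.zero_mem _), ?_, ?_⟩
    · exact Ideal.add_mem _ (Ideal.le_radical (Ideal.mem_span_singleton_self f₀))
        (Ideal.mul_mem_right _ _ hb)
    · intro r hr hht hmem hhr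
      haveI := hr
      have hf₀r : f₀ ∈ r := by
        have := r.sub_mem hmem (r.mul_mem_left b hhr)
        rwa [add_sub_cancel_right] at this
      obtain ⟨r₀, hr₀min, hr₀r⟩ :=
        Ideal.exists_minimalPrimes_le ((Ideal.span_singleton_le_iff_mem _).2 hf₀r)
      haveI := hr₀min.1.1
      have heq := eq_of_le_of_height_one A hr₀r
        (height_eq_one_of_mem_minimalPrimes A f₀ hf₀ r₀ hr₀min) hht.le
      exact hh r₀ hr₀min (heq ▸ hhr)
  -- the Artinian quotient
  obtain ⟨J, hJ⟩ : ∃ J : Ideal A, J = Ideal.span {f₀} ⊔ Ideal.span {h} := ⟨_, rfl⟩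
  haveI : IsArtinianRing (A ⧸ J) := by
    rw [isArtinianRing_iff_krullDimLE_zero, Ring.krullDimLE_zero_iff]
    intro P hP
    haveI := hP
    have hcomap : (P.comap (Ideal.Quotient.mk J)) = maximalIdeal A := by
      haveI : (P.comap (Ideal.Quotient.mk J)).IsPrime := Ideal.comap_isPrime _ _
      have hJP : J ≤ P.comap (Ideal.Quotient.mk J) := by
        intro x hx
        rw [Ideal.mem_comap, Ideal.Quotient.eq_zero_iff_mem.2 hx]
        exact P.zero_mem
      have hf₀P : Ideal.span {f₀} ≤ P.comap (Ideal.Quotient.mk J) :=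
        le_trans (hJ ▸ le_sup_left) hJP
      have hhP : h ∈ P.comap (Ideal.Quotient.mk J) :=
        hJP (hJ ▸ Ideal.mem_sup_right (Ideal.mem_span_singleton_self h))
      obtain ⟨r₀, hr₀min, hr₀P⟩ := Ideal.exists_minimalPrimes_le hf₀P
      haveI := hr₀min.1.1
      have hlt : r₀ < P.comap (Ideal.Quotient.mk J) := by
        refine lt_of_le_of_ne hr₀P fun heq => hh r₀ hr₀min (heq ▸ hhP)
      have hht : r₀.height < (P.comap (Ideal.Quotient.mk J)).height :=
        Ideal.height_strict_mono_of_isPrime_of_isPrime hlt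
      rw [height_eq_one_of_mem_minimalPrimes A f₀ hf₀ r₀ hr₀min] at hht
      by_contra hne
      have hlt2 : P.comap (Ideal.Quotient.mk J) < maximalIdeal A :=
        lt_of_le_of_ne (IsLocalRing.le_maximalIdeal (Ideal.IsPrime.ne_top inferInstance)) hne
      have hht2 := Ideal.height_strict_mono_of_isPrime_of_isPrime hlt2
      rw [hmht] at hht2
      have h2 : (2 : ℕ∞) ≤ (P.comap (Ideal.Quotient.mk J)).height := by
        have := Order.add_one_le_of_lt hht
        exact_mod_cast this
      exact absurd (lt_of_le_of_lt h2 hht2) (lt_irrefl _)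
    have : P = (maximalIdeal A).map (Ideal.Quotient.mk J) := by
      rw [← hcomap, Ideal.map_comap_of_surjective _ Ideal.Quotient.mk_surjective]
    rw [this]
    refine Ideal.IsMaximal.map_of_surjective_of_ker_le Ideal.Quotient.mk_surjective ?_
    rw [Ideal.mk_ker, ← hcomap]
    intro x hx
    rw [Ideal.mem_comap, Ideal.Quotient.eq_zero_iff_mem.2 hx]
    exact P.zero_mem
  -- the minimal choice
  let S : Set (Ideal (A ⧸ J)) := {K | ∃ b ∈ (Ideal.span {f₀}).radical,
    K = Ideal.map (Ideal.Quotient.mk J) ((Ideal.span {f₀ + b * h}).radical ⊔ Ideal.span {h})}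
  have hSne : S.Nonempty := ⟨_, 0, Ideal.zero_mem _, rfl⟩
  obtain ⟨K, ⟨b, hb, hK⟩, hKmin⟩ := (wellFounded_lt (α := Ideal (A ⧸ J))).has_min S hSne
  obtain ⟨hfh, hf0, hfrad, hfh'⟩ := hfam b hb
  refine ⟨f₀ + b * h, hfrad, hf0, ?_⟩
  by_contra hnr
  obtain ⟨b', hb', q, hq, hqht, hq'', hfq⟩ := exists_perturbation A (f₀ + b * h) h hf0 hfh hfh' hnr
  haveI := hq
  have hradle : (Ideal.span {f₀ + b * h}).radical ≤ (Ideal.span {f₀}).radical := by
    rw [Ideal.radical_le_radical_iff, Ideal.span_singleton_le_iff_mem]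
    exact hfrad
  have hbb' : b + b' ∈ (Ideal.span {f₀}).radical := Ideal.add_mem _ hb (hradle hb')
  have hf'' : f₀ + (b + b') * h = f₀ + b * h + b' * h := by ring
  have hrad'' : (Ideal.span {f₀ + (b + b') * h}).radical ≤ (Ideal.span {f₀ + b * h}).radical := by
    rw [Ideal.radical_le_radical_iff, Ideal.span_singleton_le_iff_mem, hf'']
    exact Ideal.add_mem _ (Ideal.le_radical (Ideal.mem_span_singleton_self _))
      (Ideal.mul_mem_right _ _ hb')
  have hK''S : Ideal.map (Ideal.Quotient.mk J)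
      ((Ideal.span {f₀ + (b + b') * h}).radical ⊔ Ideal.span {h}) ∈ S := ⟨b + b', hbb', rfl⟩
  have hK''le : Ideal.map (Ideal.Quotient.mk J)
      ((Ideal.span {f₀ + (b + b') * h}).radical ⊔ Ideal.span {h}) ≤ K := by
    rw [hK]
    exact Ideal.map_mono (sup_le_sup_right hrad'' _)
  have hKeq := eq_of_le_of_not_lt hK''le (hKmin _ hK''S)
  -- pull back to `A`
  have hJle : ∀ c ∈ (Ideal.span {f₀}).radical,
      J ≤ (Ideal.span {f₀ + c * h}).radical ⊔ Ideal.span {h} := by
    intro c _
    rw [hJ]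
    refine sup_le ?_ le_sup_right
    rw [Ideal.span_singleton_le_iff_mem]
    have h1 := Ideal.sub_mem ((Ideal.span {f₀ + c * h}).radical ⊔ Ideal.span {h})
      (Ideal.mem_sup_left (Ideal.le_radical (Ideal.mem_span_singleton_self (f₀ + c * h))))
      (Ideal.mem_sup_right (Ideal.mul_mem_left _ c (Ideal.mem_span_singleton_self h)))
    rwa [add_sub_cancel_right] at h1
  have hcomap : ∀ c ∈ (Ideal.span {f₀}).radical,
      Ideal.comap (Ideal.Quotient.mk J) (Ideal.map (Ideal.Quotient.mk J)
        ((Ideal.span {f₀ + c * h}).radical ⊔ Ideal.span {h})) =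
        (Ideal.span {f₀ + c * h}).radical ⊔ Ideal.span {h} := by
    intro c hc
    rw [Ideal.comap_map_of_surjective _ Ideal.Quotient.mk_surjective, ← RingHom.ker_eq_comap_bot,
      Ideal.mk_ker, sup_eq_left]
    exact hJle c hc
  have hsupeq : (Ideal.span {f₀ + (b + b') * h}).radical ⊔ Ideal.span {h} =
      (Ideal.span {f₀ + b * h}).radical ⊔ Ideal.span {h} := by
    rw [← hcomap (b + b') hbb', ← hcomap b hb, hKeq, hK]
  -- Nakayama
  have hNak : (Ideal.span {f₀ + b * h}).radical ≤ (Ideal.span {f₀ + (b + b') * h}).radical := by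
    apply Submodule.le_of_le_smul_of_le_jacobson_bot (I := Ideal.span {h})
      (IsNoetherian.noetherian _)
    · rw [IsLocalRing.jacobson_eq_maximalIdeal ⊥ bot_ne_top, Ideal.span_singleton_le_iff_mem]
      exact hhm
    · intro x hx
      have hx' : x ∈ (Ideal.span {f₀ + (b + b') * h}).radical ⊔ Ideal.span {h} := by
        rw [hsupeq]
        exact Ideal.mem_sup_left hx
      obtain ⟨y, hy, z, hz, rfl⟩ := Submodule.mem_sup.1 hx'
      obtain ⟨a, rfl⟩ := Ideal.mem_span_singleton'.1 hz
      refine Submodule.mem_sup.2 ⟨y, hy, a * h, ?_, rfl⟩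
      have hah : a * h ∈ (Ideal.span {f₀ + b * h}).radical := by
        have := Ideal.sub_mem _ hx (hrad'' hy)
        rwa [add_sub_cancel_left] at this
      have ha : a ∈ (Ideal.span {f₀ + b * h}).radical := by
        rw [← Ideal.sInf_minimalPrimes, Ideal.mem_sInf] at hah ⊢
        intro r hr
        haveI := hr.1.1
        have hrht := height_eq_one_of_mem_minimalPrimes A _ hf0 r hr
        have hfr : f₀ + b * h ∈ r := hr.1.2 (Ideal.mem_span_singleton_self _)
        rcases hr.1.1.mem_or_mem (hah hr) with h1 | h1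
        · exact h1
        · exact absurd h1 (hfh' r hr.1.1 hrht hfr)
      rw [smul_eq_mul, mul_comm a h]
      exact Ideal.mul_mem_mul (Ideal.mem_span_singleton_self h) ha
  apply hfq
  have h1 : f₀ + b * h ∈ (Ideal.span {f₀ + (b + b') * h}).radical :=
    hNak (Ideal.le_radical (Ideal.mem_span_singleton_self _))
  have h2 : (Ideal.span {f₀ + (b + b') * h}).radical ≤ q := by
    rw [Ideal.IsPrime.radical_le_iff hq, Ideal.span_singleton_le_iff_mem, hf'']
    exact hq''
  exact h2 h1

end Groth.Agent.Lib.Helper12.SqFree
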