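import Mathlib
import Groth.Agent.Lib.Helper12.SqFreeC
import Groth.Agent.Lib.Helper12.FEquiA

/-!
# Reduced principal divisors through given prime divisors: catenary local normal domains
-/

set_option autoImplicit false
universe u

namespace Groth.Agent.Lib.Helper12.SqFree

open IsLocalRing

variable (A : Type u) [CommRing A] [IsDomain A] [IsNoetherianRing A] [IsIntegrallyClosed A]
  [IsLocalRing A]

theorem isEquidim_of_isDomain : EGA4.IsEquidim A := by
  intro p hp
  rw [IsDomain.minimalPrimes_eq_singleton_bot, Set.mem_singleton_iff] at hp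
  subst hp
  exact ringKrullDim_eq_of_ringEquiv (RingEquiv.quotientBot A)

/-- A prime minimal over `q + (h)` covers `q`. -/
theorem covBy_of_mem_minimalPrimes (q : Ideal A) [hq : q.IsPrime] (h : A) (hhq : h ∉ q)
    (P : Ideal A) (hP : P ∈ (q ⊔ Ideal.span {h}).minimalPrimes) :
    (⟨q, hq⟩ : PrimeSpectrum A) ⋖ ⟨P, hP.1.1⟩ := by
  haveI := hP.1.1
  have hqP : q ≤ P := le_trans le_sup_left hP.1.2
  have hhP : h ∈ P := hP.1.2 (Ideal.mem_sup_right (Ideal.mem_span_singleton_self h))
  have hlt : q < P := lt_of_le_of_ne hqP fun heq => hhq (heq ▸ hhP)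
  refine ⟨hlt, ?_⟩
  intro c hqc hcP
  have hqc' : q < c.asIdeal := hqc
  have hcP' : c.asIdeal < P := hcP
  have hmks : Function.Surjective (Ideal.Quotient.mk q) := Ideal.Quotient.mk_surjective
  haveI : IsDomain (A ⧸ q) := Ideal.Quotient.isDomain _
  have hker : ∀ I : Ideal A, q ≤ I → (I.map (Ideal.Quotient.mk q)).comap (Ideal.Quotient.mk q) = I := by
    intro I hI
    rw [Ideal.comap_map_of_surjective _ hmks, ← RingHom.ker_eq_comap_bot, Ideal.mk_ker]
    exact sup_eq_left.mpr hI
  haveI hPbar : (P.map (Ideal.Quotient.mk q)).IsPrime :=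
    Ideal.map_isPrime_of_surjective hmks (by rw [Ideal.mk_ker]; exact hqP)
  haveI hcbar : (c.asIdeal.map (Ideal.Quotient.mk q)).IsPrime :=
    Ideal.map_isPrime_of_surjective hmks (by rw [Ideal.mk_ker]; exact hqc'.le)
  -- `P/q` is minimal over the principal ideal generated by the image of `h`
  have hmin : P.map (Ideal.Quotient.mk q) ∈
      (Ideal.span {Ideal.Quotient.mk q h}).minimalPrimes := by
    refine ⟨⟨hPbar, ?_⟩, ?_⟩
    · rw [Ideal.span_singleton_le_iff_mem]
      exact Ideal.mem_map_of_mem _ hhP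
    · rintro Q ⟨hQ, hQh⟩ hQP
      haveI := hQ
      have h1 : q ⊔ Ideal.span {h} ≤ Q.comap (Ideal.Quotient.mk q) := by
        refine sup_le ?_ ?_
        · intro x hx
          rw [Ideal.mem_comap, Ideal.Quotient.eq_zero_iff_mem.2 hx]
          exact Q.zero_mem
        · rw [Ideal.span_singleton_le_iff_mem, Ideal.mem_comap]
          exact hQh (Ideal.mem_span_singleton_self _)
      have h2 : Q.comap (Ideal.Quotient.mk q) ≤ P := by
        rw [← hker P hqP]
        exact Ideal.comap_mono hQP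
      have h3 := hP.2 ⟨Ideal.comap_isPrime _ _, h1⟩ h2
      calc P.map (Ideal.Quotient.mk q) ≤ (Q.comap (Ideal.Quotient.mk q)).map (Ideal.Quotient.mk q) :=
            Ideal.map_mono h3
        _ = Q := Ideal.map_comap_of_surjective _ hmks Q
  have hht : (P.map (Ideal.Quotient.mk q)).height ≤ 1 :=
    Ideal.height_le_one_of_isPrincipal_of_mem_minimalPrimes _ _ hmin
  have hlt2 : c.asIdeal.map (Ideal.Quotient.mk q) < P.map (Ideal.Quotient.mk q) := by
    refine lt_of_le_of_ne (Ideal.map_mono hcP'.le) fun heq => hcP'.ne ?_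
    rw [← hker c.asIdeal hqc'.le, ← hker P hqP, heq]
  have hne : c.asIdeal.map (Ideal.Quotient.mk q) ≠ ⊥ := by
    intro h0
    apply hqc'.ne
    rw [← hker c.asIdeal hqc'.le, h0, ← RingHom.ker_eq_comap_bot, Ideal.mk_ker]
  have h1 : (c.asIdeal.map (Ideal.Quotient.mk q)).height <
      (P.map (Ideal.Quotient.mk q)).height := Ideal.height_strict_mono_of_isPrime_of_isPrime hlt2
  have h2 : (c.asIdeal.map (Ideal.Quotient.mk q)).height ≠ 0 := by
    rw [Ne, Ideal.height_eq_zero_iff_eq_bot]
    exact hne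
  have h3 : (1 : ℕ∞) ≤ (c.asIdeal.map (Ideal.Quotient.mk q)).height :=
    Order.one_le_iff_pos.2 (pos_iff_ne_zero.2 h2)
  exact absurd (lt_of_le_of_lt h3 (lt_of_lt_of_le h1 hht)) (lt_irrefl _)

theorem height_eq_two_of_catenary (hcat : CAlg.IsCatenary A) (q : Ideal A) [hq : q.IsPrime]
    (hqht : q.height = 1) (h : A) (hhq : h ∉ q) (P : Ideal A)
    (hP : P ∈ (q ⊔ Ideal.span {h}).minimalPrimes) : P.height = 2 := by
  have hcov := covBy_of_mem_minimalPrimes A q h hhq P hP
  haveI : IsLocalHom (algebraMap A A) := ⟨fun a ha => ha⟩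
  have := FEqui.height_eq_of_covBy (A := A) (A' := A) (isEquidim_of_isDomain A) hcat hcov
  simp only at this
  rw [this, hqht]
  rfl

end Groth.Agent.Lib.Helper12.SqFree
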