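import Mathlib
import Groth.Agent.Lib.Helper12.SqFreeD

/-!
# Reduced principal divisors: the general catenary case
-/

set_option autoImplicit false
universe u

namespace Groth.Agent.Lib.Helper12.SqFree

open IsLocalRing

section Art

variable {A : Type u} [CommRing A] [IsNoetherianRing A]

/-- The localisation at a minimal prime of `J`, modulo `J`, is Artinian. -/
theorem isArtinianRing_localization_quotient (J P : Ideal A) (hP : P ∈ J.minimalPrimes)
    [hPp : P.IsPrime] :
    IsArtinianRing (Localization.AtPrime P ⧸ J.map (algebraMap A (Localization.AtPrime P))) := by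
  haveI : IsNoetherianRing (Localization.AtPrime P) :=
    IsLocalization.isNoetherianRing P.primeCompl _ inferInstance
  rw [isArtinianRing_iff_krullDimLE_zero, Ring.krullDimLE_zero_iff]
  intro Q hQ
  haveI := hQ
  obtain ⟨Q', hQ'⟩ : ∃ Q' : Ideal (Localization.AtPrime P),
      Q' = Q.comap (Ideal.Quotient.mk (J.map (algebraMap A (Localization.AtPrime P)))) := ⟨_, rfl⟩
  haveI hQ'p : Q'.IsPrime := hQ' ▸ Ideal.comap_isPrime _ _
  have hJQ' : J.map (algebraMap A (Localization.AtPrime P)) ≤ Q' := by
    intro x hx
    rw [hQ', Ideal.mem_comap, Ideal.Quotient.eq_zero_iff_mem.2 hx]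
    exact Q.zero_mem
  have hcomapP : Q'.comap (algebraMap A (Localization.AtPrime P)) = P := by
    haveI : (Q'.comap (algebraMap A (Localization.AtPrime P))).IsPrime := Ideal.comap_isPrime _ _
    have h1 : J ≤ Q'.comap (algebraMap A (Localization.AtPrime P)) :=
      Ideal.map_le_iff_le_comap.1 hJQ'
    have h2 : Q'.comap (algebraMap A (Localization.AtPrime P)) ≤ P := by
      intro x hx
      by_contra hxP
      have hu : IsUnit (algebraMap A (Localization.AtPrime P) x) :=
        IsLocalization.map_units (Localization.AtPrime P) (⟨x, hxP⟩ : P.primeCompl)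
      exact hQ'p.ne_top (Ideal.eq_top_of_isUnit_mem _ hx hu)
    exact le_antisymm h2 (hP.2 ⟨inferInstance, h1⟩ h2)
  have hQ'max : Q' = maximalIdeal (Localization.AtPrime P) := by
    rw [← Localization.AtPrime.map_eq_maximalIdeal]
    have h3 := IsLocalization.map_comap P.primeCompl (Localization.AtPrime P) Q'
    have h4 : Ideal.under A Q' = P := hcomapP
    rw [h4] at h3
    exact h3.symm
  have hQeq : Q = (maximalIdeal (Localization.AtPrime P)).map
      (Ideal.Quotient.mk (J.map (algebraMap A (Localization.AtPrime P)))) := by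
    rw [← hQ'max, hQ', Ideal.map_comap_of_surjective _ Ideal.Quotient.mk_surjective]
  rw [hQeq]
  refine Ideal.IsMaximal.map_of_surjective_of_ker_le Ideal.Quotient.mk_surjective ?_
  rw [Ideal.mk_ker, ← hQ'max]
  exact hJQ'

end Art

end Groth.Agent.Lib.Helper12.SqFree
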