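import Mathlib
import Groth.Agent.Lib.Helper12.SqFreeE

/-!
# Reduced principal divisors: the general catenary case, main theorem
-/

set_option autoImplicit false
universe u

namespace Groth.Agent.Lib.Helper12.SqFree

open IsLocalRing

variable (A : Type u) [CommRing A] [IsDomain A] [IsNoetherianRing A] [IsIntegrallyClosed A]
  [IsLocalRing A]

/-- The local Nakayama step. -/
theorem map_radical_le_of_sup_eq (P : Ideal A) [P.IsPrime] (h : A) (hhP : h ∈ P)
    (N N'' : Ideal A) (hNN : N'' ≤ N)
    (hcancel : ∀ a : A, a * h ∈ N → a ∈ N)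
    (heq : (N'' ⊔ Ideal.span {h}).map (algebraMap A (Localization.AtPrime P)) =
      (N ⊔ Ideal.span {h}).map (algebraMap A (Localization.AtPrime P))) :
    N.map (algebraMap A (Localization.AtPrime P)) ≤
      N''.map (algebraMap A (Localization.AtPrime P)) := by
  haveI : IsNoetherianRing (Localization.AtPrime P) :=
    IsLocalization.isNoetherianRing P.primeCompl _ inferInstance
  obtain ⟨φ, hφ⟩ : ∃ φ : A →+* Localization.AtPrime P, φ = algebraMap A (Localization.AtPrime P) :=
    ⟨_, rfl⟩
  rw [← hφ] at heq ⊢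
  apply Submodule.le_of_le_smul_of_le_jacobson_bot (I := Ideal.span {φ h})
    (IsNoetherian.noetherian _)
  · rw [IsLocalRing.jacobson_eq_maximalIdeal ⊥ bot_ne_top, Ideal.span_singleton_le_iff_mem, hφ]
    exact (IsLocalization.AtPrime.to_map_mem_maximal_iff _ P h).2 hhP
  · intro x hx
    have hx' : x ∈ (N'' ⊔ Ideal.span {h}).map φ := by
      rw [heq]
      exact Ideal.map_mono le_sup_left hx
    rw [Ideal.map_sup, Ideal.map_span, Set.image_singleton] at hx'
    obtain ⟨y, hy, z, hz, rfl⟩ := Submodule.mem_sup.1 hx'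
    obtain ⟨a, rfl⟩ := Ideal.mem_span_singleton'.1 hz
    refine Submodule.mem_sup.2 ⟨y, hy, a * φ h, ?_, rfl⟩
    have hah : a * φ h ∈ N.map φ := by
      have := Ideal.sub_mem _ hx (Ideal.map_mono hNN hy)
      rwa [add_sub_cancel_left] at this
    have ha : a ∈ N.map φ := by
      obtain ⟨a', s, rfl⟩ := IsLocalization.exists_mk'_eq P.primeCompl a
      have h1 : IsLocalization.mk' (Localization.AtPrime P) a' s * φ h =
          IsLocalization.mk' (Localization.AtPrime P) (a' * h) s := by
        rw [hφ, mul_comm, IsLocalization.mul_mk'_eq_mk'_of_mul, mul_comm]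
      rw [h1, hφ, IsLocalization.mk'_mem_map_algebraMap_iff] at hah
      rw [hφ, IsLocalization.mk'_mem_map_algebraMap_iff]
      obtain ⟨s', hs', hmem⟩ := hah
      refine ⟨s', hs', hcancel _ ?_⟩
      rw [mul_assoc]
      exact hmem
    rw [smul_eq_mul, mul_comm a (φ h)]
    exact Ideal.mul_mem_mul (Ideal.mem_span_singleton_self _) ha

end Groth.Agent.Lib.Helper12.SqFree
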