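import Mathlib
import Groth.Agent.Lib.Helper12.SqFreeF

/-!
# Reduced principal divisors: the general catenary case, main theorem
-/

set_option autoImplicit false
universe u

namespace Groth.Agent.Lib.Helper12.SqFree

open IsLocalRing

variable (A : Type u) [CommRing A] [IsDomain A] [IsNoetherianRing A] [IsIntegrallyClosed A]
  [IsLocalRing A]

set_option maxHeartbeats 800000 in
theorem exists_reduced_in_radical_of_catenary (hcat : CAlg.IsCatenary A)
    (hm : (maximalIdeal A).height ≠ 1) (f₀ : A) (hf₀ : f₀ ≠ 0) (hf₀m : f₀ ∈ maximalIdeal A) :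
    ∃ f ∈ (Ideal.span {f₀}).radical, f ≠ 0 ∧ IsReduced (A ⧸ Ideal.span {f}) := by
  classical
  -- choose `h`
  obtain ⟨Supp, hSupp⟩ : ∃ Supp : Finset (Ideal A),
      ∀ r, r ∈ Supp ↔ r ∈ (Ideal.span {f₀}).minimalPrimes :=
    ⟨(Ideal.finite_minimalPrimes_of_isNoetherianRing A (Ideal.span {f₀})).toFinset,
      fun r => by simp⟩
  have hh : ∃ h ∈ maximalIdeal A, ∀ r ∈ (Ideal.span {f₀}).minimalPrimes, h ∉ r := by
    have h1 : ¬ ((maximalIdeal A : Set A) ⊆ ⋃ r ∈ (Supp : Set (Ideal A)), (r : Set A)) := by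
      rw [Ideal.subset_union_prime (maximalIdeal A) (maximalIdeal A)
        (fun r hr _ _ => ((hSupp r).1 hr).1.1)]
      rintro ⟨r, hr, hle⟩
      have hrmin := (hSupp r).1 hr
      haveI := hrmin.1.1
      have heq : r = maximalIdeal A :=
        le_antisymm (IsLocalRing.le_maximalIdeal hrmin.1.1.ne_top) hle
      have := height_eq_one_of_mem_minimalPrimes A f₀ hf₀ r hrmin
      rw [heq] at this
      exact hm this
    obtain ⟨h, hhm, hh⟩ := Set.not_subset.1 h1
    refine ⟨h, hhm, fun r hr hmem => hh ?_⟩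
    simp only [Set.mem_iUnion]
    exact ⟨r, (hSupp r).2 hr, hmem⟩
  obtain ⟨h, hhm, hh⟩ := hh
  have hf₀h : f₀ ∉ Ideal.span {h} := by
    intro hmem
    have hle : Ideal.span {h} ≤ maximalIdeal A := (Ideal.span_singleton_le_iff_mem _).2 hhm
    obtain ⟨r', hr'min, -⟩ := Ideal.exists_minimalPrimes_le hle
    haveI := hr'min.1.1
    have hr'ht : r'.height ≤ 1 := Ideal.height_le_one_of_isPrincipal_of_mem_minimalPrimes _ r' hr'min
    have hf₀r' : Ideal.span {f₀} ≤ r' :=
      (Ideal.span_singleton_le_iff_mem _).2 (hr'min.1.2 hmem)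
    obtain ⟨r, hrmin, hrr'⟩ := Ideal.exists_minimalPrimes_le hf₀r'
    haveI := hrmin.1.1
    have heq := eq_of_le_of_height_one A hrr' (height_eq_one_of_mem_minimalPrimes A f₀ hf₀ r hrmin)
      hr'ht
    apply hh r hrmin
    rw [heq]
    exact hr'min.1.2 (Ideal.mem_span_singleton_self h)
  have hfam : ∀ b ∈ (Ideal.span {f₀}).radical,
      f₀ + b * h ∉ Ideal.span {h} ∧ f₀ + b * h ≠ 0 ∧ f₀ + b * h ∈ (Ideal.span {f₀}).radical ∧
        ∀ r : Ideal A, r.IsPrime → r.height = 1 → f₀ + b * h ∈ r → h ∉ r := by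
    intro b hb
    have h1 : f₀ + b * h ∉ Ideal.span {h} := by
      intro hmem
      apply hf₀h
      have := Ideal.sub_mem _ hmem (Ideal.mul_mem_left _ b (Ideal.mem_span_singleton_self h))
      rwa [add_sub_cancel_right] at this
    refine ⟨h1, fun h0 => h1 (h0 ▸ Ideal.zero_mem _), ?_, ?_⟩
    · exact Ideal.add_mem _ (Ideal.le_radical (Ideal.mem_span_singleton_self f₀))
        (Ideal.mul_mem_right _ _ hb)
    · intro r hr hht hmem hhr
      haveI := hr
      have hf₀r : f₀ ∈ r := by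
        have := r.sub_mem hmem (r.mul_mem_left b hhr)
        rwa [add_sub_cancel_right] at this
      obtain ⟨r₀, hr₀min, hr₀r⟩ :=
        Ideal.exists_minimalPrimes_le ((Ideal.span_singleton_le_iff_mem _).2 hf₀r)
      haveI := hr₀min.1.1
      have heq := eq_of_le_of_height_one A hr₀r
        (height_eq_one_of_mem_minimalPrimes A f₀ hf₀ r₀ hr₀min) hht.le
      exact hh r₀ hr₀min (heq ▸ hhr)
  -- the Artinian quotients
  obtain ⟨J, hJ⟩ : ∃ J : Ideal A, J = Ideal.span {f₀} ⊔ Ideal.span {h} := ⟨_, rfl⟩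
  haveI : Finite {P : Ideal A // P ∈ J.minimalPrimes} :=
    (Ideal.finite_minimalPrimes_of_isNoetherianRing A J).to_subtype
  haveI hprime : ∀ j : {P : Ideal A // P ∈ J.minimalPrimes}, j.1.IsPrime := fun j => j.2.1.1
  haveI hart : ∀ j : {P : Ideal A // P ∈ J.minimalPrimes}, IsArtinianRing
      (Localization.AtPrime j.1 ⧸ J.map (algebraMap A (Localization.AtPrime j.1))) :=
    fun j => isArtinianRing_localization_quotient J j.1 j.2
  -- the minimal choice
  let Kf : A → ∀ j : {P : Ideal A // P ∈ J.minimalPrimes},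
      Ideal (Localization.AtPrime j.1 ⧸ J.map (algebraMap A (Localization.AtPrime j.1))) :=
    fun b j => Ideal.map (Ideal.Quotient.mk _)
      (((Ideal.span {f₀ + b * h}).radical ⊔ Ideal.span {h}).map
        (algebraMap A (Localization.AtPrime j.1)))
  let S : Set (∀ j : {P : Ideal A // P ∈ J.minimalPrimes},
      Ideal (Localization.AtPrime j.1 ⧸ J.map (algebraMap A (Localization.AtPrime j.1)))) :=
    {K | ∃ b ∈ (Ideal.span {f₀}).radical, K = Kf b}
  have hSne : S.Nonempty := ⟨_, 0, Ideal.zero_mem _, rfl⟩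
  obtain ⟨K, ⟨b, hb, hK⟩, hKmin⟩ := (wellFounded_lt (α := ∀ j : {P : Ideal A // P ∈ J.minimalPrimes},
      Ideal (Localization.AtPrime j.1 ⧸ J.map (algebraMap A (Localization.AtPrime j.1))))).has_min
    S hSne
  obtain ⟨hfh, hf0, hfrad, hfh'⟩ := hfam b hb
  refine ⟨f₀ + b * h, hfrad, hf0, ?_⟩
  by_contra hnr
  obtain ⟨b', hb', q, hq, hqht, hq'', hfq⟩ := exists_perturbation A (f₀ + b * h) h hf0 hfh hfh' hnr
  haveI := hq
  have hradle : (Ideal.span {f₀ + b * h}).radical ≤ (Ideal.span {f₀}).radical := by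
    rw [Ideal.radical_le_radical_iff, Ideal.span_singleton_le_iff_mem]
    exact hfrad
  have hbb' : b + b' ∈ (Ideal.span {f₀}).radical := Ideal.add_mem _ hb (hradle hb')
  have hf'' : f₀ + (b + b') * h = f₀ + b * h + b' * h := by ring
  have hrad'' : (Ideal.span {f₀ + (b + b') * h}).radical ≤ (Ideal.span {f₀ + b * h}).radical := by
    rw [Ideal.radical_le_radical_iff, Ideal.span_singleton_le_iff_mem, hf'']
    exact Ideal.add_mem _ (Ideal.le_radical (Ideal.mem_span_singleton_self _))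
      (Ideal.mul_mem_right _ _ hb')
  have hK''S : Kf (b + b') ∈ S := ⟨b + b', hbb', rfl⟩
  have hK''le : Kf (b + b') ≤ K := by
    rw [hK]
    intro j
    exact Ideal.map_mono (Ideal.map_mono (sup_le_sup_right hrad'' _))
  have hKeq : Kf (b + b') = Kf b := hK ▸ eq_of_le_of_not_lt hK''le (hKmin _ hK''S)
  -- pull back to the localisations
  have hJle : ∀ c : A, J ≤ (Ideal.span {f₀ + c * h}).radical ⊔ Ideal.span {h} := by
    intro c
    rw [hJ]
    refine sup_le ?_ le_sup_right
    rw [Ideal.span_singleton_le_iff_mem]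
    have h1 := Ideal.sub_mem ((Ideal.span {f₀ + c * h}).radical ⊔ Ideal.span {h})
      (Ideal.mem_sup_left (Ideal.le_radical (Ideal.mem_span_singleton_self (f₀ + c * h))))
      (Ideal.mem_sup_right (Ideal.mul_mem_left _ c (Ideal.mem_span_singleton_self h)))
    rwa [add_sub_cancel_right] at h1
  have hcomap : ∀ (c : A) (j : {P : Ideal A // P ∈ J.minimalPrimes}),
      Ideal.comap (Ideal.Quotient.mk (J.map (algebraMap A (Localization.AtPrime j.1)))) (Kf c j) =
        ((Ideal.span {f₀ + c * h}).radical ⊔ Ideal.span {h}).map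
          (algebraMap A (Localization.AtPrime j.1)) := by
    intro c j
    show Ideal.comap _ (Ideal.map _ _) = _
    rw [Ideal.comap_map_of_surjective _ Ideal.Quotient.mk_surjective, ← RingHom.ker_eq_comap_bot,
      Ideal.mk_ker, sup_eq_left]
    exact Ideal.map_mono (hJle c)
  have hloceq : ∀ j : {P : Ideal A // P ∈ J.minimalPrimes},
      ((Ideal.span {f₀ + (b + b') * h}).radical ⊔ Ideal.span {h}).map
          (algebraMap A (Localization.AtPrime j.1)) =
        ((Ideal.span {f₀ + b * h}).radical ⊔ Ideal.span {h}).map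
          (algebraMap A (Localization.AtPrime j.1)) := by
    intro j
    rw [← hcomap (b + b') j, ← hcomap b j, hKeq]
  -- the new prime lies in one of the minimal primes of `J`
  obtain ⟨hf''h, hf''0, hf''rad, hf''h'⟩ := hfam (b + b') hbb'
  have hq''2 : f₀ + (b + b') * h ∈ q := hf'' ▸ hq''
  have hhq : h ∉ q := hf''h' q hq hqht hq''2
  have hqm : q ⊔ Ideal.span {h} ≤ maximalIdeal A :=
    sup_le (IsLocalRing.le_maximalIdeal hq.ne_top) ((Ideal.span_singleton_le_iff_mem _).2 hhm)
  obtain ⟨P', hP'min, -⟩ := Ideal.exists_minimalPrimes_le hqm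
  haveI hP'p : P'.IsPrime := hP'min.1.1
  have hP'ht := height_eq_two_of_catenary A hcat q hqht h hhq P' hP'min
  have hqP' : q ≤ P' := le_trans le_sup_left hP'min.1.2
  have hhP' : h ∈ P' := hP'min.1.2 (Ideal.mem_sup_right (Ideal.mem_span_singleton_self h))
  have hJP' : J ≤ P' := by
    rw [hJ]
    refine sup_le ?_ ((Ideal.span_singleton_le_iff_mem _).2 hhP')
    rw [Ideal.span_singleton_le_iff_mem]
    have h1 := P'.sub_mem (hqP' hq''2) (P'.mul_mem_left (b + b') hhP')
    rwa [add_sub_cancel_right] at h1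
  have hP'J : P' ∈ J.minimalPrimes := by
    refine ⟨⟨hP'p, hJP'⟩, ?_⟩
    rintro P₀ ⟨hP₀, hJP₀⟩ hP₀P'
    haveI := hP₀
    by_contra hnot
    have hlt : P₀ < P' := lt_of_le_not_ge hP₀P' hnot
    have h1 : P₀.height < P'.height := Ideal.height_strict_mono_of_isPrime_of_isPrime hlt
    rw [hP'ht] at h1
    have hf₀P₀ : Ideal.span {f₀} ≤ P₀ := le_trans (hJ ▸ le_sup_left) hJP₀
    have hhP₀ : h ∈ P₀ := hJP₀ (hJ ▸ Ideal.mem_sup_right (Ideal.mem_span_singleton_self h))
    obtain ⟨r₀, hr₀min, hr₀P⟩ := Ideal.exists_minimalPrimes_le hf₀P₀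
    haveI := hr₀min.1.1
    have hlt2 : r₀ < P₀ := lt_of_le_of_ne hr₀P fun heq => hh r₀ hr₀min (heq ▸ hhP₀)
    have h2 : r₀.height < P₀.height := Ideal.height_strict_mono_of_isPrime_of_isPrime hlt2
    rw [height_eq_one_of_mem_minimalPrimes A f₀ hf₀ r₀ hr₀min] at h2
    have h3 : (2 : ℕ∞) ≤ P₀.height := by
      have := Order.add_one_le_of_lt h2
      exact_mod_cast this
    exact absurd (lt_of_le_of_lt h3 h1) (lt_irrefl _)
  -- Nakayama in the localisation at `P'`
  have hcancel : ∀ a : A, a * h ∈ (Ideal.span {f₀ + b * h}).radical →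
      a ∈ (Ideal.span {f₀ + b * h}).radical := by
    intro a hah
    rw [← Ideal.sInf_minimalPrimes, Ideal.mem_sInf] at hah ⊢
    intro r hr
    haveI := hr.1.1
    have hrht := height_eq_one_of_mem_minimalPrimes A _ hf0 r hr
    have hfr : f₀ + b * h ∈ r := hr.1.2 (Ideal.mem_span_singleton_self _)
    rcases hr.1.1.mem_or_mem (hah hr) with h1 | h1
    · exact h1
    · exact absurd h1 (hfh' r hr.1.1 hrht hfr)
  have hNak := map_radical_le_of_sup_eq A P' h hhP' _ _ hrad'' hcancel (hloceq ⟨P', hP'J⟩)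
  have h1 : algebraMap A (Localization.AtPrime P') (f₀ + b * h) ∈
      (Ideal.span {f₀ + (b + b') * h}).radical.map (algebraMap A (Localization.AtPrime P')) :=
    hNak (Ideal.mem_map_of_mem _ (Ideal.le_radical (Ideal.mem_span_singleton_self _)))
  rw [IsLocalization.algebraMap_mem_map_algebraMap_iff P'.primeCompl] at h1
  obtain ⟨s, hs, hsf⟩ := h1
  have h2 : (Ideal.span {f₀ + (b + b') * h}).radical ≤ q := by
    rw [Ideal.IsPrime.radical_le_iff hq, Ideal.span_singleton_le_iff_mem]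
    exact hq''2
  rcases hq.mem_or_mem (h2 hsf) with h3 | h3
  · exact hs (hqP' h3)
  · exact hfq h3

end Groth.Agent.Lib.Helper12.SqFree
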