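import Mathlib
import Groth.Agent.Lib.Helper16.DComp4
import Groth.Agent.Lib.Helper16.DComp5
import Groth.Agent.Lib.Helper16.DComp8

/-!
Helper library (helper12): completeness of square-zero extensions of complete noetherian local
rings, via helper16's derived completeness toolkit.
-/

set_option autoImplicit false
set_option linter.style.haveILetI false

namespace Groth.Agent.Lib.Helper12.SqZeroCompl

open Groth.Agent.Lib.Helper16.DComp

universe u v w

section General

variable {R : Type u} [CommRing R]

/-- Derived completeness is closed under extensions. -/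
theorem DCf.of_sub_of_quotient {r : R} {M : Type v} [AddCommGroup M] [Module R M]
    (P : Submodule R M) (hP : DCf r P) (hQ : DCf r (M ⧸ P)) : DCf r M := by
  constructor
  · rw [injective_iff_map_eq_zero]
    intro m hm
    have h1 : (fun n => P.mkQ (m n)) = 0 := by
      apply hQ.1
      rw [Phi_map, hm, map_zero]
      funext n; simp
    have h2 : ∀ n, m n ∈ P := fun n => by
      have := congrFun h1 n
      simpa using this
    have h3 : (fun n => (⟨m n, h2 n⟩ : P)) = 0 := by
      apply hP.1
      rw [map_zero]
      funext n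
      apply Subtype.ext
      have := congrFun hm n
      simpa [Phi_apply] using this
    funext n
    have := congrFun h3 n
    simpa using congrArg Subtype.val this
  · intro c
    obtain ⟨qbar, hq⟩ := hQ.2 (fun n => P.mkQ (c n))
    choose q hqq using fun n => P.mkQ_surjective (qbar n)
    have h1 : ∀ n, c n - Phi r M q n ∈ P := by
      intro n
      have h := congrFun hq n
      rw [← (funext hqq : (fun k => P.mkQ (q k)) = qbar), Phi_map] at h
      rw [← Submodule.Quotient.mk_eq_zero, Submodule.Quotient.mk_sub]
      have h' : Submodule.Quotient.mk (p := P) (Phi r M q n) = Submodule.Quotient.mk (c n) := h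
      rw [h', sub_self]
    obtain ⟨p, hp⟩ := hP.2 (fun n => ⟨c n - Phi r M q n, h1 n⟩)
    refine ⟨fun n => q n + (p n : M), ?_⟩
    funext n
    have h2 := congrArg Subtype.val (congrFun hp n)
    simp only [Phi_apply, Submodule.coe_sub, Submodule.coe_smul] at h2
    simp only [Phi_apply, smul_add] at h2 ⊢
    have h3 : q n + (p n : M) - (r • q (n + 1) + r • (p (n + 1) : M)) =
        (q n - r • q (n + 1)) + ((p n : M) - r • (p (n + 1) : M)) := by abel
    rw [h3, h2]
    abel

/-- Derived completeness transfers along semilinear additive equivalences. -/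
theorem DCf.of_addEquiv {R' : Type w} [CommRing R'] {M : Type v} [AddCommGroup M] [Module R M]
    {M' : Type*} [AddCommGroup M'] [Module R' M'] (e : M ≃+ M') (r : R) (r' : R')
    (he : ∀ x, e (r • x) = r' • e x) (h : DCf r M) : DCf r' M' := by
  have key : ∀ m : ℕ → M', Phi r' M' m = fun n => e (Phi r M (fun k => e.symm (m k)) n) := by
    intro m
    funext n
    simp only [Phi_apply, map_sub, he, AddEquiv.apply_symm_apply]
  constructor
  · rw [injective_iff_map_eq_zero]
    intro m hm
    have h1 : Phi r M (fun k => e.symm (m k)) = 0 := by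
      funext n
      apply e.injective
      have := congrFun hm n
      rw [key] at this
      simpa using this
    have h2 : (fun k => e.symm (m k)) = 0 := h.1 (by rw [h1, map_zero])
    funext n
    have := congrFun h2 n
    simpa using this
  · intro c
    obtain ⟨m, hm⟩ := h.2 (fun k => e.symm (c k))
    refine ⟨fun k => e (m k), ?_⟩
    rw [key]
    funext n
    have : (fun k => e.symm (e (m k))) = m := by funext k; simp
    rw [this, hm]
    simp

/-- Over a noetherian ring which is derived `s`-complete, every finite module is. -/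
theorem DCf.of_finite [IsNoetherianRing R] {s : R} (h : DCf s R) (M : Type v) [AddCommGroup M]
    [Module R M] [Module.Finite R M] : DCf s M := by
  obtain ⟨n, g, hg⟩ := Module.Finite.exists_fin' R M
  have hpi : DCf s (Fin n → R) := h.pi (Fin n)
  have hK : (LinearMap.ker g).FG := IsNoetherian.noetherian _
  obtain ⟨m, κ, hκ⟩ := Submodule.fg_iff_exists_fin_generating_family.mp hK
  let v : (Fin m → R) →ₗ[R] (Fin n → R) := Fintype.linearCombination R κ
  have hv : LinearMap.range v = LinearMap.ker g := by
    rw [Fintype.range_linearCombination]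
    exact hκ
  have h1 : DCf s (LinearMap.ker g) := by
    have := (h.pi (Fin m)).range hpi v
    rw [hv] at this
    exact this
  have h2 : DCf s ((Fin n → R) ⧸ LinearMap.ker g) := (hpi.sub_iff_quotient _).mp h1
  exact h2.of_equiv (g.quotKerEquivOfSurjective hg)

end General

section SqZero

variable {A : Type u} {E : Type v} [CommRing A] [CommRing E] (f : E →+* A)
  (hf : Function.Surjective f)

include hf

theorem fg_comap_of_surjective (hker : (RingHom.ker f).FG) (J : Ideal A) (hJ : J.FG) :
    (J.comap f).FG := by
  classical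
  obtain ⟨s, rfl⟩ := hJ
  let t : Finset E := s.image (Function.surjInv hf)
  have ht : f '' (t : Set E) = s := by
    ext a
    simp only [t, Finset.coe_image, Set.mem_image, Finset.mem_coe, exists_exists_and_eq_and,
      Function.surjInv_eq hf, exists_eq_right]
  have h1 : Ideal.span (s : Set A) = (Ideal.span (t : Set E)).map f := by
    rw [Ideal.map_span, ht]
  rw [h1, Ideal.comap_map_of_surjective f hf]
  refine Submodule.FG.sup ⟨t, rfl⟩ ?_
  rwa [← RingHom.ker_eq_comap_bot]

theorem isNoetherianRing_of_sqZero [IsNoetherianRing A] (hsq : RingHom.ker f ^ 2 = ⊥)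
    (hfg : (RingHom.ker f).FG) : IsNoetherianRing E := by
  refine IsNoetherianRing.of_prime (fun P hP => ?_)
  have hle : RingHom.ker f ≤ P := hP.le_of_pow_le (n := 2) (by rw [hsq]; exact bot_le)
  have h1 : P = (P.map f).comap f := by
    rw [Ideal.comap_map_of_surjective f hf, ← RingHom.ker_eq_comap_bot, sup_eq_left.mpr hle]
  rw [h1]
  exact fg_comap_of_surjective f hf hfg _ (IsNoetherian.noetherian _)

theorem dcf_of_sqZero [IsNoetherianRing A] [IsLocalRing A]
    [IsAdicComplete (IsLocalRing.maximalIdeal A) A] (hsq : RingHom.ker f ^ 2 = ⊥)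
    (hfg : (RingHom.ker f).FG) (g : E) (hg : f g ∈ IsLocalRing.maximalIdeal A) : DCf g E := by
  let eS : (E ⧸ RingHom.ker f) ≃+* A := RingHom.quotientKerEquivOfSurjective hf
  have heS : ∀ x : E, eS (Ideal.Quotient.mk _ x) = f x := fun x => rfl
  have hA : DCf (f g) A := DCf.of_isAdicComplete (IsLocalRing.maximalIdeal A) hg
  have hS : DCf (Ideal.Quotient.mk (RingHom.ker f) g) (E ⧸ RingHom.ker f) := by
    refine DCf.of_addEquiv eS.symm.toAddEquiv (f g) _ (fun x => ?_) hA
    show eS.symm (f g * x) = Ideal.Quotient.mk (RingHom.ker f) g * eS.symm x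
    rw [map_mul]
    congr 1
    rw [RingEquiv.symm_apply_eq, heS]
  haveI : IsNoetherianRing (E ⧸ RingHom.ker f) := isNoetherianRing_of_ringEquiv A eS.symm
  have htors : Module.IsTorsionBySet E (RingHom.ker f) (RingHom.ker f : Set E) := by
    intro x a
    apply Subtype.ext
    have h1 : (a : E) * (x : E) ∈ RingHom.ker f ^ 2 := by
      rw [pow_two]
      exact Ideal.mul_mem_mul a.2 x.2
    rw [hsq] at h1
    exact h1
  letI : Module (E ⧸ RingHom.ker f) (RingHom.ker f) := htors.module
  haveI : IsScalarTower E (E ⧸ RingHom.ker f) (RingHom.ker f) := htors.isScalarTower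
  haveI : Module.Finite E (RingHom.ker f) := Module.Finite.iff_fg.mpr hfg
  haveI : Module.Finite (E ⧸ RingHom.ker f) (RingHom.ker f) :=
    Module.Finite.of_restrictScalars_finite E (E ⧸ RingHom.ker f) (RingHom.ker f)
  have hN' : DCf (Ideal.Quotient.mk (RingHom.ker f) g) (RingHom.ker f) :=
    DCf.of_finite hS (RingHom.ker f)
  have hN : DCf g (RingHom.ker f) :=
    DCf.of_addEquiv (AddEquiv.refl _) (Ideal.Quotient.mk (RingHom.ker f) g) g (fun x => rfl) hN'
  have hQ : DCf g (E ⧸ RingHom.ker f) := by
    refine DCf.of_addEquiv (AddEquiv.refl _) (Ideal.Quotient.mk (RingHom.ker f) g) g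
      (fun x => ?_) hS
    obtain ⟨y, rfl⟩ := Ideal.Quotient.mk_surjective x
    rfl
  exact DCf.of_sub_of_quotient (RingHom.ker f) hN hQ

/-- S16981. -/
theorem isAdicComplete_comap_of_sqZero [IsNoetherianRing A] [IsLocalRing A]
    [IsAdicComplete (IsLocalRing.maximalIdeal A) A] (hsq : RingHom.ker f ^ 2 = ⊥)
    (hfg : (RingHom.ker f).FG) :
    IsAdicComplete ((IsLocalRing.maximalIdeal A).comap f) E := by
  haveI := isNoetherianRing_of_sqZero f hf hsq hfg
  have hdc : ∀ g ∈ (IsLocalRing.maximalIdeal A).comap f, DCf g E :=
    fun g hg => dcf_of_sqZero f hf hsq hfg g hg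
  have hfgn : ((IsLocalRing.maximalIdeal A).comap f).FG := IsNoetherian.noetherian _
  haveI : IsPrecomplete ((IsLocalRing.maximalIdeal A).comap f) E :=
    isPrecomplete_of_fg _ hfgn hdc
  haveI : IsHausdorff ((IsLocalRing.maximalIdeal A).comap f) E :=
    IsHausdorff.of_le_jacobson _ E (le_jacobson_bot_of_DCf _ hdc)
  exact {}

end SqZero

end Groth.Agent.Lib.Helper12.SqZeroCompl
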