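import Groth.Agent.Lib.Helper12.TotalFrac6
import Groth.Agent.Lib.Helper12.StrictStruct5
import Groth.Agent.Lib.Helper12.EssEtaleFlat

set_option autoImplicit false
universe u

/-!
# Local subalgebras of a strict henselization whose total ring of fractions is finitely generated
-/

namespace Groth.Agent.Lib.Helper12.StrictFrac

open IsLocalRing TotalFrac StrictStruct
open scoped nonZeroDivisors

variable (A S : Type u) [CommRing A] [IsLocalRing A] [IsReduced A]
  (hmin : (minimalPrimes A).Finite)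
  [CommRing S] [IsLocalRing S] [Algebra A S] [IsLocalHom (algebraMap A S)]
  [Hensel.IsStrictHenselization A S] (D : Subalgebra A S)

/-- Nonzerodivisors of `A` are nonzerodivisors of `D`. -/
theorem algebraMap_mem_nonZeroDivisors_sub {a : A} (ha : a ∈ nonZeroDivisors A) :
    algebraMap A D a ∈ nonZeroDivisors D := by
  haveI := flat_of_isStrictHenselization A S
  have h := algebraMap_mem_nonZeroDivisors A S ha
  rw [mem_nonZeroDivisors_iff_right] at h ⊢
  intro y hy
  have h1 : (y : S) * algebraMap A S a = 0 := congrArg Subtype.val hy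
  exact Subtype.ext (h _ h1)

include hmin

/-- `⇐` direction. -/
theorem fg_of_le (E : Subalgebra A S) (hDE : D ≤ E) (hE : EGA4loc.IsEssentiallyEtale A E) :
    ∃ t : Finset (FractionRing D), ∀ x : FractionRing D, ∃ a ∈ nonZeroDivisors A,
      algebraMap A (FractionRing D) a * x ∈ Algebra.adjoin A (t : Set (FractionRing D)) := by
  classical
  haveI := flat_of_isEssentiallyEtale hE
  haveI := quasiFinite_of_isEssentiallyEtale hE
  obtain ⟨t, ht⟩ := exists_finset_of_injective A E hmin (Subalgebra.inclusion hDE)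
    (Subalgebra.inclusion_injective hDE)
  let gl : D →ₗ[A] FractionRing D := (IsScalarTower.toAlgHom A D (FractionRing D)).toLinearMap
  refine ⟨t.image (algebraMap D (FractionRing D)), fun x => ?_⟩
  obtain ⟨d, m, rfl⟩ := IsLocalization.exists_mk'_eq (nonZeroDivisors D) x
  obtain ⟨a, ha, c, hc, hac⟩ := ht d m m.2
  refine ⟨a, ha, ?_⟩
  have hu : IsUnit (algebraMap D (FractionRing D) m) := IsLocalization.map_units _ m
  have h1 : algebraMap A (FractionRing D) a * IsLocalization.mk' (FractionRing D) d m =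
      algebraMap D (FractionRing D) c := by
    apply hu.mul_left_injective
    show _ * algebraMap D (FractionRing D) m = _ * algebraMap D (FractionRing D) m
    rw [mul_assoc, IsLocalization.mk'_spec, IsScalarTower.algebraMap_apply A D (FractionRing D),
      ← map_mul, hac, map_mul, mul_comm]
  rw [h1]
  have h2 : gl c ∈ (Submodule.span A (t : Set D)).map gl := ⟨c, hc, rfl⟩
  rw [Submodule.map_span] at h2
  have h3 : gl '' (t : Set D) = ((t.image (algebraMap D (FractionRing D)) : Finset _) :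
      Set (FractionRing D)) := by
    rw [Finset.coe_image]; rfl
  rw [h3] at h2
  exact Algebra.span_le_adjoin A _ h2

/-- A nonzerodivisor of `D` is a nonzerodivisor of `S`. -/
theorem mem_nonZeroDivisors_of_sub {y : D} (hy : y ∈ nonZeroDivisors D) :
    (y : S) ∈ nonZeroDivisors S := by
  classical
  by_contra hnz
  rw [mem_nonZeroDivisors_iff_right] at hnz
  push_neg at hnz
  obtain ⟨s, hs0, hsne⟩ := hnz
  obtain ⟨E₁, hsE, hE₁loc, hE₁et, -⟩ := exists_essEtale_subalgebra A S ({(y : S), s} : Finset S)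
  haveI := flat_of_isEssentiallyEtale hE₁et
  haveI := quasiFinite_of_isEssentiallyEtale hE₁et
  have hyE : (y : S) ∈ E₁ := hsE _ (by simp)
  have hsE' : s ∈ E₁ := hsE _ (by simp)
  have hy₁ : (⟨(y : S), hyE⟩ : E₁) ∉ nonZeroDivisors E₁ := by
    intro h
    rw [mem_nonZeroDivisors_iff_right] at h
    have := h ⟨s, hsE'⟩ (Subtype.ext hs0)
    exact hsne (congrArg Subtype.val this)
  obtain ⟨d, hd, hd0, hyd⟩ := exists_ne_zero_mul_eq_zero A E₁ hmin hy₁
  -- `d ∈ D`
  have hdD : (d : S) ∈ D := by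
    have h1 : E₁.val d ∈ (Algebra.adjoin A {(⟨(y : S), hyE⟩ : E₁)}).map E₁.val := ⟨d, hd, rfl⟩
    rw [AlgHom.map_adjoin, Set.image_singleton] at h1
    refine Algebra.adjoin_le ?_ h1
    rintro _ rfl
    exact y.2
  have h2 : (⟨(d : S), hdD⟩ : D) * y = 0 := by
    apply Subtype.ext
    show (d : S) * (y : S) = 0
    rw [mul_comm]
    exact congrArg Subtype.val hyd
  have h3 := (mem_nonZeroDivisors_iff_right.mp hy) _ h2
  have h4 : (d : S) = 0 := congrArg Subtype.val h3
  exact hd0 (Subtype.ext h4)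

/-- `⇒` direction. -/
theorem le_of_fg (hfg : ∃ t : Finset (FractionRing D), ∀ x : FractionRing D,
      ∃ a ∈ nonZeroDivisors A,
        algebraMap A (FractionRing D) a * x ∈ Algebra.adjoin A (t : Set (FractionRing D))) :
    ∃ E : Subalgebra A S, D ≤ E ∧ ∃ _ : IsLocalRing E, EGA4loc.IsEssentiallyEtale A E := by
  classical
  obtain ⟨t, ht⟩ := hfg
  obtain ⟨M₀, hM₀⟩ := IsLocalization.exist_integer_multiples_of_finset (nonZeroDivisors D) t
  have hM₀' : ∀ τ ∈ t, ∃ d : D, algebraMap D (FractionRing D) d =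
      algebraMap D (FractionRing D) M₀ * τ := by
    intro τ hτ
    obtain ⟨d, hd⟩ := hM₀ τ hτ
    refine ⟨d, hd.trans ?_⟩
    rw [Algebra.smul_def]
  choose! dd hdd using hM₀'
  let W : Finset D := insert (M₀ : D) (t.image dd)
  let D₀ : Subalgebra A D := Algebra.adjoin A (W : Set D)
  have hM₀D₀ : (M₀ : D) ∈ D₀ := Algebra.subset_adjoin (by simp [W])
  have hddD₀ : ∀ τ ∈ t, dd τ ∈ D₀ := fun τ hτ =>
    Algebra.subset_adjoin (by
      simp only [W, Finset.coe_insert, Finset.coe_image, Set.mem_insert_iff, Set.mem_image,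
        Finset.mem_coe]
      exact Or.inr ⟨τ, hτ, rfl⟩)
  -- claim C1
  have hC1 : ∀ w ∈ Algebra.adjoin A (t : Set (FractionRing D)), ∃ N : ℕ, ∃ z ∈ D₀,
      algebraMap D (FractionRing D) ((M₀ : D) ^ N) * w = algebraMap D (FractionRing D) z := by
    intro w hw
    induction hw using Algebra.adjoin_induction with
    | mem τ hτ =>
      exact ⟨1, dd τ, hddD₀ τ hτ, by rw [pow_one, hdd τ hτ]⟩
    | algebraMap r =>
      exact ⟨0, algebraMap A D r, D₀.algebraMap_mem r, by
        rw [pow_zero, map_one, one_mul, ← IsScalarTower.algebraMap_apply A D (FractionRing D)]⟩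
    | add w₁ w₂ _ _ h₁ h₂ =>
      obtain ⟨N₁, z₁, hz₁, e₁⟩ := h₁
      obtain ⟨N₂, z₂, hz₂, e₂⟩ := h₂
      refine ⟨N₁ + N₂, (M₀ : D) ^ N₂ * z₁ + (M₀ : D) ^ N₁ * z₂,
        D₀.add_mem (D₀.mul_mem (D₀.pow_mem hM₀D₀ _) hz₁) (D₀.mul_mem (D₀.pow_mem hM₀D₀ _) hz₂), ?_⟩
      rw [map_add, map_mul, map_mul, ← e₁, ← e₂, pow_add, map_mul]
      ring
    | mul w₁ w₂ _ _ h₁ h₂ =>
      obtain ⟨N₁, z₁, hz₁, e₁⟩ := h₁
      obtain ⟨N₂, z₂, hz₂, e₂⟩ := h₂
      refine ⟨N₁ + N₂, z₁ * z₂, D₀.mul_mem hz₁ hz₂, ?_⟩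
      rw [map_mul, ← e₁, ← e₂, pow_add, map_mul]
      ring
  obtain ⟨E₀, hWE, hE₀loc, hE₀et, -, hdiv⟩ :=
    exists_essEtale_subalgebra' A S (W.image (fun d : D => (d : S)))
  have hD₀E : ∀ z ∈ D₀, (z : S) ∈ E₀ := by
    intro z hz
    have h1 : D.val z ∈ D₀.map D.val := ⟨z, hz, rfl⟩
    rw [AlgHom.map_adjoin] at h1
    refine Algebra.adjoin_le ?_ h1
    rintro _ ⟨d, hd, rfl⟩
    exact hWE _ (Finset.mem_image_of_mem _ hd)
  refine ⟨E₀, ?_, hE₀loc, hE₀et⟩
  intro x hx
  obtain ⟨a, ha, haw⟩ := ht (algebraMap D (FractionRing D) ⟨x, hx⟩)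
  obtain ⟨N, z, hz, hNz⟩ := hC1 _ haw
  let y : D := (M₀ : D) ^ N * algebraMap A D a
  have hyD₀ : y ∈ D₀ := D₀.mul_mem (D₀.pow_mem hM₀D₀ _) (D₀.algebraMap_mem a)
  have hynz : y ∈ nonZeroDivisors D :=
    mul_mem (pow_mem M₀.2 N) (algebraMap_mem_nonZeroDivisors_sub A S D ha)
  have hyx : y * ⟨x, hx⟩ = z := by
    apply IsFractionRing.injective D (FractionRing D)
    rw [← hNz, map_mul, map_mul, IsScalarTower.algebraMap_apply A D (FractionRing D)]
    ring
  have hyS : (y : S) ∈ nonZeroDivisors S := mem_nonZeroDivisors_of_sub A S hmin D hynz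
  have hyx' : (y : S) * x = (z : S) := congrArg Subtype.val hyx
  obtain ⟨x', hx', hyx''⟩ := hdiv (y : S) (z : S) (hD₀E y hyD₀) (hD₀E z hz) ⟨x, hyx'⟩
  have : x = x' := by
    have h0 : (x - x') * (y : S) = 0 := by
      rw [sub_mul, mul_comm x, mul_comm x', hyx', hyx'', sub_self]
    have := (mem_nonZeroDivisors_iff_right.mp hyS) _ h0
    exact sub_eq_zero.mp this
  rw [this]; exact hx'

end Groth.Agent.Lib.Helper12.StrictFrac
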