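import Mathlib
import Groth.Agent.Lib.Helper12.EtaleReduced
import Groth.Agent.Lib.Helper12.StrictNoeth
import Groth.Agent.Lib.Helper12.CatLimC

/-!
# Geometric reducedness of a local algebra over a field and of its strict henselization
-/

set_option autoImplicit false
universe u
open TensorProduct

namespace Groth.Agent.Lib.Helper12.StrictGeomRed

section A

variable (k : Type u) [Field k] (K : Type u) [Field K] [Algebra k K]

/-- étale algebras preserve reducedness after base field extension -/
theorem isReduced_tensor_of_etale (A C : Type u) [CommRing A] [CommRing C] [Algebra k A]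
    [Algebra k C] [Algebra A C] [IsScalarTower k A C] [Algebra.Etale A C]
    (h : IsReduced (K ⊗[k] A)) : IsReduced (K ⊗[k] C) := by
  haveI : IsReduced (A ⊗[k] K) :=
    isReduced_of_injective (Algebra.TensorProduct.comm k A K).toRingHom
      (Algebra.TensorProduct.comm k A K).injective
  haveI : IsReduced ((A ⊗[k] K) ⊗[A] C) := isReduced_of_etale (A ⊗[k] K) _
  let e1 : K ⊗[k] C ≃ₐ[k] C ⊗[k] K := Algebra.TensorProduct.comm k K C
  let e2 : C ⊗[A] (A ⊗[k] K) ≃ₐ[A] C ⊗[k] K := Algebra.TensorProduct.cancelBaseChange k A A C K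
  let e3 : C ⊗[A] (A ⊗[k] K) ≃ₐ[A] (A ⊗[k] K) ⊗[A] C := Algebra.TensorProduct.comm A C _
  let f : K ⊗[k] C →+* (A ⊗[k] K) ⊗[A] C :=
    (e3.toRingEquiv.toRingHom.comp e2.symm.toRingEquiv.toRingHom).comp e1.toRingEquiv.toRingHom
  have hf : Function.Injective f :=
    (e3.injective.comp e2.symm.injective).comp e1.injective
  exact isReduced_of_injective f hf

/-- localizations preserve reducedness after base field extension -/
theorem isReduced_tensor_of_isLocalization (C G : Type u) [CommRing C] [CommRing G] [Algebra k C]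
    [Algebra k G] [Algebra C G] [IsScalarTower k C G] (M : Submonoid C) [IsLocalization M G]
    (h : IsReduced (K ⊗[k] C)) : IsReduced (K ⊗[k] G) := by
  letI : Algebra (K ⊗[k] C) (K ⊗[k] G) :=
    (Algebra.TensorProduct.map (AlgHom.id K K) (IsScalarTower.toAlgHom k C G)).toRingHom.toAlgebra
  haveI : IsScalarTower K (K ⊗[k] C) (K ⊗[k] G) := .of_algebraMap_eq (fun x => by
    simp [RingHom.algebraMap_toAlgebra])
  haveI : IsLocalization (M.map (Algebra.TensorProduct.includeRight (R := k) (A := K)))
      (K ⊗[k] G) := by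
    refine IsLocalization.tensorProduct_tensorProduct_right k K M G ?_
    ext x
    simp [RingHom.algebraMap_toAlgebra]
  exact isReduced_localizationPreserves
    (M.map (Algebra.TensorProduct.includeRight (R := k) (A := K))) (K ⊗[k] G) h

/-- reducedness after base field extension passes to a ring exhausted by injective images -/
theorem isReduced_tensor_of_cover (A R : Type u) [CommRing A] [CommRing R] [Algebra k A]
    [Algebra k R] [Algebra A R] [IsScalarTower k A R] {ι : Type u} (G : ι → Type u)
    [∀ i, CommRing (G i)] [∀ i, Algebra k (G i)] [∀ i, Algebra A (G i)]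
    [∀ i, IsScalarTower k A (G i)] (σ : ∀ i, G i →ₐ[A] R) (hinj : ∀ i, Function.Injective (σ i))
    (hcov : ∀ s : Finset R, ∃ i, (s : Set R) ⊆ Set.range (σ i))
    (h : ∀ i, IsReduced (K ⊗[k] G i)) : IsReduced (K ⊗[k] R) := by
  classical
  refine ⟨fun x hx => ?_⟩
  obtain ⟨S, rfl⟩ := TensorProduct.exists_finset x
  obtain ⟨i, hi⟩ := hcov (S.image Prod.snd)
  have hpre : ∀ r ∈ S.image Prod.snd, ∃ g : G i, σ i g = r := fun r hr => hi hr
  let pre : R → G i := fun r => if hr : r ∈ S.image Prod.snd then (hpre r hr).choose else 0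
  have hpre' : ∀ r ∈ S.image Prod.snd, σ i (pre r) = r := by
    intro r hr
    simp only [pre, dif_pos hr]
    exact (hpre r hr).choose_spec
  let τ : G i →ₐ[k] R := (σ i).restrictScalars k
  let F : K ⊗[k] G i →ₐ[K] K ⊗[k] R := Algebra.TensorProduct.map (AlgHom.id K K) τ
  have hF : Function.Injective F := by
    have : Function.Injective (LinearMap.lTensor K τ.toLinearMap) :=
      Module.Flat.lTensor_preserves_injective_linearMap _ (hinj i)
    intro a b hab
    apply this
    exact hab
  let y : K ⊗[k] G i := ∑ j ∈ S, j.1 ⊗ₜ[k] pre j.2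
  have hy : F y = ∑ j ∈ S, j.1 ⊗ₜ[k] j.2 := by
    simp only [y, map_sum]
    refine Finset.sum_congr rfl fun j hj => ?_
    simp only [F, Algebra.TensorProduct.map_tmul, AlgHom.coe_id, id_eq]
    congr 1
    exact hpre' j.2 (Finset.mem_image_of_mem _ hj)
  rw [← hy] at hx ⊢
  obtain ⟨n, hn⟩ := hx
  have hy0 : IsNilpotent y := ⟨n, hF (by rw [map_pow, hn, map_zero])⟩
  rw [(h i).eq_zero y hy0, map_zero]

end A

end Groth.Agent.Lib.Helper12.StrictGeomRed
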