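import Mathlib
import Groth.Agent.Lib.Helper12.StrictGeomRedA

/-!
# Geometric reducedness of a local algebra over a field and of its strict henselization, II
-/

set_option autoImplicit false
universe u
open TensorProduct

namespace Groth.Agent.Lib.Helper12.StrictGeomRed

open Groth.Agent.Lib.Helper12 PtNbhd

/-- **S10498** -/
theorem main (k : Type u) [Field k]
    (A : Type u) [CommRing A] [IsLocalRing A] [Algebra k A]
    (R : Type u) [CommRing R] [IsLocalRing R] [Algebra A R] [IsLocalHom (algebraMap A R)]
    [Hensel.IsStrictHenselization A R] [Algebra k R] [IsScalarTower k A R] :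
    (∀ (K : Type u) [Field K] [Algebra k K], IsReduced (K ⊗[k] A)) ↔
      ∀ (K : Type u) [Field K] [Algebra k K], IsReduced (K ⊗[k] R) := by
  obtain ⟨ε⟩ := StrictHenselization.nonempty_algEquiv (A := A) R
  have hofinj : ∀ i : PtNbhd.Nbhd A (SepCl A), Function.Injective (Lim.of A (SepCl A) i) := by
    intro i
    letI := StrictHenselization.algebraOver i
    haveI := StrictHenselization.faithfullyFlat_over i
    exact FaithfulSMul.algebraMap_injective i.G (StrictHenselization A)
  constructor
  · intro h K _ _
    refine isReduced_tensor_of_cover k K A R (fun i : PtNbhd.Nbhd A (SepCl A) => i.G)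
      (fun i => (ε.symm : StrictHenselization A →ₐ[A] R).comp (Lim.ofₐ A (SepCl A) i))
      (fun i => ?_) (fun s => ?_) (fun i => ?_)
    · exact ε.symm.injective.comp (hofinj i)
    · classical
      obtain ⟨i, hi⟩ := CatLim.directLimit_cover (fun i : PtNbhd.Nbhd A (SepCl A) => i.G)
        (fun i j h => PtNbhd.Nbhd.transR i j h) (s.image ε)
      refine ⟨i, fun r hr => ?_⟩
      obtain ⟨g, hg⟩ := hi (Finset.mem_coe.mpr (Finset.mem_image_of_mem ε hr))
      refine ⟨g, ?_⟩
      show ε.symm (Lim.of A (SepCl A) i g) = r
      rw [AlgEquiv.symm_apply_eq]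
      exact hg
    · have h1 : IsReduced (K ⊗[k] i.Ring) := isReduced_tensor_of_etale k K A i.Ring (h K)
      exact isReduced_tensor_of_isLocalization k K i.Ring i.G (RingHom.ker i.π).primeCompl h1
  · intro h K _ _
    have hinj : Function.Injective (algebraMap A R) := by
      haveI : Module.FaithfullyFlat A R :=
        Module.FaithfullyFlat.of_linearEquiv _ _ ε.toLinearEquiv
      exact FaithfulSMul.algebraMap_injective A R
    let τ : A →ₐ[k] R := IsScalarTower.toAlgHom k A R
    let F : K ⊗[k] A →ₐ[K] K ⊗[k] R := Algebra.TensorProduct.map (AlgHom.id K K) τ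
    have hF : Function.Injective F := by
      have : Function.Injective (LinearMap.lTensor K τ.toLinearMap) :=
        Module.Flat.lTensor_preserves_injective_linearMap _ hinj
      intro a b hab
      apply this
      exact hab
    haveI := h K
    exact isReduced_of_injective F.toRingHom hF

end Groth.Agent.Lib.Helper12.StrictGeomRed
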