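import Groth.Agent.Lib.Helper12.StrictHenselizationIso
import Groth.Agent.Lib.Helper12.PtDim

set_option autoImplicit false
universe u

/-!
# The strict henselization of `A` is also the strict henselization of each of its neighbourhoods
-/

namespace Groth.Agent.Lib.Helper12

open IsLocalRing PtNbhd

variable {A : Type u} [CommRing A] [IsLocalRing A]

namespace StrictHenselization

/-- The algebra structure of the strict henselization over the local ring of a neighbourhood.
(Not an instance.) -/
noncomputable abbrev algebraOver (i : PtNbhd.Nbhd A (SepCl A)) : Algebra i.G (StrictHenselization A) :=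
  (Lim.of A (SepCl A) i).toAlgebra

theorem isSepClosure_over (i : PtNbhd.Nbhd A (SepCl A)) :
    letI := algebraOver i
    haveI : IsLocalHom (algebraMap i.G (StrictHenselization A)) := Lim.isLocalHom_of A (SepCl A) i
    IsSepClosure (ResidueField i.G) (ResidueField (StrictHenselization A)) := by
  letI := algebraOver i
  haveI : IsLocalHom (algebraMap i.G (StrictHenselization A)) := Lim.isLocalHom_of A (SepCl A) i
  haveI : IsScalarTower (ResidueField A) (ResidueField i.G)
      (ResidueField (StrictHenselization A)) := by
    apply IsScalarTower.of_algebraMap_eq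
    intro r
    obtain ⟨a, rfl⟩ := residue_surjective r
    show ResidueField.map (algebraMap A (StrictHenselization A)) (residue A a) =
      ResidueField.map (algebraMap i.G (StrictHenselization A))
        (ResidueField.map (algebraMap A i.G) (residue A a))
    rw [ResidueField.map_residue, ResidueField.map_residue, ResidueField.map_residue,
      Lim.algebraMap_eq i a]
    rfl
  refine ⟨(isSepClosure A).sep_closed, ?_⟩
  exact Algebra.isSeparable_tower_top_of_isSeparable (ResidueField A) (L := ResidueField i.G)
    (ResidueField (StrictHenselization A))

theorem isStrictHenselization_over (i : PtNbhd.Nbhd A (SepCl A)) :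
    letI := algebraOver i
    haveI : IsLocalHom (algebraMap i.G (StrictHenselization A)) := Lim.isLocalHom_of A (SepCl A) i
    Hensel.IsStrictHenselization i.G (StrictHenselization A) := by
  letI := algebraOver i
  haveI : IsLocalHom (algebraMap i.G (StrictHenselization A)) := Lim.isLocalHom_of A (SepCl A) i
  refine ⟨inferInstance, isSepClosure_over i, ?_⟩
  intro T _ _ f _ τ hτ
  letI : Algebra A T := (f.comp (algebraMap A i.G)).toAlgebra
  haveI : IsLocalHom (algebraMap A T) := by
    show IsLocalHom (f.comp (algebraMap A i.G))
    exact RingHom.isLocalHom_comp _ _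
  have hres : ∀ x : i.G, τ (residue _ (Lim.of A (SepCl A) i x)) = residue T (f x) := by
    intro x
    have := congrArg (fun h : ResidueField i.G →+* ResidueField T => h (residue _ x)) hτ
    simp only [RingHom.comp_apply, ResidueField.map_residue] at this
    exact this
  have hτ' : ∀ a : A, τ (residue _ (algebraMap A (StrictHenselization A) a)) =
      residue T (algebraMap A T a) := by
    intro a
    rw [Lim.algebraMap_eq i a]
    exact hres _
  let f' : i.G →ₐ[A] T := { f with commutes' := fun _ => rfl }
  have hf' : f' = Lim.toT T τ hτ' i := by
    apply Lim.toT_unique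
    intro x
    rw [Lim.resMap, RingHom.comp_apply, ResidueField.map_residue]
    exact (hres x).symm
  refine ⟨(Lim.liftRes T τ hτ').toRingHom, ⟨?_, Lim.residue_liftRes T τ hτ'⟩, ?_⟩
  · ext x
    show Lim.liftRes T τ hτ' (Lim.of A _ i x) = f x
    rw [Lim.liftRes_of, ← hf']
    rfl
  · rintro g ⟨hg1, hg2⟩
    have hc : ∀ a : A, g (algebraMap A (StrictHenselization A) a) = algebraMap A T a := by
      intro a
      rw [Lim.algebraMap_eq i a]
      exact congrArg (fun h : i.G →+* T => h (algebraMap A i.G a)) hg1
    let g' : StrictHenselization A →ₐ[A] T := { g with commutes' := hc }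
    have : g' = Lim.liftRes T τ hτ' := Lim.liftRes_unique T τ hτ' g' hg2
    have h2 : g'.toRingHom = (Lim.liftRes T τ hτ').toRingHom := by rw [this]
    exact h2

theorem faithfullyFlat_over (i : PtNbhd.Nbhd A (SepCl A)) :
    letI := algebraOver i
    Module.FaithfullyFlat i.G (StrictHenselization A) := by
  letI := algebraOver i
  haveI : IsLocalHom (algebraMap i.G (StrictHenselization A)) := Lim.isLocalHom_of A (SepCl A) i
  haveI := isStrictHenselization_over i
  obtain ⟨e⟩ := nonempty_algEquiv (A := i.G) (StrictHenselization A)
  exact Module.FaithfullyFlat.of_linearEquiv _ _ e.toLinearEquiv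

end StrictHenselization

end Groth.Agent.Lib.Helper12
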