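import Groth.Agent.Lib.Helper12.StrictStruct

set_option autoImplicit false
universe u

/-!
# Essentially étale local subalgebras of a strict henselization
-/

namespace Groth.Agent.Lib.Helper12.StrictStruct

open IsLocalRing PtNbhd

variable (A : Type u) [CommRing A] [IsLocalRing A]
variable (S : Type u) [CommRing S] [IsLocalRing S] [Algebra A S]
  [IsLocalHom (algebraMap A S)] [Hensel.IsStrictHenselization A S]

theorem isEssentiallyEtale_of_algEquiv {B B' : Type u} [CommRing B] [Algebra A B] [CommRing B']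
    [Algebra A B'] (e : B ≃ₐ[A] B') (h : EGA4loc.IsEssentiallyEtale A B) :
    EGA4loc.IsEssentiallyEtale A B' := by
  obtain ⟨C, _, _, q, _, h1, h2, ⟨e'⟩⟩ := h
  exact ⟨C, _, _, q, _, h1, h2, ⟨e.symm.trans e'⟩⟩

/-- Every finite subset of a strict henselization lies in an essentially étale local subalgebra
dominated by `S`. -/
theorem exists_essEtale_subalgebra (s : Finset S) :
    ∃ E : Subalgebra A S, (∀ x ∈ s, x ∈ E) ∧ IsLocalRing E ∧ EGA4loc.IsEssentiallyEtale A E ∧
      (∀ x : E, IsUnit (x : S) → IsUnit x) := by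
  obtain ⟨i, ψ, hinj, hloc, hrange⟩ := exists_nbhd_range A S s
  let eq : i.G ≃ₐ[A] ψ.range := AlgEquiv.ofInjective ψ hinj
  refine ⟨ψ.range, hrange, ?_, ?_, ?_⟩
  · exact eq.toRingEquiv.isLocalRing
  · exact isEssentiallyEtale_of_algEquiv A eq i.isEssentiallyEtale
  · rintro ⟨x, hxr⟩ hx
    obtain ⟨y, hyx⟩ := (AlgHom.mem_range ψ).mp hxr
    have hy : IsUnit y := hloc y (by rw [hyx]; exact hx)
    have : (⟨x, hxr⟩ : ψ.range) = eq y := Subtype.ext hyx.symm
    rw [this]
    exact hy.map eq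

/-- An essentially of finite type local subalgebra dominated by `S` lies in an essentially étale
local subalgebra. -/
theorem exists_essEtale_ge (D : Subalgebra A S) [IsLocalRing D]
    [IsLocalHom (algebraMap D S)] [Algebra.EssFiniteType A D] :
    ∃ E : Subalgebra A S, D ≤ E ∧ ∃ _ : IsLocalRing E, EGA4loc.IsEssentiallyEtale A E ∧
      (∀ x : E, IsUnit (x : S) → IsUnit x) := by
  classical
  obtain ⟨σ, hσ⟩ := (Algebra.essFiniteType_iff A D).mp inferInstance
  obtain ⟨E, hsE, hEloc, hEet, hEu⟩ :=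
    exists_essEtale_subalgebra A S (σ.image (fun d : D => (d : S)))
  refine ⟨E, ?_, hEloc, hEet, hEu⟩
  have hadj : ∀ t ∈ Algebra.adjoin A (σ : Set D), (t : S) ∈ E := by
    intro t ht
    have h1 : D.val t ∈ (Algebra.adjoin A (σ : Set D)).map D.val := ⟨t, ht, rfl⟩
    rw [AlgHom.map_adjoin] at h1
    refine Algebra.adjoin_le ?_ h1
    rintro _ ⟨d, hd, rfl⟩
    exact hsE _ (Finset.mem_image_of_mem _ hd)
  intro x hx
  obtain ⟨t, ht, htu, hxt⟩ := hσ ⟨x, hx⟩
  have htE : (t : S) ∈ E := hadj t ht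
  have hxtE : x * (t : S) ∈ E := hadj _ hxt
  have htS : IsUnit (t : S) := htu.map D.val
  have htEu : IsUnit (⟨(t : S), htE⟩ : E) := hEu ⟨_, htE⟩ htS
  obtain ⟨y, hy⟩ := htEu.exists_right_inv
  have hy' : (t : S) * (y : S) = 1 := congrArg (fun z : E => (z : S)) hy
  have : x = (x * (t : S)) * (y : S) := by
    rw [mul_assoc, hy', mul_one]
  rw [this]
  exact E.mul_mem hxtE y.2

end Groth.Agent.Lib.Helper12.StrictStruct
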