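import Groth.Agent.Lib.Helper12.StrictStruct2
import Mathlib.RingTheory.Unramified.LocalStructure
import Mathlib.RingTheory.Unramified.LocalRing

set_option autoImplicit false
universe u

/-!
# Unramified local subalgebras of a strict henselization are essentially étale
-/

namespace Groth.Agent.Lib.Helper12.StrictStruct

open IsLocalRing PtNbhd

variable (A : Type u) [CommRing A] [IsLocalRing A]
variable (S : Type u) [CommRing S] [IsLocalRing S] [Algebra A S]
  [IsLocalHom (algebraMap A S)] [Hensel.IsStrictHenselization A S]

/-- Key step: if a local `A`-algebra `D` with an injective local map to `S` receives a map `g` from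
an étale `A`-algebra `C` such that every element of `D` is a fraction `g c / g c'`, then `D` is
essentially étale. -/
theorem isEssentiallyEtale_of_fraction_surjective (D : Type u) [CommRing D] [IsLocalRing D]
    [Algebra A D] (ι : D →ₐ[A] S) (hι : Function.Injective ι) (hιu : ∀ d, IsUnit (ι d) → IsUnit d)
    (C : Type u) [CommRing C] [Algebra A C] [Algebra.Etale A C] (g : C →ₐ[A] D)
    (hg : ∀ d : D, ∃ c c' : C, IsUnit (g c') ∧ d * g c' = g c) :
    EGA4loc.IsEssentiallyEtale A D := by
  let q : Ideal C := (maximalIdeal D).comap g.toRingHom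
  haveI : q.IsPrime := Ideal.comap_isPrime _ _
  have hunits : ∀ y : q.primeCompl, IsUnit (g y) := by
    rintro ⟨y, hy⟩
    by_contra h
    exact hy h
  let g' : Localization.AtPrime q →ₐ[A] D :=
    IsLocalization.liftAlgHom (M := q.primeCompl) (f := g) hunits
  have hg' : ∀ c, g' (algebraMap C (Localization.AtPrime q) c) = g c := fun c =>
    IsLocalization.lift_eq _ c
  have hsurj : Function.Surjective g' := by
    intro d
    obtain ⟨c, c', hu, hd⟩ := hg d
    have hc' : c' ∈ q.primeCompl := fun h => h hu
    refine ⟨IsLocalization.mk' _ c ⟨c', hc'⟩, ?_⟩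
    have h1 : g' (IsLocalization.mk' (Localization.AtPrime q) c ⟨c', hc'⟩) * g c' = g c := by
      rw [← hg' c', ← map_mul, IsLocalization.mk'_spec, hg']
    exact hu.mul_left_injective (h1.trans hd.symm)
  have hloc : ∀ x, IsUnit (g' x) → IsUnit x := by
    intro x hx
    obtain ⟨c, s, rfl⟩ := IsLocalization.exists_mk'_eq q.primeCompl x
    have h1 : g' (IsLocalization.mk' (Localization.AtPrime q) c s) * g s = g c := by
      rw [← hg' s, ← map_mul, IsLocalization.mk'_spec, hg']
    have h2 : IsUnit (g c) := by
      rw [← h1]; exact hx.mul (hunits s)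
    have h3 : c ∈ q.primeCompl := fun h => h h2
    exact (IsLocalization.AtPrime.isUnit_mk'_iff (Localization.AtPrime q) q c s).mpr h3
  have hinj : Function.Injective g' := by
    have := injective_of_local A S C q (ι.comp g') (fun x hx => hloc x (hιu _ hx))
    intro x y hxy
    apply this
    show ι (g' x) = ι (g' y)
    rw [hxy]
  have hq : q.comap (algebraMap A C) = maximalIdeal A := by
    have hAD : IsLocalHom (algebraMap A D) := by
      haveI : IsLocalHom ((ι.toRingHom).comp (algebraMap A D)) := by
        have : (ι.toRingHom).comp (algebraMap A D) = algebraMap A S := by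
          ext a; exact ι.commutes a
        rw [this]; infer_instance
      exact isLocalHom_of_comp (algebraMap A D) ι.toRingHom
    ext a
    rw [Ideal.mem_comap]
    show g (algebraMap A C a) ∈ maximalIdeal D ↔ _
    rw [g.commutes, mem_maximalIdeal, mem_nonunits_iff, mem_maximalIdeal, mem_nonunits_iff,
      not_iff_not]
    exact ⟨fun h => hAD.map_nonunit a h, fun h => h.map _⟩
  exact ⟨C, inferInstance, inferInstance, q, inferInstance, inferInstance, hq,
    ⟨(AlgEquiv.ofBijective g' ⟨hinj, hsurj⟩).symm⟩⟩

end Groth.Agent.Lib.Helper12.StrictStruct
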