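import Mathlib
import Groth.Prelude.Def_Hensel
import Groth.Agent.Lib.Helper12.HenselIntegralDomain

/-!
# Sections out of a strict henselization, and integrality over a strictly henselian ring
-/

set_option autoImplicit false
universe u

namespace Groth.Agent.Lib.Helper12.StrictTensor

open IsLocalRing

/-- If the structure map of a strict henselization `Sh` of `S₀` factors through a henselian local
ring `C` with separably closed residue field via local maps `θ₀ : S₀ → C`, `Ψ : C → Sh`, then
`Ψ` has a section `θ` extending `θ₀`, compatible with residue fields. -/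
theorem exists_section (S₀ Sh : Type u) [CommRing S₀] [IsLocalRing S₀] [CommRing Sh]
    [IsLocalRing Sh] [Algebra S₀ Sh] [IsLocalHom (algebraMap S₀ Sh)]
    [Hensel.IsStrictHenselization S₀ Sh]
    (C : Type u) [CommRing C] [HenselianLocalRing C] [IsSepClosed (ResidueField C)]
    (θ₀ : S₀ →+* C) [IsLocalHom θ₀] (Ψ : C →+* Sh) [IsLocalHom Ψ]
    (hcomp : Ψ.comp θ₀ = algebraMap S₀ Sh) :
    ∃ θ : Sh →+* C, θ.comp (algebraMap S₀ Sh) = θ₀ ∧ Ψ.comp θ = RingHom.id Sh ∧
      ∀ x, ResidueField.map Ψ (residue C (θ x)) = residue Sh x := by
  classical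
  haveI hShens : HenselianLocalRing Sh :=
    Hensel.IsStrictHenselization.henselian (R := S₀)
  let mΨ : ResidueField C →+* ResidueField Sh := ResidueField.map Ψ
  let mθ : ResidueField S₀ →+* ResidueField C := ResidueField.map θ₀
  have hmcomp : mΨ.comp mθ = ResidueField.map (algebraMap S₀ Sh) := by
    rw [← ResidueField.map_comp]
    congr 1
  haveI : Algebra.IsSeparable (ResidueField S₀) (ResidueField Sh) :=
    (Hensel.IsStrictHenselization.isSepClosure (R := S₀) (S := Sh)).separable
  letI : Algebra (ResidueField S₀) (ResidueField C) := mθ.toAlgebra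
  letI : Algebra (ResidueField C) (ResidueField Sh) := mΨ.toAlgebra
  haveI : IsScalarTower (ResidueField S₀) (ResidueField C) (ResidueField Sh) :=
    IsScalarTower.of_algebraMap_eq fun x => (RingHom.congr_fun hmcomp x).symm
  haveI : Algebra.IsSeparable (ResidueField C) (ResidueField Sh) :=
    Algebra.isSeparable_tower_top_of_isSeparable (ResidueField S₀)
      (ResidueField C) (ResidueField Sh)
  have hsurj : Function.Surjective mΨ :=
    IsSepClosed.algebraMap_surjective (ResidueField C) (ResidueField Sh)
  have hbij : Function.Bijective mΨ := ⟨mΨ.injective, hsurj⟩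
  let ε := RingEquiv.ofBijective mΨ hbij
  let τ : ResidueField Sh →+* ResidueField C := (ε.symm : ResidueField Sh →+* ResidueField C)
  have hτΨ : ∀ z, mΨ (τ z) = z := fun z => ε.apply_symm_apply z
  have hτ : τ.comp (ResidueField.map (algebraMap S₀ Sh)) = ResidueField.map θ₀ := by
    rw [← hmcomp]
    refine RingHom.ext fun x => ?_
    show ε.symm (ε (mθ x)) = mθ x
    exact ε.symm_apply_apply _
  obtain ⟨θ, ⟨hθ1, hθ2⟩, -⟩ := Hensel.IsStrictHenselization.universal
    (R := S₀) (S := Sh) C θ₀ τ hτ
  obtain ⟨k, -, hkuniq⟩ := Hensel.IsStrictHenselization.universal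
    (R := S₀) (S := Sh) Sh (algebraMap S₀ Sh)
    (RingHom.id _) (by rw [RingHom.id_comp])
  have h1 : (Ψ.comp θ) = k := by
    apply hkuniq
    refine ⟨by rw [RingHom.comp_assoc, hθ1, hcomp], fun x => ?_⟩
    show residue Sh (Ψ (θ x)) = residue Sh x
    have e1 : residue Sh (Ψ (θ x)) = mΨ (residue C (θ x)) := rfl
    rw [e1, hθ2, hτΨ]
  have h2 : RingHom.id Sh = k := hkuniq _ ⟨RingHom.id_comp _, fun x => rfl⟩
  refine ⟨θ, hθ1, h1.trans h2.symm, fun x => ?_⟩
  show mΨ (residue C (θ x)) = residue Sh x
  rw [hθ2, hτΨ]

/-- The residue field extension of an integral local extension is algebraic. -/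
theorem isAlgebraic_residueField (R S : Type u) [CommRing R] [IsLocalRing R] [CommRing S]
    [IsLocalRing S] [Algebra R S] [IsLocalHom (algebraMap R S)] [Algebra.IsIntegral R S] :
    Algebra.IsAlgebraic (ResidueField R) (ResidueField S) := by
  constructor
  intro x
  obtain ⟨y, rfl⟩ := residue_surjective x
  have hy : IsIntegral R y := Algebra.IsIntegral.isIntegral y
  have h1 : IsIntegral R (residue S y) := hy.map (IsScalarTower.toAlgHom R S (ResidueField S))
  have h2 : IsIntegral (ResidueField R) (residue S y) := h1.tower_top
  exact h2.isAlgebraic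

/-- A nontrivial ring with only trivial idempotents, finite over a henselian local ring, is
local. -/
theorem isLocalRing_of_finite_of_idempotents (A : Type u) [CommRing A] [HenselianLocalRing A]
    (S : Type u) [CommRing S] [Nontrivial S] [Algebra A S] [Module.Finite A S]
    (hid : ∀ e : S, IsIdempotentElem e → e = 0 ∨ e = 1) : IsLocalRing S := by
  classical
  obtain ⟨ι, _, e, he, hloc⟩ := exists_completeOrthogonalIdempotents_isLocalRing A S
  have hne : ∃ i, e i ≠ 0 := by
    by_contra h
    push_neg at h
    have := he.complete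
    simp only [h, Finset.sum_const_zero] at this
    exact zero_ne_one this
  obtain ⟨i, hi⟩ := hne
  have h1 : e i = 1 := by
    rcases hid (e i) (he.idem i) with h | h
    · exact absurd h hi
    · exact h
  have hl := hloc i
  rw [h1, sub_self] at hl
  have hbot : Ideal.span ({0} : Set S) = ⊥ := by
    rw [Ideal.span_singleton_eq_bot]
  rw [hbot] at hl
  haveI := hl
  exact (RingEquiv.quotientBot S).isLocalRing

/-- A nontrivial ring with only trivial idempotents, integral over a henselian local ring, is
local. -/
theorem isLocalRing_of_isIntegral_of_idempotents (A : Type u) [CommRing A] [HenselianLocalRing A]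
    (B : Type u) [CommRing B] [Nontrivial B] [Algebra A B] [Algebra.IsIntegral A B]
    (hid : ∀ e : B, IsIdempotentElem e → e = 0 ∨ e = 1) : IsLocalRing B := by
  refine IsLocalRing.of_isUnit_or_isUnit_one_sub_self fun b => ?_
  let S : Subalgebra A B := Algebra.adjoin A {b}
  haveI : Module.Finite A S := by
    have : S.toSubmodule.FG := (Algebra.IsIntegral.isIntegral b).fg_adjoin_singleton
    exact Module.Finite.iff_fg.mpr this
  haveI : IsLocalRing S := by
    apply isLocalRing_of_finite_of_idempotents A S
    intro e he
    have he' : IsIdempotentElem (e : B) := by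
      have := congrArg (Subtype.val) he.eq
      exact this
    rcases hid _ he' with h | h
    · left
      exact Subtype.ext h
    · right
      exact Subtype.ext h
  let b' : S := ⟨b, Algebra.self_mem_adjoin_singleton A b⟩
  rcases IsLocalRing.isUnit_or_isUnit_one_sub_self b' with h | h
  · exact Or.inl (h.map S.val)
  · exact Or.inr (by simpa using h.map S.val)

end Groth.Agent.Lib.Helper12.StrictTensor
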