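import Groth.Agent.Lib.Helper12.StrictTensorA

/-!
# Integrality of a strict henselization over a strictly henselian local ring
-/

set_option autoImplicit false
universe u

namespace Groth.Agent.Lib.Helper12.StrictTensor

open IsLocalRing

section closure

variable (Ash : Type u) [CommRing Ash] [HenselianLocalRing Ash]
  (Bsh : Type u) [CommRing Bsh] [IsLocalRing Bsh] [Algebra Ash Bsh]
  [IsLocalHom (algebraMap Ash Bsh)]

theorem idempotent_trivial_of_isLocalRing {T : Type*} [CommRing T] [IsLocalRing T] (e : T)
    (he : IsIdempotentElem e) : e = 0 ∨ e = 1 := by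
  rcases IsLocalRing.isUnit_or_isUnit_one_sub_self e with h | h
  · right
    exact (IsIdempotentElem.iff_eq_one_of_isUnit h).mp he
  · left
    have := (IsIdempotentElem.iff_eq_one_of_isUnit h).mp he.one_sub
    have h2 : e = 1 - (1 - e) := by ring
    rw [h2, this, sub_self]

/-- The integral closure of a henselian local ring in a local ring is local. -/
theorem isLocalRing_integralClosure : IsLocalRing (integralClosure Ash Bsh) := by
  apply isLocalRing_of_isIntegral_of_idempotents Ash (integralClosure Ash Bsh)
  intro e he
  have he' : IsIdempotentElem (e : Bsh) := congrArg Subtype.val he.eq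
  rcases idempotent_trivial_of_isLocalRing _ he' with h | h
  · left
    exact Subtype.ext h
  · right
    exact Subtype.ext h

/-- The inclusion of the integral closure is a local homomorphism. -/
theorem isLocalHom_integralClosure_val :
    haveI := isLocalRing_integralClosure Ash Bsh
    IsLocalHom ((integralClosure Ash Bsh).val : integralClosure Ash Bsh →+* Bsh) := by
  haveI := isLocalRing_integralClosure Ash Bsh
  set ι : integralClosure Ash Bsh →+* Bsh :=
    ((integralClosure Ash Bsh).val : integralClosure Ash Bsh →+* Bsh) with hι
  haveI : ((maximalIdeal Bsh).comap ι).IsPrime := Ideal.comap_isPrime _ _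
  have hmax : ((maximalIdeal Bsh).comap ι).IsMaximal := by
    apply Ideal.isMaximal_of_isIntegral_of_isMaximal_comap (R := Ash)
    have h1 : ((maximalIdeal Bsh).comap ι).comap (algebraMap Ash (integralClosure Ash Bsh)) =
        maximalIdeal Ash := by
      rw [Ideal.comap_comap]
      have : ι.comp (algebraMap Ash (integralClosure Ash Bsh)) = algebraMap Ash Bsh := by
        ext a
        rfl
      rw [this, IsLocalRing.maximalIdeal_comap]
    rw [h1]
    exact maximalIdeal.isMaximal Ash
  exact ((IsLocalRing.local_hom_TFAE ι).out 0 4).mpr (IsLocalRing.eq_maximalIdeal hmax)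

/-- The inverse of a unit which is integral over a henselian local ring is integral. -/
theorem isIntegral_inv_of_isUnit (u v : Bsh) (huv : u * v = 1) (hu : IsIntegral Ash u) :
    IsIntegral Ash v := by
  haveI := isLocalRing_integralClosure Ash Bsh
  haveI := isLocalHom_integralClosure_val Ash Bsh
  let u' : integralClosure Ash Bsh := ⟨u, hu⟩
  have hunit : IsUnit ((integralClosure Ash Bsh).val u') := by
    show IsUnit u
    exact IsUnit.of_mul_eq_one v huv
  have hu' : IsUnit u' :=
    isUnit_of_map_unit ((integralClosure Ash Bsh).val : integralClosure Ash Bsh →+* Bsh) u' hunit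
  obtain ⟨w, hw⟩ := hu'.exists_right_inv
  have hwv : (w : Bsh) = v := by
    have h1 : u * (w : Bsh) = 1 := by
      have := congrArg Subtype.val hw
      exact this
    calc (w : Bsh) = (v * u) * w := by rw [mul_comm v u, huv, one_mul]
      _ = v * (u * w) := by ring
      _ = v := by rw [h1, mul_one]
  rw [← hwv]
  exact w.2

end closure

/-- If the image of `RB` in its strict henselization `Bsh` is integral over the strictly henselian
local ring `Ash`, then `Bsh` is integral over `Ash`. -/
theorem isIntegral_of_forall (Ash : Type u) [CommRing Ash] [HenselianLocalRing Ash]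
    [IsSepClosed (ResidueField Ash)]
    (RB Bsh : Type u) [CommRing RB] [IsLocalRing RB] [CommRing Bsh] [IsLocalRing Bsh]
    [Algebra RB Bsh] [IsLocalHom (algebraMap RB Bsh)] [Hensel.IsStrictHenselization RB Bsh]
    [Algebra Ash Bsh] [IsLocalHom (algebraMap Ash Bsh)]
    (h : ∀ x : RB, IsIntegral Ash (algebraMap RB Bsh x)) : Algebra.IsIntegral Ash Bsh := by
  haveI := isLocalRing_integralClosure Ash Bsh
  haveI hιloc := isLocalHom_integralClosure_val Ash Bsh
  haveI : HenselianLocalRing (integralClosure Ash Bsh) :=
    henselianLocalRing_of_isIntegral Ash (integralClosure Ash Bsh)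
  haveI : IsLocalHom (algebraMap Ash (integralClosure Ash Bsh)) := by
    constructor
    intro a ha
    have h1 : IsUnit ((integralClosure Ash Bsh).val (algebraMap Ash _ a)) := ha.map _
    exact isUnit_of_map_unit (algebraMap Ash Bsh) a h1
  haveI : Algebra.IsAlgebraic (ResidueField Ash) (ResidueField (integralClosure Ash Bsh)) :=
    isAlgebraic_residueField Ash (integralClosure Ash Bsh)
  haveI : IsSepClosed (ResidueField (integralClosure Ash Bsh)) :=
    Algebra.IsAlgebraic.isSepClosed (F := ResidueField Ash)
      (E := ResidueField (integralClosure Ash Bsh))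
  let θ₀ : RB →+* integralClosure Ash Bsh :=
    (algebraMap RB Bsh).codRestrict (integralClosure Ash Bsh) h
  haveI : IsLocalHom θ₀ := by
    constructor
    intro x hx
    have h1 : IsUnit ((integralClosure Ash Bsh).val (θ₀ x)) := hx.map _
    exact isUnit_of_map_unit (algebraMap RB Bsh) x h1
  obtain ⟨θ, -, hθ, -⟩ := exists_section RB Bsh (integralClosure Ash Bsh) θ₀
    ((integralClosure Ash Bsh).val : integralClosure Ash Bsh →+* Bsh) (by ext x; rfl)
  constructor
  intro y
  have : y = (θ y : Bsh) := (RingHom.congr_fun hθ y).symm
  rw [this]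
  exact (θ y).2

/-- Version for localizations at primes: it suffices that the image of `B` is integral. -/
theorem isIntegral_of_forall_atPrime (Ash : Type u) [CommRing Ash] [HenselianLocalRing Ash]
    [IsSepClosed (ResidueField Ash)]
    (B : Type u) [CommRing B] (pB : Ideal B) [pB.IsPrime]
    (Bsh : Type u) [CommRing Bsh] [IsLocalRing Bsh]
    [Algebra (Localization.AtPrime pB) Bsh] [IsLocalHom (algebraMap (Localization.AtPrime pB) Bsh)]
    [Hensel.IsStrictHenselization (Localization.AtPrime pB) Bsh]
    [Algebra B Bsh] [IsScalarTower B (Localization.AtPrime pB) Bsh]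
    [Algebra Ash Bsh] [IsLocalHom (algebraMap Ash Bsh)]
    (h : ∀ b : B, IsIntegral Ash (algebraMap B Bsh b)) : Algebra.IsIntegral Ash Bsh := by
  apply isIntegral_of_forall Ash (Localization.AtPrime pB) Bsh
  intro x
  obtain ⟨b, t, rfl⟩ := IsLocalization.exists_mk'_eq pB.primeCompl x
  have h1 : algebraMap (Localization.AtPrime pB) Bsh (IsLocalization.mk' _ b t) *
      algebraMap B Bsh (t : B) = algebraMap B Bsh b := by
    rw [IsScalarTower.algebraMap_apply B (Localization.AtPrime pB) Bsh,
      IsScalarTower.algebraMap_apply B (Localization.AtPrime pB) Bsh, ← map_mul,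
      IsLocalization.mk'_spec]
  have hunit : IsUnit (algebraMap B Bsh (t : B)) := by
    rw [IsScalarTower.algebraMap_apply B (Localization.AtPrime pB) Bsh]
    exact (IsLocalization.map_units (Localization.AtPrime pB) t).map _
  obtain ⟨v, hv⟩ := hunit.exists_right_inv
  have hvint : IsIntegral Ash v := isIntegral_inv_of_isUnit Ash Bsh _ v hv (h t)
  have h2 : algebraMap (Localization.AtPrime pB) Bsh (IsLocalization.mk' _ b t) =
      algebraMap B Bsh b * v := by
    rw [← h1, mul_assoc, hv, mul_one]
  rw [h2]
  exact (h b).mul hvint

end Groth.Agent.Lib.Helper12.StrictTensor
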