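import Groth.Agent.Lib.Helper12.StrictTensorB
import Groth.Agent.Lib.helper19.TensorLocal2

/-!
# Tensor products of strict henselizations: the abstract bijectivity statement
-/

set_option autoImplicit false
set_option linter.style.haveILetI false
universe u

namespace Groth.Agent.Lib.Helper12.StrictTensor

open IsLocalRing TensorProduct

/-- Integrality of the right base change. -/
theorem isIntegral_rightAlgebra (R A B : Type u) [CommRing R] [CommRing A] [CommRing B]
    [Algebra R A] [Algebra R B] [Algebra.IsIntegral R A] :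
    letI : Algebra B (A ⊗[R] B) := Algebra.TensorProduct.rightAlgebra
    Algebra.IsIntegral B (A ⊗[R] B) := by
  letI : Algebra B (A ⊗[R] B) := Algebra.TensorProduct.rightAlgebra
  constructor
  intro x
  induction x using TensorProduct.induction_on with
  | zero => exact isIntegral_zero
  | add x y hx hy => exact hx.add hy
  | tmul a b =>
    have h1 : a ⊗ₜ[R] b = (a ⊗ₜ[R] (1 : B)) * ((1 : A) ⊗ₜ[R] b) := by
      rw [Algebra.TensorProduct.tmul_mul_tmul, mul_one, one_mul]
    rw [h1]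
    refine IsIntegral.mul ?_ ?_
    · have ha : IsIntegral R a := Algebra.IsIntegral.isIntegral a
      exact ha.map_of_comp_eq (algebraMap R B)
        (Algebra.TensorProduct.includeLeft (R := R) (S := R) (A := A) (B := B)).toRingHom
        (by
          ext r
          show (1 : A) ⊗ₜ[R] (algebraMap R B r) = (algebraMap R A r) ⊗ₜ[R] (1 : B)
          rw [Algebra.algebraMap_eq_smul_one, Algebra.algebraMap_eq_smul_one, smul_tmul])
    · exact isIntegral_algebraMap (R := B) (A := A ⊗[R] B) (x := b)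

section core

variable (Ash : Type u) [CommRing Ash] [HenselianLocalRing Ash] [IsSepClosed (ResidueField Ash)]
  (RB Bsh : Type u) [CommRing RB] [IsLocalRing RB] [CommRing Bsh] [IsLocalRing Bsh]
  [Algebra RB Bsh] [IsLocalHom (algebraMap RB Bsh)] [Hensel.IsStrictHenselization RB Bsh]
  [Algebra Ash Bsh] [IsLocalHom (algebraMap Ash Bsh)] [Algebra.IsIntegral Ash Bsh]
  (RC Csh : Type u) [CommRing RC] [IsLocalRing RC] [CommRing Csh] [IsLocalRing Csh]
  [Algebra RC Csh] [IsLocalHom (algebraMap RC Csh)] [Hensel.IsStrictHenselization RC Csh]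
  [Algebra Ash Csh] [IsLocalHom (algebraMap Ash Csh)]
  (RD Dsh : Type u) [CommRing RD] [IsLocalRing RD] [CommRing Dsh] [IsLocalRing Dsh]
  [Algebra RD Dsh] [IsLocalHom (algebraMap RD Dsh)] [Hensel.IsStrictHenselization RD Dsh]
  [Algebra Bsh Dsh] [IsLocalHom (algebraMap Bsh Dsh)]
  [Algebra Csh Dsh] [IsLocalHom (algebraMap Csh Dsh)]
  [Algebra Ash Dsh] [IsScalarTower Ash Bsh Dsh] [IsScalarTower Ash Csh Dsh]

theorem isLocalHom_lift :
    ∃ _ : IsLocalRing (Bsh ⊗[Ash] Csh),
      IsLocalHom ((Algebra.TensorProduct.lift (IsScalarTower.toAlgHom Ash Bsh Dsh)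
        (IsScalarTower.toAlgHom Ash Csh Dsh) (fun _ _ => Commute.all _ _) :
          Bsh ⊗[Ash] Csh →ₐ[Ash] Dsh) : Bsh ⊗[Ash] Csh →+* Dsh) := by
  classical
  set Φ : Bsh ⊗[Ash] Csh →ₐ[Ash] Dsh :=
    Algebra.TensorProduct.lift (IsScalarTower.toAlgHom Ash Bsh Dsh)
      (IsScalarTower.toAlgHom Ash Csh Dsh) (fun _ _ => Commute.all _ _) with hΦ
  have hΦtmul : ∀ (b : Bsh) (c : Csh), Φ (b ⊗ₜ[Ash] c) =
      algebraMap Bsh Dsh b * algebraMap Csh Dsh c := fun b c => by
    simp [Φ]
  haveI : Algebra.IsAlgebraic (ResidueField Ash) (ResidueField Bsh) :=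
    isAlgebraic_residueField Ash Bsh
  haveI : IsPurelyInseparable (ResidueField Ash) (ResidueField Bsh) := inferInstance
  obtain ⟨hEloc, hincl, -⟩ := Groth.Agent.Lib.Helper19.TensorLocal.main_tensor Ash Bsh Csh
  haveI := hEloc
  letI : Algebra Csh (Bsh ⊗[Ash] Csh) := Algebra.TensorProduct.rightAlgebra
  haveI : Algebra.IsIntegral Csh (Bsh ⊗[Ash] Csh) := isIntegral_rightAlgebra Ash Bsh Csh
  haveI : IsLocalHom (algebraMap Csh (Bsh ⊗[Ash] Csh)) := hincl
  refine ⟨hEloc, ?_⟩
  haveI : ((maximalIdeal Dsh).comap (Φ : Bsh ⊗[Ash] Csh →+* Dsh)).IsPrime :=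
    Ideal.comap_isPrime _ _
  have hmax : ((maximalIdeal Dsh).comap (Φ : Bsh ⊗[Ash] Csh →+* Dsh)).IsMaximal := by
    apply Ideal.isMaximal_of_isIntegral_of_isMaximal_comap (R := Csh)
    have h1 : ((maximalIdeal Dsh).comap (Φ : Bsh ⊗[Ash] Csh →+* Dsh)).comap
        (algebraMap Csh (Bsh ⊗[Ash] Csh)) = maximalIdeal Csh := by
      rw [Ideal.comap_comap]
      have : (Φ : Bsh ⊗[Ash] Csh →+* Dsh).comp (algebraMap Csh (Bsh ⊗[Ash] Csh)) =
          algebraMap Csh Dsh := by
        ext c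
        show Φ ((1 : Bsh) ⊗ₜ[Ash] c) = _
        rw [hΦtmul, map_one, one_mul]
      rw [this, IsLocalRing.maximalIdeal_comap]
    rw [h1]
    exact maximalIdeal.isMaximal Csh
  exact ((IsLocalRing.local_hom_TFAE _).out 0 4).mpr (IsLocalRing.eq_maximalIdeal hmax)

theorem bijective_lift (f : RD →+* Bsh ⊗[Ash] Csh)
    (hf : ((Algebra.TensorProduct.lift (IsScalarTower.toAlgHom Ash Bsh Dsh)
      (IsScalarTower.toAlgHom Ash Csh Dsh) (fun _ _ => Commute.all _ _) :
        Bsh ⊗[Ash] Csh →ₐ[Ash] Dsh) : Bsh ⊗[Ash] Csh →+* Dsh).comp f = algebraMap RD Dsh)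
    (hB : ∀ x : RB, (algebraMap RB Bsh x) ⊗ₜ[Ash] (1 : Csh) ∈ Set.range f)
    (hC : ∀ x : RC, (1 : Bsh) ⊗ₜ[Ash] (algebraMap RC Csh x) ∈ Set.range f) :
    Function.Bijective (Algebra.TensorProduct.lift (IsScalarTower.toAlgHom Ash Bsh Dsh)
      (IsScalarTower.toAlgHom Ash Csh Dsh) (fun _ _ => Commute.all _ _)) := by
  classical
  set Φ : Bsh ⊗[Ash] Csh →ₐ[Ash] Dsh :=
    Algebra.TensorProduct.lift (IsScalarTower.toAlgHom Ash Bsh Dsh)
      (IsScalarTower.toAlgHom Ash Csh Dsh) (fun _ _ => Commute.all _ _) with hΦ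
  have hΦtmul : ∀ (b : Bsh) (c : Csh), Φ (b ⊗ₜ[Ash] c) =
      algebraMap Bsh Dsh b * algebraMap Csh Dsh c := fun b c => by
    simp [Φ]
  haveI : Algebra.IsAlgebraic (ResidueField Ash) (ResidueField Bsh) :=
    isAlgebraic_residueField Ash Bsh
  haveI : IsPurelyInseparable (ResidueField Ash) (ResidueField Bsh) := inferInstance
  obtain ⟨hEloc, hincl, -⟩ := Groth.Agent.Lib.Helper19.TensorLocal.main_tensor Ash Bsh Csh
  haveI := hEloc
  letI : Algebra Csh (Bsh ⊗[Ash] Csh) := Algebra.TensorProduct.rightAlgebra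
  haveI : Algebra.IsIntegral Csh (Bsh ⊗[Ash] Csh) := isIntegral_rightAlgebra Ash Bsh Csh
  haveI : IsLocalHom (algebraMap Csh (Bsh ⊗[Ash] Csh)) := hincl
  haveI : HenselianLocalRing Csh := Hensel.IsStrictHenselization.henselian (R := RC)
  haveI : IsSepClosed (ResidueField Csh) :=
    (Hensel.IsStrictHenselization.isSepClosure (R := RC) (S := Csh)).sep_closed
  haveI hEhens : HenselianLocalRing (Bsh ⊗[Ash] Csh) :=
    henselianLocalRing_of_isIntegral Csh (Bsh ⊗[Ash] Csh)
  haveI : Algebra.IsAlgebraic (ResidueField Csh) (ResidueField (Bsh ⊗[Ash] Csh)) :=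
    isAlgebraic_residueField Csh (Bsh ⊗[Ash] Csh)
  haveI : IsSepClosed (ResidueField (Bsh ⊗[Ash] Csh)) :=
    Algebra.IsAlgebraic.isSepClosed (F := ResidueField Csh)
      (E := ResidueField (Bsh ⊗[Ash] Csh))
  -- Φ is local
  haveI hΦloc : IsLocalHom (Φ : Bsh ⊗[Ash] Csh →+* Dsh) := by
    haveI : ((maximalIdeal Dsh).comap (Φ : Bsh ⊗[Ash] Csh →+* Dsh)).IsPrime :=
      Ideal.comap_isPrime _ _
    have hmax : ((maximalIdeal Dsh).comap (Φ : Bsh ⊗[Ash] Csh →+* Dsh)).IsMaximal := by
      apply Ideal.isMaximal_of_isIntegral_of_isMaximal_comap (R := Csh)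
      have h1 : ((maximalIdeal Dsh).comap (Φ : Bsh ⊗[Ash] Csh →+* Dsh)).comap
          (algebraMap Csh (Bsh ⊗[Ash] Csh)) = maximalIdeal Csh := by
        rw [Ideal.comap_comap]
        have : (Φ : Bsh ⊗[Ash] Csh →+* Dsh).comp (algebraMap Csh (Bsh ⊗[Ash] Csh)) =
            algebraMap Csh Dsh := by
          ext c
          show Φ ((1 : Bsh) ⊗ₜ[Ash] c) = _
          rw [hΦtmul, map_one, one_mul]
        rw [this, IsLocalRing.maximalIdeal_comap]
      rw [h1]
      exact maximalIdeal.isMaximal Csh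
    exact ((IsLocalRing.local_hom_TFAE _).out 0 4).mpr (IsLocalRing.eq_maximalIdeal hmax)
  haveI hfloc : IsLocalHom f := by
    constructor
    intro x hx
    have h1 : IsUnit ((Φ : Bsh ⊗[Ash] Csh →+* Dsh) (f x)) := hx.map _
    have h2 : (Φ : Bsh ⊗[Ash] Csh →+* Dsh) (f x) = algebraMap RD Dsh x :=
      RingHom.congr_fun hf x
    rw [h2] at h1
    exact isUnit_of_map_unit (algebraMap RD Dsh) x h1
  obtain ⟨g, hg1, hg2, hg3⟩ := exists_section RD Dsh (Bsh ⊗[Ash] Csh) f
    (Φ : Bsh ⊗[Ash] Csh →+* Dsh) hf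
  have hΦg : ∀ y, Φ (g y) = y := fun y => RingHom.congr_fun hg2 y
  -- `includeLeft` is local
  let iL : Bsh →+* Bsh ⊗[Ash] Csh :=
    (Algebra.TensorProduct.includeLeft : Bsh →ₐ[Ash] Bsh ⊗[Ash] Csh).toRingHom
  let iR : Csh →+* Bsh ⊗[Ash] Csh :=
    (Algebra.TensorProduct.includeRight : Csh →ₐ[Ash] Bsh ⊗[Ash] Csh).toRingHom
  have hΦiL : ∀ b, Φ (iL b) = algebraMap Bsh Dsh b := fun b => by
    show Φ (b ⊗ₜ[Ash] (1 : Csh)) = _
    rw [hΦtmul, map_one, mul_one]
  have hΦiR : ∀ c, Φ (iR c) = algebraMap Csh Dsh c := fun c => by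
    show Φ ((1 : Bsh) ⊗ₜ[Ash] c) = _
    rw [hΦtmul, map_one, one_mul]
  haveI hiLloc : IsLocalHom iL := by
    constructor
    intro b hb
    have h1 : IsUnit (Φ (iL b)) := hb.map Φ
    rw [hΦiL] at h1
    exact isUnit_of_map_unit (algebraMap Bsh Dsh) b h1
  haveI hiRloc : IsLocalHom iR := hincl
  -- key: g ∘ Φ ∘ iL = iL
  have hgL : ∀ b, g (algebraMap Bsh Dsh b) = iL b := by
    haveI : IsLocalHom (iL.comp (algebraMap RB Bsh)) := RingHom.isLocalHom_comp _ _
    obtain ⟨k, -, hkuniq⟩ := Hensel.IsStrictHenselization.universal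
      (R := RB) (S := Bsh) (Bsh ⊗[Ash] Csh) (iL.comp (algebraMap RB Bsh))
      (ResidueField.map iL) (by rw [← ResidueField.map_comp])
    have h1 : g.comp (algebraMap Bsh Dsh) = k := by
      apply hkuniq
      refine ⟨?_, fun x => ?_⟩
      · ext x
        obtain ⟨y, hy⟩ := hB x
        show g (algebraMap Bsh Dsh (algebraMap RB Bsh x)) = iL (algebraMap RB Bsh x)
        have hy' : f y = iL (algebraMap RB Bsh x) := hy
        have h3 : algebraMap Bsh Dsh (algebraMap RB Bsh x) = algebraMap RD Dsh y := by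
          rw [← hΦiL, ← hy']
          exact RingHom.congr_fun hf y
        rw [h3, ← hy']
        exact RingHom.congr_fun hg1 y
      · show residue _ (g (algebraMap Bsh Dsh x)) = ResidueField.map iL (residue Bsh x)
        have hinj : Function.Injective
            (ResidueField.map (Φ : Bsh ⊗[Ash] Csh →+* Dsh)) := RingHom.injective _
        apply hinj
        rw [hg3, ResidueField.map_residue, ResidueField.map_residue]
        show residue Dsh (algebraMap Bsh Dsh x) = residue Dsh (Φ (iL x))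
        rw [hΦiL]
    have h2 : iL = k := hkuniq _ ⟨rfl, fun x => rfl⟩
    intro b
    exact RingHom.congr_fun (h1.trans h2.symm) b
  have hgR : ∀ c, g (algebraMap Csh Dsh c) = iR c := by
    haveI : IsLocalHom (iR.comp (algebraMap RC Csh)) := RingHom.isLocalHom_comp _ _
    obtain ⟨k, -, hkuniq⟩ := Hensel.IsStrictHenselization.universal
      (R := RC) (S := Csh) (Bsh ⊗[Ash] Csh) (iR.comp (algebraMap RC Csh))
      (ResidueField.map iR) (by rw [← ResidueField.map_comp])
    have h1 : g.comp (algebraMap Csh Dsh) = k := by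
      apply hkuniq
      refine ⟨?_, fun x => ?_⟩
      · ext x
        obtain ⟨y, hy⟩ := hC x
        show g (algebraMap Csh Dsh (algebraMap RC Csh x)) = iR (algebraMap RC Csh x)
        have hy' : f y = iR (algebraMap RC Csh x) := hy
        have h3 : algebraMap Csh Dsh (algebraMap RC Csh x) = algebraMap RD Dsh y := by
          rw [← hΦiR, ← hy']
          exact RingHom.congr_fun hf y
        rw [h3, ← hy']
        exact RingHom.congr_fun hg1 y
      · show residue _ (g (algebraMap Csh Dsh x)) = ResidueField.map iR (residue Csh x)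
        have hinj : Function.Injective
            (ResidueField.map (Φ : Bsh ⊗[Ash] Csh →+* Dsh)) := RingHom.injective _
        apply hinj
        rw [hg3, ResidueField.map_residue, ResidueField.map_residue]
        show residue Dsh (algebraMap Csh Dsh x) = residue Dsh (Φ (iR x))
        rw [hΦiR]
    have h2 : iR = k := hkuniq _ ⟨rfl, fun x => rfl⟩
    intro c
    exact RingHom.congr_fun (h1.trans h2.symm) c
  have hgΦ : ∀ z, g (Φ z) = z := by
    intro z
    induction z using TensorProduct.induction_on with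
    | zero => rw [map_zero, map_zero]
    | add x y hx hy => rw [map_add, map_add, hx, hy]
    | tmul b c =>
      rw [hΦtmul, map_mul, hgL, hgR]
      show (b ⊗ₜ[Ash] (1 : Csh)) * ((1 : Bsh) ⊗ₜ[Ash] c) = _
      rw [Algebra.TensorProduct.tmul_mul_tmul, mul_one, one_mul]
  exact ⟨Function.LeftInverse.injective hgΦ, Function.RightInverse.surjective hΦg⟩

end core

end Groth.Agent.Lib.Helper12.StrictTensor
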