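import Groth.Agent.Lib.Helper12.StrictTensorC

/-!
# Tensor products of strict henselizations: the concrete bijectivity statement
-/

set_option autoImplicit false
set_option linter.style.haveILetI false
universe u

namespace Groth.Agent.Lib.Helper12.StrictTensor

open IsLocalRing TensorProduct

theorem bijective_of_isIntegral (A B C : Type u) [CommRing A] [CommRing B]
    [CommRing C] [Algebra A B] [Algebra A C]
    (pA : Ideal A) [pA.IsPrime] (pB : Ideal B) [pB.IsPrime]
    (pC : Ideal C) [pC.IsPrime]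
    (pD : Ideal (B ⊗[A] C)) [pD.IsPrime] [pD.LiesOver pB]
    (hDC : pD.comap (Algebra.TensorProduct.includeRight : C →ₐ[A] B ⊗[A] C).toRingHom = pC)
    (Ash : Type u) [CommRing Ash] [IsLocalRing Ash] [Algebra (Localization.AtPrime pA) Ash]
    [IsLocalHom (algebraMap (Localization.AtPrime pA) Ash)]
    [Hensel.IsStrictHenselization (Localization.AtPrime pA) Ash] [Algebra A Ash]
    (Bsh : Type u) [CommRing Bsh] [IsLocalRing Bsh] [Algebra (Localization.AtPrime pB) Bsh]
    [IsLocalHom (algebraMap (Localization.AtPrime pB) Bsh)]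
    [Hensel.IsStrictHenselization (Localization.AtPrime pB) Bsh] [Algebra B Bsh]
    [IsScalarTower B (Localization.AtPrime pB) Bsh] [Algebra A Bsh] [IsScalarTower A B Bsh]
    [Algebra Ash Bsh] [IsScalarTower A Ash Bsh] [IsLocalHom (algebraMap Ash Bsh)]
    (Csh : Type u) [CommRing Csh] [IsLocalRing Csh] [Algebra (Localization.AtPrime pC) Csh]
    [IsLocalHom (algebraMap (Localization.AtPrime pC) Csh)]
    [Hensel.IsStrictHenselization (Localization.AtPrime pC) Csh] [Algebra C Csh]
    [IsScalarTower C (Localization.AtPrime pC) Csh] [Algebra A Csh] [IsScalarTower A C Csh]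
    [Algebra Ash Csh] [IsScalarTower A Ash Csh] [IsLocalHom (algebraMap Ash Csh)]
    (Dsh : Type u) [CommRing Dsh] [IsLocalRing Dsh] [Algebra (Localization.AtPrime pD) Dsh]
    [IsLocalHom (algebraMap (Localization.AtPrime pD) Dsh)]
    [Hensel.IsStrictHenselization (Localization.AtPrime pD) Dsh] [Algebra (B ⊗[A] C) Dsh]
    [IsScalarTower (B ⊗[A] C) (Localization.AtPrime pD) Dsh]
    [Algebra Bsh Dsh] [IsLocalHom (algebraMap Bsh Dsh)] [Algebra B Dsh] [IsScalarTower B Bsh Dsh]
    [IsScalarTower B (B ⊗[A] C) Dsh]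
    [Algebra Csh Dsh] [IsLocalHom (algebraMap Csh Dsh)]
    (hC : ∀ c : C, algebraMap Csh Dsh (algebraMap C Csh c) = algebraMap (B ⊗[A] C) Dsh (1 ⊗ₜ[A] c))
    [Algebra Ash Dsh] [IsScalarTower Ash Bsh Dsh] [IsScalarTower Ash Csh Dsh]
    [Algebra.IsIntegral Ash Bsh] :
    Function.Bijective (Algebra.TensorProduct.lift (IsScalarTower.toAlgHom Ash Bsh Dsh)
      (IsScalarTower.toAlgHom Ash Csh Dsh) (fun _ _ => Commute.all _ _)) := by
  classical
  haveI : HenselianLocalRing Ash :=
    Hensel.IsStrictHenselization.henselian (R := Localization.AtPrime pA)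
  haveI : IsSepClosed (ResidueField Ash) :=
    (Hensel.IsStrictHenselization.isSepClosure (R := Localization.AtPrime pA) (S := Ash)).sep_closed
  obtain ⟨hEloc, hΦloc⟩ := isLocalHom_lift Ash Bsh Csh Dsh
  haveI := hEloc
  haveI := hΦloc
  set Φ : Bsh ⊗[Ash] Csh →ₐ[Ash] Dsh :=
    Algebra.TensorProduct.lift (IsScalarTower.toAlgHom Ash Bsh Dsh)
      (IsScalarTower.toAlgHom Ash Csh Dsh) (fun _ _ => Commute.all _ _) with hΦ
  have hΦtmul : ∀ (b : Bsh) (c : Csh), Φ (b ⊗ₜ[Ash] c) =
      algebraMap Bsh Dsh b * algebraMap Csh Dsh c := fun b c => by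
    simp [Φ]
  let iL : Bsh →+* Bsh ⊗[Ash] Csh :=
    (Algebra.TensorProduct.includeLeft : Bsh →ₐ[Ash] Bsh ⊗[Ash] Csh).toRingHom
  let iR : Csh →+* Bsh ⊗[Ash] Csh :=
    (Algebra.TensorProduct.includeRight : Csh →ₐ[Ash] Bsh ⊗[Ash] Csh).toRingHom
  have halgAE : ∀ a : A, algebraMap A (Bsh ⊗[Ash] Csh) a =
      (algebraMap A Bsh a) ⊗ₜ[Ash] (1 : Csh) := fun a => rfl
  let fB : B →ₐ[A] Bsh ⊗[Ash] Csh :=
    { toRingHom := iL.comp (algebraMap B Bsh)
      commutes' := fun a => by
        show (algebraMap B Bsh (algebraMap A B a)) ⊗ₜ[Ash] (1 : Csh) = _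
        rw [halgAE, ← IsScalarTower.algebraMap_apply A B Bsh] }
  let fC : C →ₐ[A] Bsh ⊗[Ash] Csh :=
    { toRingHom := iR.comp (algebraMap C Csh)
      commutes' := fun a => by
        show (1 : Bsh) ⊗ₜ[Ash] (algebraMap C Csh (algebraMap A C a)) = _
        rw [halgAE, ← IsScalarTower.algebraMap_apply A C Csh,
          IsScalarTower.algebraMap_apply A Ash Csh, IsScalarTower.algebraMap_apply A Ash Bsh,
          Algebra.algebraMap_eq_smul_one,
          Algebra.algebraMap_eq_smul_one (A := Bsh) (algebraMap A Ash a), smul_tmul] }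
  let f₀ : B ⊗[A] C →ₐ[A] Bsh ⊗[Ash] Csh :=
    Algebra.TensorProduct.lift fB fC (fun _ _ => Commute.all _ _)
  have hf₀tmul : ∀ (b : B) (c : C), f₀ (b ⊗ₜ[A] c) =
      (algebraMap B Bsh b) ⊗ₜ[Ash] (algebraMap C Csh c) := fun b c => by
    rw [Algebra.TensorProduct.lift_tmul]
    show ((algebraMap B Bsh b) ⊗ₜ[Ash] (1 : Csh)) * ((1 : Bsh) ⊗ₜ[Ash] (algebraMap C Csh c)) = _
    rw [Algebra.TensorProduct.tmul_mul_tmul, mul_one, one_mul]
  have hΦf₀ : ∀ d, Φ (f₀ d) = algebraMap (B ⊗[A] C) Dsh d := by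
    intro d
    induction d using TensorProduct.induction_on with
    | zero => rw [map_zero, map_zero, map_zero]
    | add x y hx hy => rw [map_add, map_add, map_add, hx, hy]
    | tmul b c =>
      rw [hf₀tmul, hΦtmul, hC, ← IsScalarTower.algebraMap_apply B Bsh Dsh,
        IsScalarTower.algebraMap_apply B (B ⊗[A] C) Dsh, ← map_mul,
        Algebra.TensorProduct.algebraMap_apply, Algebra.TensorProduct.tmul_mul_tmul]
      simp
  have hunits : ∀ t : pD.primeCompl, IsUnit ((f₀ : B ⊗[A] C →+* Bsh ⊗[Ash] Csh) t) := by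
    intro t
    have h1 : IsUnit (algebraMap (B ⊗[A] C) Dsh (t : B ⊗[A] C)) := by
      rw [IsScalarTower.algebraMap_apply (B ⊗[A] C) (Localization.AtPrime pD) Dsh]
      exact (IsLocalization.map_units (Localization.AtPrime pD) t).map _
    rw [← hΦf₀] at h1
    exact isUnit_of_map_unit (Φ : Bsh ⊗[Ash] Csh →+* Dsh) _ h1
  let f : Localization.AtPrime pD →+* Bsh ⊗[Ash] Csh :=
    IsLocalization.lift (M := pD.primeCompl) hunits
  have hfeq : ∀ d : B ⊗[A] C, f (algebraMap _ _ d) = f₀ d := fun d =>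
    IsLocalization.lift_eq _ d
  have hf : (Φ : Bsh ⊗[Ash] Csh →+* Dsh).comp f = algebraMap (Localization.AtPrime pD) Dsh := by
    apply IsLocalization.ringHom_ext pD.primeCompl
    refine RingHom.ext fun d => ?_
    show Φ (f (algebraMap _ _ d)) = algebraMap (Localization.AtPrime pD) Dsh (algebraMap _ _ d)
    rw [hfeq, hΦf₀, IsScalarTower.algebraMap_apply (B ⊗[A] C) (Localization.AtPrime pD) Dsh]
  refine bijective_lift Ash (Localization.AtPrime pB) Bsh (Localization.AtPrime pC) Csh
    (Localization.AtPrime pD) Dsh f hf ?_ ?_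
  · -- images of `B_pB`
    let β : Localization.AtPrime pB →+* Localization.AtPrime pD :=
      Localization.localRingHom pB pD (algebraMap B (B ⊗[A] C)) (Ideal.LiesOver.over)
    have hβ : f.comp β = iL.comp (algebraMap (Localization.AtPrime pB) Bsh) := by
      apply IsLocalization.ringHom_ext pB.primeCompl
      refine RingHom.ext fun b => ?_
      show f (β (algebraMap _ _ b)) = iL (algebraMap (Localization.AtPrime pB) Bsh
        (algebraMap _ _ b))
      rw [Localization.localRingHom_to_map, hfeq, ← IsScalarTower.algebraMap_apply B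
        (Localization.AtPrime pB) Bsh, Algebra.TensorProduct.algebraMap_apply, hf₀tmul]
      simp [iL]
    intro x
    exact ⟨β x, RingHom.congr_fun hβ x⟩
  · let γ : Localization.AtPrime pC →+* Localization.AtPrime pD :=
      Localization.localRingHom pC pD
        (Algebra.TensorProduct.includeRight : C →ₐ[A] B ⊗[A] C).toRingHom hDC.symm
    have hγ : f.comp γ = iR.comp (algebraMap (Localization.AtPrime pC) Csh) := by
      apply IsLocalization.ringHom_ext pC.primeCompl
      refine RingHom.ext fun c => ?_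
      show f (γ (algebraMap _ _ c)) = iR (algebraMap (Localization.AtPrime pC) Csh
        (algebraMap _ _ c))
      rw [Localization.localRingHom_to_map, hfeq, ← IsScalarTower.algebraMap_apply C
        (Localization.AtPrime pC) Csh]
      show f₀ ((1 : B) ⊗ₜ[A] c) = _
      rw [hf₀tmul]
      simp [iR]
    intro x
    exact ⟨γ x, RingHom.congr_fun hγ x⟩

end Groth.Agent.Lib.Helper12.StrictTensor
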