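import Groth.Agent.Lib.Helper12.StrictTensorD
import Groth.Agent.Lib.Helper12.HensQFMap2

/-!
# Images of quasi-finite algebras in a local algebra over a henselian local ring are integral
-/

set_option autoImplicit false
set_option linter.style.haveILetI false
universe u

namespace Groth.Agent.Lib.Helper12.StrictTensor

open IsLocalRing TensorProduct

/-- Let `R → S` be of finite type, `Rh` a henselian local `R`-algebra, `Sh` a local ring with
compatible maps from `S` and `Rh` (the latter local). If `R → S` is quasi-finite at the preimage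
`q` of the maximal ideal of `Sh`, then the image of `S` in `Sh` is integral over `Rh`. -/
theorem isIntegral_of_quasiFiniteAt (R S : Type u) [CommRing R] [CommRing S] [Algebra R S]
    [Algebra.FiniteType R S]
    (Rh : Type u) [CommRing Rh] [HenselianLocalRing Rh] [Algebra R Rh]
    (Sh : Type u) [CommRing Sh] [IsLocalRing Sh] [Algebra S Sh] [Algebra R Sh]
    [IsScalarTower R S Sh] [Algebra Rh Sh] [IsScalarTower R Rh Sh]
    [IsLocalHom (algebraMap Rh Sh)]
    (q : Ideal S) [q.IsPrime] (hq : q = (maximalIdeal Sh).comap (algebraMap S Sh))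
    [Algebra.QuasiFiniteAt R q] (s : S) : IsIntegral Rh (algebraMap S Sh s) := by
  classical
  have hmem : ∀ x : S, x ∈ q ↔ algebraMap S Sh x ∈ maximalIdeal Sh := fun x => by
    rw [hq, Ideal.mem_comap]
  have hunits : ∀ t : q.primeCompl, IsUnit (algebraMap S Sh (t : S)) := by
    intro t
    by_contra hnu
    apply t.2
    exact (hmem _).mpr hnu
  let φ : Localization.AtPrime q →+* Sh := IsLocalization.lift (M := q.primeCompl) hunits
  have hφ : ∀ x : S, φ (algebraMap S _ x) = algebraMap S Sh x := fun x =>
    IsLocalization.lift_eq _ x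
  letI : Algebra (Localization.AtPrime q) Sh := φ.toAlgebra
  haveI : IsScalarTower S (Localization.AtPrime q) Sh :=
    IsScalarTower.of_algebraMap_eq fun x => (hφ x).symm
  haveI : IsLocalHom (algebraMap (Localization.AtPrime q) Sh) := by
    constructor
    intro a ha
    obtain ⟨x, t, rfl⟩ := IsLocalization.exists_mk'_eq q.primeCompl a
    rw [IsLocalization.AtPrime.isUnit_mk'_iff (Localization.AtPrime q) q]
    intro hx
    have h1 : φ (IsLocalization.mk' (Localization.AtPrime q) x t) *
        φ (algebraMap S _ (t : S)) = φ (algebraMap S _ x) := by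
      rw [← map_mul, IsLocalization.mk'_spec]
    have h2 : IsUnit (φ (algebraMap S _ x)) := by
      rw [← h1]
      refine IsUnit.mul ha ?_
      rw [hφ]
      exact hunits t
    rw [hφ] at h2
    exact ((hmem x).mp hx) h2
  obtain ⟨C, _, _, hfin, hhens, Ψbar, θ₀, -, -, hcomp⟩ :=
    HensQFMap.exists_local_factor R S q Rh Sh
  haveI := hfin
  have h1 : algebraMap S Sh s = Ψbar (θ₀ (algebraMap S _ s)) := by
    rw [IsScalarTower.algebraMap_apply S (Localization.AtPrime q) Sh]
    exact (RingHom.congr_fun hcomp _).symm
  rw [h1]
  exact (Algebra.IsIntegral.isIntegral (R := Rh) (θ₀ (algebraMap S _ s))).map Ψbar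

end Groth.Agent.Lib.Helper12.StrictTensor
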