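import Groth.Agent.Lib.Helper12.StrictTensorA
import Groth.Agent.Lib.Helper12.StrictHenselizationIso
import Groth.Agent.Lib.Helper12.PtDim
import Groth.Agent.S9459

/-!
# The strict henselization of `(R^sh ⊗_R S)_Q`
-/

set_option autoImplicit false
set_option linter.style.haveILetI false
universe u

namespace Groth.Agent.Lib.Helper12.StrictTensor

open IsLocalRing

/-- The maximal ideal of a strict henselization is generated by that of the base. -/
theorem map_maximalIdeal_eq (A S : Type u) [CommRing A] [IsLocalRing A] [CommRing S]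
    [IsLocalRing S] [Algebra A S] [IsLocalHom (algebraMap A S)]
    [Hensel.IsStrictHenselization A S] :
    (maximalIdeal A).map (algebraMap A S) = maximalIdeal S := by
  obtain ⟨e⟩ := StrictHenselization.nonempty_algEquiv (A := A) S
  have h := PtNbhd.Lim.map_maximalIdeal A (SepCl A)
  apply le_antisymm (IsLocalRing.map_maximalIdeal_le _)
  intro x hx
  have hx' : e x ∈ maximalIdeal (StrictHenselization A) := by
    rw [mem_maximalIdeal, mem_nonunits_iff] at hx ⊢
    intro hu
    apply hx
    have := hu.map e.symm
    rwa [e.symm_apply_apply] at this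
  rw [← h] at hx'
  have h2 := Ideal.mem_map_of_mem (e.symm : StrictHenselization A →+* S) hx'
  rw [Ideal.map_map] at h2
  have h3 : (e.symm : StrictHenselization A →+* S).comp
      (algebraMap A (StrictHenselization A)) = algebraMap A S := by
    ext a
    exact e.symm.commutes a
  rw [h3] at h2
  have h4 : (e.symm : StrictHenselization A →+* S) (e x) = x := e.symm_apply_apply x
  rwa [h4] at h2

open Hensel in
/-- Strict version of `Groth.Agent.S9459.key`. -/
theorem keyStrict (R S : Type u) [CommRing R] [CommRing S] [Algebra R S] (p : Ideal R) [p.IsPrime]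
    (q : Ideal S) [q.IsPrime] [q.LiesOver p]
    (Rh : Type u) [CommRing Rh] [IsLocalRing Rh] [Algebra (Localization.AtPrime p) Rh]
    [IsLocalHom (algebraMap (Localization.AtPrime p) Rh)]
    [Hensel.IsStrictHenselization (Localization.AtPrime p) Rh] [Algebra R Rh]
    [IsScalarTower R (Localization.AtPrime p) Rh]
    (Sh : Type u) [CommRing Sh] [IsLocalRing Sh] [Algebra (Localization.AtPrime q) Sh]
    [IsLocalHom (algebraMap (Localization.AtPrime q) Sh)]
    [Hensel.IsStrictHenselization (Localization.AtPrime q) Sh] [Algebra S Sh]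
    [IsScalarTower S (Localization.AtPrime q) Sh] [Algebra R Sh] [IsScalarTower R S Sh]
    [Algebra Rh Sh] [IsScalarTower R Rh Sh]
    (D : Type u) [CommRing D] (iL : Rh →+* D) (iR : S →+* D)
    (hcomm : iL.comp (algebraMap R Rh) = iR.comp (algebraMap R S))
    (hepi : ∀ (X : Type u) [CommRing X] (a b : D →+* X),
      a.comp iL = b.comp iL → a.comp iR = b.comp iR → a = b)
    (φ : D →+* Sh) (hφL : φ.comp iL = algebraMap Rh Sh) (hφR : φ.comp iR = algebraMap S Sh)
    (Q : Ideal D) [Q.IsPrime] (hQ : Q = Ideal.comap φ (maximalIdeal Sh))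
    (E : Type u) [CommRing E] [IsLocalRing E] [Algebra (Localization.AtPrime Q) E]
    [IsLocalHom (algebraMap (Localization.AtPrime Q) E)]
    [Hensel.IsStrictHenselization (Localization.AtPrime Q) E] :
    ∃ e : E ≃+* Sh, ∀ d : D,
      e (algebraMap (Localization.AtPrime Q) E (algebraMap D (Localization.AtPrime Q) d)) = φ d := by
  classical
  haveI : HenselianLocalRing Sh := IsStrictHenselization.henselian (R := Localization.AtPrime q)
  haveI : HenselianLocalRing E := IsStrictHenselization.henselian (R := Localization.AtPrime Q)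
  haveI : IsSepClosed (ResidueField Sh) :=
    (IsStrictHenselization.isSepClosure (R := Localization.AtPrime q) (S := Sh)).sep_closed
  haveI : IsSepClosed (ResidueField E) :=
    (IsStrictHenselization.isSepClosure (R := Localization.AtPrime Q) (S := E)).sep_closed
  have hS : (maximalIdeal Sh).comap (algebraMap S Sh) = q := by
    rw [IsScalarTower.algebraMap_eq S (Localization.AtPrime q) Sh, ← Ideal.comap_comap,
      IsLocalRing.maximalIdeal_comap]
    exact IsLocalization.AtPrime.under_maximalIdeal _ q
  have hqp : q.comap (algebraMap R S) = p := (Ideal.LiesOver.over (p := p) (P := q)).symm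
  -- `Rh → Sh` is local
  haveI hRSloc : IsLocalHom (algebraMap Rh Sh) := by
    have hm : maximalIdeal Rh = p.map (algebraMap R Rh) := by
      rw [← map_maximalIdeal_eq (Localization.AtPrime p) Rh,
        ← Localization.AtPrime.map_eq_maximalIdeal, Ideal.map_map,
        ← IsScalarTower.algebraMap_eq]
    have hle : maximalIdeal Rh ≤ (maximalIdeal Sh).comap (algebraMap Rh Sh) := by
      rw [hm, Ideal.map_le_iff_le_comap]
      intro r hr
      rw [Ideal.mem_comap, Ideal.mem_comap, ← IsScalarTower.algebraMap_apply R Rh Sh,
        IsScalarTower.algebraMap_apply R S Sh, ← Ideal.mem_comap, hS]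
      have : r ∈ q.comap (algebraMap R S) := hqp ▸ hr
      exact this
    exact ((IsLocalRing.local_hom_TFAE _).out 0 3).mpr hle
  -- the map T → Sh
  obtain ⟨φT, hφT, hφTloc⟩ := Groth.Agent.S9459.exists_lift_local Q φ hQ.symm
  haveI := hφTloc
  haveI : Algebra.IsSeparable (ResidueField (Localization.AtPrime Q)) (ResidueField E) :=
    (IsStrictHenselization.isSepClosure (R := Localization.AtPrime Q) (S := E)).separable
  letI : Algebra (ResidueField (Localization.AtPrime Q)) (ResidueField Sh) :=
    (ResidueField.map φT).toAlgebra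
  let τ₁a : ResidueField E →ₐ[ResidueField (Localization.AtPrime Q)] ResidueField Sh :=
    IsSepClosed.lift
  let τ₁ : ResidueField E →+* ResidueField Sh := τ₁a.toRingHom
  have hτ₁ : τ₁.comp (ResidueField.map (algebraMap (Localization.AtPrime Q) E)) =
      ResidueField.map φT := by
    refine RingHom.ext fun x => ?_
    exact τ₁a.commutes x
  obtain ⟨g, ⟨hg, hgres⟩, -⟩ := IsStrictHenselization.universal
    (R := Localization.AtPrime Q) (S := E) Sh φT τ₁ hτ₁
  haveI hgloc : IsLocalHom g := by
    constructor
    intro x hx
    rw [← residue_ne_zero_iff_isUnit] at hx ⊢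
    intro h0
    apply hx
    rw [hgres, h0, map_zero]
  -- the map S → E
  set aTE : Localization.AtPrime Q →+* E := algebraMap (Localization.AtPrime Q) E with haTE
  set aDT : D →+* Localization.AtPrime Q := algebraMap D (Localization.AtPrime Q) with haDT
  set fDE : D →+* E := aTE.comp aDT with hfDE
  have hDE : (maximalIdeal E).comap fDE = Q := by
    rw [hfDE, ← Ideal.comap_comap, IsLocalRing.maximalIdeal_comap]
    exact IsLocalization.AtPrime.under_maximalIdeal _ Q
  set fSE : S →+* E := fDE.comp iR with hfSE
  have hSE : (maximalIdeal E).comap fSE = q := by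
    rw [hfSE, ← Ideal.comap_comap, hDE, hQ, Ideal.comap_comap, hφR, hS]
  obtain ⟨ψ, hψ, hψloc⟩ := Groth.Agent.S9459.exists_lift_local q fSE hSE
  haveI := hψloc
  -- elementwise forms
  have hg' : ∀ t, g (aTE t) = φT t := fun t => RingHom.congr_fun hg t
  have hφT' : ∀ d, φT (aDT d) = φ d := fun d => RingHom.congr_fun hφT d
  have hψ' : ∀ s, ψ (algebraMap S (Localization.AtPrime q) s) = fSE s :=
    fun s => RingHom.congr_fun hψ s
  have hφR' : ∀ s, φ (iR s) = algebraMap S Sh s := fun s => RingHom.congr_fun hφR s
  have hφL' : ∀ a, φ (iL a) = algebraMap Rh Sh a := fun a => RingHom.congr_fun hφL a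
  have hcomm' : ∀ r, iL (algebraMap R Rh r) = iR (algebraMap R S r) :=
    fun r => RingHom.congr_fun hcomm r
  have hfSE' : ∀ s, fSE s = aTE (aDT (iR s)) := fun s => rfl
  have hgψ : g.comp ψ = algebraMap (Localization.AtPrime q) Sh := by
    apply IsLocalization.ringHom_ext q.primeCompl
    ext s
    simp only [RingHom.comp_apply]
    rw [hψ', hfSE', hg', hφT', hφR', IsScalarTower.algebraMap_apply S
      (Localization.AtPrime q) Sh]
  obtain ⟨h, hh, hgh, hres⟩ := exists_section (Localization.AtPrime q) Sh E ψ g hgψ
  have hh' : ∀ x, h (algebraMap (Localization.AtPrime q) Sh x) = ψ x :=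
    fun x => RingHom.congr_fun hh x
  -- h ∘ φ = fDE
  have hS' : ∀ s, h (φ (iR s)) = fDE (iR s) := by
    intro s
    rw [hφR', IsScalarTower.algebraMap_apply S (Localization.AtPrime q) Sh, hh', hψ']
    rfl
  have hR' : (h.comp φ).comp iL = fDE.comp iL := by
    set γ : Localization.AtPrime p →+* E :=
      (fDE.comp iL).comp (algebraMap (Localization.AtPrime p) Rh) with hγ
    have hγR : γ.comp (algebraMap R (Localization.AtPrime p)) = fSE.comp (algebraMap R S) := by
      ext r
      simp only [hγ, RingHom.comp_apply]
      rw [← IsScalarTower.algebraMap_apply R (Localization.AtPrime p) Rh, hcomm']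
      rfl
    have hγloc : IsLocalHom γ := by
      apply Groth.Agent.S9459.isLocalHom_of_comap p
      rw [hγR, ← Ideal.comap_comap, hSE, hqp]
    haveI := hγloc
    haveI hk₂loc : IsLocalHom (fDE.comp iL) := by
      apply ((IsLocalRing.local_hom_TFAE _).out 0 4).mpr
      rw [← Ideal.comap_comap, hDE, hQ, Ideal.comap_comap, hφL, IsLocalRing.maximalIdeal_comap]
    obtain ⟨k, -, hkuniq⟩ := IsStrictHenselization.universal
      (R := Localization.AtPrime p) (S := Rh) E γ (ResidueField.map (fDE.comp iL))
      (by rw [← ResidueField.map_comp])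
    have e1 : (h.comp φ).comp iL = k := by
      apply hkuniq
      refine ⟨?_, fun x => ?_⟩
      · apply IsLocalization.ringHom_ext p.primeCompl
        rw [hγR]
        ext r
        simp only [RingHom.comp_apply]
        rw [← IsScalarTower.algebraMap_apply R (Localization.AtPrime p) Rh, hcomm', hS']
        rfl
      · show residue E (h (φ (iL x))) = ResidueField.map (fDE.comp iL) (residue Rh x)
        apply (ResidueField.map g).injective
        rw [hres, ResidueField.map_residue, ResidueField.map_residue]
        congr 1
        show φ (iL x) = g (aTE (aDT (iL x)))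
        rw [hg', hφT']
    have e2 : fDE.comp iL = k := hkuniq _ ⟨rfl, fun x => rfl⟩
    exact e1.trans e2.symm
  have hhφ : h.comp φ = fDE := hepi E _ _ hR' (RingHom.ext fun s => hS' s)
  have hhφ' : ∀ d, h (φ d) = aTE (aDT d) := fun d => RingHom.congr_fun hhφ d
  -- h ∘ g = id
  have hhg : h.comp g = RingHom.id E := by
    obtain ⟨k, -, hkuniq⟩ := IsStrictHenselization.universal
      (R := Localization.AtPrime Q) (S := E) E aTE (RingHom.id _) (by rw [RingHom.id_comp])
    have e1 : h.comp g = k := by
      apply hkuniq
      refine ⟨?_, fun x => ?_⟩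
      · apply IsLocalization.ringHom_ext Q.primeCompl
        ext d
        simp only [RingHom.comp_apply]
        change h (g (aTE (aDT d))) = aTE (aDT d)
        rw [hg', hφT', hhφ']
      · show residue E (h (g x)) = residue E x
        apply (ResidueField.map g).injective
        rw [hres, ResidueField.map_residue]
    have e2 : RingHom.id E = k := hkuniq _ ⟨RingHom.id_comp _, fun x => rfl⟩
    exact e1.trans e2.symm
  refine ⟨RingEquiv.ofRingHom g h hgh hhg, fun d => ?_⟩
  change g (aTE (aDT d)) = φ d
  rw [hg', hφT']

end Groth.Agent.Lib.Helper12.StrictTensor
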