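import Groth.Agent.Lib.Helper12.StrictTensorA

/-!
# Localizations of integral algebras over henselian local rings at maximal ideals are quotients
-/

set_option autoImplicit false
set_option linter.style.haveILetI false
universe u

namespace Groth.Agent.Lib.Helper12.StrictTensor

open IsLocalRing

/-- If `E` is integral over a henselian local ring and `q` is a maximal ideal of `E`, then
`E → E_q` is surjective. -/
theorem surjective_algebraMap_localization_of_isIntegral (R : Type u) [CommRing R]
    [HenselianLocalRing R] (E : Type u) [CommRing E] [Algebra R E] [Algebra.IsIntegral R E]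
    (q : Ideal E) [hq : q.IsMaximal] :
    Function.Surjective (algebraMap E (Localization.AtPrime q)) := by
  classical
  intro x
  obtain ⟨a, t, rfl⟩ := IsLocalization.exists_mk'_eq q.primeCompl x
  let E₀ : Subalgebra R E := Algebra.adjoin R {(t : E)}
  haveI : Module.Finite R E₀ := by
    have : E₀.toSubmodule.FG := (Algebra.IsIntegral.isIntegral (t : E)).fg_adjoin_singleton
    exact Module.Finite.iff_fg.mpr this
  let t₀ : E₀ := ⟨t, Algebra.self_mem_adjoin_singleton R _⟩
  haveI : Algebra.IsIntegral E₀ E := Algebra.IsIntegral.tower_top (R := R)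
  set q₀ : Ideal E₀ := q.comap (algebraMap E₀ E) with hq₀
  have hq₀max : q₀.IsMaximal := Ideal.isMaximal_comap_of_isIntegral_of_isMaximal q
  haveI : q₀.IsPrime := hq₀max.isPrime
  obtain ⟨ι, _, e, he, hloc⟩ := exists_completeOrthogonalIdempotents_isLocalRing R E₀
  have hex : ∃ i, e i ∉ q₀ := by
    by_contra hcon
    push_neg at hcon
    have : (1 : E₀) ∈ q₀ := by
      rw [← he.complete]
      exact Ideal.sum_mem _ (fun i _ => hcon i)
    exact (Ideal.IsPrime.ne_top inferInstance) ((Ideal.eq_top_iff_one _).mpr this)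
  obtain ⟨i, hi⟩ := hex
  haveI := hloc i
  have h1e : 1 - e i ∈ q₀ := by
    have : e i * (1 - e i) ∈ q₀ := by
      rw [mul_sub, mul_one, (he.idem i).eq, sub_self]
      exact zero_mem _
    exact (Ideal.IsPrime.mem_or_mem inferInstance this).resolve_left hi
  set π := Ideal.Quotient.mk (Ideal.span {1 - e i}) with hπ
  have hπsurj : Function.Surjective π := Ideal.Quotient.mk_surjective
  have hker : Ideal.comap π ⊥ ≤ q₀ := by
    intro z hz
    rw [Ideal.mem_comap, Ideal.mem_bot, hπ, Ideal.Quotient.eq_zero_iff_mem,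
      Ideal.mem_span_singleton'] at hz
    obtain ⟨c, rfl⟩ := hz
    exact Ideal.mul_mem_left _ _ h1e
  have hcm : Ideal.comap π (Ideal.map π q₀) = q₀ := by
    rw [Ideal.comap_map_of_surjective π hπsurj]
    exact sup_eq_left.mpr hker
  have hmap : Ideal.map π q₀ = maximalIdeal _ := by
    rcases Ideal.map_eq_top_or_isMaximal_of_surjective π hπsurj hq₀max with h | h
    · exfalso
      rw [h, Ideal.comap_top] at hcm
      exact hq₀max.ne_top hcm.symm
    · exact IsLocalRing.eq_maximalIdeal h
  have ht₀ : t₀ ∉ q₀ := fun h => t.2 h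
  have hunit : IsUnit (π t₀) := by
    by_contra hnu
    have h1 : π t₀ ∈ maximalIdeal _ := hnu
    rw [← hmap] at h1
    have h2 : t₀ ∈ Ideal.comap π (Ideal.map π q₀) := h1
    rw [hcm] at h2
    exact ht₀ h2
  obtain ⟨v, hv⟩ := hunit.exists_right_inv
  obtain ⟨u, rfl⟩ := hπsurj v
  have h3 : t₀ * u - 1 ∈ Ideal.span {1 - e i} := by
    rw [← Ideal.Quotient.eq_zero_iff_mem, map_sub, map_mul, map_one]
    exact sub_eq_zero.mpr hv
  rw [Ideal.mem_span_singleton'] at h3
  obtain ⟨c, hc⟩ := h3
  have h4 : e i * (t₀ * u - 1) = 0 := by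
    rw [← hc]
    calc e i * (c * (1 - e i)) = c * (e i * (1 - e i)) := by ring
      _ = 0 := by rw [mul_sub, mul_one, (he.idem i).eq, sub_self, mul_zero]
  have h5 : ((e i : E₀) : E) * ((t : E) * (u : E) - 1) = 0 := by
    have := congrArg (Subtype.val) h4
    exact this
  have hei : ((e i : E₀) : E) ∉ q := hi
  have heunit : IsUnit (algebraMap E (Localization.AtPrime q) ((e i : E₀) : E)) :=
    IsLocalization.map_units (Localization.AtPrime q) (⟨_, hei⟩ : q.primeCompl)
  have h6 : algebraMap E (Localization.AtPrime q) (t : E) *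
      algebraMap E (Localization.AtPrime q) (u : E) = 1 := by
    have h7 := congrArg (algebraMap E (Localization.AtPrime q)) h5
    rw [map_mul, map_zero] at h7
    have h8 := (heunit.mul_right_eq_zero).mp h7
    rw [map_sub, map_mul, map_one] at h8
    exact sub_eq_zero.mp h8
  refine ⟨a * (u : E), ?_⟩
  rw [eq_comm, IsLocalization.mk'_eq_iff_eq_mul, map_mul, mul_assoc,
    mul_comm (algebraMap E (Localization.AtPrime q) (u : E)), h6, mul_one]

end Groth.Agent.Lib.Helper12.StrictTensor
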