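import Mathlib
import Groth.Agent.Lib.Helper12.HensInterB
import Groth.Agent.Lib.Helper12.StrictTensorA

/-!
# Roots of units and roots of unity in henselian local rings with algebraically closed residue
field (towards S16053, S16052)
-/

set_option autoImplicit false
set_option linter.style.haveILetI false
universe u

namespace Groth.Agent.Lib.Helper12.Tame

open IsLocalRing Polynomial

section Hens

variable (R : Type u) [CommRing R] [HenselianLocalRing R] [IsAlgClosed (ResidueField R)]

theorem exists_root_X_pow_sub_C (n : ℕ) (hn : (n : ResidueField R) ≠ 0) (u : R) (hu : IsUnit u)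
    (w₀ : ResidueField R) (hw₀ : w₀ ^ n = residue R u) :
    ∃ w : R, w ^ n = u ∧ residue R w = w₀ := by
  have hn0 : n ≠ 0 := by
    rintro rfl
    simp at hn
  have hF : (X ^ n - C u : R[X]).Monic := monic_X_pow_sub_C u hn0
  have hubar : residue R u ≠ 0 := (hu.map (residue R)).ne_zero
  have hw0 : w₀ ≠ 0 := by
    rintro rfl
    rw [zero_pow hn0] at hw₀
    exact hubar hw₀.symm
  have h0 : aeval w₀ (X ^ n - C u : R[X]) = 0 := by
    rw [map_sub, map_pow, aeval_X, aeval_C, hw₀, ResidueField.algebraMap_eq, sub_self]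
  have h1 : aeval w₀ (derivative (X ^ n - C u : R[X])) ≠ 0 := by
    rw [derivative_sub, derivative_C, sub_zero, derivative_X_pow, map_mul, map_pow, aeval_X,
      aeval_C, map_natCast]
    exact mul_ne_zero hn (pow_ne_zero _ hw0)
  obtain ⟨w, hw, hres⟩ := HensInter.exists_root_residue R _ hF w₀ h0 h1
  refine ⟨w, ?_, hres⟩
  have : eval w (X ^ n - C u : R[X]) = 0 := hw
  rwa [eval_sub, eval_pow, eval_X, eval_C, sub_eq_zero] at this

/-- units have `n`-th roots when `n` is invertible in the residue field -/
theorem exists_pow_eq_of_isUnit (n : ℕ) (hn : (n : ResidueField R) ≠ 0) (u : R) (hu : IsUnit u) :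
    ∃ w : R, w ^ n = u := by
  have hn0 : n ≠ 0 := by
    rintro rfl
    simp at hn
  obtain ⟨w₀, hw₀⟩ := IsAlgClosed.exists_pow_nat_eq (residue R u) (Nat.pos_of_ne_zero hn0)
  obtain ⟨w, hw, -⟩ := exists_root_X_pow_sub_C R n hn u hu w₀ hw₀
  exact ⟨w, hw⟩

/-- primitive roots of unity of order invertible in the residue field exist -/
theorem exists_isPrimitiveRoot (n : ℕ) (hn : (n : ResidueField R) ≠ 0) :
    ∃ ζ : R, IsPrimitiveRoot ζ n := by
  haveI : NeZero (n : ResidueField R) := ⟨hn⟩
  obtain ⟨ζ₀, hζ₀⟩ := HasEnoughRootsOfUnity.exists_primitiveRoot (ResidueField R) n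
  obtain ⟨ζ, hζ, hres⟩ := exists_root_X_pow_sub_C R n hn 1 isUnit_one ζ₀
    (by rw [map_one]; exact hζ₀.pow_eq_one)
  refine ⟨ζ, (IsPrimitiveRoot.iff_def ζ n).mpr ⟨hζ, fun l hl => ?_⟩⟩
  apply hζ₀.dvd_of_pow_eq_one
  rw [← hres, ← map_pow, hl, map_one]

end Hens

/-- the residue field of an integral local extension of a local ring with algebraically closed
residue field is algebraically closed -/
theorem isAlgClosed_residueField_of_isIntegral (A B : Type u) [CommRing A] [IsLocalRing A]
    [CommRing B] [IsLocalRing B] [Algebra A B] [IsLocalHom (algebraMap A B)]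
    [Algebra.IsIntegral A B] [IsAlgClosed (ResidueField A)] : IsAlgClosed (ResidueField B) := by
  haveI : Algebra.IsAlgebraic (ResidueField A) (ResidueField B) :=
    StrictTensor.isAlgebraic_residueField A B
  haveI : Algebra.IsIntegral (ResidueField A) (ResidueField B) :=
    Algebra.IsAlgebraic.isIntegral
  have hbij := IsAlgClosed.algebraMap_bijective_of_isIntegral (k := ResidueField A)
    (K := ResidueField B)
  exact IsAlgClosed.of_ringEquiv (ResidueField A) (ResidueField B)
    (RingEquiv.ofBijective (algebraMap (ResidueField A) (ResidueField B)) hbij)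

end Groth.Agent.Lib.Helper12.Tame
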