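import Mathlib
import Groth.Agent.Lib.Helper12.TameA
import Groth.Agent.Lib.Helper12.HenselIntegralDomain
import Groth.Agent.Lib.Helper12.HenselIntegralLocal2

/-!
# A root of a tame Eisenstein polynomial over a henselian DVR with algebraically closed residue
field yields a root of the uniformizer (towards S16053)
-/

set_option autoImplicit false
set_option linter.style.haveILetI false
universe u

namespace Groth.Agent.Lib.Helper12.Tame

open IsLocalRing Polynomial

theorem exists_pow_eq_uniformizer (O : Type u) [CommRing O] [IsDomain O]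
    [IsDiscreteValuationRing O] [HenselianLocalRing O] [IsAlgClosed (ResidueField O)]
    (f : O[X]) (hmon : f.Monic) (hf : f.IsEisensteinAt (maximalIdeal O))
    (he : (f.natDegree : ResidueField O) ≠ 0) (ϖ : O) (hϖ : Irreducible ϖ)
    (L : Type u) [Field L] [Algebra O L] (α : L) (hα : aeval α f = 0) :
    ∃ β : L, β ^ f.natDegree = algebraMap O L ϖ := by
  classical
  set e := f.natDegree with hedef
  have he0 : e ≠ 0 := by
    intro h
    rw [h] at he
    simp at he
  let B := integralClosure O L
  haveI : Algebra.IsIntegral O B := inferInstance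
  haveI : IsLocalRing B := isLocalRing_of_isIntegral_of_isDomain O B
  haveI : HenselianLocalRing B := HensInt.henselianLocalRing_of_isIntegral O B
  haveI hloc : IsLocalHom (algebraMap O B) := HensInt.isLocalHom_of_isIntegral O B
  haveI : IsAlgClosed (ResidueField B) := isAlgClosed_residueField_of_isIntegral O B
  have heB : ((e : ℕ) : ResidueField B) ≠ 0 := by
    intro h
    apply he
    apply (algebraMap (ResidueField O) (ResidueField B)).injective
    rw [map_natCast, h, map_zero]
  -- the coefficients
  have hm : maximalIdeal O = Ideal.span {ϖ} := hϖ.maximalIdeal_eq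
  have hc : ∀ i, ∃ c, i < e → f.coeff i = ϖ * c := by
    intro i
    by_cases hi : i < e
    · have h1 := hf.mem hi
      rw [hm, Ideal.mem_span_singleton] at h1
      obtain ⟨c, hc⟩ := h1
      exact ⟨c, fun _ => hc⟩
    · exact ⟨0, fun h => absurd h hi⟩
  choose c hc using hc
  have hc0 : IsUnit (c 0) := by
    by_contra hnu
    have h1 : c 0 ∈ maximalIdeal O := hnu
    apply hf.notMem
    rw [hc 0 (Nat.pos_of_ne_zero he0), pow_two]
    exact Ideal.mul_mem_mul (hm ▸ Ideal.mem_span_singleton_self ϖ) h1
  -- the root in `B`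
  have hαint : IsIntegral O α := ⟨f, hmon, by rwa [← aeval_def]⟩
  let α' : B := ⟨α, hαint⟩
  have hα' : aeval α' f = 0 := by
    apply Subtype.val_injective
    have := Subalgebra.aeval_coe B α' f
    rw [← this]
    exact hα
  set ϖB := algebraMap O B ϖ with hϖB
  set v : B := ∑ i ∈ Finset.range e, algebraMap O B (c i) * α' ^ i with hv
  have heq : α' ^ e = -(ϖB * v) := by
    have h1 := congrArg (aeval α') hmon.as_sum
    rw [hα', map_add, map_pow, aeval_X, map_sum] at h1
    have h2 : ∑ i ∈ Finset.range f.natDegree, aeval α' (C (f.coeff i) * X ^ i) = ϖB * v := by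
      rw [hv, Finset.mul_sum]
      apply Finset.sum_congr rfl
      intro i hi
      rw [Finset.mem_range] at hi
      rw [map_mul, aeval_C, map_pow, aeval_X, hc i hi, map_mul]
      ring
    rw [h2] at h1
    exact eq_neg_of_add_eq_zero_left h1.symm
  have hϖm : ϖB ∈ maximalIdeal B := by
    have h1 : ϖ ∈ maximalIdeal O := hm ▸ Ideal.mem_span_singleton_self ϖ
    exact HensInt.map_maximalIdeal_le_of_isMaximal O B (maximalIdeal B)
      (Ideal.mem_map_of_mem _ h1)
  have hαm : α' ∈ maximalIdeal B := by
    have h1 : α' ^ e ∈ maximalIdeal B := by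
      rw [heq]
      exact neg_mem (Ideal.mul_mem_right _ _ hϖm)
    exact (maximalIdeal.isMaximal B).isPrime.mem_of_pow_mem e h1
  have hvunit : IsUnit v := by
    by_contra hnu
    have h1 : v ∈ maximalIdeal B := hnu
    obtain ⟨e', he'⟩ := Nat.exists_eq_succ_of_ne_zero he0
    have h2 : v = (∑ i ∈ Finset.range e', algebraMap O B (c (i + 1)) * α' ^ (i + 1)) +
        algebraMap O B (c 0) := by
      rw [hv, he', Finset.sum_range_succ', pow_zero, mul_one]
    have h3 : (∑ i ∈ Finset.range e', algebraMap O B (c (i + 1)) * α' ^ (i + 1)) ∈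
        maximalIdeal B := by
      apply Ideal.sum_mem
      intro i _
      rw [pow_succ]
      exact Ideal.mul_mem_left _ _ (Ideal.mul_mem_left _ _ hαm)
    have h4 : algebraMap O B (c 0) ∈ maximalIdeal B := by
      have : algebraMap O B (c 0) = v - ∑ i ∈ Finset.range e', algebraMap O B (c (i + 1)) *
          α' ^ (i + 1) := by rw [h2]; ring
      rw [this]
      exact sub_mem h1 h3
    exact h4 (hc0.map _)
  obtain ⟨w, hw⟩ := exists_pow_eq_of_isUnit B e heB (-v) hvunit.neg
  have hwunit : IsUnit w := by
    have : IsUnit (w ^ e) := hw ▸ hvunit.neg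
    exact (isUnit_pow_iff he0).mp this
  have hw0 : (w : L) ≠ 0 := by
    intro h
    have : w = 0 := Subtype.ext h
    rw [this] at hwunit
    exact not_isUnit_zero hwunit
  refine ⟨α / (w : L), ?_⟩
  have h1 : (α : L) ^ e = -((ϖB : L) * (v : L)) := by
    have := congrArg (Subtype.val : B → L) heq
    simpa using this
  have h2 : (w : L) ^ e = -(v : L) := by
    have := congrArg (Subtype.val : B → L) hw
    simpa using this
  have h3 : (ϖB : L) = algebraMap O L ϖ := rfl
  rw [div_pow, h1, h2, h3, neg_div_neg_eq, mul_div_assoc, div_self, mul_one]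
  intro hv0
  rw [hv0, neg_zero] at h2
  exact hw0 (pow_eq_zero_iff he0 |>.mp h2)

end Groth.Agent.Lib.Helper12.Tame
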