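import Mathlib
import Groth.Agent.Lib.Helper12.TameB

/-!
# The splitting field of a tame Eisenstein polynomial over a henselian DVR with algebraically
closed residue field is cyclic of degree `deg f` (S16053)
-/

set_option autoImplicit false
set_option linter.style.haveILetI false
universe u

namespace Groth.Agent.Lib.Helper12.Tame

open IsLocalRing Polynomial IntermediateField

section

variable (O : Type u) [CommRing O] [IsDomain O] [IsDiscreteValuationRing O]

theorem isEisensteinAt_X_pow_sub_C (ϖ : O) (hϖ : Irreducible ϖ) (e : ℕ) (he0 : e ≠ 0) :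
    (X ^ e - C ϖ : O[X]).IsEisensteinAt (maximalIdeal O) := by
  have hm : maximalIdeal O = Ideal.span {ϖ} := hϖ.maximalIdeal_eq
  have hϖm : ϖ ∈ maximalIdeal O := hm ▸ Ideal.mem_span_singleton_self ϖ
  have hmonic : (X ^ e - C ϖ : O[X]).Monic := monic_X_pow_sub_C ϖ he0
  have hdeg : (X ^ e - C ϖ : O[X]).natDegree = e := natDegree_X_pow_sub_C
  refine ⟨?_, ?_, ?_⟩
  · rw [hmonic.leadingCoeff]
    exact fun h => (maximalIdeal.isMaximal O).ne_top ((Ideal.eq_top_iff_one _).mpr h)
  · intro n hn
    rw [hdeg] at hn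
    rw [coeff_sub, coeff_X_pow, if_neg hn.ne, zero_sub, coeff_C]
    split_ifs
    · exact neg_mem hϖm
    · rw [neg_zero]; exact zero_mem _
  · rw [coeff_sub, coeff_X_pow, if_neg (Ne.symm he0), zero_sub, coeff_C_zero, hm,
      Ideal.span_singleton_pow, Ideal.mem_span_singleton]
    intro h
    rw [dvd_neg] at h
    obtain ⟨d, hd⟩ := h
    have h1 : ϖ * 1 = ϖ * (ϖ * d) := by rw [mul_one, ← mul_assoc, ← pow_two]; exact hd
    have h2 : 1 = ϖ * d := mul_left_cancel₀ hϖ.ne_zero h1
    exact hϖ.not_isUnit (IsUnit.of_mul_eq_one _ h2.symm)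

end

theorem main (O : Type u) [CommRing O] [IsDomain O] [IsDiscreteValuationRing O]
    [HenselianLocalRing O] [IsAlgClosed (ResidueField O)]
    (f : O[X]) (hmon : f.Monic) (hf : f.IsEisensteinAt (maximalIdeal O))
    (he : (f.natDegree : ResidueField O) ≠ 0) :
    Module.finrank (FractionRing O) (f.map (algebraMap O (FractionRing O))).SplittingField =
        f.natDegree ∧
      IsCyclic (f.map (algebraMap O (FractionRing O))).Gal := by
  classical
  set K := FractionRing O
  set e := f.natDegree with hedef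
  have he0 : e ≠ 0 := by
    intro h
    rw [h] at he
    simp at he
  set fK := f.map (algebraMap O K) with hfK
  have hirrO : Irreducible f :=
    hf.irreducible (maximalIdeal.isMaximal O).isPrime hmon.isPrimitive (Nat.pos_of_ne_zero he0)
  have hirr : Irreducible fK :=
    (hmon.irreducible_iff_irreducible_map_fraction_map (K := K)).mp hirrO
  haveI : Fact (Irreducible fK) := ⟨hirr⟩
  have hmonK : fK.Monic := hmon.map _
  have hdegK : fK.natDegree = e := hmon.natDegree_map _
  let L := AdjoinRoot fK
  let α : L := AdjoinRoot.root fK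
  have hαK : aeval α fK = 0 := by
    rw [AdjoinRoot.aeval_eq, AdjoinRoot.mk_self]
  have hα : aeval α f = 0 := by
    rw [← aeval_map_algebraMap K α f]
    exact hαK
  obtain ⟨ϖ, hϖ⟩ := IsDiscreteValuationRing.exists_irreducible O
  obtain ⟨β, hβ⟩ := exists_pow_eq_uniformizer O f hmon hf he ϖ hϖ L α hα
  haveI : FiniteDimensional K L := (AdjoinRoot.powerBasis hirr.ne_zero).finite
  have hfinrank : Module.finrank K L = e := by
    rw [(AdjoinRoot.powerBasis hirr.ne_zero).finrank, AdjoinRoot.powerBasis_dim, hdegK]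
  -- `β` generates
  have hgE := isEisensteinAt_X_pow_sub_C O ϖ hϖ e he0
  have hgmon : (X ^ e - C ϖ : O[X]).Monic := monic_X_pow_sub_C ϖ he0
  have hgirrO : Irreducible (X ^ e - C ϖ : O[X]) :=
    hgE.irreducible (maximalIdeal.isMaximal O).isPrime hgmon.isPrimitive
      (by rw [natDegree_X_pow_sub_C]; exact Nat.pos_of_ne_zero he0)
  have hgirr : Irreducible ((X ^ e - C ϖ : O[X]).map (algebraMap O K)) :=
    (hgmon.irreducible_iff_irreducible_map_fraction_map (K := K)).mp hgirrO
  have hβroot : aeval β ((X ^ e - C ϖ : O[X]).map (algebraMap O K)) = 0 := by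
    rw [aeval_map_algebraMap, map_sub, map_pow, aeval_X, aeval_C, hβ, sub_self]
  have hβint : IsIntegral K β := IsIntegral.of_finite K β
  have hminβ : minpoly K β = (X ^ e - C ϖ : O[X]).map (algebraMap O K) :=
    (minpoly.eq_of_irreducible_of_monic hgirr hβroot (hgmon.map _)).symm
  have hβtop : K⟮β⟯ = ⊤ := by
    apply IntermediateField.eq_of_le_of_finrank_eq le_top
    rw [IntermediateField.adjoin.finrank hβint, hminβ, hgmon.natDegree_map,
      natDegree_X_pow_sub_C, IntermediateField.finrank_top', hfinrank]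
  -- roots of unity
  obtain ⟨ζ, hζ⟩ := exists_isPrimitiveRoot O e he
  have hζK : IsPrimitiveRoot (algebraMap O K ζ) e :=
    hζ.map_of_injective (IsFractionRing.injective O K)
  have hK : (primitiveRoots (Module.finrank K L) K).Nonempty := by
    rw [hfinrank]
    exact ⟨_, (mem_primitiveRoots (Nat.pos_of_ne_zero he0)).mpr hζK⟩
  have hcyc : IsGalois K L ∧ IsCyclic Gal(L/K) := by
    have h3 : ∃ (α : L), α ^ (Module.finrank K L) ∈ Set.range (algebraMap K L) ∧ K⟮α⟯ = ⊤ := by
      refine ⟨β, ?_, hβtop⟩
      rw [hfinrank, hβ]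
      exact ⟨algebraMap O K ϖ, (IsScalarTower.algebraMap_apply O K L ϖ).symm⟩
    exact ((isCyclic_tfae K L hK).out 2 0).mp h3
  obtain ⟨hgal, hcyc'⟩ := hcyc
  -- `L` is a splitting field of `fK`
  haveI : Normal K L := inferInstance
  have hminα : minpoly K α = fK := by
    rw [AdjoinRoot.minpoly_root hirr.ne_zero, hmonK.leadingCoeff, inv_one, C_1, mul_one]
  haveI hsf : IsSplittingField K L fK := by
    refine ⟨?_, ?_⟩
    · have := Normal.splits (F := K) (K := L) inferInstance α
      rwa [hminα] at this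
    · rw [eq_top_iff, ← AdjoinRoot.adjoinRoot_eq_top (f := fK)]
      apply Algebra.adjoin_mono
      rw [Set.singleton_subset_iff, mem_rootSet_of_ne hirr.ne_zero]
      exact hαK
  let e' : L ≃ₐ[K] fK.SplittingField := IsSplittingField.algEquiv L fK
  refine ⟨?_, ?_⟩
  · rw [← e'.toLinearEquiv.finrank_eq, hfinrank]
  · haveI := hcyc'
    exact isCyclic_of_surjective (AlgEquiv.autCongr e').toMonoidHom (AlgEquiv.autCongr e').surjective

end Groth.Agent.Lib.Helper12.Tame
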