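import Mathlib
import Groth.Agent.Lib.Helper12.TameC

/-!
# The splitting field of a product of tame binomials `y^r - v ϖ^b` over a henselian DVR with
algebraically closed residue field (S16052)
-/

set_option autoImplicit false
set_option linter.style.haveILetI false
universe u

namespace Groth.Agent.Lib.Helper12.Tame

open IsLocalRing Polynomial IntermediateField

/-- the arithmetic behind the generation statement -/
theorem one_mem_of_lcm (H : AddSubgroup ℤ) (m : ℕ) (r b : Fin m → ℕ) (hr : ∀ i, 1 ≤ r i)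
    (hrb : ∀ i, Nat.Coprime (r i) (b i))
    (hN : ((Finset.univ.lcm r : ℕ) : ℤ) ∈ H)
    (hi : ∀ i, ((Finset.univ.lcm r / r i * b i : ℕ) : ℤ) ∈ H) : (1 : ℤ) ∈ H := by
  set N := Finset.univ.lcm r with hNdef
  have hN0 : N ≠ 0 := by
    rw [hNdef, Ne, Finset.lcm_eq_zero_iff]
    rintro ⟨i, -, hi0⟩
    have := hr i
    omega
  have hrN : ∀ i, r i ∣ N := fun i => Finset.dvd_lcm (Finset.mem_univ i)
  obtain ⟨d, rfl⟩ := Int.subgroup_cyclic H
  rw [AddSubgroup.mem_closure_singleton] at hN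
  obtain ⟨n₀, hn₀⟩ := hN
  have hdN : d ∣ (N : ℤ) := ⟨n₀, by rw [← hn₀, smul_eq_mul, mul_comm]⟩
  have hdu : ∀ i, d ∣ ((N / r i : ℕ) : ℤ) := by
    intro i
    have h1 := hi i
    rw [AddSubgroup.mem_closure_singleton] at h1
    obtain ⟨k, hk⟩ := h1
    have h2 : d ∣ ((N / r i * b i : ℕ) : ℤ) := ⟨k, by rw [← hk, smul_eq_mul, mul_comm]⟩
    have h3 : ((N / r i * r i : ℕ) : ℤ) = N := by rw [Nat.div_mul_cancel (hrN i)]
    obtain ⟨s, t, hst⟩ := Nat.isCoprime_iff_coprime.mpr (hrb i)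
    have h4 : ((N / r i : ℕ) : ℤ) = s * ((N / r i * r i : ℕ) : ℤ) + t * ((N / r i * b i : ℕ) : ℤ) := by
      generalize N / r i = u
      rw [Nat.cast_mul, Nat.cast_mul]
      calc (u : ℤ) = (u : ℤ) * (s * (r i : ℤ) + t * (b i : ℤ)) := by rw [hst, mul_one]
        _ = _ := by ring
    rw [h4, h3]
    exact dvd_add (Dvd.dvd.mul_left hdN s) (Dvd.dvd.mul_left h2 t)
  set d' := d.natAbs with hd'
  have hd'N : d' ∣ N := Int.natAbs_dvd_natAbs.mpr hdN
  have hd'u : ∀ i, d' ∣ N / r i := fun i => Int.natAbs_dvd_natAbs.mpr (hdu i)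
  have hd'0 : d' ≠ 0 := fun h => hN0 (Nat.eq_zero_of_zero_dvd (h ▸ hd'N))
  have hdiv : N ∣ N / d' := by
    rw [hNdef]
    apply Finset.lcm_dvd
    intro i _
    obtain ⟨k, hk⟩ := hd'u i
    refine ⟨k, ?_⟩
    have h1 : N = r i * (N / r i) := (Nat.mul_div_cancel' (hrN i)).symm
    have h2 : N = d' * (r i * k) := by rw [h1, hk]; ring
    rw [← hNdef, h2, Nat.mul_div_cancel_left _ (Nat.pos_of_ne_zero hd'0)]
  have hd'1 : d' = 1 := by
    by_contra hne
    have h2 : 2 ≤ d' := by omega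
    have hlt : N / d' < N := Nat.div_lt_self (Nat.pos_of_ne_zero hN0) h2
    have hpos : 0 < N / d' := Nat.div_pos (Nat.le_of_dvd (Nat.pos_of_ne_zero hN0) hd'N)
      (Nat.pos_of_ne_zero hd'0)
    exact absurd (Nat.le_of_dvd hpos hdiv) (not_le.mpr hlt)
  rw [AddSubgroup.mem_closure_singleton]
  rcases Int.natAbs_eq d with h | h
  · exact ⟨1, by rw [one_smul, h, ← hd', hd'1]; rfl⟩
  · exact ⟨-1, by rw [h, ← hd', hd'1]; simp⟩

end Groth.Agent.Lib.Helper12.Tame
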