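import Mathlib
import Groth.Agent.Lib.Helper12.TameD

/-!
# The splitting field of a product of tame binomials: field theory (S16052)
-/

set_option autoImplicit false
set_option linter.style.haveILetI false
universe u

namespace Groth.Agent.Lib.Helper12.Tame

open IsLocalRing Polynomial IntermediateField

theorem finrank_splittingField_prod (O : Type u) [CommRing O] [IsDomain O]
    [IsDiscreteValuationRing O] [HenselianLocalRing O] [IsAlgClosed (ResidueField O)]
    (ϖ : O) (hϖ : Irreducible ϖ) (m : ℕ) (r b : Fin m → ℕ) (v : Fin m → Oˣ)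
    (hr : ∀ i, 1 ≤ r i) (hrb : ∀ i, Nat.Coprime (r i) (b i))
    (hNκ : ((Finset.univ.lcm r : ℕ) : ResidueField O) ≠ 0) :
    Module.finrank (FractionRing O)
        (∏ i, (X ^ (r i) - C (algebraMap O (FractionRing O) ((v i : O) * ϖ ^ (b i))))).SplittingField =
      Finset.univ.lcm r := by
  classical
  set K := FractionRing O
  set N := Finset.univ.lcm r with hNdef
  have hN0 : N ≠ 0 := by
    intro h
    rw [h] at hNκ
    simp at hNκ
  have hrN : ∀ i, r i ∣ N := fun i => Finset.dvd_lcm (Finset.mem_univ i)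
  have hrκ : ∀ i, ((r i : ℕ) : ResidueField O) ≠ 0 := by
    intro i h
    obtain ⟨k, hk⟩ := hrN i
    apply hNκ
    rw [hk, Nat.cast_mul, h, zero_mul]
  -- the Kummer field
  have hgE := isEisensteinAt_X_pow_sub_C O ϖ hϖ N hN0
  have hgmon : (X ^ N - C ϖ : O[X]).Monic := monic_X_pow_sub_C ϖ hN0
  have hgirrO : Irreducible (X ^ N - C ϖ : O[X]) :=
    hgE.irreducible (maximalIdeal.isMaximal O).isPrime hgmon.isPrimitive
      (by rw [natDegree_X_pow_sub_C]; exact Nat.pos_of_ne_zero hN0)
  set gK := (X ^ N - C ϖ : O[X]).map (algebraMap O K) with hgK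
  have hgirr : Irreducible gK :=
    (hgmon.irreducible_iff_irreducible_map_fraction_map (K := K)).mp hgirrO
  haveI : Fact (Irreducible gK) := ⟨hgirr⟩
  let L := AdjoinRoot gK
  let π : L := AdjoinRoot.root gK
  have hπK : aeval π gK = 0 := by rw [AdjoinRoot.aeval_eq, AdjoinRoot.mk_self]
  have hπN : π ^ N = algebraMap O L ϖ := by
    have h1 : aeval π (X ^ N - C ϖ : O[X]) = 0 := by
      rw [← aeval_map_algebraMap K π]
      exact hπK
    rw [map_sub, map_pow, aeval_X, aeval_C, sub_eq_zero] at h1
    exact h1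
  have hinjOL : Function.Injective (algebraMap O L) := by
    rw [IsScalarTower.algebraMap_eq O K L]
    exact (algebraMap K L).injective.comp (IsFractionRing.injective O K)
  have hϖL : algebraMap O L ϖ ≠ 0 := by
    rw [Ne, ← map_zero (algebraMap O L)]
    exact fun h => hϖ.ne_zero (hinjOL h)
  have hπ0 : π ≠ 0 := by
    intro h
    rw [h, zero_pow hN0] at hπN
    exact hϖL hπN.symm
  haveI : FiniteDimensional K L := (AdjoinRoot.powerBasis hgirr.ne_zero).finite
  have hfinrank : Module.finrank K L = N := by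
    rw [(AdjoinRoot.powerBasis hgirr.ne_zero).finrank, AdjoinRoot.powerBasis_dim, hgK,
      hgmon.natDegree_map, natDegree_X_pow_sub_C]
  obtain ⟨ζ, hζ⟩ := exists_isPrimitiveRoot O N hNκ
  -- the polynomial
  set P : K[X] := ∏ i, (X ^ (r i) - C (algebraMap O K ((v i : O) * ϖ ^ (b i)))) with hP
  have hPmon : P.Monic := monic_prod_of_monic _ _ fun i _ =>
    monic_X_pow_sub_C _ (by have := hr i; omega)
  have hP0 : P ≠ 0 := hPmon.ne_zero
  -- roots of the factors
  have hw : ∀ i, ∃ w : O, w ^ (r i) = (v i : O) := fun i =>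
    exists_pow_eq_of_isUnit O (r i) (hrκ i) (v i) (v i).isUnit
  choose w hw using hw
  have hw0 : ∀ i, algebraMap O L (w i) ≠ 0 := by
    intro i h
    rw [← map_zero (algebraMap O L)] at h
    have h1 : w i = 0 := hinjOL h
    have h2 := hw i
    rw [h1, zero_pow (by have := hr i; omega)] at h2
    exact (v i).ne_zero h2.symm
  let ρ : Fin m → L := fun i => π ^ (N / r i)
  have hρ : ∀ i, ρ i ^ (r i) = algebraMap O L ϖ := by
    intro i
    show (π ^ (N / r i)) ^ (r i) = _
    rw [← pow_mul, Nat.div_mul_cancel (hrN i), hπN]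
  let x : Fin m → L := fun i => algebraMap O L (w i) * ρ i ^ (b i)
  have hx : ∀ i, x i ^ (r i) = algebraMap K L (algebraMap O K ((v i : O) * ϖ ^ (b i))) := by
    intro i
    show (algebraMap O L (w i) * ρ i ^ (b i)) ^ (r i) = _
    rw [mul_pow, ← map_pow, hw i, ← pow_mul, mul_comm (b i) (r i), pow_mul, hρ i,
      ← IsScalarTower.algebraMap_apply O K L, map_mul, map_pow]
  have hxroot : ∀ i, aeval (x i) P = 0 := by
    intro i
    rw [hP, map_prod]
    apply Finset.prod_eq_zero (Finset.mem_univ i)
    rw [map_sub, map_pow, aeval_X, aeval_C, hx i, sub_self]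
  -- splitting
  have hsplit : (P.map (algebraMap K L)).Splits := by
    rw [hP, Polynomial.map_prod]
    apply Splits.prod
    intro i _
    rw [Polynomial.map_sub, Polynomial.map_pow, map_X, map_C]
    have hζi : IsPrimitiveRoot (ζ ^ (N / r i)) (r i) :=
      hζ.pow (Nat.pos_of_ne_zero hN0) (Nat.div_mul_cancel (hrN i)).symm
    have hζL : IsPrimitiveRoot (algebraMap O L (ζ ^ (N / r i))) (r i) :=
      hζi.map_of_injective hinjOL
    exact X_pow_sub_C_splits_of_isPrimitiveRoot hζL (hx i)
  -- generation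
  let M : IntermediateField K L := IntermediateField.adjoin K (P.rootSet L)
  have hxM : ∀ i, x i ∈ M := fun i =>
    IntermediateField.subset_adjoin K _ ((mem_rootSet_of_ne hP0).mpr (hxroot i))
  have hOM : ∀ a : O, algebraMap O L a ∈ M := fun a => by
    rw [IsScalarTower.algebraMap_apply O K L]
    exact M.algebraMap_mem _
  have hρbM : ∀ i, ρ i ^ (b i) ∈ M := by
    intro i
    have h1 : ρ i ^ (b i) = (algebraMap O L (w i))⁻¹ * x i := by
      show _ = (algebraMap O L (w i))⁻¹ * (algebraMap O L (w i) * ρ i ^ (b i))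
      rw [← mul_assoc, inv_mul_cancel₀ (hw0 i), one_mul]
    rw [h1]
    exact M.mul_mem (M.inv_mem (hOM _)) (hxM i)
  let H : AddSubgroup ℤ :=
    { carrier := {n | π ^ n ∈ M}
      zero_mem' := by
        show π ^ (0 : ℤ) ∈ M
        rw [zpow_zero]
        exact M.one_mem
      add_mem' := by
        intro a c ha hc
        show π ^ (a + c) ∈ M
        rw [zpow_add₀ hπ0]
        exact M.mul_mem ha hc
      neg_mem' := by
        intro a ha
        show π ^ (-a) ∈ M
        rw [zpow_neg]
        exact M.inv_mem ha }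
  have hHmem : ∀ n : ℤ, n ∈ H ↔ π ^ n ∈ M := fun n => Iff.rfl
  have h1H : (1 : ℤ) ∈ H := by
    apply one_mem_of_lcm H m r b hr hrb
    · rw [hHmem, zpow_natCast, ← hNdef, hπN]
      exact hOM ϖ
    · intro i
      rw [hHmem, zpow_natCast, ← hNdef, pow_mul]
      exact hρbM i
  have hπM : π ∈ M := by
    have := (hHmem 1).mp h1H
    rwa [zpow_one] at this
  have hMtop : M = ⊤ := by
    rw [eq_top_iff]
    intro y _
    have h1 : y ∈ Algebra.adjoin K ({π} : Set L) := by
      rw [AdjoinRoot.adjoinRoot_eq_top]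
      exact Algebra.mem_top
    have h2 : Algebra.adjoin K ({π} : Set L) ≤ M.toSubalgebra :=
      Algebra.adjoin_le (Set.singleton_subset_iff.mpr hπM)
    exact h2 h1
  have hadj : Algebra.adjoin K (P.rootSet L) = ⊤ := by
    have h1 : M.toSubalgebra = Algebra.adjoin K (P.rootSet L) :=
      IntermediateField.adjoin_toSubalgebra_of_isAlgebraic
        (fun y _ => (IsIntegral.of_finite K y).isAlgebraic)
    rw [← h1, hMtop, IntermediateField.top_toSubalgebra]
  haveI hsf : IsSplittingField K L P := ⟨hsplit, hadj⟩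
  let e' : L ≃ₐ[K] P.SplittingField := IsSplittingField.algEquiv L P
  rw [← e'.toLinearEquiv.finrank_eq, hfinrank]

end Groth.Agent.Lib.Helper12.Tame
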