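import Groth.Agent.Lib.Helper12.TotalFrac

set_option autoImplicit false
universe u

/-!
# Total ring of fractions of a flat quasi-finite algebra over a reduced ring with finitely many
minimal primes
-/

namespace Groth.Agent.Lib.Helper12.TotalFrac

open scoped nonZeroDivisors

section
variable (A E : Type u) [CommRing A] [CommRing E] [Algebra A E] [Module.Flat A E]

theorem algebraMap_mem_nonZeroDivisors {a : A} (ha : a ∈ nonZeroDivisors A) :
    algebraMap A E a ∈ nonZeroDivisors E := by
  have hreg : IsSMulRegular E a := Module.Flat.isSMulRegular_of_nonZeroDivisors ha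
  rw [mem_nonZeroDivisors_iff_right]
  intro y hy
  apply hreg
  show a • y = a • (0 : E)
  rw [smul_zero, Algebra.smul_def, mul_comm, hy]

theorem isUnit_algebraMap {a : A} (ha : a ∈ nonZeroDivisors A) :
    IsUnit (algebraMap A (FractionRing E) a) := by
  rw [IsScalarTower.algebraMap_apply A E (FractionRing E)]
  exact IsLocalization.map_units (FractionRing E)
    (⟨_, algebraMap_mem_nonZeroDivisors A E ha⟩ : nonZeroDivisors E)

/-- The algebra structure of `K_E` over `K_A`. Not an instance. -/
noncomputable abbrev fracAlgebra : Algebra (FractionRing A) (FractionRing E) :=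
  (IsLocalization.lift (M := nonZeroDivisors A) (g := algebraMap A (FractionRing E))
    (fun y => isUnit_algebraMap A E y.2)).toAlgebra

theorem fracAlgebra_isScalarTower :
    letI := fracAlgebra A E
    IsScalarTower A (FractionRing A) (FractionRing E) := by
  letI := fracAlgebra A E
  refine IsScalarTower.of_algebraMap_eq fun a => ?_
  exact (IsLocalization.lift_eq (M := nonZeroDivisors A) (g := algebraMap A (FractionRing E))
    (fun y => isUnit_algebraMap A E y.2) a).symm

end

section
variable (A E : Type u) [CommRing A] [IsReduced A] (hmin : (minimalPrimes A).Finite)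
  [CommRing E] [Algebra A E] [Module.Flat A E] [Algebra.QuasiFinite A E]

include hmin

theorem finite_fractionRing :
    letI := fracAlgebra A E
    Module.Finite (FractionRing A) (FractionRing E) := by
  letI := fracAlgebra A E
  haveI := fracAlgebra_isScalarTower A E
  haveI := isArtinianRing_fractionRing hmin
  haveI : Algebra.QuasiFinite A (FractionRing E) := Algebra.QuasiFinite.trans A E (FractionRing E)
  haveI : Algebra.QuasiFinite (FractionRing A) (FractionRing E) :=
    Algebra.QuasiFinite.of_restrictScalars A (FractionRing A) (FractionRing E)
  exact Module.Finite.of_quasiFinite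

/-- `K_E` is spanned over `A`, up to nonzerodivisors of `A`, by a finite set. -/
theorem exists_finset_span :
    ∃ t : Finset (FractionRing E), ∀ x : FractionRing E, ∃ a ∈ nonZeroDivisors A,
      algebraMap A (FractionRing E) a * x ∈ Submodule.span A (t : Set (FractionRing E)) := by
  letI := fracAlgebra A E
  haveI := fracAlgebra_isScalarTower A E
  haveI := finite_fractionRing A E hmin
  obtain ⟨t, ht⟩ := (Module.finite_def (R := FractionRing A) (M := FractionRing E)).mp inferInstance
  refine ⟨t, fun x => ?_⟩
  have hx : x ∈ Submodule.span (FractionRing A) (t : Set (FractionRing E)) := by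
    rw [ht]; trivial
  induction hx using Submodule.span_induction with
  | mem y hy =>
    exact ⟨1, one_mem _, by rw [map_one, one_mul]; exact Submodule.subset_span hy⟩
  | zero => exact ⟨1, one_mem _, by rw [mul_zero]; exact Submodule.zero_mem _⟩
  | add y z _ _ hy hz =>
    obtain ⟨a, ha, hay⟩ := hy
    obtain ⟨b, hb, hbz⟩ := hz
    refine ⟨a * b, mul_mem ha hb, ?_⟩
    have : algebraMap A (FractionRing E) (a * b) * (y + z) =
        b • (algebraMap A (FractionRing E) a * y) + a • (algebraMap A (FractionRing E) b * z) := by
      rw [Algebra.smul_def, Algebra.smul_def, map_mul]; ring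
    rw [this]
    exact Submodule.add_mem _ (Submodule.smul_mem _ _ hay) (Submodule.smul_mem _ _ hbz)
  | smul c y _ hy =>
    obtain ⟨a, ha, hay⟩ := hy
    obtain ⟨r, s, rfl⟩ := IsLocalization.exists_mk'_eq (nonZeroDivisors A) c
    refine ⟨s * a, mul_mem s.2 ha, ?_⟩
    have h1 : algebraMap (FractionRing A) (FractionRing E)
        (IsLocalization.mk' (FractionRing A) r s) * algebraMap A (FractionRing E) s =
        algebraMap A (FractionRing E) r := by
      rw [IsScalarTower.algebraMap_apply A (FractionRing A) (FractionRing E),
        IsScalarTower.algebraMap_apply A (FractionRing A) (FractionRing E), ← map_mul,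
        IsLocalization.mk'_spec]
    have : algebraMap A (FractionRing E) (s * a) * (IsLocalization.mk' (FractionRing A) r s • y) =
        r • (algebraMap A (FractionRing E) a * y) := by
      rw [Algebra.smul_def, Algebra.smul_def, ← h1, map_mul]; ring
    rw [this]
    exact Submodule.smul_mem _ _ hay

end

end Groth.Agent.Lib.Helper12.TotalFrac
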