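import Groth.Agent.Lib.Helper12.TotalFrac2

set_option autoImplicit false
universe u

namespace Groth.Agent.Lib.Helper12.TotalFrac

open scoped nonZeroDivisors

section
variable (A E : Type u) [CommRing A] [CommRing E] [Algebra A E] [Module.Flat A E]

/-- The `K_A`-subalgebra `K_A · E` of `K_E`. -/
noncomputable def fracSub :
    letI := fracAlgebra A E
    Subalgebra (FractionRing A) (FractionRing E) :=
  letI := fracAlgebra A E
  haveI := fracAlgebra_isScalarTower A E
  { carrier := {z | ∃ a ∈ nonZeroDivisors A, ∃ e : E,
      algebraMap A (FractionRing E) a * z = algebraMap E (FractionRing E) e}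
    mul_mem' := by
      rintro z₁ z₂ ⟨a₁, ha₁, e₁, h₁⟩ ⟨a₂, ha₂, e₂, h₂⟩
      refine ⟨a₁ * a₂, mul_mem ha₁ ha₂, e₁ * e₂, ?_⟩
      rw [map_mul, map_mul, ← h₁, ← h₂]; ring
    add_mem' := by
      rintro z₁ z₂ ⟨a₁, ha₁, e₁, h₁⟩ ⟨a₂, ha₂, e₂, h₂⟩
      refine ⟨a₁ * a₂, mul_mem ha₁ ha₂, algebraMap A E a₂ * e₁ + algebraMap A E a₁ * e₂, ?_⟩
      rw [map_mul, map_add, map_mul, map_mul, ← h₁, ← h₂,
        ← IsScalarTower.algebraMap_apply A E (FractionRing E),
        ← IsScalarTower.algebraMap_apply A E (FractionRing E)]
      ring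
    algebraMap_mem' := by
      intro c
      obtain ⟨r, s, rfl⟩ := IsLocalization.exists_mk'_eq (nonZeroDivisors A) c
      refine ⟨s, s.2, algebraMap A E r, ?_⟩
      rw [IsScalarTower.algebraMap_apply A (FractionRing A) (FractionRing E), ← map_mul,
        mul_comm, IsLocalization.mk'_spec,
        ← IsScalarTower.algebraMap_apply A (FractionRing A) (FractionRing E),
        ← IsScalarTower.algebraMap_apply A E (FractionRing E)] }

theorem mem_fracSub (z : FractionRing E) :
    letI := fracAlgebra A E
    z ∈ fracSub A E ↔ ∃ a ∈ nonZeroDivisors A, ∃ e : E,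
      algebraMap A (FractionRing E) a * z = algebraMap E (FractionRing E) e := Iff.rfl

end

section
variable (A E : Type u) [CommRing A] [IsReduced A] (hmin : (minimalPrimes A).Finite)
  [CommRing E] [Algebra A E] [Module.Flat A E] [Algebra.QuasiFinite A E]

include hmin

/-- Every nonzerodivisor of `E` divides (the image of) a nonzerodivisor of `A`. -/
theorem exists_mul_eq_algebraMap {d : E} (hd : d ∈ nonZeroDivisors E) :
    ∃ e' : E, ∃ a ∈ nonZeroDivisors A, d * e' = algebraMap A E a := by
  letI := fracAlgebra A E
  haveI := fracAlgebra_isScalarTower A E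
  haveI := finite_fractionRing A E hmin
  haveI := isArtinianRing_fractionRing hmin
  let F := fracSub A E
  haveI : Module.Finite (FractionRing A) F := by
    haveI : IsNoetherian (FractionRing A) (FractionRing E) := isNoetherian_of_isNoetherianRing_of_finite _ _
    exact Module.Finite.of_injective (Subalgebra.val F).toLinearMap Subtype.val_injective
  haveI : IsArtinianRing F := IsArtinianRing.of_finite (FractionRing A) F
  have hdu : IsUnit (algebraMap E (FractionRing E) d) :=
    IsLocalization.map_units (FractionRing E) (⟨d, hd⟩ : nonZeroDivisors E)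
  have hdF : algebraMap E (FractionRing E) d ∈ F :=
    ⟨1, one_mem _, d, by rw [map_one, one_mul]⟩
  have hnz : (⟨_, hdF⟩ : F) ∈ nonZeroDivisors F := by
    rw [mem_nonZeroDivisors_iff_right]
    intro y hy
    have h1 : (y : FractionRing E) * algebraMap E (FractionRing E) d = 0 :=
      congrArg Subtype.val hy
    have h2 : (y : FractionRing E) = 0 := hdu.mul_left_eq_zero.mp h1
    exact Subtype.ext h2
  obtain ⟨f, hf⟩ := (IsArtinianRing.isUnit_of_mem_nonZeroDivisors hnz).exists_right_inv
  have hf' : algebraMap E (FractionRing E) d * (f : FractionRing E) = 1 :=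
    congrArg Subtype.val hf
  obtain ⟨a, ha, e', he'⟩ := f.2
  refine ⟨e', a, ha, ?_⟩
  apply IsFractionRing.injective E (FractionRing E)
  rw [map_mul, ← he', ← IsScalarTower.algebraMap_apply A E (FractionRing E)]
  calc algebraMap E (FractionRing E) d * (algebraMap A (FractionRing E) a * (f : FractionRing E))
      = algebraMap A (FractionRing E) a *
          (algebraMap E (FractionRing E) d * (f : FractionRing E)) := by ring
    _ = algebraMap A (FractionRing E) a := by rw [hf', mul_one]

/-- `K_E` is the localization of `E` at the image of the nonzerodivisors of `A`. -/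
theorem isLocalization_map_nonZeroDivisors :
    IsLocalization ((nonZeroDivisors A).map (algebraMap A E)) (FractionRing E) := by
  constructor; constructor
  · rintro ⟨y, a, ha, rfl⟩
    exact IsLocalization.map_units (FractionRing E)
      (⟨_, algebraMap_mem_nonZeroDivisors A E ha⟩ : nonZeroDivisors E)
  · intro z
    obtain ⟨e₀, d, rfl⟩ := IsLocalization.exists_mk'_eq (nonZeroDivisors E) z
    obtain ⟨e', a, ha, hda⟩ := exists_mul_eq_algebraMap A E hmin d.2
    refine ⟨(e₀ * e', ⟨algebraMap A E a, a, ha, rfl⟩), ?_⟩
    show IsLocalization.mk' (FractionRing E) e₀ d * algebraMap E (FractionRing E) (algebraMap A E a) =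
      algebraMap E (FractionRing E) (e₀ * e')
    rw [← hda, map_mul, ← mul_assoc, IsLocalization.mk'_spec, map_mul]
  · intro x y hxy
    refine ⟨1, ?_⟩
    have := IsFractionRing.injective E (FractionRing E) hxy
    rw [this]

end

end Groth.Agent.Lib.Helper12.TotalFrac
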