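import Groth.Agent.Lib.Helper12.TotalFrac3

set_option autoImplicit false
universe u

namespace Groth.Agent.Lib.Helper12.TotalFrac

open scoped nonZeroDivisors

section
variable (A E : Type u) [CommRing A] [IsReduced A] (hmin : (minimalPrimes A).Finite)
  [CommRing E] [Algebra A E] [Module.Flat A E] [Algebra.QuasiFinite A E]

include hmin

/-- A `K_A`-subalgebra of `K_E` is closed under inverses of units of `K_E`. -/
theorem exists_inv_mem_subalgebra
    (F : letI := fracAlgebra A E; Subalgebra (FractionRing A) (FractionRing E))
    {x : FractionRing E} (hxF : x ∈ F) (hx : IsUnit x) : ∃ y ∈ F, x * y = 1 := by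
  letI := fracAlgebra A E
  haveI := fracAlgebra_isScalarTower A E
  haveI := finite_fractionRing A E hmin
  haveI := isArtinianRing_fractionRing hmin
  haveI : Module.Finite (FractionRing A) F := by
    haveI : IsNoetherian (FractionRing A) (FractionRing E) :=
      isNoetherian_of_isNoetherianRing_of_finite _ _
    exact Module.Finite.of_injective (Subalgebra.val F).toLinearMap Subtype.val_injective
  haveI : IsArtinianRing F := IsArtinianRing.of_finite (FractionRing A) F
  have hnz : (⟨x, hxF⟩ : F) ∈ nonZeroDivisors F := by
    rw [mem_nonZeroDivisors_iff_right]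
    intro y hy
    have h1 : (y : FractionRing E) * x = 0 := congrArg Subtype.val hy
    exact Subtype.ext (hx.mul_left_eq_zero.mp h1)
  obtain ⟨f, hf⟩ := (IsArtinianRing.isUnit_of_mem_nonZeroDivisors hnz).exists_right_inv
  exact ⟨f, f.2, congrArg Subtype.val hf⟩

/-- An `A`-subalgebra of `K_E` containing inverses of all nonzerodivisors of `A` is closed under
inverses of units of `K_E`. -/
theorem exists_inv_mem_of_forall_inv (L : Subalgebra A (FractionRing E))
    (hL : ∀ s ∈ nonZeroDivisors A, ∃ y ∈ L, algebraMap A (FractionRing E) s * y = 1)
    {x : FractionRing E} (hxL : x ∈ L) (hx : IsUnit x) : ∃ y ∈ L, x * y = 1 := by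
  letI := fracAlgebra A E
  haveI := fracAlgebra_isScalarTower A E
  let F : Subalgebra (FractionRing A) (FractionRing E) :=
    { L.toSubsemiring with
      algebraMap_mem' := by
        intro c
        obtain ⟨r, s, rfl⟩ := IsLocalization.exists_mk'_eq (nonZeroDivisors A) c
        obtain ⟨y, hy, hsy⟩ := hL s s.2
        have h1 : algebraMap (FractionRing A) (FractionRing E)
            (IsLocalization.mk' (FractionRing A) r s) * algebraMap A (FractionRing E) s =
            algebraMap A (FractionRing E) r := by
          rw [IsScalarTower.algebraMap_apply A (FractionRing A) (FractionRing E),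
            IsScalarTower.algebraMap_apply A (FractionRing A) (FractionRing E), ← map_mul,
            IsLocalization.mk'_spec]
        have h2 : algebraMap (FractionRing A) (FractionRing E)
            (IsLocalization.mk' (FractionRing A) r s) = algebraMap A (FractionRing E) r * y := by
          calc _ = algebraMap (FractionRing A) (FractionRing E)
                (IsLocalization.mk' (FractionRing A) r s) *
                (algebraMap A (FractionRing E) s * y) := by rw [hsy, mul_one]
            _ = _ := by rw [← mul_assoc, h1]
        show _ ∈ L
        rw [h2]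
        exact L.mul_mem (L.algebraMap_mem r) hy }
  obtain ⟨y, hy, hxy⟩ := exists_inv_mem_subalgebra A E hmin F (x := x) hxL hx
  exact ⟨y, hy, hxy⟩

end

end Groth.Agent.Lib.Helper12.TotalFrac
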