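import Groth.Agent.Lib.Helper12.TotalFrac4

set_option autoImplicit false
universe u

namespace Groth.Agent.Lib.Helper12.TotalFrac

open scoped nonZeroDivisors

section
variable (A E : Type u) [CommRing A] [CommRing E] [Algebra A E] [Module.Flat A E]
variable {D : Type u} [CommRing D] [Algebra A D] (j : D →ₐ[A] E)

/-- The `K_A`-subalgebra `K_A · j(D)` of `K_E`. -/
noncomputable def fracSubOf :
    letI := fracAlgebra A E
    Subalgebra (FractionRing A) (FractionRing E) :=
  letI := fracAlgebra A E
  haveI := fracAlgebra_isScalarTower A E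
  { carrier := {z | ∃ a ∈ nonZeroDivisors A, ∃ d : D,
      algebraMap A (FractionRing E) a * z = algebraMap E (FractionRing E) (j d)}
    mul_mem' := by
      rintro z₁ z₂ ⟨a₁, ha₁, e₁, h₁⟩ ⟨a₂, ha₂, e₂, h₂⟩
      refine ⟨a₁ * a₂, mul_mem ha₁ ha₂, e₁ * e₂, ?_⟩
      rw [map_mul, map_mul, map_mul, ← h₁, ← h₂]; ring
    add_mem' := by
      rintro z₁ z₂ ⟨a₁, ha₁, e₁, h₁⟩ ⟨a₂, ha₂, e₂, h₂⟩
      refine ⟨a₁ * a₂, mul_mem ha₁ ha₂, algebraMap A D a₂ * e₁ + algebraMap A D a₁ * e₂, ?_⟩
      rw [map_mul, map_add, map_mul, map_mul, map_add, map_mul, map_mul, ← h₁, ← h₂,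
        j.commutes, j.commutes,
        ← IsScalarTower.algebraMap_apply A E (FractionRing E),
        ← IsScalarTower.algebraMap_apply A E (FractionRing E)]
      ring
    algebraMap_mem' := by
      intro c
      obtain ⟨r, s, rfl⟩ := IsLocalization.exists_mk'_eq (nonZeroDivisors A) c
      refine ⟨s, s.2, algebraMap A D r, ?_⟩
      rw [IsScalarTower.algebraMap_apply A (FractionRing A) (FractionRing E), ← map_mul,
        mul_comm, IsLocalization.mk'_spec, j.commutes,
        ← IsScalarTower.algebraMap_apply A (FractionRing A) (FractionRing E),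
        ← IsScalarTower.algebraMap_apply A E (FractionRing E)] }

theorem mem_fracSubOf (z : FractionRing E) :
    letI := fracAlgebra A E
    z ∈ fracSubOf A E j ↔ ∃ a ∈ nonZeroDivisors A, ∃ d : D,
      algebraMap A (FractionRing E) a * z = algebraMap E (FractionRing E) (j d) := Iff.rfl

theorem algebraMap_mem_fracSubOf (d : D) :
    letI := fracAlgebra A E
    algebraMap E (FractionRing E) (j d) ∈ fracSubOf A E j :=
  ⟨1, one_mem _, d, by rw [map_one, one_mul]⟩

/-- Elements of the `K_A`-span of a set are, up to a nonzerodivisor of `A`, in the `A`-span. -/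
theorem exists_mul_mem_span (T : Set (FractionRing E)) (w : FractionRing E)
    (hw : letI := fracAlgebra A E; w ∈ Submodule.span (FractionRing A) T) :
    ∃ b ∈ nonZeroDivisors A, algebraMap A (FractionRing E) b * w ∈ Submodule.span A T := by
  letI := fracAlgebra A E
  haveI := fracAlgebra_isScalarTower A E
  induction hw using Submodule.span_induction with
  | mem y hy =>
    exact ⟨1, one_mem _, by rw [map_one, one_mul]; exact Submodule.subset_span hy⟩
  | zero => exact ⟨1, one_mem _, by rw [mul_zero]; exact Submodule.zero_mem _⟩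
  | add y z _ _ hy hz =>
    obtain ⟨a, ha, hay⟩ := hy
    obtain ⟨b, hb, hbz⟩ := hz
    refine ⟨a * b, mul_mem ha hb, ?_⟩
    have : algebraMap A (FractionRing E) (a * b) * (y + z) =
        b • (algebraMap A (FractionRing E) a * y) + a • (algebraMap A (FractionRing E) b * z) := by
      rw [Algebra.smul_def, Algebra.smul_def, map_mul]; ring
    rw [this]
    exact Submodule.add_mem _ (Submodule.smul_mem _ _ hay) (Submodule.smul_mem _ _ hbz)
  | smul c y _ hy =>
    obtain ⟨a, ha, hay⟩ := hy
    obtain ⟨r, s, rfl⟩ := IsLocalization.exists_mk'_eq (nonZeroDivisors A) c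
    refine ⟨s * a, mul_mem s.2 ha, ?_⟩
    have h1 : algebraMap (FractionRing A) (FractionRing E)
        (IsLocalization.mk' (FractionRing A) r s) * algebraMap A (FractionRing E) s =
        algebraMap A (FractionRing E) r := by
      rw [IsScalarTower.algebraMap_apply A (FractionRing A) (FractionRing E),
        IsScalarTower.algebraMap_apply A (FractionRing A) (FractionRing E), ← map_mul,
        IsLocalization.mk'_spec]
    have : algebraMap A (FractionRing E) (s * a) * (IsLocalization.mk' (FractionRing A) r s • y) =
        r • (algebraMap A (FractionRing E) a * y) := by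
      rw [Algebra.smul_def, Algebra.smul_def, ← h1, map_mul]; ring
    rw [this]
    exact Submodule.smul_mem _ _ hay

end

section
variable (A E : Type u) [CommRing A] [IsReduced A] (hmin : (minimalPrimes A).Finite)
  [CommRing E] [Algebra A E] [Module.Flat A E] [Algebra.QuasiFinite A E]
variable {D : Type u} [CommRing D] [Algebra A D] (j : D →ₐ[A] E)

include hmin

/-- If `j : D → E` is injective then every nonzerodivisor of `D` divides (the image of) a
nonzerodivisor of `A`. -/
theorem exists_mul_eq_algebraMap_of_injective (hj : Function.Injective j) {m : D}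
    (hm : m ∈ nonZeroDivisors D) : ∃ d' : D, ∃ a ∈ nonZeroDivisors A, m * d' = algebraMap A D a := by
  letI := fracAlgebra A E
  haveI := fracAlgebra_isScalarTower A E
  haveI := finite_fractionRing A E hmin
  haveI := isArtinianRing_fractionRing hmin
  let F := fracSubOf A E j
  haveI : Module.Finite (FractionRing A) F := by
    haveI : IsNoetherian (FractionRing A) (FractionRing E) :=
      isNoetherian_of_isNoetherianRing_of_finite _ _
    exact Module.Finite.of_injective (Subalgebra.val F).toLinearMap Subtype.val_injective
  haveI : IsArtinianRing F := IsArtinianRing.of_finite (FractionRing A) F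
  have hmF : algebraMap E (FractionRing E) (j m) ∈ F := algebraMap_mem_fracSubOf A E j m
  have hnz : (⟨_, hmF⟩ : F) ∈ nonZeroDivisors F := by
    rw [mem_nonZeroDivisors_iff_right]
    rintro ⟨y, a, ha, d, hd⟩ hy
    have h1 : y * algebraMap E (FractionRing E) (j m) = 0 := congrArg Subtype.val hy
    have h2 : algebraMap E (FractionRing E) (j (d * m)) = 0 := by
      rw [map_mul, map_mul, ← hd, mul_assoc, h1, mul_zero]
    have h3 : d * m = 0 := by
      apply hj
      rw [map_zero]
      exact IsFractionRing.injective E (FractionRing E) (by rw [h2, map_zero])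
    have h4 : d = 0 := (mem_nonZeroDivisors_iff_right.mp hm) d h3
    rw [h4, map_zero, map_zero] at hd
    have h5 : y = 0 := (isUnit_algebraMap A E ha).mul_right_eq_zero.mp hd
    exact Subtype.ext h5
  obtain ⟨f, hf⟩ := (IsArtinianRing.isUnit_of_mem_nonZeroDivisors hnz).exists_right_inv
  have hf' : algebraMap E (FractionRing E) (j m) * (f : FractionRing E) = 1 :=
    congrArg Subtype.val hf
  obtain ⟨a, ha, d', hd'⟩ := f.2
  refine ⟨d', a, ha, ?_⟩
  apply hj
  apply IsFractionRing.injective E (FractionRing E)
  rw [map_mul, map_mul, ← hd', j.commutes, ← IsScalarTower.algebraMap_apply A E (FractionRing E)]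
  calc algebraMap E (FractionRing E) (j m) * (algebraMap A (FractionRing E) a * (f : FractionRing E))
      = algebraMap A (FractionRing E) a *
          (algebraMap E (FractionRing E) (j m) * (f : FractionRing E)) := by ring
    _ = algebraMap A (FractionRing E) a := by rw [hf', mul_one]

/-- Finite generation of `K_D` over `K_A`, in elementwise form. -/
theorem exists_finset_of_injective (hj : Function.Injective j) :
    ∃ t : Finset D, ∀ d m : D, m ∈ nonZeroDivisors D → ∃ a ∈ nonZeroDivisors A,
      ∃ c ∈ Submodule.span A (t : Set D), algebraMap A D a * d = m * c := by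
  classical
  letI := fracAlgebra A E
  haveI := fracAlgebra_isScalarTower A E
  haveI := finite_fractionRing A E hmin
  haveI := isArtinianRing_fractionRing hmin
  haveI : IsNoetherian (FractionRing A) (FractionRing E) :=
    isNoetherian_of_isNoetherianRing_of_finite _ _
  let g : D → FractionRing E := fun d => algebraMap E (FractionRing E) (j d)
  have hfg : (Submodule.span (FractionRing A) (Set.range g)).FG := IsNoetherian.noetherian _
  obtain ⟨t', ht', hspan⟩ := (Submodule.fg_span_iff_fg_span_finset_subset _).mp hfg
  -- choose preimages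
  have hpre : ∀ z ∈ t', ∃ d : D, g d = z := fun z hz => ht' hz
  choose! pre hpre' using hpre
  let t : Finset D := t'.image pre
  have hgt : (t' : Set (FractionRing E)) ⊆ g '' (t : Set D) := by
    intro z hz
    exact ⟨pre z, Finset.mem_coe.mpr (Finset.mem_image_of_mem pre hz), hpre' z hz⟩
  have hginj : Function.Injective g := fun x y hxy =>
    hj (IsFractionRing.injective E (FractionRing E) hxy)
  -- `g` as an `A`-linear map
  let gl : D →ₗ[A] FractionRing E :=
    ((IsScalarTower.toAlgHom A E (FractionRing E)).comp j).toLinearMap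
  have hgl : ∀ d, gl d = g d := fun d => rfl
  refine ⟨t, fun d m hm => ?_⟩
  obtain ⟨d', a₀, ha₀, hmd'⟩ := exists_mul_eq_algebraMap_of_injective A E hmin j hj hm
  have hw : g (d * d') ∈ Submodule.span (FractionRing A) (t' : Set (FractionRing E)) := by
    rw [← hspan]; exact Submodule.subset_span ⟨_, rfl⟩
  obtain ⟨b, hb, hbw⟩ := exists_mul_mem_span A E _ _ hw
  have hbw' : algebraMap A (FractionRing E) b * g (d * d') ∈
      Submodule.span A (g '' (t : Set D)) := Submodule.span_mono hgt hbw
  have himg : Submodule.span A (g '' (t : Set D)) = (Submodule.span A (t : Set D)).map gl := by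
    rw [Submodule.map_span]; rfl
  rw [himg] at hbw'
  obtain ⟨c, hc, hcg⟩ := hbw'
  have hc' : algebraMap A D b * (d * d') = c := by
    apply hginj
    rw [← hgl c, hcg]
    show algebraMap E (FractionRing E) (j (algebraMap A D b * (d * d'))) = _
    rw [map_mul, map_mul, j.commutes, ← IsScalarTower.algebraMap_apply A E (FractionRing E)]
  refine ⟨b * a₀, mul_mem hb ha₀, c, hc, ?_⟩
  rw [← hc', map_mul, ← hmd']
  ring

end

end Groth.Agent.Lib.Helper12.TotalFrac
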