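import Groth.Agent.Lib.Helper12.TotalFrac5

set_option autoImplicit false
universe u

namespace Groth.Agent.Lib.Helper12.TotalFrac

open scoped nonZeroDivisors

variable (A E : Type u) [CommRing A] [IsReduced A] (hmin : (minimalPrimes A).Finite)
  [CommRing E] [Algebra A E] [Module.Flat A E] [Algebra.QuasiFinite A E]

include hmin

/-- A zero divisor `m` of `E` is killed by a nonzero element of `A[m]`. -/
theorem exists_ne_zero_mul_eq_zero {m : E} (hm : m ∉ nonZeroDivisors E) :
    ∃ d ∈ Algebra.adjoin A {m}, d ≠ 0 ∧ m * d = 0 := by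
  let D' : Subalgebra A E := Algebra.adjoin A {m}
  let m' : D' := ⟨m, Algebra.self_mem_adjoin_singleton A m⟩
  have hm' : m' ∉ nonZeroDivisors D' := by
    intro h
    obtain ⟨d', a, ha, hd'⟩ := exists_mul_eq_algebraMap_of_injective A E hmin D'.val
      Subtype.val_injective h
    apply hm
    rw [mem_nonZeroDivisors_iff_right]
    intro e he
    have h1 : m * (d' : E) = algebraMap A E a := congrArg Subtype.val hd'
    have h2 : e * algebraMap A E a = 0 := by
      rw [← h1, ← mul_assoc, he, zero_mul]
    exact (mem_nonZeroDivisors_iff_right.mp (algebraMap_mem_nonZeroDivisors A E ha)) e h2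
  rw [mem_nonZeroDivisors_iff_right] at hm'
  push_neg at hm'
  obtain ⟨d, hd0, hdne⟩ := hm'
  refine ⟨d, d.2, fun h => hdne (Subtype.ext h), ?_⟩
  have : (d : E) * m = 0 := congrArg Subtype.val hd0
  rw [mul_comm]; exact this

end Groth.Agent.Lib.Helper12.TotalFrac
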