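import Mathlib.RingTheory.Flat.EquationalCriterion
import Mathlib.RingTheory.Ideal.Quotient.Operations
import Mathlib.Algebra.MvPolynomial.Equiv
import Mathlib.RingTheory.AdjoinRoot
import Mathlib.RingTheory.Polynomial.Quotient

/-!
# Triangular presentations are flat: preliminaries

* quotient of an algebra by a directed union of ideals with flat quotients is flat.
-/

set_option autoImplicit false
universe u v

namespace Groth.Agent.Lib.Helper12.TriFlat

section DirectedSup

variable {A : Type u} [CommRing A] {R : Type u} [CommRing R] [Algebra A R]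

/-- If the quotients `R ⧸ I i` are flat over `A` for a directed family of ideals, then so is the
quotient by their union. -/
theorem flat_quotient_iSup {ι : Type*} [Nonempty ι] (I : ι → Ideal R)
    (hdir : Directed (· ≤ ·) I) (h : ∀ i, Module.Flat A (R ⧸ I i)) :
    Module.Flat A (R ⧸ ⨆ i, I i) := by
  classical
  rw [Module.Flat.iff_forall_isTrivialRelation]
  intro l f x hfx
  -- lift the `x i`
  have hex : ∀ j, ∃ r : R, Ideal.Quotient.mk (⨆ i, I i) r = x j :=
    fun j => Ideal.Quotient.mk_surjective (x j)
  choose r hr using hex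
  have hmem : ∑ j, f j • r j ∈ ⨆ i, I i := by
    rw [← Ideal.Quotient.eq_zero_iff_mem, map_sum, ← hfx]
    refine Finset.sum_congr rfl fun j _ => ?_
    rw [Algebra.smul_def, map_mul, ← hr j, Algebra.smul_def]
    rfl
  obtain ⟨i, hi⟩ := (Submodule.mem_iSup_of_directed I hdir).mp hmem
  have hrel : ∑ j, f j • (Ideal.Quotient.mk (I i) (r j)) = 0 := by
    have : ∑ j, f j • (Ideal.Quotient.mk (I i) (r j)) =
        Ideal.Quotient.mk (I i) (∑ j, f j • r j) := by
      rw [map_sum]
      refine Finset.sum_congr rfl fun j _ => ?_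
      rw [Algebra.smul_def, Algebra.smul_def, map_mul]
      rfl
    rw [this, Ideal.Quotient.eq_zero_iff_mem]
    exact hi
  obtain ⟨k, a, y, hx, ha⟩ := (h i).isTrivialRelation_of_sum_smul_eq_zero hrel
  have hle : I i ≤ ⨆ i, I i := le_iSup I i
  refine ⟨k, a, fun j => Ideal.Quotient.factor hle (y j), ?_, ha⟩
  intro j
  rw [← hr j]
  have := congrArg (Ideal.Quotient.factor hle) (hx j)
  rw [Ideal.Quotient.factor_mk] at this
  rw [this, map_sum]
  refine Finset.sum_congr rfl fun j' _ => ?_
  rw [Algebra.smul_def, Algebra.smul_def, map_mul]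
  congr 1

theorem flat_quotient_bot [Module.Flat A R] : Module.Flat A (R ⧸ (⊥ : Ideal R)) :=
  Module.Flat.of_linearEquiv (AlgEquiv.quotientBot A R).toLinearEquiv

end DirectedSup

end Groth.Agent.Lib.Helper12.TriFlat
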