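import Groth.Agent.Lib.Helper12.TriFlatA
import Mathlib

/-!
# Triangular presentations are flat: the successor step

`splitVar t : MvPolynomial σ A ≃ₐ[A] (MvPolynomial {u // u ≠ t} A)[X]` singles out the variable `t`.
If `P ⧸ 𝔞` is flat over `A`, where `𝔞` is generated by polynomials not involving `X t`, and `Ft` is
monic in `X t`, then `P ⧸ (𝔞 ⊔ span {Ft})` is flat over `A`.
-/

set_option autoImplicit false
universe u v

namespace Groth.Agent.Lib.Helper12.TriFlat

open MvPolynomial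

section Split

variable {A : Type u} [CommRing A] {σ : Type v} [DecidableEq σ]

/-- Single out the variable `t`. -/
noncomputable def splitVar (t : σ) :
    MvPolynomial σ A ≃ₐ[A] Polynomial (MvPolynomial {u // u ≠ t} A) :=
  (renameEquiv A (Equiv.optionSubtypeNe t).symm).trans (optionEquivLeft A _)

theorem splitVar_X_self (t : σ) : splitVar (A := A) t (X t) = Polynomial.X := by
  simp only [splitVar, AlgEquiv.trans_apply, renameEquiv_apply, rename_X,
    Equiv.optionSubtypeNe_symm_self, optionEquivLeft_X_none]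

theorem splitVar_X_of_ne (t : σ) {u : σ} (h : u ≠ t) :
    splitVar (A := A) t (X u) = Polynomial.C (X ⟨u, h⟩) := by
  simp only [splitVar, AlgEquiv.trans_apply, renameEquiv_apply, rename_X,
    Equiv.optionSubtypeNe_symm_of_ne h, optionEquivLeft_X_some]

theorem splitVar_rename (t : σ) (p : MvPolynomial {u // u ≠ t} A) :
    splitVar (A := A) t (rename (Subtype.val) p) = Polynomial.C p := by
  have : ((splitVar (A := A) t).toAlgHom.comp (rename (Subtype.val))) =
      (Polynomial.CAlgHom (R := A) (A := MvPolynomial {u // u ≠ t} A)) := by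
    apply MvPolynomial.algHom_ext
    intro u
    rw [AlgHom.comp_apply, rename_X, Polynomial.CAlgHom_apply]
    exact splitVar_X_of_ne t u.2
  exact DFunLike.congr_fun this p

theorem exists_splitVar_eq_C (t : σ) (p : MvPolynomial σ A) (h : t ∉ p.vars) :
    ∃ p' : MvPolynomial {u // u ≠ t} A, splitVar (A := A) t p = Polynomial.C p' := by
  have hsub : (p.vars : Set σ) ⊆ Set.range (Subtype.val : {u // u ≠ t} → σ) := by
    intro u hu
    refine ⟨⟨u, ?_⟩, rfl⟩
    rintro rfl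
    exact h hu
  obtain ⟨p', hp'⟩ := exists_rename_eq_of_vars_subset_range p (Subtype.val : {u // u ≠ t} → σ)
    Subtype.val_injective hsub
  exact ⟨p', by rw [← hp', splitVar_rename]⟩

end Split

end Groth.Agent.Lib.Helper12.TriFlat

namespace Groth.Agent.Lib.Helper12.TriFlat

open MvPolynomial

section Succ

/-- a polynomial `X ^ d + ∑ i < d, C (a i) * X ^ i` is monic -/
theorem monic_X_pow_add_sum {R : Type*} [CommRing R] (d : ℕ) (a : ℕ → R) :
    (Polynomial.X ^ d + ∑ i ∈ Finset.range d, Polynomial.C (a i) * Polynomial.X ^ i).Monic := by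
  nontriviality R
  apply Polynomial.monic_X_pow_add
  refine lt_of_le_of_lt (Polynomial.degree_sum_le _ _) ?_
  rw [Finset.sup_lt_iff (by exact WithBot.bot_lt_coe d)]
  intro i hi
  refine lt_of_le_of_lt (Polynomial.degree_C_mul_X_pow_le i (a i)) ?_
  exact_mod_cast Finset.mem_range.mp hi

/-- Abstract successor step. -/
theorem flat_step {A : Type u} [CommRing A] {P : Type u} [CommRing P] [Algebra A P]
    {R : Type u} [CommRing R] [Algebra A R] (e : P ≃ₐ[A] Polynomial R)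
    (S : Set P) (hS : ∀ p ∈ S, ∃ p' : R, e p = Polynomial.C p')
    (Ft : P) (hFt : (e Ft).Monic)
    (hflat : Module.Flat A (P ⧸ Ideal.span S)) :
    Module.Flat A (P ⧸ (Ideal.span S ⊔ Ideal.span {Ft})) := by
  classical
  let S' : Set R := {p' | ∃ p ∈ S, e p = Polynomial.C p'}
  let 𝔠 : Ideal R := Ideal.span S'
  have hmap : (Ideal.span S).map (e : P →+* Polynomial R) = 𝔠.map Polynomial.C := by
    rw [Ideal.map_span, Ideal.map_span]
    congr 1
    ext q
    constructor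
    · rintro ⟨p, hp, rfl⟩
      obtain ⟨p', hp'⟩ := hS p hp
      exact ⟨p', ⟨p, hp, hp'⟩, hp'.symm⟩
    · rintro ⟨p', ⟨p, hp, hp'⟩, rfl⟩
      exact ⟨p, hp, hp'⟩
  let Φ₀ : P →ₐ[A] Polynomial (R ⧸ 𝔠) :=
    (Polynomial.mapAlgHom (Ideal.Quotient.mkₐ A 𝔠)).comp e.toAlgHom
  have hΦ₀apply : ∀ x, Φ₀ x = Polynomial.map (Ideal.Quotient.mk 𝔠) (e x) := fun x => rfl
  have hΦ₀surj : Function.Surjective Φ₀ := by
    intro y
    obtain ⟨z, hz⟩ := Polynomial.map_surjective _ (Ideal.Quotient.mk_surjective (I := 𝔠)) y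
    obtain ⟨x, hx⟩ := e.surjective z
    exact ⟨x, by rw [hΦ₀apply, hx, hz]⟩
  have hkerΦ₀ : RingHom.ker (Φ₀ : P →+* Polynomial (R ⧸ 𝔠)) = Ideal.span S := by
    ext x
    rw [RingHom.mem_ker]
    change Φ₀ x = 0 ↔ _
    rw [hΦ₀apply]
    have h1 : Polynomial.map (Ideal.Quotient.mk 𝔠) (e x) = 0 ↔
        e x ∈ RingHom.ker (Polynomial.mapRingHom (Ideal.Quotient.mk 𝔠)) := by
      rw [RingHom.mem_ker]; rfl
    rw [h1, Polynomial.ker_mapRingHom, Ideal.mk_ker, ← hmap]
    constructor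
    · intro h
      have h2 : x ∈ ((Ideal.span S).map (e : P →+* Polynomial R)).comap
          (e : P →+* Polynomial R) := h
      rwa [Ideal.comap_map_of_bijective (e : P →+* Polynomial R) e.bijective] at h2
    · intro h
      exact Ideal.mem_map_of_mem _ h
  let f : Polynomial (R ⧸ 𝔠) := Φ₀ Ft
  have hmonic : f.Monic := hFt.map _
  -- flatness of `R ⧸ 𝔠`
  have hflat1 : Module.Flat A (Polynomial (R ⧸ 𝔠)) := by
    have e1 : (P ⧸ RingHom.ker (Φ₀ : P →+* Polynomial (R ⧸ 𝔠)))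
        ≃ₐ[A] Polynomial (R ⧸ 𝔠) := Ideal.quotientKerAlgEquivOfSurjective hΦ₀surj
    have e2 : (P ⧸ Ideal.span S) ≃ₐ[A] (P ⧸ RingHom.ker (Φ₀ : P →+* Polynomial (R ⧸ 𝔠))) :=
      Ideal.quotientEquivAlgOfEq A hkerΦ₀.symm
    exact Module.Flat.of_linearEquiv (e2.trans e1).symm.toLinearEquiv
  have hflat2 : Module.Flat A (R ⧸ 𝔠) := by
    refine Module.Flat.of_retract
      ((Polynomial.CAlgHom (R := A) (A := R ⧸ 𝔠)).toLinearMap)
      ((Polynomial.lcoeff (R ⧸ 𝔠) 0).restrictScalars A) ?_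
    ext x
    simp
  have hfree : Module.Free (R ⧸ 𝔠) (Polynomial (R ⧸ 𝔠) ⧸ Ideal.span {f}) := hmonic.free_quotient
  have hflat3 : Module.Flat A (Polynomial (R ⧸ 𝔠) ⧸ Ideal.span {f}) :=
    Module.Flat.trans A (R ⧸ 𝔠) _
  -- the second surjection
  let Φ : P →ₐ[A] (Polynomial (R ⧸ 𝔠) ⧸ Ideal.span {f}) :=
    (Ideal.Quotient.mkₐ A (Ideal.span {f})).comp Φ₀
  have hΦsurj : Function.Surjective Φ :=
    (Ideal.Quotient.mkₐ_surjective A (Ideal.span {f})).comp hΦ₀surj
  have hkerΦ : RingHom.ker (Φ : P →+* (Polynomial (R ⧸ 𝔠) ⧸ Ideal.span {f})) = Ideal.span S ⊔ Ideal.span {Ft} := by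
    have h1 : RingHom.ker (Φ : P →+* (Polynomial (R ⧸ 𝔠) ⧸ Ideal.span {f})) =
        (Ideal.span {f}).comap (Φ₀ : P →+* Polynomial (R ⧸ 𝔠)) := by
      ext x
      rw [RingHom.mem_ker, Ideal.mem_comap]
      change Ideal.Quotient.mk (Ideal.span {f}) (Φ₀ x) = 0 ↔ _
      rw [Ideal.Quotient.eq_zero_iff_mem]
      rfl
    have h2 : (Ideal.span {f} : Ideal (Polynomial (R ⧸ 𝔠))) =
        (Ideal.span {Ft}).map (Φ₀ : P →+* Polynomial (R ⧸ 𝔠)) := by
      rw [Ideal.map_span, Set.image_singleton]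
      rfl
    rw [h1, h2, Ideal.comap_map_of_surjective (Φ₀ : P →+* Polynomial (R ⧸ 𝔠)) hΦ₀surj,
      ← RingHom.ker_eq_comap_bot, hkerΦ₀, sup_comm]
  have e1 : (P ⧸ RingHom.ker (Φ : P →+* (Polynomial (R ⧸ 𝔠) ⧸ Ideal.span {f})))
      ≃ₐ[A] (Polynomial (R ⧸ 𝔠) ⧸ Ideal.span {f}) := Ideal.quotientKerAlgEquivOfSurjective hΦsurj
  have e2 : (P ⧸ (Ideal.span S ⊔ Ideal.span {Ft})) ≃ₐ[A] (P ⧸ RingHom.ker (Φ : P →+* (Polynomial (R ⧸ 𝔠) ⧸ Ideal.span {f}))) :=
    Ideal.quotientEquivAlgOfEq A hkerΦ.symm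
  exact Module.Flat.of_linearEquiv (e2.trans e1).toLinearEquiv

variable {A : Type u} [CommRing A] {σ : Type u}

/-- The successor step: adding a relation monic in a variable `t` not occurring in the previous
relations preserves flatness. -/
theorem flat_sup_span_singleton (t : σ) (S : Set (MvPolynomial σ A))
    (hS : ∀ p ∈ S, t ∉ p.vars) (d : ℕ) (c : ℕ → MvPolynomial σ A) (hc : ∀ i, t ∉ (c i).vars)
    (hflat : Module.Flat A (MvPolynomial σ A ⧸ Ideal.span S)) :
    Module.Flat A (MvPolynomial σ A ⧸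
      (Ideal.span S ⊔ Ideal.span {X t ^ d + ∑ i ∈ Finset.range d, c i * X t ^ i})) := by
  classical
  have hc' : ∀ i, ∃ c' : MvPolynomial {u // u ≠ t} A, splitVar (A := A) t (c i) = Polynomial.C c' :=
    fun i => exists_splitVar_eq_C t _ (hc i)
  choose c' hc' using hc'
  refine flat_step (splitVar (A := A) t) S (fun p hp => exists_splitVar_eq_C t p (hS p hp)) _ ?_
    hflat
  have : splitVar (A := A) t (X t ^ d + ∑ i ∈ Finset.range d, c i * X t ^ i) =
      Polynomial.X ^ d + ∑ i ∈ Finset.range d, Polynomial.C (c' i) * Polynomial.X ^ i := by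
    rw [map_add, map_pow, map_sum, splitVar_X_self]
    congr 1
    refine Finset.sum_congr rfl fun i _ => ?_
    rw [map_mul, map_pow, hc' i, splitVar_X_self]
  rw [this]
  exact monic_X_pow_add_sum d c'

end Succ

end Groth.Agent.Lib.Helper12.TriFlat
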