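import Groth.Agent.Lib.Helper12.TriFlatB

/-!
# Triangular presentations are flat

Let `σ` be a well-ordered type and `F : σ → A[X_σ]` a family such that `F t` is monic in `X t` with
lower coefficients only involving variables `< t`. Then `A[X_σ] ⧸ (F t : t)` is flat over `A`.
-/

set_option autoImplicit false
universe u v

namespace Groth.Agent.Lib.Helper12.TriFlat

open MvPolynomial

section Main

variable {A : Type u} [CommRing A] {σ : Type u} [LinearOrder σ]

/-- A triangular family of polynomials. -/
def IsTri (F : σ → MvPolynomial σ A) : Prop :=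
  ∀ t, ∃ (d : ℕ) (c : ℕ → MvPolynomial σ A), (∀ i, ∀ s ∈ (c i).vars, s < t) ∧
    F t = X t ^ d + ∑ i ∈ Finset.range d, c i * X t ^ i

theorem IsTri.vars_le {F : σ → MvPolynomial σ A} (hF : IsTri F) (t : σ) :
    ∀ s ∈ (F t).vars, s ≤ t := by
  classical
  rcases subsingleton_or_nontrivial A with hA | hA
  · intro s hs
    rw [Subsingleton.elim (F t) 0, vars_0] at hs
    exact absurd hs (Finset.notMem_empty s)
  obtain ⟨d, c, hc, hFt⟩ := hF t
  intro s hs
  rw [hFt] at hs
  have h1 := vars_add_subset _ _ hs
  rw [Finset.mem_union] at h1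
  rcases h1 with h1 | h1
  · have h2 := vars_pow _ _ h1
    rw [vars_X, Finset.mem_singleton] at h2
    exact h2.le
  · have h2 := vars_sum_subset _ _ h1
    rw [Finset.mem_biUnion] at h2
    obtain ⟨i, -, hi⟩ := h2
    have h3 := vars_mul _ _ hi
    rw [Finset.mem_union] at h3
    rcases h3 with h3 | h3
    · exact (hc i s h3).le
    · have h4 := vars_pow _ _ h3
      rw [vars_X, Finset.mem_singleton] at h4
      exact h4.le

variable [WellFoundedLT σ]

theorem flat_quotient_span_image_Iic {F : σ → MvPolynomial σ A} (hF : IsTri F) (t : σ) :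
    Module.Flat A (MvPolynomial σ A ⧸ Ideal.span (F '' Set.Iic t)) := by
  classical
  induction t using WellFoundedLT.induction with
  | ind t ih =>
    have hlt : Module.Flat A (MvPolynomial σ A ⧸ Ideal.span (F '' Set.Iio t)) := by
      by_cases hne : (Set.Iio t).Nonempty
      · have hset : F '' Set.Iio t = ⋃ s : Set.Iio t, F '' Set.Iic s.1 := by
          ext p
          simp only [Set.mem_image, Set.mem_iUnion, Set.mem_Iio, Set.mem_Iic, Subtype.exists,
            exists_prop]
          constructor
          · rintro ⟨u, hu, rfl⟩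
            exact ⟨u, hu, u, le_rfl, rfl⟩
          · rintro ⟨s, hs, u, hu, rfl⟩
            exact ⟨u, lt_of_le_of_lt hu hs, rfl⟩
        rw [hset, Ideal.span_iUnion]
        have : Nonempty (Set.Iio t) := hne.to_subtype
        refine flat_quotient_iSup _ ?_ (fun s => ih s.1 s.2)
        intro s₁ s₂
        refine ⟨⟨max s₁.1 s₂.1, max_lt s₁.2 s₂.2⟩, ?_, ?_⟩
        · exact Ideal.span_mono (Set.image_mono (Set.Iic_subset_Iic.mpr (le_max_left _ _)))
        · exact Ideal.span_mono (Set.image_mono (Set.Iic_subset_Iic.mpr (le_max_right _ _)))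
      · rw [Set.not_nonempty_iff_eq_empty] at hne
        rw [hne, Set.image_empty, Ideal.span_empty]
        exact flat_quotient_bot
    obtain ⟨d, c, hc, hFt⟩ := hF t
    have hS : ∀ p ∈ F '' Set.Iio t, t ∉ p.vars := by
      rintro p ⟨s, hs, rfl⟩ ht
      exact absurd (hF.vars_le s t ht) (not_le.mpr hs)
    have hc' : ∀ i, t ∉ (c i).vars := fun i ht => lt_irrefl t (hc i t ht)
    have key := flat_sup_span_singleton t (F '' Set.Iio t) hS d c hc' hlt
    have hset : F '' Set.Iic t = F '' Set.Iio t ∪ {F t} := by
      rw [← Set.Iio_insert, Set.image_insert_eq, Set.union_singleton]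
    rw [hset, Ideal.span_union, hFt]
    exact key

/-- **Triangular presentations are flat.** -/
theorem flat_of_isTri {F : σ → MvPolynomial σ A} (hF : IsTri F) :
    Module.Flat A (MvPolynomial σ A ⧸ Ideal.span (Set.range F)) := by
  classical
  by_cases hne : Nonempty σ
  · have hset : Set.range F = ⋃ t : σ, F '' Set.Iic t := by
      ext p
      simp only [Set.mem_range, Set.mem_iUnion, Set.mem_image, Set.mem_Iic]
      constructor
      · rintro ⟨u, rfl⟩
        exact ⟨u, u, le_rfl, rfl⟩
      · rintro ⟨s, u, -, rfl⟩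
        exact ⟨u, rfl⟩
    rw [hset, Ideal.span_iUnion]
    refine flat_quotient_iSup _ ?_ (fun t => flat_quotient_span_image_Iic hF t)
    intro s₁ s₂
    refine ⟨max s₁ s₂, ?_, ?_⟩
    · exact Ideal.span_mono (Set.image_mono (Set.Iic_subset_Iic.mpr (le_max_left _ _)))
    · exact Ideal.span_mono (Set.image_mono (Set.Iic_subset_Iic.mpr (le_max_right _ _)))
  · rw [not_nonempty_iff] at hne
    rw [Set.range_eq_empty, Ideal.span_empty]
    exact flat_quotient_bot

end Main

end Groth.Agent.Lib.Helper12.TriFlat
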