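import Groth.Agent.Lib.Helper12.TriFlatD

/-!
# Triangular presentations with positive degrees: the base ring injects
-/

set_option autoImplicit false
universe u v

namespace Groth.Agent.Lib.Helper12.TriFlat

open MvPolynomial

section StepData

theorem degree_sum_lt {R : Type*} [CommRing R] (d : ℕ) (a : ℕ → R) :
    (∑ i ∈ Finset.range d, Polynomial.C (a i) * Polynomial.X ^ i).degree < (d : WithBot ℕ) := by
  refine lt_of_le_of_lt (Polynomial.degree_sum_le _ _) ?_
  rw [Finset.sup_lt_iff (by exact WithBot.bot_lt_coe d)]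
  intro i hi
  refine lt_of_le_of_lt (Polynomial.degree_C_mul_X_pow_le i (a i)) ?_
  exact_mod_cast Finset.mem_range.mp hi

theorem natDegree_X_pow_add_sum {R : Type*} [CommRing R] [Nontrivial R] (d : ℕ) (a : ℕ → R) :
    (Polynomial.X ^ d + ∑ i ∈ Finset.range d, Polynomial.C (a i) * Polynomial.X ^ i).natDegree
      = d := by
  apply Polynomial.natDegree_eq_of_degree_eq_some
  rw [Polynomial.degree_add_eq_left_of_degree_lt, Polynomial.degree_X_pow]
  rw [Polynomial.degree_X_pow]
  exact degree_sum_lt _ _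

/-- The data of the successor step. -/
theorem step_data {A : Type u} [CommRing A] {P : Type u} [CommRing P] [Algebra A P]
    {R : Type u} [CommRing R] [Algebra A R] (e : P ≃ₐ[A] Polynomial R)
    (S : Set P) (hS : ∀ p ∈ S, ∃ p' : R, e p = Polynomial.C p') :
    ∃ (R' : Type u) (_ : CommRing R') (_ : Algebra A R') (Φ₀ : P →ₐ[A] Polynomial R')
      (π : R →ₐ[A] R'), Function.Surjective Φ₀ ∧
      RingHom.ker (Φ₀ : P →+* Polynomial R') = Ideal.span S ∧
      ∀ x, Φ₀ x = (e x).map (π : R →+* R') := by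
  classical
  let S' : Set R := {p' | ∃ p ∈ S, e p = Polynomial.C p'}
  let 𝔠 : Ideal R := Ideal.span S'
  have hmap : (Ideal.span S).map (e : P →+* Polynomial R) = 𝔠.map Polynomial.C := by
    rw [Ideal.map_span, Ideal.map_span]
    congr 1
    ext q
    constructor
    · rintro ⟨p, hp, rfl⟩
      obtain ⟨p', hp'⟩ := hS p hp
      exact ⟨p', ⟨p, hp, hp'⟩, hp'.symm⟩
    · rintro ⟨p', ⟨p, hp, hp'⟩, rfl⟩
      exact ⟨p, hp, hp'⟩
  let Φ₀ : P →ₐ[A] Polynomial (R ⧸ 𝔠) :=
    (Polynomial.mapAlgHom (Ideal.Quotient.mkₐ A 𝔠)).comp e.toAlgHom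
  have hΦ₀apply : ∀ x, Φ₀ x = Polynomial.map (Ideal.Quotient.mk 𝔠) (e x) := fun x => rfl
  have hΦ₀surj : Function.Surjective Φ₀ := by
    intro y
    obtain ⟨z, hz⟩ := Polynomial.map_surjective _ (Ideal.Quotient.mk_surjective (I := 𝔠)) y
    obtain ⟨x, hx⟩ := e.surjective z
    exact ⟨x, by rw [hΦ₀apply, hx, hz]⟩
  have hkerΦ₀ : RingHom.ker (Φ₀ : P →+* Polynomial (R ⧸ 𝔠)) = Ideal.span S := by
    ext x
    rw [RingHom.mem_ker]
    change Φ₀ x = 0 ↔ _
    rw [hΦ₀apply]
    have h1 : Polynomial.map (Ideal.Quotient.mk 𝔠) (e x) = 0 ↔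
        e x ∈ RingHom.ker (Polynomial.mapRingHom (Ideal.Quotient.mk 𝔠)) := by
      rw [RingHom.mem_ker]; rfl
    rw [h1, Polynomial.ker_mapRingHom, Ideal.mk_ker, ← hmap]
    constructor
    · intro h
      have h2 : x ∈ ((Ideal.span S).map (e : P →+* Polynomial R)).comap
          (e : P →+* Polynomial R) := h
      rwa [Ideal.comap_map_of_bijective (e : P →+* Polynomial R) e.bijective] at h2
    · intro h
      exact Ideal.mem_map_of_mem _ h
  exact ⟨R ⧸ 𝔠, inferInstance, inferInstance, Φ₀, Ideal.Quotient.mkₐ A 𝔠, hΦ₀surj, hkerΦ₀,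
    hΦ₀apply⟩

/-- Abstract successor step for injectivity of the base. -/
theorem inj_step {A : Type u} [CommRing A] {P : Type u} [CommRing P] [Algebra A P]
    {R : Type u} [CommRing R] [Algebra A R] (e : P ≃ₐ[A] Polynomial R)
    (S : Set P) (hS : ∀ p ∈ S, ∃ p' : R, e p = Polynomial.C p')
    (Ft : P) (hFt : (e Ft).Monic) (hdeg : 0 < (e Ft).natDegree)
    (hinj : ∀ a : A, algebraMap A P a ∈ Ideal.span S → a = 0) :
    ∀ a : A, algebraMap A P a ∈ Ideal.span S ⊔ Ideal.span {Ft} → a = 0 := by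
  obtain ⟨R', _, _, Φ₀, π, hsurj, hker, happ⟩ := step_data e S hS
  intro a ha
  have h1 : Φ₀ (algebraMap A P a) ∈ (Ideal.span S ⊔ Ideal.span {Ft}).map
      (Φ₀ : P →+* Polynomial R') := Ideal.mem_map_of_mem _ ha
  rw [Ideal.map_sup, ← hker, Ideal.map_span, Set.image_singleton] at h1
  have h2 : (RingHom.ker (Φ₀ : P →+* Polynomial R')).map (Φ₀ : P →+* Polynomial R') = ⊥ := by
    rw [Ideal.map_eq_bot_iff_le_ker]
  rw [h2, bot_sup_eq, Ideal.mem_span_singleton] at h1
  have h3 : Φ₀ (algebraMap A P a) = Polynomial.C (algebraMap A R' a) := by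
    rw [AlgHom.commutes]
    rfl
  have h4 : Φ₀ (algebraMap A P a) = 0 := by
    by_contra hne
    have hnt : Nontrivial (Polynomial R') := ⟨⟨_, _, hne⟩⟩
    have hnt' : Nontrivial R' := by
      by_contra h
      rw [not_nontrivial_iff_subsingleton] at h
      exact hne (Subsingleton.elim _ _)
    have hm : ((Φ₀ : P →+* Polynomial R') Ft).Monic := by
      change (Φ₀ Ft).Monic
      rw [happ]
      exact hFt.map _
    have hd : ((Φ₀ : P →+* Polynomial R') Ft).natDegree = (e Ft).natDegree := by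
      change (Φ₀ Ft).natDegree = _
      rw [happ]
      exact hFt.natDegree_map _
    refine hm.not_dvd_of_natDegree_lt hne ?_ h1
    rw [h3, Polynomial.natDegree_C, hd]
    exact hdeg
  apply hinj
  rw [← hker, RingHom.mem_ker]
  exact h4

end StepData

section Main

variable {A : Type u} [CommRing A] {σ : Type u} [LinearOrder σ]

/-- A triangular family with positive degrees. -/
def IsTriPos (F : σ → MvPolynomial σ A) : Prop :=
  ∀ t, ∃ (d : ℕ) (c : ℕ → MvPolynomial σ A), 0 < d ∧ (∀ i, ∀ s ∈ (c i).vars, s < t) ∧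
    F t = X t ^ d + ∑ i ∈ Finset.range d, c i * X t ^ i

theorem IsTriPos.isTri {F : σ → MvPolynomial σ A} (hF : IsTriPos F) : IsTri F := by
  intro t
  obtain ⟨d, c, -, hc, h⟩ := hF t
  exact ⟨d, c, hc, h⟩

theorem inj_sup_span_singleton [Nontrivial A] (t : σ) (S : Set (MvPolynomial σ A))
    (hS : ∀ p ∈ S, t ∉ p.vars) (d : ℕ) (hd : 0 < d) (c : ℕ → MvPolynomial σ A)
    (hc : ∀ i, t ∉ (c i).vars)
    (hinj : ∀ a : A, (C a : MvPolynomial σ A) ∈ Ideal.span S → a = 0) :
    ∀ a : A, (C a : MvPolynomial σ A) ∈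
      Ideal.span S ⊔ Ideal.span {X t ^ d + ∑ i ∈ Finset.range d, c i * X t ^ i} → a = 0 := by
  classical
  have hc' : ∀ i, ∃ c' : MvPolynomial {u // u ≠ t} A, splitVar (A := A) t (c i) = Polynomial.C c' :=
    fun i => exists_splitVar_eq_C t _ (hc i)
  choose c' hc' using hc'
  have : splitVar (A := A) t (X t ^ d + ∑ i ∈ Finset.range d, c i * X t ^ i) =
      Polynomial.X ^ d + ∑ i ∈ Finset.range d, Polynomial.C (c' i) * Polynomial.X ^ i := by
    rw [map_add, map_pow, map_sum, splitVar_X_self]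
    congr 1
    refine Finset.sum_congr rfl fun i _ => ?_
    rw [map_mul, map_pow, hc' i, splitVar_X_self]
  refine inj_step (splitVar (A := A) t) S (fun p hp => exists_splitVar_eq_C t p (hS p hp)) _ ?_ ?_
    hinj
  · rw [this]
    exact monic_X_pow_add_sum d c'
  · rw [this, natDegree_X_pow_add_sum]
    exact hd

variable [WellFoundedLT σ]

theorem inj_span_image_Iic [Nontrivial A] {F : σ → MvPolynomial σ A} (hF : IsTriPos F) (t : σ) :
    ∀ a : A, (C a : MvPolynomial σ A) ∈ Ideal.span (F '' Set.Iic t) → a = 0 := by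
  classical
  induction t using WellFoundedLT.induction with
  | ind t ih =>
    have hlt : ∀ a : A, (C a : MvPolynomial σ A) ∈ Ideal.span (F '' Set.Iio t) → a = 0 := by
      intro a ha
      by_cases hne : (Set.Iio t).Nonempty
      · have hset : F '' Set.Iio t = ⋃ s : Set.Iio t, F '' Set.Iic s.1 := by
          ext p
          simp only [Set.mem_image, Set.mem_iUnion, Set.mem_Iio, Set.mem_Iic, Subtype.exists,
            exists_prop]
          constructor
          · rintro ⟨u, hu, rfl⟩
            exact ⟨u, hu, u, le_rfl, rfl⟩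
          · rintro ⟨s, hs, u, hu, rfl⟩
            exact ⟨u, lt_of_le_of_lt hu hs, rfl⟩
        rw [hset, Ideal.span_iUnion] at ha
        have : Nonempty (Set.Iio t) := hne.to_subtype
        have hdir : Directed (· ≤ ·) (fun s : Set.Iio t => Ideal.span (F '' Set.Iic s.1)) := by
          intro s₁ s₂
          refine ⟨⟨max s₁.1 s₂.1, max_lt s₁.2 s₂.2⟩, ?_, ?_⟩
          · exact Ideal.span_mono (Set.image_mono (Set.Iic_subset_Iic.mpr (le_max_left _ _)))
          · exact Ideal.span_mono (Set.image_mono (Set.Iic_subset_Iic.mpr (le_max_right _ _)))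
        obtain ⟨s, hs⟩ := (Submodule.mem_iSup_of_directed _ hdir).mp ha
        exact ih s.1 s.2 a hs
      · rw [Set.not_nonempty_iff_eq_empty] at hne
        rw [hne, Set.image_empty, Ideal.span_empty, Ideal.mem_bot] at ha
        exact C_injective σ A (ha.trans C_0.symm)
    obtain ⟨d, c, hd, hc, hFt⟩ := hF t
    have hS : ∀ p ∈ F '' Set.Iio t, t ∉ p.vars := by
      rintro p ⟨s, hs, rfl⟩ ht
      exact absurd (hF.isTri.vars_le s t ht) (not_le.mpr hs)
    have hc' : ∀ i, t ∉ (c i).vars := fun i ht => lt_irrefl t (hc i t ht)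
    have key := inj_sup_span_singleton t (F '' Set.Iio t) hS d hd c hc' hlt
    have hset : F '' Set.Iic t = F '' Set.Iio t ∪ {F t} := by
      rw [← Set.Iio_insert, Set.image_insert_eq, Set.union_singleton]
    rw [hset, Ideal.span_union, hFt]
    exact key

/-- **The base ring injects into a triangular presentation with positive degrees.** -/
theorem algebraMap_injective_of_isTriPos {F : σ → MvPolynomial σ A} (hF : IsTriPos F) :
    Function.Injective (algebraMap A (MvPolynomial σ A ⧸ Ideal.span (Set.range F))) := by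
  classical
  rcases subsingleton_or_nontrivial A with hA | hA
  · exact Function.injective_of_subsingleton _
  rw [injective_iff_map_eq_zero]
  intro a ha
  have ha' : (C a : MvPolynomial σ A) ∈ Ideal.span (Set.range F) :=
    Ideal.Quotient.eq_zero_iff_mem.mp ha
  by_cases hne : Nonempty σ
  · have hset : Set.range F = ⋃ t : σ, F '' Set.Iic t := by
      ext p
      simp only [Set.mem_range, Set.mem_iUnion, Set.mem_image, Set.mem_Iic]
      constructor
      · rintro ⟨u, rfl⟩
        exact ⟨u, u, le_rfl, rfl⟩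
      · rintro ⟨s, u, -, rfl⟩
        exact ⟨u, rfl⟩
    rw [hset, Ideal.span_iUnion] at ha'
    have hdir : Directed (· ≤ ·) (fun s : σ => Ideal.span (F '' Set.Iic s)) := by
      intro s₁ s₂
      refine ⟨max s₁ s₂, ?_, ?_⟩
      · exact Ideal.span_mono (Set.image_mono (Set.Iic_subset_Iic.mpr (le_max_left _ _)))
      · exact Ideal.span_mono (Set.image_mono (Set.Iic_subset_Iic.mpr (le_max_right _ _)))
    obtain ⟨s, hs⟩ := (Submodule.mem_iSup_of_directed _ hdir).mp ha'
    exact inj_span_image_Iic hF s a hs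
  · rw [not_nonempty_iff] at hne
    rw [Set.range_eq_empty, Ideal.span_empty, Ideal.mem_bot] at ha'
    exact C_injective σ A (ha'.trans C_0.symm)

end Main

end Groth.Agent.Lib.Helper12.TriFlat
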