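import Groth.Agent.Lib.Helper12.TriFlatE

/-!
# Triangular data, closed subsets and restriction
-/

set_option autoImplicit false
universe u v

namespace Groth.Agent.Lib.Helper12.TriFlat

open MvPolynomial

theorem mem_vars_rename_of_injective {R : Type*} [CommSemiring R] {σ τ : Type*} {f : σ → τ}
    (hf : Function.Injective f) (p : MvPolynomial σ R) {s : σ} (hs : s ∈ p.vars) :
    f s ∈ (rename f p).vars := by
  classical
  rw [vars_def, degrees_rename_of_injective hf, Multiset.mem_toFinset, Multiset.mem_map]
  exact ⟨s, by rwa [vars_def, Multiset.mem_toFinset] at hs, rfl⟩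

/-- Triangular data: degrees and lower coefficients. -/
structure TriData (A : Type u) [CommRing A] (σ : Type u) [LinearOrder σ] where
  /-- the degrees -/
  d : σ → ℕ
  /-- the lower coefficients -/
  c : σ → ℕ → MvPolynomial σ A
  d_pos : ∀ t, 0 < d t
  vars_c : ∀ t i, ∀ s ∈ (c t i).vars, s < t

namespace TriData

variable {A : Type u} [CommRing A] {σ : Type u} [LinearOrder σ] (D : TriData A σ)

/-- the relations -/
noncomputable def F (t : σ) : MvPolynomial σ A :=
  X t ^ D.d t + ∑ i ∈ Finset.range (D.d t), D.c t i * X t ^ i

theorem isTriPos : IsTriPos D.F := fun t => ⟨D.d t, D.c t, D.d_pos t, D.vars_c t, rfl⟩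

/-- the quotient ring -/
abbrev Quot : Type u := MvPolynomial σ A ⧸ Ideal.span (Set.range D.F)

/-- a subset closed under dependencies -/
def Closed (S : Set σ) : Prop := ∀ t ∈ S, ∀ i < D.d t, ∀ s ∈ (D.c t i).vars, s ∈ S

theorem exists_restrict_c {S : Set σ} (hS : D.Closed S) (t : S) (i : ℕ) (hi : i < D.d t) :
    ∃ c' : MvPolynomial S A, rename Subtype.val c' = D.c t i := by
  apply exists_rename_eq_of_vars_subset_range _ _ Subtype.val_injective
  intro s hs
  exact ⟨⟨s, hS t t.2 i hi s hs⟩, rfl⟩

open Classical in
/-- restriction to a closed subset -/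
noncomputable def restrict (S : Set σ) (hS : D.Closed S) : TriData A S where
  d t := D.d t
  c t i := if hi : i < D.d t then (D.exists_restrict_c hS t i hi).choose else 0
  d_pos t := D.d_pos t
  vars_c t i s hs := by
    by_cases hi : i < D.d t
    · rw [dif_pos hi] at hs
      have h1 := mem_vars_rename_of_injective (f := (Subtype.val : S → σ))
        Subtype.val_injective _ hs
      rw [(D.exists_restrict_c hS t i hi).choose_spec] at h1
      exact D.vars_c t i s h1
    · rw [dif_neg hi, vars_0] at hs
      exact absurd hs (Finset.notMem_empty s)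

theorem rename_restrict_c {S : Set σ} (hS : D.Closed S) (t : S) (i : ℕ) (hi : i < D.d t) :
    rename Subtype.val ((D.restrict S hS).c t i) = D.c t i := by
  change rename Subtype.val (if hi : i < D.d t then _ else 0) = _
  rw [dif_pos hi]
  exact (D.exists_restrict_c hS t i hi).choose_spec

theorem rename_restrict_F {S : Set σ} (hS : D.Closed S) (t : S) :
    rename Subtype.val ((D.restrict S hS).F t) = D.F t := by
  simp only [F, map_add, map_pow, map_sum, map_mul, rename_X]
  congr 1
  refine Finset.sum_congr rfl fun i hi => ?_
  rw [rename_restrict_c D hS t i (Finset.mem_range.mp hi)]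

end TriData

end Groth.Agent.Lib.Helper12.TriFlat
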