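import Groth.Agent.Lib.Helper12.TriFlatF

/-!
# Triangular presentations over the ring of a closed subset

For a closed subset `S`, the ring `D.Quot` is a triangular presentation over `(D.restrict S).Quot`
indexed by the complement of `S`.
-/

set_option autoImplicit false
universe u v

namespace Groth.Agent.Lib.Helper12.TriFlat

open MvPolynomial

namespace TriData

variable {A : Type u} [CommRing A] {σ : Type u} [LinearOrder σ] (D : TriData A σ)
  (S : Set σ) (hS : D.Closed S)

/-- the ring of the closed subset -/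
abbrev G : Type u := (D.restrict S hS).Quot

open Classical in
/-- substitution of the classes of the variables in `S` -/
noncomputable def Θ : MvPolynomial σ A →ₐ[A] MvPolynomial (Sᶜ : Set σ) (D.G S hS) :=
  aeval (fun t => if h : t ∈ S then C (Ideal.Quotient.mk _ (X ⟨t, h⟩)) else X ⟨t, h⟩)

theorem Θ_X_of_mem {t : σ} (h : t ∈ S) :
    D.Θ S hS (X t) = C (Ideal.Quotient.mk _ (X ⟨t, h⟩)) := by
  rw [Θ, aeval_X, dif_pos h]

theorem Θ_X_of_notMem {t : σ} (h : t ∉ S) : D.Θ S hS (X t) = X ⟨t, h⟩ := by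
  rw [Θ, aeval_X, dif_neg h]

theorem Θ_rename (q : MvPolynomial S A) :
    D.Θ S hS (rename Subtype.val q) = C (Ideal.Quotient.mk _ q) := by
  induction q using MvPolynomial.induction_on with
  | C a =>
    rw [rename_C, ← algebraMap_eq, AlgHom.commutes, MvPolynomial.algebraMap_apply]
    rfl
  | add p q hp hq => rw [map_add, map_add, hp, hq, map_add, map_add]
  | mul_X p s hp => rw [map_mul, map_mul, hp, rename_X, Θ_X_of_mem _ _ _ s.2, map_mul, map_mul]

theorem Θ_vars_lt (u : (Sᶜ : Set σ)) (p : MvPolynomial σ A) (hp : ∀ s ∈ p.vars, s < u.1) :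
    ∀ v ∈ (D.Θ S hS p).vars, v < u := by
  have h1 : p ∈ supported A (Set.Iio u.1) := by
    rw [mem_supported]
    intro s hs
    exact hp s hs
  have h2 : (supported A (Set.Iio u.1)).map (D.Θ S hS) ≤
      (supported (D.G S hS) {v : (Sᶜ : Set σ) | v < u}).restrictScalars A := by
    rw [supported_eq_adjoin_X, AlgHom.map_adjoin]
    apply Algebra.adjoin_le
    rintro _ ⟨_, ⟨t, ht, rfl⟩, rfl⟩
    by_cases h : t ∈ S
    · rw [Θ_X_of_mem _ _ _ h]
      change C _ ∈ supported (D.G S hS) {v : (Sᶜ : Set σ) | v < u}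
      rw [← algebraMap_eq]
      exact Subalgebra.algebraMap_mem (supported (D.G S hS) {v : (Sᶜ : Set σ) | v < u}) _
    · rw [Θ_X_of_notMem _ _ _ h]
      exact Algebra.subset_adjoin ⟨⟨t, h⟩, ht, rfl⟩
  have h3 : D.Θ S hS p ∈ supported (D.G S hS) {v : (Sᶜ : Set σ) | v < u} :=
    h2 ⟨p, h1, rfl⟩
  rw [mem_supported] at h3
  intro v hv
  exact h3 hv

/-- the triangular data over the ring of the closed subset -/
noncomputable def overG : TriData (D.G S hS) (Sᶜ : Set σ) where
  d u := D.d u.1
  c u i := D.Θ S hS (D.c u.1 i)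
  d_pos u := D.d_pos u.1
  vars_c u i := D.Θ_vars_lt S hS u _ (D.vars_c u.1 i)

theorem overG_F (u : (Sᶜ : Set σ)) : (D.overG S hS).F u = D.Θ S hS (D.F u.1) := by
  simp only [F, overG, map_add, map_pow, map_sum, map_mul, Θ_X_of_notMem _ _ _ u.2]

end TriData

end Groth.Agent.Lib.Helper12.TriFlat
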