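import Groth.Agent.Lib.Helper12.TriFlatG

/-!
# Triangular presentations over the ring of a closed subset: the isomorphism
-/

set_option autoImplicit false
universe u v

namespace Groth.Agent.Lib.Helper12.TriFlat

open MvPolynomial

namespace TriData

variable {A : Type u} [CommRing A] {σ : Type u} [LinearOrder σ] (D : TriData A σ)
  (S : Set σ) (hS : D.Closed S)

theorem Θ_surjective : Function.Surjective (D.Θ S hS) := by
  intro y
  induction y using MvPolynomial.induction_on with
  | C g =>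
    obtain ⟨q, rfl⟩ := Ideal.Quotient.mk_surjective g
    exact ⟨rename Subtype.val q, D.Θ_rename S hS q⟩
  | add p q hp hq =>
    obtain ⟨a, rfl⟩ := hp
    obtain ⟨b, rfl⟩ := hq
    exact ⟨a + b, map_add _ _ _⟩
  | mul_X p u hp =>
    obtain ⟨a, rfl⟩ := hp
    exact ⟨a * X u.1, by rw [map_mul, Θ_X_of_notMem _ _ _ u.2]⟩

theorem restrict_le_ker (I : Ideal (MvPolynomial σ A)) (hI : D.F '' S ⊆ I) :
    Ideal.span (Set.range (D.restrict S hS).F) ≤
      RingHom.ker ((Ideal.Quotient.mk I).comp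
        (rename (Subtype.val : S → σ) : MvPolynomial S A →ₐ[A] MvPolynomial σ A).toRingHom) := by
  rw [Ideal.span_le]
  rintro _ ⟨t, rfl⟩
  rw [SetLike.mem_coe, RingHom.mem_ker]
  change Ideal.Quotient.mk I (rename Subtype.val ((D.restrict S hS).F t)) = 0
  rw [rename_restrict_F, Ideal.Quotient.eq_zero_iff_mem]
  exact hI ⟨t.1, t.2, rfl⟩

/-- the map from the ring of the closed subset to the partial quotient -/
noncomputable def γ₀ : D.G S hS →+* (MvPolynomial σ A ⧸ Ideal.span (D.F '' S)) :=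
  Ideal.Quotient.lift _ _ (fun q hq => by
    have := D.restrict_le_ker S hS (Ideal.span (D.F '' S)) Ideal.subset_span hq
    exact this)

theorem γ₀_mk (q : MvPolynomial S A) :
    D.γ₀ S hS (Ideal.Quotient.mk _ q) = Ideal.Quotient.mk _ (rename Subtype.val q) := rfl

/-- the inverse direction -/
noncomputable def Λ : MvPolynomial (Sᶜ : Set σ) (D.G S hS) →+*
    (MvPolynomial σ A ⧸ Ideal.span (D.F '' S)) :=
  eval₂Hom (D.γ₀ S hS) (fun u => Ideal.Quotient.mk _ (X u.1))

theorem Λ_Θ (p : MvPolynomial σ A) : D.Λ S hS (D.Θ S hS p) = Ideal.Quotient.mk _ p := by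
  induction p using MvPolynomial.induction_on with
  | C a =>
    rw [← algebraMap_eq, AlgHom.commutes, MvPolynomial.algebraMap_apply, Λ, eval₂Hom_C]
    change D.γ₀ S hS (Ideal.Quotient.mk _ (C a)) = _
    rw [γ₀_mk, rename_C]
    rfl
  | add p q hp hq => rw [map_add, map_add, hp, hq, map_add]
  | mul_X p t hp =>
    rw [map_mul, map_mul, hp, map_mul]
    congr 1
    by_cases h : t ∈ S
    · rw [Θ_X_of_mem _ _ _ h, Λ, eval₂Hom_C, γ₀_mk, rename_X]
    · rw [Θ_X_of_notMem _ _ _ h, Λ, eval₂Hom_X']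

theorem ker_Θ : RingHom.ker (D.Θ S hS).toRingHom = Ideal.span (D.F '' S) := by
  apply le_antisymm
  · intro p hp
    rw [RingHom.mem_ker] at hp
    have h1 := D.Λ_Θ S hS p
    change D.Θ S hS p = 0 at hp
    rw [hp, map_zero] at h1
    exact Ideal.Quotient.eq_zero_iff_mem.mp h1.symm
  · rw [Ideal.span_le]
    rintro _ ⟨t, ht, rfl⟩
    rw [SetLike.mem_coe, RingHom.mem_ker]
    change D.Θ S hS (D.F t) = 0
    rw [← D.rename_restrict_F hS ⟨t, ht⟩, Θ_rename]
    have : Ideal.Quotient.mk (Ideal.span (Set.range (D.restrict S hS).F))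
        ((D.restrict S hS).F ⟨t, ht⟩) = 0 :=
      Ideal.Quotient.eq_zero_iff_mem.mpr (Ideal.subset_span ⟨_, rfl⟩)
    rw [this, map_zero]

/-- the composite `P → G[X_{Sᶜ}] → quotient` -/
noncomputable def Θ' : MvPolynomial σ A →+* (D.overG S hS).Quot :=
  (Ideal.Quotient.mk _).comp (D.Θ S hS).toRingHom

theorem Θ'_surjective : Function.Surjective (D.Θ' S hS) :=
  Ideal.Quotient.mk_surjective.comp (D.Θ_surjective S hS)

theorem ker_Θ' : RingHom.ker (D.Θ' S hS) = Ideal.span (Set.range D.F) := by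
  have h1 : RingHom.ker (D.Θ' S hS) = (Ideal.span (Set.range (D.overG S hS).F)).comap
      (D.Θ S hS).toRingHom := by
    ext x
    rw [RingHom.mem_ker, Ideal.mem_comap]
    change Ideal.Quotient.mk _ (D.Θ S hS x) = 0 ↔ _
    rw [Ideal.Quotient.eq_zero_iff_mem]
    rfl
  have h2 : (Ideal.span (Set.range (D.overG S hS).F)) =
      (Ideal.span (D.F '' (Sᶜ : Set σ))).map (D.Θ S hS).toRingHom := by
    rw [Ideal.map_span]
    congr 1
    ext y
    constructor
    · rintro ⟨u, rfl⟩
      exact ⟨D.F u.1, ⟨u.1, u.2, rfl⟩, (D.overG_F S hS u).symm⟩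
    · rintro ⟨_, ⟨t, ht, rfl⟩, rfl⟩
      exact ⟨⟨t, ht⟩, D.overG_F S hS ⟨t, ht⟩⟩
  rw [h1, h2, Ideal.comap_map_of_surjective (D.Θ S hS).toRingHom
    (D.Θ_surjective S hS), ← RingHom.ker_eq_comap_bot, ker_Θ, ← Ideal.span_union,
    ← Set.image_union, Set.compl_union_self, Set.image_univ]

/-- the isomorphism with the presentation over `G` -/
noncomputable def equivOver : D.Quot ≃+* (D.overG S hS).Quot :=
  (Ideal.quotEquivOfEq (D.ker_Θ' S hS).symm).trans
    (RingHom.quotientKerEquivOfSurjective (D.Θ'_surjective S hS))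

theorem equivOver_mk (p : MvPolynomial σ A) :
    D.equivOver S hS (Ideal.Quotient.mk _ p) = Ideal.Quotient.mk _ (D.Θ S hS p) := rfl

/-- the map from the ring of the closed subset -/
noncomputable def γ : D.G S hS →+* D.Quot :=
  Ideal.Quotient.lift _ _ (fun q hq => by
    have := D.restrict_le_ker S hS (Ideal.span (Set.range D.F))
      (by
        rintro _ ⟨t, -, rfl⟩
        exact Ideal.subset_span ⟨t, rfl⟩) hq
    exact this)

theorem γ_mk (q : MvPolynomial S A) :
    D.γ S hS (Ideal.Quotient.mk _ q) = Ideal.Quotient.mk _ (rename Subtype.val q) := rfl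

theorem equivOver_γ (g : D.G S hS) :
    D.equivOver S hS (D.γ S hS g) = algebraMap (D.G S hS) (D.overG S hS).Quot g := by
  obtain ⟨q, rfl⟩ := Ideal.Quotient.mk_surjective g
  rw [γ_mk, equivOver_mk, Θ_rename]
  rfl

theorem γ_eq : D.γ S hS = ((D.equivOver S hS).symm : _ →+* _).comp
    (algebraMap (D.G S hS) (D.overG S hS).Quot) := by
  refine RingHom.ext fun g => ?_
  rw [RingHom.comp_apply, ← equivOver_γ]
  exact ((D.equivOver S hS).symm_apply_apply _).symm

variable [WellFoundedLT σ]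

theorem γ_flat : (D.γ S hS).Flat := by
  rw [γ_eq]
  refine RingHom.Flat.comp ?_ (RingHom.Flat.of_bijective (D.equivOver S hS).symm.bijective)
  have : Module.Flat (D.G S hS) (D.overG S hS).Quot :=
    flat_of_isTri (D.overG S hS).isTriPos.isTri
  exact (RingHom.flat_algebraMap_iff).mpr this

theorem γ_injective : Function.Injective (D.γ S hS) := by
  rw [γ_eq]
  exact (D.equivOver S hS).symm.injective.comp
    (algebraMap_injective_of_isTriPos (D.overG S hS).isTriPos)

end TriData

end Groth.Agent.Lib.Helper12.TriFlat
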