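import Groth.Agent.Lib.Helper12.TriFlatH

/-!
# Finite closed subsets
-/

set_option autoImplicit false
universe u v

namespace Groth.Agent.Lib.Helper12.TriFlat

open MvPolynomial

namespace TriData

variable {A : Type u} [CommRing A] {σ : Type u} [LinearOrder σ] (D : TriData A σ)

theorem Closed.union {S T : Set σ} (hS : D.Closed S) (hT : D.Closed T) : D.Closed (S ∪ T) := by
  intro t ht i hi s hs
  rcases ht with ht | ht
  · exact Or.inl (hS t ht i hi s hs)
  · exact Or.inr (hT t ht i hi s hs)

variable [WellFoundedLT σ]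

theorem exists_finite_closed_mem (t : σ) : ∃ S : Finset σ, t ∈ S ∧ D.Closed (S : Set σ) := by
  classical
  induction t using WellFoundedLT.induction with
  | ind t ih =>
    choose! Sf hmem hcl using ih
    refine ⟨insert t ((Finset.range (D.d t)).biUnion fun i => (D.c t i).vars.biUnion Sf),
      Finset.mem_insert_self _ _, ?_⟩
    intro u hu j hj s hs
    rw [Finset.coe_insert, Set.mem_insert_iff] at hu
    rw [Finset.coe_insert, Set.mem_insert_iff]
    right
    rcases hu with rfl | hu
    · rw [Finset.mem_coe, Finset.mem_biUnion]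
      refine ⟨j, Finset.mem_range.mpr hj, ?_⟩
      rw [Finset.mem_biUnion]
      exact ⟨s, hs, hmem s (D.vars_c u j s hs)⟩
    · rw [Finset.mem_coe, Finset.mem_biUnion] at hu ⊢
      obtain ⟨i, hi, hu⟩ := hu
      rw [Finset.mem_biUnion] at hu
      obtain ⟨v, hv, hu⟩ := hu
      refine ⟨i, hi, ?_⟩
      rw [Finset.mem_biUnion]
      exact ⟨v, hv, hcl v (D.vars_c t i v hv) u hu j hj s hs⟩

theorem exists_finite_closed (T : Finset σ) :
    ∃ S : Finset σ, T ⊆ S ∧ D.Closed (S : Set σ) := by
  classical
  induction T using Finset.induction_on with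
  | empty =>
    exact ⟨∅, le_rfl, fun t ht => absurd ht (by simp)⟩
  | insert a T _ ih =>
    obtain ⟨S₁, h1, h1c⟩ := ih
    obtain ⟨S₂, h2, h2c⟩ := D.exists_finite_closed_mem a
    refine ⟨S₁ ∪ S₂, ?_, ?_⟩
    · intro x hx
      rcases Finset.mem_insert.mp hx with rfl | hx
      · exact Finset.mem_union_right _ h2
      · exact Finset.mem_union_left _ (h1 hx)
    · rw [Finset.coe_union]
      exact h1c.union D h2c

end TriData

end Groth.Agent.Lib.Helper12.TriFlat
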