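import Mathlib
import Groth.Agent.Lib.Helper12.TrivDefC

/-!
# Flat deformations of a formally smooth affine scheme over a nilpotent thickening of the
base field are trivial (scheme level, main statement)
-/

set_option autoImplicit false
universe u
open CategoryTheory AlgebraicGeometry Limits

namespace Groth.Agent.Lib.Helper12.TrivDef

theorem exists_iso_trivial (k : Type u) [Field k] (X : Scheme.{u})
    (hX : X ⟶ Spec (CommRingCat.of k)) [IsAffine X]
    (hsm : RingHom.FormallySmooth
      ((Scheme.ΓSpecIso (CommRingCat.of k)).inv ≫ hX.appTop).hom)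
    (A : Type u) [CommRing A] [Algebra k A] (e : A →ₐ[k] k)
    (hnil : IsNilpotent (RingHom.ker e))
    (X' : Scheme.{u}) (g : X' ⟶ Spec (CommRingCat.of A)) [Flat g] (i : X ⟶ X')
    (hsq : IsPullback i hX g (Spec.map (CommRingCat.ofHom e.toRingHom))) :
    ∃ φ : X' ≅ pullback hX (Spec.map (CommRingCat.ofHom (algebraMap k A))),
      φ.hom ≫ pullback.snd hX (Spec.map (CommRingCat.ofHom (algebraMap k A))) = g ∧
      i ≫ φ.hom ≫ pullback.fst hX (Spec.map (CommRingCat.ofHom (algebraMap k A))) = 𝟙 X := by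
  haveI : IsAffine X' := isAffine_of_isPullback e hnil hsq
  haveI : IsClosedImmersion i := isClosedImmersion_of_isPullback e hsq
  let B : CommRingCat.{u} := Γ(X', ⊤)
  let B0 : CommRingCat.{u} := Γ(X, ⊤)
  let gA : CommRingCat.of A ⟶ B := (Scheme.ΓSpecIso (CommRingCat.of A)).inv ≫ g.appTop
  let hk : CommRingCat.of k ⟶ B0 := (Scheme.ΓSpecIso (CommRingCat.of k)).inv ≫ hX.appTop
  let e' : CommRingCat.of A ⟶ CommRingCat.of k := CommRingCat.ofHom e.toRingHom
  have hpo := isPushout_appTop_of_isPullback hsq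
  have hpo' : IsPushout gA e' i.appTop hk := by
    refine hpo.of_iso (Scheme.ΓSpecIso (CommRingCat.of A)) (Iso.refl _)
      (Scheme.ΓSpecIso (CommRingCat.of k)) (Iso.refl _) ?_ ?_ ?_ ?_
    · simp [gA]
    · exact Scheme.ΓSpecIso_naturality _
    · simp
    · simp [hk]
  have hw : ∀ a : A, i.appTop.hom (gA.hom a) = hk.hom (e a) := by
    intro a
    have := congrArg (fun f => f.hom a) hpo'.w
    exact this
  letI algAB : Algebra A B := gA.hom.toAlgebra
  letI algkB : Algebra k B := (gA.hom.comp (algebraMap k A)).toAlgebra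
  haveI : IsScalarTower k A B := IsScalarTower.of_algebraMap_eq' rfl
  letI algkB0 : Algebra k B0 := hk.hom.toAlgebra
  let π : B →ₐ[k] B0 :=
    { i.appTop.hom with
      commutes' := fun c => by
        have h1 := hw (algebraMap k A c)
        rw [AlgHom.commutes] at h1
        exact h1 }
  have hπ : Function.Surjective π :=
    (IsClosedImmersion.isAffine_surjective_of_isAffine i).2
  have hcomm : ∀ a, π (algebraMap A B a) = algebraMap k B0 (e a) := hw
  have hflat : gA.hom.Flat := by
    have h1 : g.appTop.hom.Flat := (HasRingHomProperty.iff_of_isAffine (P := @Flat)).mp inferInstance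
    have h2 : (Scheme.ΓSpecIso (CommRingCat.of A)).inv.hom.Flat :=
      RingHom.Flat.of_bijective
        (ConcreteCategory.bijective_of_isIso (Scheme.ΓSpecIso (CommRingCat.of A)).inv)
    exact RingHom.Flat.comp h2 h1
  haveI : Module.Flat A B := hflat
  haveI : Algebra.FormallySmooth k B0 := hsm
  have hker : RingHom.ker π ≤ (RingHom.ker e).map (algebraMap A B) :=
    Groth.Agent.Lib.Helper12.HCoup.ker_le_map_of_isPushout_commRingCat e' gA hk i.appTop
      hpo'.flip hflat
  obtain ⟨σ, hσ, hpush⟩ := exists_section_isPushout k A B B0 e π hπ hnil hcomm hker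
  let σ' : B0 ⟶ B := CommRingCat.ofHom σ.toRingHom
  have hσ' : σ' ≫ i.appTop = 𝟙 B0 := by
    ext b
    have := congrArg (fun f => f b) hσ
    exact this
  have hpush' : IsPushout (CommRingCat.ofHom (algebraMap k A)) hk gA σ' := hpush
  have hpb := (isPullback_SpecMap_of_isPushout _ _ _ _ hpush').flip
  -- `hpb : IsPullback (Spec.map σ') (Spec.map gA) (Spec.map hk) (Spec.map α)`
  have hg : X'.isoSpec.hom ≫ Spec.map gA = g := by
    rw [Scheme.isoSpec_hom, Spec.map_comp, ← Scheme.toSpecΓ_naturality_assoc,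
      toSpecΓ_SpecMap_ΓSpecIso_inv, Category.comp_id]
  have hhX : X.isoSpec.hom ≫ Spec.map hk = hX := by
    rw [Scheme.isoSpec_hom, Spec.map_comp, ← Scheme.toSpecΓ_naturality_assoc,
      toSpecΓ_SpecMap_ΓSpecIso_inv, Category.comp_id]
  let ψ : X' ⟶ X := X'.isoSpec.hom ≫ Spec.map σ' ≫ X.isoSpec.inv
  have hpb' : IsPullback ψ g hX (Spec.map (CommRingCat.ofHom (algebraMap k A))) := by
    refine hpb.of_iso X'.isoSpec.symm X.isoSpec.symm (Iso.refl _) (Iso.refl _) ?_ ?_ ?_ ?_
    · simp [ψ]
    · simp only [Iso.refl_hom, Category.comp_id, Iso.symm_hom]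
      rw [← hg, Iso.inv_hom_id_assoc]
    · simp only [Iso.refl_hom, Category.comp_id, Iso.symm_hom]
      rw [← hhX, Iso.inv_hom_id_assoc]
    · simp
  refine ⟨hpb'.isoPullback, hpb'.isoPullback_hom_snd, ?_⟩
  rw [hpb'.isoPullback_hom_fst]
  simp only [ψ]
  rw [← Scheme.isoSpec_hom_naturality_assoc, ← Spec.map_comp_assoc, hσ', Spec.map_id,
    Category.id_comp, Iso.hom_inv_id]

end Groth.Agent.Lib.Helper12.TrivDef
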