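import Mathlib

/-!
# Sections of a first-order deformation compatible with finitely many marked rational points
-/

set_option autoImplicit false
universe u v

namespace Groth.Agent.Lib.Helper12.TrivDef

open TrivSqZeroExt in
theorem exists_marked_section {k B B0 : Type u} [Field k] [CommRing B] [CommRing B0]
    {ι : Type v} [Finite ι]
    (gA : DualNumber k →+* B) (hk : k →+* B0) (hsm : hk.FormallySmooth)
    (π : B →+* B0) (hπ : Function.Surjective π)
    (hπg : ∀ a, π (gA a) = hk (TrivSqZeroExt.fst a))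
    (hker : RingHom.ker π ≤ (RingHom.ker (TrivSqZeroExt.fstHom k k k).toRingHom).map gA)
    (q : ι → (B0 →+* k)) (hq : ∀ j c, q j (hk c) = c) (hqinj : Function.Injective q)
    (q' : ι → (B →+* DualNumber k)) (hq' : ∀ j a, q' j (gA a) = a)
    (hqq' : ∀ j b, TrivSqZeroExt.fst (q' j b) = q j (π b)) :
    ∃ σ : B0 →+* B, (∀ b0, π (σ b0) = b0) ∧
      (∀ c, σ (hk c) = gA (algebraMap k (DualNumber k) c)) ∧
      ∀ j b0, q' j (σ b0) = algebraMap k (DualNumber k) (q j b0) := by
  classical
  letI : Algebra k B0 := hk.toAlgebra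
  letI : Algebra k B := (gA.comp (algebraMap k (DualNumber k))).toAlgebra
  haveI : Algebra.FormallySmooth k B0 := hsm
  -- the kernel of `π` is square zero
  have hsq0 : RingHom.ker (TrivSqZeroExt.fstHom k k k).toRingHom ^ 2 = ⊥ := by
    rw [eq_bot_iff, pow_two, Ideal.mul_le]
    intro x hx y hy
    have hx' : TrivSqZeroExt.fst x = 0 := hx
    have hy' : TrivSqZeroExt.fst y = 0 := hy
    rw [Ideal.mem_bot]
    ext
    · simp [hx']
    · simp [hx', hy']
  have hkerπ : RingHom.ker π ^ 2 = ⊥ := by
    have h1 := Ideal.pow_right_mono hker 2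
    rw [← Ideal.map_pow, hsq0, Ideal.map_bot] at h1
    exact le_bot_iff.mp h1
  -- CRT
  have hmax : ∀ j, (RingHom.ker (q j)).IsMaximal := fun j =>
    RingHom.ker_isMaximal_of_surjective (q j) (fun c => ⟨hk c, hq j c⟩)
  have hne : ∀ i j, i ≠ j → RingHom.ker (q i) ≠ RingHom.ker (q j) := by
    intro i j hij h
    apply hij
    apply hqinj
    ext b
    have h1 : b - hk (q i b) ∈ RingHom.ker (q i) := by
      rw [RingHom.mem_ker, map_sub, hq, sub_self]
    rw [h, RingHom.mem_ker, map_sub, hq, sub_eq_zero] at h1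
    exact h1.symm
  have hcop : Pairwise (Function.onFun IsCoprime fun j => RingHom.ker (q j)) := by
    intro i j hij
    haveI := hmax i
    haveI := hmax j
    exact Ideal.isCoprime_of_isMaximal (hne i j hij)
  -- the target algebra
  let qA : ι → (B0 →ₐ[k] k) := fun j => { q j with commutes' := fun c => hq j c }
  let q'A : ι → (B →ₐ[k] DualNumber k) := fun j =>
    { q' j with commutes' := fun c => hq' j _ }
  let πA : B →ₐ[k] B0 :=
    { π with commutes' := fun c => by
                show π (gA (algebraMap k (DualNumber k) c)) = hk c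
                rw [hπg]
                rfl }
  let Θ : B →ₐ[k] (B0 × (ι → DualNumber k)) :=
    AlgHom.prod πA (AlgHom.pi (fun j => q'A j))
  let τ : B0 →ₐ[k] (B0 × (ι → DualNumber k)) :=
    AlgHom.prod (AlgHom.id k B0)
      (AlgHom.pi (fun j => (Algebra.ofId k (DualNumber k)).comp (qA j)))
  have hτ : ∀ b0, τ b0 ∈ Θ.range := by
    intro b0
    obtain ⟨b₁, hb₁⟩ := hπ b0
    obtain ⟨r, hr⟩ := Ideal.exists_forall_sub_mem_ideal hcop
      (fun j => hk (- TrivSqZeroExt.snd (q' j b₁)))
    have hr' : ∀ j, q j r = - TrivSqZeroExt.snd (q' j b₁) := by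
      intro j
      have := hr j
      rw [RingHom.mem_ker, map_sub, hq, sub_eq_zero] at this
      exact this
    obtain ⟨b₂, hb₂⟩ := hπ r
    refine ⟨b₁ + gA (TrivSqZeroExt.inr 1) * b₂, ?_⟩
    refine Prod.ext ?_ ?_
    · show π (b₁ + gA (TrivSqZeroExt.inr 1) * b₂) = b0
      rw [map_add, map_mul, hπg, hb₁]
      simp
    · funext j
      show q' j (b₁ + gA (TrivSqZeroExt.inr 1) * b₂) = algebraMap k (DualNumber k) (q j b0)
      rw [map_add, map_mul, hq']
      ext
      · simp [hqq', hb₁, TrivSqZeroExt.algebraMap_eq_inl]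
      · simp [hqq', hb₂, hr', TrivSqZeroExt.algebraMap_eq_inl]
  let Θ' : B →ₐ[k] Θ.range := Θ.rangeRestrict
  let τ' : B0 →ₐ[k] Θ.range := τ.codRestrict Θ.range hτ
  have hΘ' : Function.Surjective Θ' := Θ.rangeRestrict_surjective
  have hnil : IsNilpotent (RingHom.ker (Θ' : B →+* Θ.range)) := by
    refine ⟨2, ?_⟩
    have hle : RingHom.ker (Θ' : B →+* Θ.range) ≤ RingHom.ker π := by
      intro b hb
      have h1 : Θ' b = 0 := hb
      have h2 : (Θ b) = 0 := by
        have := congrArg Subtype.val h1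
        exact this
      have h3 := congrArg Prod.fst h2
      exact h3
    have h1 := Ideal.pow_right_mono hle 2
    rw [hkerπ] at h1
    exact le_bot_iff.mp h1
  let σ : B0 →ₐ[k] B := Algebra.FormallySmooth.liftOfSurjective τ' Θ' hΘ' hnil
  have hσ : ∀ b0, Θ (σ b0) = τ b0 := by
    intro b0
    have := Algebra.FormallySmooth.liftOfSurjective_apply τ' Θ' hΘ' hnil b0
    exact congrArg Subtype.val this
  refine ⟨σ.toRingHom, ?_, ?_, ?_⟩
  · intro b0
    exact congrArg Prod.fst (hσ b0)
  · intro c
    exact σ.commutes c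
  · intro j b0
    exact congrFun (congrArg Prod.snd (hσ b0)) j

end Groth.Agent.Lib.Helper12.TrivDef
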