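import Mathlib
import Groth.Prelude.Def_Exal
import Groth.Agent.Lib.Helper12.TrivDefH

/-!
# `T¹ = 0` implies every flat deformation over a local Artinian base has a section (ring level)
-/

set_option autoImplicit false
universe u
open TensorProduct

namespace Groth.Agent.Lib.Helper12.TrivDef

theorem exists_section_of_T1 {k A B B0 : Type u} [Field k] [CommRing A] [Algebra k A]
    [IsLocalRing A] [IsArtinianRing A]
    [CommRing B] [Algebra k B] [Algebra A B] [IsScalarTower k A B] [CommRing B0] [Algebra k B0]
    [Module.Flat A B]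
    (hT : ∀ E : Exal.Ext k B0 B0, E.IsTrivial)
    (e : A →ₐ[k] k) (π : B →ₐ[k] B0) (hπ : Function.Surjective π)
    (hcomm : ∀ a, π (algebraMap A B a) = algebraMap k B0 (e a))
    (hker : RingHom.ker π ≤ (RingHom.ker e).map (algebraMap A B)) :
    ∃ σ : B0 →ₐ[k] B, ∀ b0, π (σ b0) = b0 := by
  classical
  set f : A →+* B := algebraMap A B with hf
  set m : Ideal A := RingHom.ker e with hm
  have hm_max : m = IsLocalRing.maximalIdeal A := by
    have : m.IsMaximal :=
      RingHom.ker_isMaximal_of_surjective e (fun c => ⟨algebraMap k A c, by simp⟩)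
    exact IsLocalRing.eq_maximalIdeal this
  have hmπ : m.map f ≤ RingHom.ker π := by
    rw [Ideal.map_le_iff_le_comap]
    intro a ha
    rw [Ideal.mem_comap, RingHom.mem_ker, hcomm a]
    have : e a = 0 := ha
    rw [this, map_zero]
  have hJπ : ∀ J : Ideal A, J ≤ m → ∀ b ∈ J.map f, π b = 0 := fun J hJ b hb =>
    hmπ (Ideal.map_mono hJ hb)
  have main : ∀ J : Ideal A, J ≤ m → ∃ σ : B0 →ₐ[k] (B ⧸ J.map f),
      ∀ b0 b, Ideal.Quotient.mk (J.map f) b = σ b0 → π b = b0 := by
    intro J
    induction J using WellFoundedGT.induction with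
    | ind J ih =>
    intro hJ
    by_cases hJm : J = m
    · -- base case
      have hkereq : RingHom.ker π = J.map f := by
        rw [hJm]
        exact le_antisymm hker hmπ
      let Q := Ideal.quotientKerAlgEquivOfSurjective hπ
      let T := Ideal.quotientEquivAlgOfEq k hkereq
      refine ⟨T.toAlgHom.comp Q.symm.toAlgHom, ?_⟩
      intro b0 b hb
      have h1 : T (Ideal.Quotient.mk _ b) = T (Q.symm b0) := hb
      have h2 := T.injective h1
      have h3 : Q (Ideal.Quotient.mk _ b) = b0 := by rw [h2, AlgEquiv.apply_symm_apply]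
      exact h3
    · have hJlt : J < m := lt_of_le_of_ne hJ hJm
      let S : Set (Ideal A) := {K | J < K ∧ K ≤ m}
      have hS : S.Nonempty := ⟨m, hJlt, le_rfl⟩
      obtain ⟨J'', hJ''S, hmin⟩ := WellFounded.has_min (wellFounded_lt (α := Ideal A)) S hS
      obtain ⟨hJJ'', hJ''m⟩ := hJ''S
      obtain ⟨t, htJ'', htJ⟩ := SetLike.exists_of_lt hJJ''
      have hsup : J ⊔ Ideal.span {t} = J'' := by
        have h1 : J ⊔ Ideal.span {t} ≤ J'' :=
          sup_le hJJ''.le ((Ideal.span_singleton_le_iff_mem _).mpr htJ'')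
        have h2 : J < J ⊔ Ideal.span {t} := by
          refine lt_of_le_of_ne le_sup_left ?_
          intro h
          apply htJ
          rw [h]
          exact Ideal.mem_sup_right (Ideal.mem_span_singleton_self t)
        by_contra hne
        exact hmin _ ⟨h2, h1.trans hJ''m⟩ (lt_of_le_of_ne h1 hne)
      have hmt : ∀ a ∈ m, a * t ∈ J := by
        have h1 : J ⊔ m * Ideal.span {t} ≤ J'' :=
          sup_le hJJ''.le (Ideal.mul_le_right.trans ((Ideal.span_singleton_le_iff_mem _).mpr htJ''))
        have h2 : ¬ J < J ⊔ m * Ideal.span {t} := by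
          intro h2
          have h3 : ¬ (J ⊔ m * Ideal.span {t} < J'') := hmin _ ⟨h2, h1.trans hJ''m⟩
          have h4 : J ⊔ m * Ideal.span {t} = J'' := by
            by_contra hne
            exact h3 (lt_of_le_of_ne h1 hne)
          have h5 : t ∈ J ⊔ m * Ideal.span {t} := by rw [h4]; exact htJ''
          obtain ⟨j, hj, y, hy, hjy⟩ := Submodule.mem_sup.mp h5
          obtain ⟨a, ha, hay⟩ := Ideal.mem_mul_span_singleton.mp hy
          have h6 : (1 - a) * t = j := by
            rw [sub_mul, one_mul, hay, ← hjy]; ring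
          have h7 : IsUnit (1 - a) := by
            apply IsLocalRing.isUnit_one_sub_self_of_mem_nonunits
            rw [← IsLocalRing.mem_maximalIdeal, ← hm_max]
            exact ha
          apply htJ
          have h8 : t = h7.unit⁻¹ * ((1 - a) * t) := by
            rw [← mul_assoc, IsUnit.val_inv_mul, one_mul]
          rw [h8, h6]
          exact Ideal.mul_mem_left _ _ hj
        have h3 : J ⊔ m * Ideal.span {t} = J := by
          by_contra hne
          exact h2 (lt_of_le_of_ne le_sup_left (Ne.symm hne))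
        intro a ha
        rw [← h3]
        exact Ideal.mem_sup_right (Ideal.mul_mem_mul ha (Ideal.mem_span_singleton_self t))
      obtain ⟨σ'', hσ''⟩ := ih J'' hJJ'' hJ''m
      have hle : J.map f ≤ J''.map f := Ideal.map_mono hJJ''.le
      let ρ : (B ⧸ J.map f) →ₐ[k] (B ⧸ J''.map f) := Ideal.Quotient.factorₐ k hle
      let πC : (B ⧸ J.map f) →ₐ[k] B0 := Ideal.Quotient.liftₐ (J.map f) π (hJπ J hJ)
      let π'' : (B ⧸ J''.map f) →ₐ[k] B0 := Ideal.Quotient.liftₐ (J''.map f) π (hJπ J'' hJ''m)
      have hρmk : ∀ b, ρ (Ideal.Quotient.mk _ b) = Ideal.Quotient.mk _ b := fun b => rfl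
      have hπCmk : ∀ b, πC (Ideal.Quotient.mk _ b) = π b := fun b => rfl
      have hπ''mk : ∀ b, π'' (Ideal.Quotient.mk _ b) = π b := fun b => rfl
      let tb : B ⧸ J.map f := Ideal.Quotient.mk _ (f t)
      have hJ''map : J''.map f = J.map f ⊔ Ideal.span {f t} := by
        rw [← hsup, Ideal.map_sup, Ideal.map_span, Set.image_singleton]
      have hπC : Function.Surjective πC := by
        intro b0
        obtain ⟨b, rfl⟩ := hπ b0
        exact ⟨Ideal.Quotient.mk _ b, rfl⟩
      have hρ : Function.Surjective ρ := by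
        intro c
        obtain ⟨b, rfl⟩ := Ideal.Quotient.mk_surjective c
        exact ⟨Ideal.Quotient.mk _ b, rfl⟩
      have hππ : ∀ c, π'' (ρ c) = πC c := by
        intro c
        obtain ⟨b, rfl⟩ := Ideal.Quotient.mk_surjective c
        rfl
      have hkerρ : RingHom.ker ρ = Ideal.span {tb} := by
        ext c
        obtain ⟨b, rfl⟩ := Ideal.Quotient.mk_surjective c
        rw [RingHom.mem_ker, hρmk, Ideal.Quotient.eq_zero_iff_mem, hJ''map,
          Ideal.mem_span_singleton']
        constructor
        · intro hb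
          obtain ⟨j, hj, y, hy, hjy⟩ := Submodule.mem_sup.mp hb
          obtain ⟨r, hr⟩ := Ideal.mem_span_singleton'.mp hy
          refine ⟨Ideal.Quotient.mk _ r, ?_⟩
          rw [← hjy, ← hr, map_add, map_mul, Ideal.Quotient.eq_zero_iff_mem.mpr hj, zero_add]
        · rintro ⟨c', hc'⟩
          obtain ⟨r, rfl⟩ := Ideal.Quotient.mk_surjective c'
          have h1 : r * f t - b ∈ J.map f := by
            rw [← Ideal.Quotient.eq_zero_iff_mem, map_sub, map_mul, sub_eq_zero]
            exact hc'
          have h2 : b = -(r * f t - b) + r * f t := by ring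
          rw [h2]
          exact Submodule.add_mem_sup (neg_mem h1)
            (Ideal.mem_span_singleton'.mpr ⟨r, rfl⟩)
      have hmul : Ideal.span {f t} * m.map f ≤ J.map f := by
        have h1 : Ideal.span {t} * m ≤ J := by
          rw [Ideal.span_singleton_mul_le_iff]
          intro a ha
          rw [mul_comm]
          exact hmt a ha
        have h2 := Ideal.map_mono (f := f) h1
        rwa [Ideal.map_mul, Ideal.map_span, Set.image_singleton] at h2
      have h1 : ∀ c, πC c = 0 → tb * c = 0 := by
        intro c hc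
        obtain ⟨b, rfl⟩ := Ideal.Quotient.mk_surjective c
        rw [hπCmk] at hc
        have hb : b ∈ m.map f := hker hc
        show Ideal.Quotient.mk _ (f t) * Ideal.Quotient.mk _ b = 0
        rw [← map_mul, Ideal.Quotient.eq_zero_iff_mem]
        exact hmul (Ideal.mul_mem_mul (Ideal.mem_span_singleton_self _) hb)
      have h2 : ∀ c, tb * c = 0 → πC c = 0 := by
        intro c hc
        obtain ⟨b, rfl⟩ := Ideal.Quotient.mk_surjective c
        rw [hπCmk]
        have hc' : f t * b ∈ J.map f := by
          rw [← Ideal.Quotient.eq_zero_iff_mem, map_mul]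
          exact hc
        have hc'' : t • b ∈ J • (⊤ : Submodule A B) := by
          rw [Ideal.smul_top_eq_map, Algebra.smul_def]
          exact hc'
        obtain ⟨I, hI, hbI⟩ := flat_colon J t b hc''
        have hIm : I ≤ m := by
          intro a ha
          by_contra ham
          rw [hm_max, IsLocalRing.mem_maximalIdeal, mem_nonunits_iff, not_not] at ham
          apply htJ
          have h8 : t = ham.unit⁻¹ * (a * t) := by
            rw [← mul_assoc, IsUnit.val_inv_mul, one_mul]
          rw [h8]
          exact Ideal.mul_mem_left _ _ (hI a ha)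
        have h3 : b ∈ m • (⊤ : Submodule A B) := Submodule.smul_mono_left hIm hbI
        rw [Ideal.smul_top_eq_map] at h3
        exact hmπ h3
      have hσ''' : ∀ b0, π'' (σ'' b0) = b0 := by
        intro b0
        obtain ⟨b, hb⟩ := Ideal.Quotient.mk_surjective (σ'' b0)
        rw [← hb, hπ''mk]
        exact hσ'' b0 b hb
      obtain ⟨σ, hσ⟩ := lift_section_step hT πC hπC ρ hρ π'' hππ tb hkerρ h1 h2 σ'' hσ'''
      refine ⟨σ, fun b0 b hb => ?_⟩
      apply hσ'' b0 b
      rw [← hσ, ← hb, hρmk]
  obtain ⟨σ, hσ⟩ := main ⊥ bot_le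
  let T : (B ⧸ (⊥ : Ideal A).map f) ≃ₐ[k] B :=
    (Ideal.quotientEquivAlgOfEq k Ideal.map_bot).trans (AlgEquiv.quotientBot k B)
  refine ⟨T.toAlgHom.comp σ, fun b0 => ?_⟩
  obtain ⟨b, hb⟩ := Ideal.Quotient.mk_surjective (σ b0)
  have h1 : T (σ b0) = b := by
    rw [← hb]
    rfl
  show π (T (σ b0)) = b0
  rw [h1]
  exact hσ b0 b hb

end Groth.Agent.Lib.Helper12.TrivDef
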