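import Mathlib.RingTheory.Unramified.LocalRing
import Mathlib.FieldTheory.IsSepClosed
import Mathlib.RingTheory.Nakayama

set_option autoImplicit false
universe u

namespace Groth.Agent.Lib.Helper12

open IsLocalRing

/-- A finite local algebra over a local ring is local over it. -/
theorem isLocalHom_of_finite {R A : Type*} [CommRing R] [IsLocalRing R] [CommRing A]
    [IsLocalRing A] [Algebra R A] [Algebra.IsIntegral R A] : IsLocalHom (algebraMap R A) := by
  have hcomap : (maximalIdeal A).comap (algebraMap R A) = maximalIdeal R :=
    IsLocalRing.eq_maximalIdeal
      (Ideal.isMaximal_comap_of_isIntegral_of_isMaximal (R := R) (maximalIdeal A))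
  exact ((IsLocalRing.local_hom_TFAE (algebraMap R A)).out 0 4).mpr hcomap

/-- A finite local unramified algebra over a local ring with separably closed residue field is a
quotient of the base. -/
theorem surjective_algebraMap_of_unramified_of_isSepClosed {R A : Type*} [CommRing R]
    [IsLocalRing R] [IsSepClosed (ResidueField R)] [CommRing A] [IsLocalRing A] [Algebra R A]
    [Module.Finite R A] [Algebra.FormallyUnramified R A] :
    Function.Surjective (algebraMap R A) := by
  have : IsLocalHom (algebraMap R A) := isLocalHom_of_finite
  have hmax : (maximalIdeal R).map (algebraMap R A) = maximalIdeal A :=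
    Algebra.FormallyUnramified.map_maximalIdeal
  have hres : Function.Surjective (algebraMap (ResidueField R) (ResidueField A)) :=
    IsSepClosed.algebraMap_surjective _ _
  have hs : Function.Surjective (Algebra.linearMap R A) := by
    apply LinearMap.surjective_of_surjective_comp_mkQ (Algebra.linearMap R A) (maximalIdeal R)
    · rw [jacobson_eq_maximalIdeal _ bot_ne_top]
    · intro z
      obtain ⟨z, rfl⟩ := Submodule.mkQ_surjective _ z
      obtain ⟨y, hy⟩ := hres (residue A z)
      obtain ⟨r, rfl⟩ := residue_surjective y
      refine ⟨r, ?_⟩
      simp only [LinearMap.comp_apply, Algebra.linearMap_apply]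
      rw [← sub_eq_zero, ← map_sub, Submodule.mkQ_apply, Submodule.Quotient.mk_eq_zero,
        Ideal.smul_top_eq_map, hmax]
      show _ ∈ maximalIdeal A
      rw [← residue_eq_zero_iff, map_sub, ← hy, sub_eq_zero]
      rfl
  exact hs

end Groth.Agent.Lib.Helper12
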