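import Groth.Agent.Lib.Helper12.WEtStrict
import Mathlib.AlgebraicGeometry.Morphisms.WeaklyEtale
import Mathlib.AlgebraicGeometry.Stalk

/-!
# Weakly étale morphisms from spectra of (strict) henselizations of local rings of a scheme
-/

set_option autoImplicit false
universe u

namespace Groth.Agent.Lib.Helper12.WEtScheme

open AlgebraicGeometry CategoryTheory Limits TensorProduct

/-- `Spec O_{X,x} → X` is flat. -/
theorem flat_fromSpecStalk (X : Scheme.{u}) (x : X) : Flat (X.fromSpecStalk x) := by
  obtain ⟨U, hU, hxU, -⟩ :=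
    TopologicalSpace.Opens.isBasis_iff_nbhd.mp X.isBasis_affineOpens
      (show x ∈ (⊤ : X.Opens) from trivial)
  rw [← hU.fromSpecStalk_eq_fromSpecStalk hxU]
  dsimp [IsAffineOpen.fromSpecStalk]
  have : Flat (Spec.map (X.presheaf.germ U x hxU)) := by
    rw [Flat.SpecMap_iff]
    letI : Algebra Γ(X, U) (X.presheaf.stalk x) := (X.presheaf.germ U x hxU).hom.toAlgebra
    haveI := hU.isLocalization_stalk ⟨x, hxU⟩
    show (algebraMap Γ(X, U) (X.presheaf.stalk x)).Flat
    rw [RingHom.flat_algebraMap_iff]
    exact IsLocalization.flat (X.presheaf.stalk x) (hU.primeIdealOf ⟨x, hxU⟩).asIdeal.primeCompl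
  infer_instance

/-- `Spec O_{X,x} → X` is weakly étale. -/
theorem weaklyEtale_fromSpecStalk (X : Scheme.{u}) (x : X) : WeaklyEtale (X.fromSpecStalk x) where
  flat := flat_fromSpecStalk X x
  flat_diagonal := inferInstance

/-- A weakly étale algebra gives a weakly étale morphism of spectra. -/
theorem weaklyEtale_SpecMap (R S : Type u) [CommRing R] [CommRing S] [Algebra R S]
    [Algebra.WeaklyEtale R S] :
    WeaklyEtale (Spec.map (CommRingCat.ofHom (algebraMap R S))) where
  flat := by
    rw [Flat.SpecMap_iff]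
    show (algebraMap R S).Flat
    rw [RingHom.flat_algebraMap_iff]
    infer_instance
  flat_diagonal := by
    rw [diagonal_SpecMap R S]
    have : Flat (Spec.map (CommRingCat.ofHom
        (Algebra.TensorProduct.lmul' R : S ⊗[R] S →ₐ[R] S).toRingHom)) := by
      rw [Flat.SpecMap_iff]
      exact Algebra.WeaklyEtale.flat_lmul' R S
    infer_instance

end Groth.Agent.Lib.Helper12.WEtScheme
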