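import Groth.Agent.Lib.Helper12.WEtFlat
import Groth.Agent.Lib.Helper12.StrictStruct5
import Mathlib.RingTheory.Etale.Weakly

/-!
# (Strict) henselizations are weakly étale
-/

set_option autoImplicit false
universe u

namespace Groth.Agent.Lib.Helper12.WEtFlat

open TensorProduct

section General

variable {A S : Type u} [CommRing A] [CommRing S] [Algebra A S]

/-- Every element of `S ⊗ S` comes from `S ⊗ E` as soon as finitely many elements of `S` come
from `E`. -/
theorem exists_finset_of_tensor (t : S ⊗[A] S) :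
    ∃ s : Finset S, ∀ (E : Type u) [CommRing E] [Algebra A E] (ψ : E →ₐ[A] S),
      (∀ x ∈ s, x ∈ ψ.range) → t ∈ (Algebra.TensorProduct.map (AlgHom.id S S) ψ).range := by
  classical
  induction t using TensorProduct.induction_on with
  | zero => exact ⟨∅, fun E _ _ ψ _ => Subalgebra.zero_mem _⟩
  | tmul a b =>
    refine ⟨{b}, fun E _ _ ψ h => ?_⟩
    obtain ⟨e, he⟩ := h b (Finset.mem_singleton_self b)
    have he' : ψ e = b := he
    refine ⟨a ⊗ₜ e, ?_⟩
    show Algebra.TensorProduct.map (AlgHom.id S S) ψ (a ⊗ₜ[A] e) = a ⊗ₜ[A] b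
    rw [Algebra.TensorProduct.map_tmul, AlgHom.id_apply, he']
  | add x y hx hy =>
    obtain ⟨s₁, h₁⟩ := hx
    obtain ⟨s₂, h₂⟩ := hy
    refine ⟨s₁ ∪ s₂, fun E _ _ ψ h => ?_⟩
    exact Subalgebra.add_mem _
      (h₁ E ψ fun x hx => h x (Finset.mem_union_left _ hx))
      (h₂ E ψ fun x hx => h x (Finset.mem_union_right _ hx))

/-- If `S` is a directed union of images of essentially finite type formally unramified
`A`-algebras then the multiplication map `S ⊗ S → S` is flat. -/
theorem flat_lmul'_of_forall_finset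
    (h : ∀ s : Finset S, ∃ (E : Type u) (_ : CommRing E) (_ : Algebra A E)
      (_ : Algebra.EssFiniteType A E) (_ : Algebra.FormallyUnramified A E) (ψ : E →ₐ[A] S),
      ∀ x ∈ s, x ∈ ψ.range) :
    (Algebra.TensorProduct.lmul' A (S := S)).toRingHom.Flat := by
  classical
  letI alg : Algebra (S ⊗[A] S) S := (Algebra.TensorProduct.lmul' A (S := S)).toRingHom.toAlgebra
  show Module.Flat (S ⊗[A] S) S
  have hsm : ∀ (t : S ⊗[A] S) (m : S), t • m = Algebra.TensorProduct.lmul' A (S := S) t * m :=
    fun _ _ => rfl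
  haveI : IsScalarTower S (S ⊗[A] S) S := ⟨fun s t m => by
    rw [hsm, hsm, Algebra.smul_def, map_mul, smul_eq_mul, mul_assoc]
    congr 1
    show Algebra.TensorProduct.lmul' A (S := S) (s ⊗ₜ[A] 1) = s
    simp⟩
  refine flat_of_forall_finset (R := S) (S := S ⊗[A] S) (M := S) inferInstance fun T => ?_
  choose sT hsT using fun t : S ⊗[A] S => exists_finset_of_tensor (A := A) t
  obtain ⟨E, _, _, _, _, ψ, hψ⟩ := h (T.biUnion sT)
  refine ⟨S ⊗[A] E, inferInstance, inferInstance, inferInstance, inferInstance,
    Algebra.TensorProduct.map (AlgHom.id S S) ψ, fun t ht => ?_⟩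
  exact hsT t E ψ fun x hx => hψ x (Finset.mem_biUnion.2 ⟨t, ht, hx⟩)

end General

open IsLocalRing

variable (A : Type u) [CommRing A] [IsLocalRing A]

/-- A strict henselization is weakly étale. -/
theorem weaklyEtale_of_isStrictHenselization (S : Type u) [CommRing S] [IsLocalRing S]
    [Algebra A S] [IsLocalHom (algebraMap A S)] [Hensel.IsStrictHenselization A S] :
    Algebra.WeaklyEtale A S where
  flat := StrictStruct.flat_of_isStrictHenselization A S
  flat_lmul' := flat_lmul'_of_forall_finset fun s => by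
    obtain ⟨i, ψ, -, -, hψ⟩ := StrictStruct.exists_nbhd_range A S s
    exact ⟨i.G, inferInstance, inferInstance, inferInstance, inferInstance, ψ, hψ⟩

/-- A henselization is weakly étale. -/
theorem weaklyEtale_of_isHenselization (S : Type u) [CommRing S] [IsLocalRing S]
    [Algebra A S] [IsLocalHom (algebraMap A S)] [Hensel.IsHenselization A S] :
    Algebra.WeaklyEtale A S where
  flat := by
    obtain ⟨e⟩ := Henselization.nonempty_algEquiv (A := A) S
    exact Module.Flat.of_linearEquiv e.toLinearEquiv
  flat_lmul' := flat_lmul'_of_forall_finset fun s => by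
    obtain ⟨i, ψ, -, -, hψ⟩ := HensStruct.exists_nbhd_range A S s
    have hE := i.isStrictlyEssentiallyEtale.1
    haveI : Algebra.FormallyEtale A i.G := formallyEtale_of_isEssentiallyEtale hE
    exact ⟨i.G, inferInstance, inferInstance, essFiniteType_of_isEssentiallyEtale hE,
      inferInstance, ψ, hψ⟩

end Groth.Agent.Lib.Helper12.WEtFlat
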