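import Mathlib

/-!
# Reversal of distinguished polynomials

`Dist Q` : `Q` has constant term `1` and all other coefficients in the maximal ideal.
The reverse of such a `Q` is a monic polynomial whose non-leading coefficients lie in the
maximal ideal, and conversely.
-/

set_option autoImplicit false
set_option linter.unusedSectionVars false
set_option linter.style.haveILetI false
universe u

namespace Groth.Agent.Lib.Helper12.WLaur

open Polynomial IsLocalRing

variable {R : Type u} [CommRing R] [IsLocalRing R]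

/-- `Q` has constant coefficient `1` and its other coefficients in the maximal ideal. -/
def Dist (Q : R[X]) : Prop :=
  Q.coeff 0 = 1 ∧ ∀ i : ℕ, 0 < i → Q.coeff i ∈ maximalIdeal R

theorem Dist.natTrailingDegree {Q : R[X]} (hQ : Dist Q) : Q.natTrailingDegree = 0 := by
  rw [Polynomial.natTrailingDegree_eq_zero]
  right
  rw [hQ.1]
  exact one_ne_zero

theorem Dist.reverse_natDegree {Q : R[X]} (hQ : Dist Q) : Q.reverse.natDegree = Q.natDegree := by
  rw [Polynomial.reverse_natDegree, hQ.natTrailingDegree, Nat.sub_zero]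

theorem Dist.reverse_monic {Q : R[X]} (hQ : Dist Q) : Q.reverse.Monic := by
  unfold Polynomial.Monic
  rw [Polynomial.reverse_leadingCoeff, Polynomial.trailingCoeff, hQ.natTrailingDegree, hQ.1]

theorem Dist.reverse_coeff_mem {Q : R[X]} (hQ : Dist Q) (i : ℕ) (hi : i < Q.reverse.natDegree) :
    Q.reverse.coeff i ∈ maximalIdeal R := by
  rw [hQ.reverse_natDegree] at hi
  rw [Polynomial.coeff_reverse, Polynomial.revAt_le hi.le]
  exact hQ.2 _ (by omega)

theorem dist_reverse {P : R[X]} (hP : P.Monic)
    (hPc : ∀ i : ℕ, i < P.natDegree → P.coeff i ∈ maximalIdeal R) : Dist P.reverse := by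
  refine ⟨?_, ?_⟩
  · rw [Polynomial.coeff_zero_reverse, hP.leadingCoeff]
  · intro i hi
    rw [Polynomial.coeff_reverse]
    by_cases h : i ≤ P.natDegree
    · rw [Polynomial.revAt_le h]
      exact hPc _ (by omega)
    · rw [Polynomial.revAt_eq_self_of_lt (not_le.mp h),
        Polynomial.coeff_eq_zero_of_natDegree_lt (not_le.mp h)]
      exact zero_mem _

theorem Dist.reverse_reverse {Q : R[X]} (hQ : Dist Q) : Q.reverse.reverse = Q := by
  unfold Polynomial.reverse
  rw [show (Q.reflect Q.natDegree).natDegree = Q.natDegree from hQ.reverse_natDegree]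
  exact Polynomial.reflect_reflect

theorem Dist.sub_one_mem {Q : R[X]} (hQ : Dist Q) :
    Q - 1 ∈ (maximalIdeal R).map (C : R →+* R[X]) := by
  rw [Ideal.mem_map_C_iff]
  intro i
  rcases Nat.eq_zero_or_pos i with h | h
  · subst h
    rw [coeff_sub, hQ.1, coeff_one_zero, sub_self]
    exact zero_mem _
  · rw [coeff_sub, coeff_one, if_neg h.ne', sub_zero]
    exact hQ.2 i h

/-- An ideal comaximal with `𝔪 R[X]` contains a distinguished `Q`. -/
theorem exists_dist_mem (I : Ideal R[X])
    (hI : I ⊔ (maximalIdeal R).map (algebraMap R R[X]) = ⊤) : ∃ Q ∈ I, Dist Q := by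
  have h1 : (1 : R[X]) ∈ I ⊔ (maximalIdeal R).map (algebraMap R R[X]) := by
    rw [hI]; trivial
  obtain ⟨i, hi, m, hm, him⟩ := Submodule.mem_sup.mp h1
  rw [Polynomial.algebraMap_eq, Ideal.mem_map_C_iff] at hm
  have hcoeff : ∀ n, i.coeff n = (1 : R[X]).coeff n - m.coeff n := by
    intro n
    rw [← him, coeff_add, add_sub_cancel_right]
  have hu : IsUnit (i.coeff 0) := by
    rw [hcoeff 0, coeff_one_zero]
    by_contra hne
    have h2 : (1 : R) - m.coeff 0 ∈ maximalIdeal R := hne
    have h3 : (1 : R) ∈ maximalIdeal R := by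
      have := add_mem h2 (hm 0)
      rwa [sub_add_cancel] at this
    exact (Ideal.ne_top_iff_one _).mp (maximalIdeal.isMaximal R).ne_top h3
  obtain ⟨u, hu⟩ := hu
  refine ⟨C (↑u⁻¹ : R) * i, I.mul_mem_left _ hi, ?_, ?_⟩
  · rw [coeff_C_mul, ← hu, Units.inv_mul]
  · intro n hn
    rw [coeff_C_mul, hcoeff n, coeff_one, if_neg hn.ne', zero_sub]
    exact Ideal.mul_mem_left _ _ (neg_mem (hm n))

end Groth.Agent.Lib.Helper12.WLaur
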