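import Mathlib
import Groth.Agent.Lib.Helper12.WLaurA

/-!
# Ideals of `R[s]` and of `B[1/t]` avoiding the special fibre: abstract form

`B` is an `R[t]`-algebra with Weierstrass division (`HDiv`), and `L = B[1/t]`, `ψ : R[s] → L`,
`s ↦ t⁻¹`.  For a distinguished `Q` (constant term `1`, other coefficients in `𝔪`),
`R[s]/(Q) → L/(ψ Q)` is bijective.
-/

set_option autoImplicit false
set_option linter.unusedSectionVars false
set_option linter.style.haveILetI false
universe u

namespace Groth.Agent.Lib.Helper12.WLaur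

open Polynomial IsLocalRing

variable {R : Type u} [CommRing R] [IsLocalRing R]
  {B : Type u} [CommRing B] [Algebra R B] [Algebra R[X] B] [IsScalarTower R R[X] B]
  {L : Type u} [CommRing L] [Algebra B L] [Algebra R L] [IsScalarTower R B L]

variable (R B) in
/-- Weierstrass division by distinguished polynomials. -/
def HDiv : Prop :=
  ∀ P : R[X], P.Monic → (∀ i : ℕ, i < P.natDegree → P.coeff i ∈ maximalIdeal R) →
    (∀ b : B, ∃ q : R[X], algebraMap R[X] B q - b ∈ Ideal.span {algebraMap R[X] B P}) ∧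
    (∀ q : R[X], algebraMap R[X] B q ∈ Ideal.span {algebraMap R[X] B P} → q ∈ Ideal.span {P})

variable (R B) in
/-- Weierstrass preparation. -/
def HPrep : Prop :=
  ∀ f : B, f ∉ (maximalIdeal R).map (algebraMap R B) →
    ∃ (P : R[X]) (v : Bˣ), P.Monic ∧
      (∀ i : ℕ, i < P.natDegree → P.coeff i ∈ maximalIdeal R) ∧
      f = algebraMap R[X] B P * (v : B)

variable (R B) in
/-- Powers of `t` are nonzero modulo `𝔪 B`. -/
def HPow : Prop :=
  ∀ k : ℕ, (algebraMap R[X] B X) ^ k ∉ (maximalIdeal R).map (algebraMap R B)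

theorem algebraMap_eq_eval₂ (P : R[X]) :
    algebraMap B L (algebraMap R[X] B P) =
      eval₂ (algebraMap R L) (algebraMap B L (algebraMap R[X] B X)) P := by
  have h : ((algebraMap B L).comp (algebraMap R[X] B)) =
      (eval₂RingHom (algebraMap R L) (algebraMap B L (algebraMap R[X] B X))) := by
    apply Polynomial.ringHom_ext
    · intro a
      rw [RingHom.comp_apply, coe_eval₂RingHom, eval₂_C, Polynomial.C_eq_algebraMap,
        ← IsScalarTower.algebraMap_apply R R[X] B, ← IsScalarTower.algebraMap_apply R B L]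
    · rw [RingHom.comp_apply, coe_eval₂RingHom, eval₂_X]
  exact congrArg (fun φ : R[X] →+* L => φ P) h

theorem psi_eq_eval₂ (ψ : R[X] →ₐ[R] L) (g : R[X]) :
    ψ g = eval₂ (algebraMap R L) (ψ X) g := by
  rw [← Polynomial.aeval_def, Polynomial.aeval_algHom_apply, Polynomial.aeval_X_left_apply]

variable (ψ : R[X] →ₐ[R] L) (hψ : ψ X * algebraMap B L (algebraMap R[X] B X) = 1)

include hψ in
theorem algebraMap_reverse_mul_pow (Q : R[X]) :
    algebraMap B L (algebraMap R[X] B Q.reverse) * (ψ X) ^ Q.natDegree = ψ Q := by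
  letI : Invertible (ψ X) :=
    ⟨algebraMap B L (algebraMap R[X] B X), by rw [mul_comm]; exact hψ, hψ⟩
  have h := eval₂_reverse_mul_pow (algebraMap R L) (ψ X) Q
  rw [algebraMap_eq_eval₂ Q.reverse, psi_eq_eval₂ ψ Q]
  exact h

include hψ in
theorem psi_reverse_mul_pow (P : R[X]) :
    ψ P.reverse * (algebraMap B L (algebraMap R[X] B X)) ^ P.natDegree =
      algebraMap B L (algebraMap R[X] B P) := by
  letI : Invertible (algebraMap B L (algebraMap R[X] B X)) :=
    ⟨ψ X, hψ, by rw [mul_comm]; exact hψ⟩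
  have h := eval₂_reverse_mul_pow (algebraMap R L) (algebraMap B L (algebraMap R[X] B X)) P
  rw [algebraMap_eq_eval₂ P, psi_eq_eval₂ ψ P.reverse]
  exact h

include hψ in
theorem pow_mul_pow (k : ℕ) :
    (ψ X) ^ k * (algebraMap B L (algebraMap R[X] B X)) ^ k = 1 := by
  rw [← mul_pow, hψ, one_pow]

include hψ in
theorem algebraMap_reverse_eq (Q : R[X]) :
    algebraMap B L (algebraMap R[X] B Q.reverse) =
      ψ Q * (algebraMap B L (algebraMap R[X] B X)) ^ Q.natDegree := by
  rw [← algebraMap_reverse_mul_pow ψ hψ Q, mul_assoc, pow_mul_pow ψ hψ, mul_one]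

include hψ in
/-- `t ≡ ψ(-Q.divX)` modulo `ψ Q` for `Q` with constant term `1`. -/
theorem t_sub_mem {Q : R[X]} (hQ : Dist Q) :
    algebraMap B L (algebraMap R[X] B X) - ψ (-Q.divX) ∈ Ideal.span {ψ Q} := by
  have h1 : Q = Q.divX * X + 1 := by
    conv_lhs => rw [← Polynomial.divX_mul_X_add Q, hQ.1, map_one]
  have h2 : ψ Q = ψ Q.divX * ψ X + 1 := by
    conv_lhs => rw [h1]
    rw [map_add, map_mul, map_one]
  have h3 : algebraMap B L (algebraMap R[X] B X) - ψ (-Q.divX) =
      algebraMap B L (algebraMap R[X] B X) * ψ Q := by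
    rw [h2, mul_add, mul_one, map_neg, sub_neg_eq_add, mul_comm, mul_assoc, hψ, mul_one, add_comm]
  rw [h3]
  exact Ideal.mul_mem_left _ _ (Ideal.subset_span rfl)

variable [IsLocalization.Away (algebraMap R[X] B X) L]

include hψ in
/-- Surjectivity of `R[s] → L/(ψ Q)`. -/
theorem exists_psi_sub_mem (hdiv : HDiv R B) {Q : R[X]} (hQ : Dist Q) (l : L) :
    ∃ g : R[X], ψ g - l ∈ Ideal.span {ψ Q} := by
  obtain ⟨k, b, hb⟩ := IsLocalization.Away.surj (algebraMap R[X] B X) l
  have hl : l = algebraMap B L b * (ψ X) ^ k := by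
    rw [← hb, mul_assoc, mul_comm _ (ψ X ^ k), pow_mul_pow ψ hψ, mul_one]
  obtain ⟨q, hq⟩ := (hdiv Q.reverse hQ.reverse_monic hQ.reverse_coeff_mem).1 b
  -- transport `hq` to `L`
  have hq' : algebraMap B L (algebraMap R[X] B q) - algebraMap B L b ∈ Ideal.span {ψ Q} := by
    obtain ⟨c, hc⟩ := Ideal.mem_span_singleton'.mp hq
    rw [← map_sub, ← hc, map_mul, algebraMap_reverse_eq ψ hψ Q]
    rw [show algebraMap B L c * (ψ Q * algebraMap B L (algebraMap R[X] B X) ^ Q.natDegree) =
      (algebraMap B L c * algebraMap B L (algebraMap R[X] B X) ^ Q.natDegree) * ψ Q by ring]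
    exact Ideal.mul_mem_left _ _ (Ideal.subset_span rfl)
  -- replace `t` by a polynomial in `s`
  have hq'' : ψ (aeval (-Q.divX) q) - algebraMap B L (algebraMap R[X] B q) ∈
      Ideal.span {ψ Q} := by
    rw [algebraMap_eq_eval₂, ← Polynomial.aeval_algHom_apply, Polynomial.aeval_def,
      Polynomial.eval₂_eq_eval_map, Polynomial.eval₂_eq_eval_map]
    obtain ⟨c, hc⟩ := Polynomial.sub_dvd_eval_sub (ψ (-Q.divX))
      (algebraMap B L (algebraMap R[X] B X)) (q.map (algebraMap R L))
    rw [hc, ← neg_sub, neg_mul]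
    exact neg_mem (Ideal.mul_mem_right _ _ (t_sub_mem ψ hψ hQ))
  refine ⟨aeval (-Q.divX) q * X ^ k, ?_⟩
  rw [hl, map_mul, map_pow, ← sub_mul]
  apply Ideal.mul_mem_right
  have := add_mem hq'' hq'
  rwa [sub_add_sub_cancel] at this

include hψ in
/-- Injectivity of `R[s]/(Q) → L/(ψ Q)`. -/
theorem mem_span_of_psi_mem (hdiv : HDiv R B) {Q : R[X]} (hQ : Dist Q) (g : R[X])
    (hg : ψ g ∈ Ideal.span {ψ Q}) : g ∈ Ideal.span {Q} := by
  obtain ⟨l, hl⟩ := Ideal.mem_span_singleton'.mp hg
  obtain ⟨k, b, hb⟩ := IsLocalization.Away.surj (algebraMap R[X] B X) l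
  set N := Q.natDegree with hN
  set M := g.natDegree + N + k with hM
  set tL := algebraMap B L (algebraMap R[X] B X) with htL
  have hgM : g.natDegree ≤ M := by omega
  -- `G = reflect M g` has image `ψ g * t^M`
  have hG : algebraMap B L (algebraMap R[X] B (g.reflect M)) = ψ g * tL ^ M := by
    letI : Invertible (ψ X) := ⟨tL, by rw [mul_comm]; exact hψ, hψ⟩
    have h := eval₂_reflect_mul_pow (algebraMap R L) (ψ X) M g hgM
    rw [← psi_eq_eval₂ ψ g] at h
    rw [← h, algebraMap_eq_eval₂, mul_assoc, pow_mul_pow ψ hψ, mul_one]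
    rfl
  have hG2 : algebraMap B L (algebraMap R[X] B (g.reflect M)) =
      algebraMap B L (algebraMap R[X] B Q.reverse * b * (algebraMap R[X] B X) ^ (M - N - k)) := by
    rw [hG, ← hl, map_mul, map_mul, map_pow, algebraMap_reverse_eq ψ hψ Q, ← hb, ← htL, ← hN]
    have e : M = N + k + (M - N - k) := by omega
    conv_lhs => rw [e, pow_add, pow_add]
    ring
  obtain ⟨j, hj⟩ := IsLocalization.Away.exists_of_eq (algebraMap R[X] B X) hG2
  have h3 : algebraMap R[X] B (X ^ j * g.reflect M) ∈
      Ideal.span {algebraMap R[X] B Q.reverse} := by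
    rw [map_mul, map_pow, hj]
    rw [show algebraMap R[X] B X ^ j * (algebraMap R[X] B Q.reverse * b *
        algebraMap R[X] B X ^ (M - N - k)) =
      (algebraMap R[X] B X ^ j * b * algebraMap R[X] B X ^ (M - N - k)) *
        algebraMap R[X] B Q.reverse by ring]
    exact Ideal.mul_mem_left _ _ (Ideal.subset_span rfl)
  have h4 := (hdiv Q.reverse hQ.reverse_monic hQ.reverse_coeff_mem).2 _ h3
  obtain ⟨H, hH⟩ := Ideal.mem_span_singleton'.mp h4
  -- degrees
  have hdeg1 : (X ^ j * g.reflect M : R[X]).natDegree ≤ j + M := by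
    refine (Polynomial.natDegree_mul_le).trans ?_
    refine add_le_add (Polynomial.natDegree_X_pow_le j) ?_
    refine (Polynomial.natDegree_reflect_le).trans ?_
    exact max_le le_rfl hgM
  have hdegH : H.natDegree ≤ j + M - N := by
    by_cases hH0 : H = 0
    · rw [hH0, natDegree_zero]; exact Nat.zero_le _
    · have h5 : (H * Q.reverse).natDegree = H.natDegree + Q.reverse.natDegree := by
        rw [mul_comm, hQ.reverse_monic.natDegree_mul' hH0, add_comm]
      rw [hH, hQ.reverse_natDegree] at h5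
      omega
  -- reflect both sides
  have h6 : (X ^ j * g.reflect M : R[X]).reflect (j + M) = g := by
    rw [Polynomial.reflect_mul _ _ (Polynomial.natDegree_X_pow_le j)
      ((Polynomial.natDegree_reflect_le).trans (max_le le_rfl hgM)),
      Polynomial.reflect_monomial, Polynomial.revAt_le le_rfl, Nat.sub_self, pow_zero, one_mul,
      Polynomial.reflect_reflect]
  have h7 : (H * Q.reverse).reflect (j + M) = H.reflect (j + M - N) * Q := by
    have e : j + M = (j + M - N) + N := by omega
    conv_lhs => rw [e]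
    rw [Polynomial.reflect_mul _ _ hdegH (hQ.reverse_natDegree.le)]
    congr 1
    exact Polynomial.reflect_reflect
  rw [Ideal.mem_span_singleton']
  refine ⟨H.reflect (j + M - N), ?_⟩
  rw [← h7, hH, h6]

end Groth.Agent.Lib.Helper12.WLaur
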