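import Mathlib
import Groth.Agent.Lib.Helper12.WLaurB

/-!
# Ideals avoiding the special fibre: the abstract main theorem
-/

set_option autoImplicit false
set_option linter.unusedSectionVars false
set_option linter.style.haveILetI false
universe u

namespace Groth.Agent.Lib.Helper12.WLaur

open Polynomial IsLocalRing

variable {R : Type u} [CommRing R] [IsLocalRing R]
  {B : Type u} [CommRing B] [Algebra R B] [Algebra R[X] B] [IsScalarTower R R[X] B]
  {L : Type u} [CommRing L] [Algebra B L] [Algebra R L] [IsScalarTower R B L]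
  [IsLocalization.Away (algebraMap R[X] B X) L]
  (ψ : R[X] →ₐ[R] L) (hψ : ψ X * algebraMap B L (algebraMap R[X] B X) = 1)

include hψ in
theorem exists_sub_psi_mem_of_mem_map (hdiv : HDiv R B) {Q : R[X]} (hQ : Dist Q)
    (I : Ideal R[X]) (l : L) (hl : l ∈ I.map ψ.toRingHom) :
    ∃ i ∈ I, l - ψ i ∈ Ideal.span {ψ Q} := by
  unfold Ideal.map at hl
  induction hl using Submodule.span_induction with
  | mem x hx =>
    obtain ⟨i, hi, rfl⟩ := hx
    refine ⟨i, hi, ?_⟩
    change ψ i - ψ i ∈ _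
    rw [sub_self]
    exact zero_mem _
  | zero =>
    refine ⟨0, zero_mem _, ?_⟩
    rw [map_zero, sub_zero]
    exact zero_mem _
  | add x y _ _ hx hy =>
    obtain ⟨i, hi, hxi⟩ := hx
    obtain ⟨j, hj, hyj⟩ := hy
    refine ⟨i + j, add_mem hi hj, ?_⟩
    rw [map_add, add_sub_add_comm]
    exact add_mem hxi hyj
  | smul a x _ hx =>
    obtain ⟨i, hi, hxi⟩ := hx
    obtain ⟨ga, hga⟩ := exists_psi_sub_mem ψ hψ hdiv hQ a
    refine ⟨ga * i, I.mul_mem_left _ hi, ?_⟩
    rw [smul_eq_mul, map_mul]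
    have e : a * x - ψ ga * ψ i = a * (x - ψ i) - (ψ ga - a) * ψ i := by ring
    rw [e]
    exact sub_mem (Ideal.mul_mem_left _ _ hxi) (Ideal.mul_mem_right _ _ hga)

include hψ in
theorem mem_of_psi_mem_map (hdiv : HDiv R B) {Q : R[X]} (hQ : Dist Q)
    (I : Ideal R[X]) (hQI : Q ∈ I) (g : R[X]) (hg : ψ g ∈ I.map ψ.toRingHom) : g ∈ I := by
  obtain ⟨i, hi, h⟩ := exists_sub_psi_mem_of_mem_map ψ hψ hdiv hQ I _ hg
  rw [← map_sub] at h
  have h2 := mem_span_of_psi_mem ψ hψ hdiv hQ _ h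
  have h3 : g - i ∈ I := (Ideal.span_singleton_le_iff_mem (I := I)).mpr hQI h2
  have := add_mem h3 hi
  rwa [sub_add_cancel] at this

theorem map_sup_eq_top (I : Ideal R[X])
    (hI : I ⊔ (maximalIdeal R).map (algebraMap R R[X]) = ⊤) :
    I.map ψ.toRingHom ⊔ (maximalIdeal R).map (algebraMap R L) = ⊤ := by
  have h1 : (1 : R[X]) ∈ I ⊔ (maximalIdeal R).map (algebraMap R R[X]) := by
    rw [hI]; trivial
  have h2 := Ideal.mem_map_of_mem ψ.toRingHom h1
  rw [Ideal.map_sup, Ideal.map_map] at h2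
  have e : ψ.toRingHom.comp (algebraMap R R[X]) = algebraMap R L := by
    ext r
    exact ψ.commutes r
  rw [e, map_one] at h2
  exact (Ideal.eq_top_iff_one _).mpr h2

include hψ in
theorem first_part (hdiv : HDiv R B) (I : Ideal R[X])
    (hI : I ⊔ (maximalIdeal R).map (algebraMap R R[X]) = ⊤) :
    (I.map ψ.toRingHom).comap ψ.toRingHom = I ∧
      I.map ψ.toRingHom ⊔ (maximalIdeal R).map (algebraMap R L) = ⊤ ∧
      Function.Bijective
        (Ideal.quotientMap (I.map ψ.toRingHom) ψ.toRingHom Ideal.le_comap_map) := by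
  obtain ⟨Q, hQI, hQ⟩ := exists_dist_mem I hI
  have hle : (I.map ψ.toRingHom).comap ψ.toRingHom ≤ I := by
    intro g hg
    exact mem_of_psi_mem_map ψ hψ hdiv hQ I hQI g hg
  refine ⟨le_antisymm hle Ideal.le_comap_map, map_sup_eq_top ψ I hI, ?_, ?_⟩
  · exact Ideal.quotientMap_injective' hle
  · intro y
    obtain ⟨l, rfl⟩ := Ideal.Quotient.mk_surjective y
    obtain ⟨g, hg⟩ := exists_psi_sub_mem ψ hψ hdiv hQ l
    refine ⟨Ideal.Quotient.mk I g, ?_⟩
    rw [Ideal.quotientMap_mk]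
    rw [Ideal.Quotient.eq]
    have hle2 : Ideal.span {ψ Q} ≤ I.map ψ.toRingHom := by
      rw [Ideal.span_singleton_le_iff_mem]
      exact Ideal.mem_map_of_mem ψ.toRingHom hQI
    exact hle2 hg

include hψ in
/-- An ideal of `L` comaximal with `𝔪 L` contains `ψ Q` for a distinguished `Q`. -/
theorem exists_dist_psi_mem (hprep : HPrep R B) (hpow : HPow R B) (J : Ideal L)
    (hJ : J ⊔ (maximalIdeal R).map (algebraMap R L) = ⊤) : ∃ Q : R[X], Dist Q ∧ ψ Q ∈ J := by
  have h1 : (1 : L) ∈ J ⊔ (maximalIdeal R).map (algebraMap R L) := by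
    rw [hJ]; trivial
  obtain ⟨j, hj, m, hm, hjm⟩ := Submodule.mem_sup.mp h1
  have e : (maximalIdeal R).map (algebraMap R L) =
      ((maximalIdeal R).map (algebraMap R B)).map (algebraMap B L) := by
    rw [Ideal.map_map, ← IsScalarTower.algebraMap_eq]
  rw [e, IsLocalization.mem_map_algebraMap_iff (Submonoid.powers (algebraMap R[X] B X))] at hm
  obtain ⟨⟨⟨m', hm'⟩, ⟨_, k, rfl⟩⟩, hmk⟩ := hm
  dsimp only at hmk
  -- `f = t^k - m'`
  set f : B := (algebraMap R[X] B X) ^ k - m' with hf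
  have hfm : f ∉ (maximalIdeal R).map (algebraMap R B) := by
    intro h
    apply hpow k
    have := add_mem h hm'
    rwa [hf, sub_add_cancel] at this
  have hfJ : algebraMap B L f ∈ J := by
    have : algebraMap B L f = j * algebraMap B L ((algebraMap R[X] B X) ^ k) := by
      have hj' : j = 1 - m := by rw [← hjm, add_sub_cancel_right]
      rw [hf, map_sub, ← hmk, hj']
      ring
    rw [this]
    exact Ideal.mul_mem_right _ _ hj
  obtain ⟨P, v, hP, hPc, hfP⟩ := hprep f hfm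
  refine ⟨P.reverse, dist_reverse hP hPc, ?_⟩
  have h2 : ψ P.reverse = algebraMap B L (algebraMap R[X] B P) * (ψ X) ^ P.natDegree := by
    rw [← psi_reverse_mul_pow ψ hψ P, mul_assoc, mul_comm _ (ψ X ^ P.natDegree),
      pow_mul_pow ψ hψ, mul_one]
  have h3 : algebraMap B L (algebraMap R[X] B P) = algebraMap B L f *
      algebraMap B L ((v⁻¹ : Bˣ) : B) := by
    rw [← map_mul, hfP, mul_assoc, Units.mul_inv, mul_one]
  rw [h2, h3, mul_assoc]
  exact Ideal.mul_mem_right _ _ hfJ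

include hψ in
theorem second_part (hdiv : HDiv R B) (hprep : HPrep R B) (hpow : HPow R B) (J : Ideal L)
    (hJ : J ⊔ (maximalIdeal R).map (algebraMap R L) = ⊤) :
    (J.comap ψ.toRingHom).map ψ.toRingHom = J ∧
      J.comap ψ.toRingHom ⊔ (maximalIdeal R).map (algebraMap R R[X]) = ⊤ := by
  obtain ⟨Q, hQ, hQJ⟩ := exists_dist_psi_mem ψ hψ hprep hpow J hJ
  have hQc : Q ∈ J.comap ψ.toRingHom := hQJ
  refine ⟨le_antisymm Ideal.map_comap_le ?_, ?_⟩
  · intro l hl
    obtain ⟨g, hg⟩ := exists_psi_sub_mem ψ hψ hdiv hQ l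
    obtain ⟨c, hc⟩ := Ideal.mem_span_singleton'.mp hg
    have hgJ : ψ g ∈ J := by
      have : ψ g = c * ψ Q + l := by rw [hc, sub_add_cancel]
      rw [this]
      exact add_mem (Ideal.mul_mem_left _ _ hQJ) hl
    have hgc : g ∈ J.comap ψ.toRingHom := hgJ
    have : l = ψ g - c * ψ Q := by rw [hc, sub_sub_cancel]
    rw [this]
    exact sub_mem (Ideal.mem_map_of_mem ψ.toRingHom hgc)
      (Ideal.mul_mem_left _ _ (Ideal.mem_map_of_mem ψ.toRingHom hQc))
  · rw [Ideal.eq_top_iff_one]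
    have h1 : (1 : R[X]) = Q - (Q - 1) := by ring
    rw [h1]
    refine sub_mem (Ideal.mem_sup_left hQc) (Ideal.mem_sup_right ?_)
    rw [Polynomial.algebraMap_eq]
    exact hQ.sub_one_mem

include hψ in
theorem main (hdiv : HDiv R B) (hprep : HPrep R B) (hpow : HPow R B) :
    (∀ I : Ideal R[X], I ⊔ (maximalIdeal R).map (algebraMap R R[X]) = ⊤ →
        (I.map ψ.toRingHom).comap ψ.toRingHom = I ∧
        I.map ψ.toRingHom ⊔ (maximalIdeal R).map (algebraMap R L) = ⊤ ∧
        Function.Bijective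
          (Ideal.quotientMap (I.map ψ.toRingHom) ψ.toRingHom Ideal.le_comap_map)) ∧
    (∀ J : Ideal L, J ⊔ (maximalIdeal R).map (algebraMap R L) = ⊤ →
        (J.comap ψ.toRingHom).map ψ.toRingHom = J ∧
        J.comap ψ.toRingHom ⊔ (maximalIdeal R).map (algebraMap R R[X]) = ⊤) :=
  ⟨fun I hI => first_part ψ hψ hdiv I hI, fun J hJ => second_part ψ hψ hdiv hprep hpow J hJ⟩

end Groth.Agent.Lib.Helper12.WLaur
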