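import Mathlib
import Groth.Agent.Lib.Helper12.PairTrunc
import Groth.Agent.Lib.Helper12.PairNoethB
import Groth.Agent.Lib.Helper12.HfpLemmas

/-!
# Henselization of `R[X]` along `(X)`: basic structure
-/

set_option autoImplicit false
set_option linter.unusedSectionVars false
set_option linter.style.haveILetI false
universe u

namespace Groth.Agent.Lib.Helper12.WPrep

open Polynomial IsLocalRing

variable {R : Type u} [CommRing R] {B : Type u} [CommRing B] [Algebra R B] [Algebra R[X] B]
  [IsScalarTower R R[X] B]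

variable (R B) in
/-- The image of the variable. -/
noncomputable def tt : B := algebraMap R[X] B (X : R[X])

theorem map_span_X : (Ideal.span {(X : R[X])}).map (algebraMap R[X] B) = Ideal.span {tt R B} := by
  rw [Ideal.map_span, Set.image_singleton]
  rfl

section

variable (hB : Hens2.IsPairHenselization R[X] (Ideal.span {(X : R[X])}) B)
include hB

theorem span_tt_le_jacobson : Ideal.span {tt R B} ≤ Ideal.jacobson ⊥ := by
  rw [← map_span_X]
  exact hB.1.jac

theorem exists_pt : ∃ ρ : B →+* R, ρ.comp (algebraMap R[X] B) = Polynomial.evalRingHom (0 : R) := by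
  have hle : (Ideal.span {(X : R[X])}).map (Polynomial.evalRingHom (0 : R)) ≤ ⊥ := by
    rw [Ideal.map_span, Set.image_singleton, Ideal.span_le]
    simp
  obtain ⟨g, hg, -⟩ := hB.2 R ⊥ (Polynomial.evalRingHom (0 : R)) inferInstance hle
  exact ⟨g, hg⟩

theorem pt_algebraMap (ρ : B →+* R)
    (hρ : ρ.comp (algebraMap R[X] B) = Polynomial.evalRingHom (0 : R)) (r : R) :
    ρ (algebraMap R B r) = r := by
  rw [IsScalarTower.algebraMap_apply R R[X] B]
  have := RingHom.congr_fun hρ (algebraMap R R[X] r)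
  rw [RingHom.comp_apply] at this
  rw [this]
  simp

theorem pt_tt (ρ : B →+* R)
    (hρ : ρ.comp (algebraMap R[X] B) = Polynomial.evalRingHom (0 : R)) : ρ (tt R B) = 0 := by
  have := RingHom.congr_fun hρ X
  rw [RingHom.comp_apply] at this
  rw [tt, this]
  simp

theorem ker_pt (ρ : B →+* R)
    (hρ : ρ.comp (algebraMap R[X] B) = Polynomial.evalRingHom (0 : R)) :
    RingHom.ker ρ = Ideal.span {tt R B} := by
  apply le_antisymm
  · intro b hb
    have hbij := PairUnique.quotientMap_pow_bijective hB 1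
    obtain ⟨z, hz⟩ := hbij.2 (Ideal.Quotient.mk _ b)
    obtain ⟨q, rfl⟩ := Ideal.Quotient.mk_surjective z
    rw [Ideal.quotientMap_mk, Ideal.Quotient.eq, pow_one, map_span_X] at hz
    -- `hz : algebraMap q - b ∈ span {t}`
    have h1 : ρ (algebraMap R[X] B q - b) = 0 := by
      obtain ⟨w, hw⟩ := Ideal.mem_span_singleton'.mp hz
      rw [← hw, map_mul, pt_tt hB ρ hρ, mul_zero]
    rw [map_sub, RingHom.mem_ker.mp hb, sub_zero] at h1
    have h2 : Polynomial.eval 0 q = 0 := by
      have := RingHom.congr_fun hρ q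
      rw [RingHom.comp_apply, h1] at this
      exact this.symm
    have h3 : (X : R[X]) ∣ q := by
      rw [Polynomial.X_dvd_iff, Polynomial.coeff_zero_eq_eval_zero, h2]
    obtain ⟨q', rfl⟩ := h3
    have h4 : algebraMap R[X] B (X * q') ∈ Ideal.span {tt R B} := by
      rw [map_mul]
      exact Ideal.mul_mem_right _ _ (Ideal.subset_span rfl)
    have := (Ideal.span {tt R B}).sub_mem h4 hz
    rwa [sub_sub_cancel] at this
  · rw [Ideal.span_le, Set.singleton_subset_iff]
    exact RingHom.mem_ker.mpr (pt_tt hB ρ hρ)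

theorem isUnit_iff_pt (ρ : B →+* R)
    (hρ : ρ.comp (algebraMap R[X] B) = Polynomial.evalRingHom (0 : R)) (b : B) :
    IsUnit b ↔ IsUnit (ρ b) := by
  refine ⟨fun h => h.map ρ, fun h => ?_⟩
  obtain ⟨r, hr⟩ := h.exists_right_inv
  have hker : b * algebraMap R B r - 1 ∈ RingHom.ker ρ := by
    rw [RingHom.mem_ker, map_sub, map_mul, pt_algebraMap hB ρ hρ, hr, map_one, sub_self]
  rw [ker_pt hB ρ hρ] at hker
  have hu : IsUnit (b * algebraMap R B r) :=
    Groth.Agent.Lib.Helper12.isUnit_of_sub_one_mem (span_tt_le_jacobson hB) hker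
  exact isUnit_of_mul_isUnit_left hu

theorem isLocalRing [IsLocalRing R] : IsLocalRing B := by
  obtain ⟨ρ, hρ⟩ := exists_pt hB
  haveI : Nontrivial B := by
    refine ⟨⟨0, 1, fun h => ?_⟩⟩
    have := congrArg ρ h
    rw [map_zero, map_one] at this
    exact zero_ne_one this
  refine IsLocalRing.of_nonunits_add ?_
  intro a b ha hb
  rw [mem_nonunits_iff, isUnit_iff_pt hB ρ hρ] at ha hb ⊢
  rw [map_add]
  exact (IsLocalRing.nonunits_add ha hb)

theorem mem_maximalIdeal_iff [IsLocalRing R] [IsLocalRing B] (ρ : B →+* R)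
    (hρ : ρ.comp (algebraMap R[X] B) = Polynomial.evalRingHom (0 : R)) (b : B) :
    b ∈ maximalIdeal B ↔ ρ b ∈ maximalIdeal R := by
  rw [mem_maximalIdeal, mem_maximalIdeal, mem_nonunits_iff, mem_nonunits_iff,
    isUnit_iff_pt hB ρ hρ]

theorem isLocalHom [IsLocalRing R] : IsLocalHom (algebraMap R B) := by
  obtain ⟨ρ, hρ⟩ := exists_pt hB
  constructor
  intro r hr
  have := hr.map ρ
  rwa [pt_algebraMap hB ρ hρ] at this

theorem tt_mem_maximalIdeal [IsLocalRing R] [IsLocalRing B] : tt R B ∈ maximalIdeal B := by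
  obtain ⟨ρ, hρ⟩ := exists_pt hB
  rw [mem_maximalIdeal_iff hB ρ hρ, pt_tt hB ρ hρ]
  exact zero_mem _

theorem maximalIdeal_eq [IsLocalRing R] [IsLocalRing B] :
    maximalIdeal B = (maximalIdeal R).map (algebraMap R B) ⊔ Ideal.span {tt R B} := by
  obtain ⟨ρ, hρ⟩ := exists_pt hB
  apply le_antisymm
  · intro b hb
    rw [mem_maximalIdeal_iff hB ρ hρ] at hb
    have h1 : b - algebraMap R B (ρ b) ∈ RingHom.ker ρ := by
      rw [RingHom.mem_ker, map_sub, pt_algebraMap hB ρ hρ, sub_self]
    rw [ker_pt hB ρ hρ] at h1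
    have : b = algebraMap R B (ρ b) + (b - algebraMap R B (ρ b)) := by ring
    rw [this]
    exact Submodule.add_mem_sup (Ideal.mem_map_of_mem _ hb) h1
  · rw [sup_le_iff, Ideal.map_le_iff_le_comap, Ideal.span_le, Set.singleton_subset_iff]
    refine ⟨fun r hr => ?_, tt_mem_maximalIdeal hB⟩
    rw [Ideal.mem_comap, mem_maximalIdeal_iff hB ρ hρ, pt_algebraMap hB ρ hρ]
    exact hr

end

end Groth.Agent.Lib.Helper12.WPrep
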