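import Mathlib
import Groth.Agent.Lib.Helper12.WPrepA

/-!
# Henselization of `R[X]` along `(X)`: reduction modulo the maximal ideal and orders
-/

set_option autoImplicit false
set_option linter.unusedSectionVars false
set_option linter.style.haveILetI false
universe u

namespace Groth.Agent.Lib.Helper12.WPrep

open Polynomial IsLocalRing

variable {R : Type u} [CommRing R] [IsLocalRing R] {B : Type u} [CommRing B] [Algebra R B]
  [Algebra R[X] B] [IsScalarTower R R[X] B]

variable (R) in
/-- The ideal `𝔪 R[X]`. -/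
noncomputable abbrev KK : Ideal R[X] := (maximalIdeal R).map (C : R →+* R[X])

variable (R B) in
/-- The ideal `𝔪 B`. -/
noncomputable abbrev mB : Ideal B := (KK R).map (algebraMap R[X] B)

theorem mB_eq : mB R B = (maximalIdeal R).map (algebraMap R B) := by
  rw [mB, KK, Ideal.map_map, IsScalarTower.algebraMap_eq R R[X] B]
  rfl

noncomputable example : Algebra (R[X] ⧸ KK R) (B ⧸ mB R B) := inferInstance
example : IsScalarTower R[X] (R[X] ⧸ KK R) (B ⧸ mB R B) := inferInstance
example : IsScalarTower R[X] B (B ⧸ mB R B) := inferInstance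

instance : IsNoetherianRing (R[X] ⧸ KK R) := by
  haveI : IsNoetherianRing (R ⧸ maximalIdeal R) := by
    letI := Ideal.Quotient.field (maximalIdeal R)
    infer_instance
  exact isNoetherianRing_of_ringEquiv _
    (Ideal.polynomialQuotientEquivQuotientPolynomial (maximalIdeal R))

/-- In a noetherian local ring with principal maximal ideal `(τ)`, every nonzero element is a
power of `τ` times a unit. -/
theorem exists_eq_pow_mul_unit {D : Type*} [CommRing D] [IsLocalRing D] [IsNoetherianRing D] (τ : D)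
    (hτ : maximalIdeal D = Ideal.span {τ}) (x : D) (hx : x ≠ 0) :
    ∃ (n : ℕ) (w : D), IsUnit w ∧ x = τ ^ n * w := by
  classical
  have hne : maximalIdeal D ≠ ⊤ := (maximalIdeal.isMaximal D).ne_top
  have hK := Ideal.iInf_pow_eq_bot_of_isLocalRing (maximalIdeal D) hne
  have hex : ∃ i, x ∉ maximalIdeal D ^ i := by
    by_contra h
    push Not at h
    have h1 : x ∈ ⨅ i, maximalIdeal D ^ i := (Ideal.mem_iInf).mpr h
    rw [hK] at h1
    exact hx h1
  have hi := Nat.find_spec hex
  have hi0 : Nat.find hex ≠ 0 := by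
    intro h0
    rw [h0, pow_zero, Ideal.one_eq_top] at hi
    exact hi Submodule.mem_top
  obtain ⟨n, hn⟩ : ∃ n, Nat.find hex = n + 1 := Nat.exists_eq_succ_of_ne_zero hi0
  have hmem : x ∈ maximalIdeal D ^ n := by
    by_contra h
    exact Nat.find_min hex (by omega : n < Nat.find hex) h
  rw [hτ, Ideal.span_singleton_pow, Ideal.mem_span_singleton'] at hmem
  obtain ⟨w, hw⟩ := hmem
  refine ⟨n, w, ?_, by rw [← hw, mul_comm]⟩
  by_contra hwu
  have hwm : w ∈ maximalIdeal D := hwu
  rw [hτ, Ideal.mem_span_singleton'] at hwm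
  obtain ⟨w', hw'⟩ := hwm
  apply hi
  rw [hn, hτ, Ideal.span_singleton_pow, Ideal.mem_span_singleton']
  exact ⟨w', by rw [← hw, ← hw']; ring⟩

theorem isSMulRegular_X_bar :
    IsSMulRegular (R[X] ⧸ KK R) (Ideal.Quotient.mk (KK R) (X : R[X])) := by
  intro a b hab
  obtain ⟨p, rfl⟩ := Ideal.Quotient.mk_surjective a
  obtain ⟨q, rfl⟩ := Ideal.Quotient.mk_surjective b
  change Ideal.Quotient.mk (KK R) X * Ideal.Quotient.mk (KK R) p =
    Ideal.Quotient.mk (KK R) X * Ideal.Quotient.mk (KK R) q at hab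
  rw [← map_mul, ← map_mul, Ideal.Quotient.eq, ← mul_sub, Ideal.mem_map_C_iff] at hab
  rw [Ideal.Quotient.eq, Ideal.mem_map_C_iff]
  intro n
  have := hab (n + 1)
  rwa [Polynomial.coeff_X_mul] at this

section

variable (hB : Hens2.IsPairHenselization R[X] (Ideal.span {(X : R[X])}) B)
include hB

theorem isPairHenselization_bar :
    Hens2.IsPairHenselization (R[X] ⧸ KK R)
      ((Ideal.span {(X : R[X])}).map (algebraMap R[X] (R[X] ⧸ KK R))) (B ⧸ mB R B) :=
  Hfp.isPairHenselization_quotient hB (KK R) Ideal.Quotient.mk_surjective Ideal.mk_ker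
    Ideal.Quotient.mk_surjective Ideal.mk_ker

theorem isNoetherianRing_bar : IsNoetherianRing (B ⧸ mB R B) :=
  PairNbhd.isNoetherianRing_of_isPairHenselization (isPairHenselization_bar hB)

theorem flat_bar : Module.Flat (R[X] ⧸ KK R) (B ⧸ mB R B) :=
  PairUnique.flat_of_isPairHenselization (isPairHenselization_bar hB)

theorem isSMulRegular_tt_bar :
    IsSMulRegular (B ⧸ mB R B) (Ideal.Quotient.mk (mB R B) (tt R B)) := by
  haveI := flat_bar hB
  exact (isSMulRegular_X_bar (R := R)).of_flat (S := B ⧸ mB R B)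

theorem mB_le_maximalIdeal [IsLocalRing B] : mB R B ≤ maximalIdeal B := by
  rw [mB_eq, maximalIdeal_eq hB]
  exact le_sup_left

theorem nontrivial_bar [IsLocalRing B] : Nontrivial (B ⧸ mB R B) :=
  Ideal.Quotient.nontrivial_iff.mpr
    (fun h => (maximalIdeal.isMaximal B).ne_top (top_le_iff.mp (h ▸ mB_le_maximalIdeal hB)))

theorem isLocalRing_bar [IsLocalRing B] : IsLocalRing (B ⧸ mB R B) :=
  haveI := nontrivial_bar hB
  IsLocalRing.of_surjective' (Ideal.Quotient.mk (mB R B)) Ideal.Quotient.mk_surjective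

theorem isUnit_of_isUnit_mk [IsLocalRing B] (b : B)
    (h : IsUnit (Ideal.Quotient.mk (mB R B) b)) : IsUnit b := by
  by_contra hb
  have hbm : b ∈ maximalIdeal B := hb
  haveI := nontrivial_bar hB
  obtain ⟨y, hy⟩ := h.exists_right_inv
  obtain ⟨y, rfl⟩ := Ideal.Quotient.mk_surjective y
  rw [← map_mul, ← map_one (Ideal.Quotient.mk (mB R B)), Ideal.Quotient.eq] at hy
  have h1 : b * y - 1 ∈ maximalIdeal B := mB_le_maximalIdeal hB hy
  have h2 : (1 : B) ∈ maximalIdeal B := by
    have := (maximalIdeal B).sub_mem (Ideal.mul_mem_right y _ hbm) h1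
    rwa [sub_sub_cancel] at this
  exact (maximalIdeal.isMaximal B).ne_top ((Ideal.eq_top_iff_one _).mpr h2)

theorem maximalIdeal_bar [IsLocalRing B] [IsLocalRing (B ⧸ mB R B)] :
    maximalIdeal (B ⧸ mB R B) = Ideal.span {Ideal.Quotient.mk (mB R B) (tt R B)} := by
  apply le_antisymm
  · intro x hx
    obtain ⟨b, rfl⟩ := Ideal.Quotient.mk_surjective x
    have hb : b ∈ maximalIdeal B := by
      by_contra hb
      have hbu : IsUnit b := by
        by_contra h
        exact hb h
      exact hx (hbu.map _)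
    rw [maximalIdeal_eq hB, ← mB_eq] at hb
    obtain ⟨y, hy, z, hz, rfl⟩ := Submodule.mem_sup.mp hb
    rw [map_add, Ideal.Quotient.eq_zero_iff_mem.mpr hy, zero_add]
    obtain ⟨w, rfl⟩ := Ideal.mem_span_singleton'.mp hz
    rw [map_mul]
    exact Ideal.mul_mem_left _ _ (Ideal.subset_span rfl)
  · rw [Ideal.span_le, Set.singleton_subset_iff]
    intro h
    exact (isUnit_of_isUnit_mk hB _ h) |> fun hu => (tt_mem_maximalIdeal hB) hu

/-- The order of an element outside `𝔪 B`. -/
theorem exists_order [IsLocalRing B] (f : B) (hf : f ∉ mB R B) :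
    ∃ (n : ℕ) (u : B), IsUnit u ∧ f - tt R B ^ n * u ∈ mB R B := by
  haveI := isLocalRing_bar hB
  haveI := isNoetherianRing_bar hB
  have hf' : Ideal.Quotient.mk (mB R B) f ≠ 0 := fun h => hf (Ideal.Quotient.eq_zero_iff_mem.mp h)
  obtain ⟨n, w, hw, hfw⟩ := exists_eq_pow_mul_unit _ (maximalIdeal_bar hB) _ hf'
  obtain ⟨u, rfl⟩ := Ideal.Quotient.mk_surjective w
  refine ⟨n, u, isUnit_of_isUnit_mk hB u hw, ?_⟩
  rw [← Ideal.Quotient.eq, hfw, map_mul, map_pow]

end

end Groth.Agent.Lib.Helper12.WPrep
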