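import Mathlib
import Groth.Agent.Lib.Helper12.WPrepB

/-!
# General lemmas for the henselian Weierstrass preparation theorem
-/

set_option autoImplicit false
set_option linter.unusedSectionVars false
set_option linter.style.haveILetI false
universe u

namespace Groth.Agent.Lib.Helper12.WPrep

open Polynomial IsLocalRing

/-- Descent of ideal membership along a flat map to a local ring, up to an element outside the
contraction of the maximal ideal. -/
theorem exists_mul_mem_of_flat {S B : Type u} [CommRing S] [CommRing B] [Algebra S B]
    [Module.Flat S B] [IsLocalRing B] (𝔞 : Ideal S) (δ : S)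
    (h : algebraMap S B δ ∈ 𝔞.map (algebraMap S B)) :
    ∃ s : S, algebraMap S B s ∉ maximalIdeal B ∧ s * δ ∈ 𝔞 := by
  set Q : Ideal S := (maximalIdeal B).comap (algebraMap S B) with hQ
  haveI : Q.IsPrime := Ideal.comap_isPrime _ _
  have hunit : ∀ y : Q.primeCompl, IsUnit (algebraMap S B y) := by
    intro y
    by_contra hy
    exact y.2 hy
  letI algQ : Algebra (Localization.AtPrime Q) B :=
    (IsLocalization.lift (M := Q.primeCompl) (g := algebraMap S B) hunit).toAlgebra
  haveI : IsScalarTower S (Localization.AtPrime Q) B :=
    IsScalarTower.of_algebraMap_eq (fun x => (IsLocalization.lift_eq (M := Q.primeCompl) hunit x).symm)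
  haveI : Module.Flat (Localization.AtPrime Q) B :=
    (Module.flat_iff_of_isLocalization (Localization.AtPrime Q) Q.primeCompl B).mpr inferInstance
  haveI : IsLocalHom (algebraMap (Localization.AtPrime Q) B) := by
    constructor
    intro a ha
    obtain ⟨r, s, rfl⟩ := IsLocalization.exists_mk'_eq Q.primeCompl a
    rw [IsLocalization.AtPrime.isUnit_mk'_iff (Localization.AtPrime Q) Q]
    intro hr
    have h1 : algebraMap (Localization.AtPrime Q) B (IsLocalization.mk' _ r s) *
        algebraMap S B s = algebraMap S B r := by
      rw [IsScalarTower.algebraMap_apply S (Localization.AtPrime Q) B,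
        IsScalarTower.algebraMap_apply S (Localization.AtPrime Q) B r, ← map_mul,
        IsLocalization.mk'_spec]
    have h2 : IsUnit (algebraMap S B r) := by
      rw [← h1]
      exact ha.mul (hunit s)
    exact hr h2
  haveI : Module.FaithfullyFlat (Localization.AtPrime Q) B :=
    Module.FaithfullyFlat.of_flat_of_isLocalHom
  have h1 : algebraMap S (Localization.AtPrime Q) δ ∈ 𝔞.map (algebraMap S (Localization.AtPrime Q)) := by
    rw [← Ideal.comap_map_eq_self_of_faithfullyFlat (B := B)
      (𝔞.map (algebraMap S (Localization.AtPrime Q))), Ideal.mem_comap, Ideal.map_map,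
      ← IsScalarTower.algebraMap_eq, ← IsScalarTower.algebraMap_apply]
    exact h
  obtain ⟨⟨a, m⟩, ham⟩ := (IsLocalization.mem_map_algebraMap_iff Q.primeCompl
    (Localization.AtPrime Q)).mp h1
  rw [← map_mul] at ham
  obtain ⟨m', hm'⟩ := (IsLocalization.eq_iff_exists Q.primeCompl (Localization.AtPrime Q)).mp ham
  refine ⟨m' * m, ?_, ?_⟩
  · exact (Q.primeCompl.mul_mem m'.2 m.2)
  · have : (m' : S) * (m : S) * δ = m' * (a : S) := by
      rw [← hm']
      ring
    rw [this]
    exact Ideal.mul_mem_left _ _ a.2

/-- A criterion for quasi-finiteness at a prime: the prime is cut out in its fibre by a basic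
open. -/
theorem quasiFiniteAt_of_basicOpen {R T : Type u} [CommRing R] [CommRing T] [Algebra R T]
    [Algebra.FiniteType R T] (q : Ideal T) [q.IsPrime] (s : T) (hs : s ∉ q)
    (h : ∀ q' : Ideal T, q'.IsPrime → q'.comap (algebraMap R T) = q.comap (algebraMap R T) →
      s ∉ q' → q' = q) : Algebra.QuasiFiniteAt R q := by
  have := Algebra.QuasiFiniteAt.of_isOpen_singleton_fiber (R := R) (⟨q, inferInstance⟩ : PrimeSpectrum T) ?_
  · exact this
  · have heq : ({⟨⟨q, inferInstance⟩, rfl⟩} : Set (PrimeSpectrum.comap (algebraMap R T) ⁻¹'
        {(⟨q, inferInstance⟩ : PrimeSpectrum T).comap (algebraMap R T)})) =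
        Subtype.val ⁻¹' (PrimeSpectrum.basicOpen s : Set (PrimeSpectrum T)) := by
      ext ⟨x, hx⟩
      simp only [Set.mem_singleton_iff, Set.mem_preimage, SetLike.mem_coe,
        PrimeSpectrum.mem_basicOpen]
      constructor
      · intro hxq
        have : x = ⟨q, inferInstance⟩ := congrArg Subtype.val hxq
        rw [this]
        exact hs
      · intro hsx
        apply Subtype.ext
        apply PrimeSpectrum.ext
        apply h x.asIdeal x.2 _ hsx
        exact congrArg PrimeSpectrum.asIdeal hx
    rw [heq]
    exact (PrimeSpectrum.basicOpen s).isOpen.preimage continuous_subtype_val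

/-- A henselian pair is its own henselization. -/
theorem isPairHenselization_self (A : Type u) [CommRing A] (I : Ideal A) [hI : HenselianRing A I] :
    Hens2.IsPairHenselization A I A := by
  refine ⟨?_, ?_⟩
  · rw [Algebra.algebraMap_self, Ideal.map_id]
    exact hI
  · intro C _ J f _ _
    refine ⟨f, rfl, ?_⟩
    intro g hg
    rw [Algebra.algebraMap_self, RingHom.comp_id] at hg
    exact hg

end Groth.Agent.Lib.Helper12.WPrep
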