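import Mathlib
import Groth.Agent.Lib.Helper12.WPrepC
import Groth.Agent.Lib.Helper12.QFLocalFactor
import Groth.Agent.Lib.Helper12.GreenbergB

/-!
# Finiteness of `B / f` over a henselian local ring `R` for `B` the henselization of `R[X]`
-/

set_option autoImplicit false
set_option linter.unusedSectionVars false
set_option linter.style.haveILetI false
universe u

namespace Groth.Agent.Lib.Helper12.WPrep

open Polynomial IsLocalRing

theorem isUnit_of_isUnit_mk_of_le {B : Type*} [CommRing B] [IsLocalRing B] (𝔞 : Ideal B)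
    (h𝔞 : 𝔞 ≤ maximalIdeal B) (b : B) (h : IsUnit (Ideal.Quotient.mk 𝔞 b)) : IsUnit b := by
  by_contra hb
  have hbm : b ∈ maximalIdeal B := hb
  obtain ⟨y, hy⟩ := h.exists_right_inv
  obtain ⟨y, rfl⟩ := Ideal.Quotient.mk_surjective y
  rw [← map_mul, ← map_one (Ideal.Quotient.mk 𝔞), Ideal.Quotient.eq] at hy
  have h1 : b * y - 1 ∈ maximalIdeal B := h𝔞 hy
  have h2 : (1 : B) ∈ maximalIdeal B := by
    have := (maximalIdeal B).sub_mem (Ideal.mul_mem_right y _ hbm) h1
    rwa [sub_sub_cancel] at this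
  exact (maximalIdeal.isMaximal B).ne_top ((Ideal.eq_top_iff_one _).mpr h2)

theorem isLocalRing_quotient_of_le {B : Type*} [CommRing B] [IsLocalRing B] (𝔞 : Ideal B)
    (h𝔞 : 𝔞 ≤ maximalIdeal B) : IsLocalRing (B ⧸ 𝔞) :=
  haveI : Nontrivial (B ⧸ 𝔞) := Ideal.Quotient.nontrivial_iff.mpr
    (fun h => (maximalIdeal.isMaximal B).ne_top (top_le_iff.mp (h ▸ h𝔞)))
  IsLocalRing.of_surjective' (Ideal.Quotient.mk 𝔞) Ideal.Quotient.mk_surjective

theorem mk_mem_maximalIdeal_iff {B : Type*} [CommRing B] [IsLocalRing B] (𝔞 : Ideal B)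
    (h𝔞 : 𝔞 ≤ maximalIdeal B) [IsLocalRing (B ⧸ 𝔞)] (b : B) :
    Ideal.Quotient.mk 𝔞 b ∈ maximalIdeal (B ⧸ 𝔞) ↔ b ∈ maximalIdeal B := by
  rw [mem_maximalIdeal, mem_maximalIdeal, mem_nonunits_iff, mem_nonunits_iff, not_iff_not]
  exact ⟨isUnit_of_isUnit_mk_of_le 𝔞 h𝔞 b, fun h => h.map _⟩

section Nbhd

variable {R : Type u} [CommRing R] {S : Type u} [CommRing S] [Algebra R[X] S] [Algebra R S]
  [IsScalarTower R R[X] S]

/-- Elements of an étale neighbourhood of `(R[X], X)` are constants modulo `X`. -/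
theorem exists_eq_algebraMap_add
    (hbij : Function.Bijective (Ideal.quotientMap ((Ideal.span {(X : R[X])}).map
      (algebraMap R[X] S)) (algebraMap R[X] S) Ideal.le_comap_map)) (s₀ : S) :
    ∃ (r : R) (w : S), s₀ = algebraMap R S r + algebraMap R[X] S X * w := by
  obtain ⟨z, hz⟩ := hbij.2 (Ideal.Quotient.mk _ s₀)
  obtain ⟨p, rfl⟩ := Ideal.Quotient.mk_surjective z
  rw [Ideal.quotientMap_mk, Ideal.Quotient.eq, Ideal.map_span, Set.image_singleton,
    Ideal.mem_span_singleton'] at hz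
  obtain ⟨w₁, hw₁⟩ := hz
  obtain ⟨p', hp'⟩ := Polynomial.X_dvd_sub_C (p := p)
  refine ⟨p.coeff 0, algebraMap R[X] S p' - w₁, ?_⟩
  have h1 : algebraMap R[X] S p = algebraMap R S (p.coeff 0) + algebraMap R[X] S X *
      algebraMap R[X] S p' := by
    rw [IsScalarTower.algebraMap_apply R R[X] S, ← map_mul, ← map_add, ← hp']
    congr 1
    simp
  have h2 : s₀ = algebraMap R[X] S p - w₁ * algebraMap R[X] S X := by
    rw [hw₁]; ring
  rw [h2, h1]
  ring

/-- Primes of a quotient of an étale neighbourhood lying over the maximal ideal and containing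
`X` are determined. -/
theorem prime_eq_of_X_mem [IsLocalRing R]
    (hbij : Function.Bijective (Ideal.quotientMap ((Ideal.span {(X : R[X])}).map
      (algebraMap R[X] S)) (algebraMap R[X] S) Ideal.le_comap_map)) (𝔠 : Ideal S)
    (q : Ideal (S ⧸ 𝔠)) (hq : q.comap (algebraMap R (S ⧸ 𝔠)) = maximalIdeal R)
    (hX : Ideal.Quotient.mk 𝔠 (algebraMap R[X] S X) ∈ q) :
    q = (maximalIdeal R).map (algebraMap R (S ⧸ 𝔠)) ⊔
      Ideal.span {Ideal.Quotient.mk 𝔠 (algebraMap R[X] S X)} := by
  apply le_antisymm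
  · intro y hy
    obtain ⟨s₀, rfl⟩ := Ideal.Quotient.mk_surjective y
    obtain ⟨r, w, rfl⟩ := exists_eq_algebraMap_add hbij s₀
    rw [map_add, map_mul] at hy ⊢
    have h1 : Ideal.Quotient.mk 𝔠 (algebraMap R S r) ∈ q := by
      have := q.sub_mem hy (q.mul_mem_right (Ideal.Quotient.mk 𝔠 w) hX)
      rwa [add_sub_cancel_right] at this
    have h2 : r ∈ maximalIdeal R := by
      rw [← hq]
      exact h1
    refine Submodule.add_mem_sup ?_ ?_
    · exact Ideal.mem_map_of_mem (algebraMap R (S ⧸ 𝔠)) h2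
    · exact Ideal.mul_mem_right _ _ (Ideal.subset_span rfl)
  · rw [sup_le_iff, Ideal.map_le_iff_le_comap, hq, Ideal.span_le, Set.singleton_subset_iff]
    exact ⟨le_rfl, hX⟩

end Nbhd

section Main

variable {R : Type u} [CommRing R] [HenselianLocalRing R] {B : Type u} [CommRing B] [Algebra R B]
  [Algebra R[X] B] [IsScalarTower R R[X] B]

theorem finite_quotient (hB : Hens2.IsPairHenselization R[X] (Ideal.span {(X : R[X])}) B)
    [IsLocalRing B] (f : B) (hfm : f ∈ maximalIdeal B) (n : ℕ) (u : B) (hu : IsUnit u)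
    (hfu : f - tt R B ^ n * u ∈ mB R B) : Module.Finite R (B ⧸ Ideal.span {f}) := by
  classical
  obtain ⟨S, _, _, hEt, hbij, φ, hφ⟩ := Hfp.exists_etale_of_fin hB ![f, u]
  obtain ⟨c, hc⟩ := hφ 0
  obtain ⟨u', hu'⟩ := hφ 1
  simp only [Matrix.cons_val_zero] at hc
  simp only [Matrix.cons_val_one, Matrix.cons_val_zero] at hu'
  letI algSB : Algebra S B := φ.toRingHom.toAlgebra
  have halgSB : ∀ x : S, algebraMap S B x = φ x := fun _ => rfl
  haveI : IsScalarTower R[X] S B := IsScalarTower.of_algebraMap_eq (fun p => (φ.commutes p).symm)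
  letI algRS : Algebra R S := ((algebraMap R[X] S).comp (algebraMap R R[X])).toAlgebra
  haveI : IsScalarTower R R[X] S := IsScalarTower.of_algebraMap_eq (fun _ => rfl)
  haveI : IsScalarTower R S B := IsScalarTower.of_algebraMap_eq (fun r => by
    rw [IsScalarTower.algebraMap_apply R R[X] B, IsScalarTower.algebraMap_apply R[X] S B]
    rfl)
  haveI : Algebra.FiniteType R[X] S := inferInstance
  haveI : Algebra.FiniteType R S := Algebra.FiniteType.trans (S := R[X]) inferInstance inferInstance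
  have hSB := Hfp.isPairHenselization_of_etale_nbhd hB hbij (Q' := S)
  haveI : Module.Flat S B := PairUnique.flat_of_isPairHenselization hSB
  haveI hlocRB : IsLocalHom (algebraMap R B) := isLocalHom hB
  set xS : S := algebraMap R[X] S X with hxS
  have hxSB : algebraMap S B xS = tt R B := by
    rw [hxS, ← IsScalarTower.algebraMap_apply]
    rfl
  set δ : S := c - xS ^ n * u' with hδdef
  have hδ : algebraMap S B δ ∈ ((maximalIdeal R).map (algebraMap R S)).map (algebraMap S B) := by
    rw [Ideal.map_map, ← IsScalarTower.algebraMap_eq, ← mB_eq]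
    have : algebraMap S B δ = f - tt R B ^ n * u := by
      rw [hδdef, map_sub, map_mul, map_pow, hxSB, halgSB c, halgSB u', hc, hu']
    rw [this]
    exact hfu
  obtain ⟨s, hs, hsδ⟩ := exists_mul_mem_of_flat ((maximalIdeal R).map (algebraMap R S)) δ hδ
  -- the quotient `B' = B / f`
  have hfle : Ideal.span {f} ≤ maximalIdeal B := by
    rw [Ideal.span_le, Set.singleton_subset_iff]
    exact hfm
  haveI : IsLocalRing (B ⧸ Ideal.span {f}) := isLocalRing_quotient_of_le _ hfle
  -- the finite type algebra `T = S / c`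
  have hcle : Ideal.span {c} ≤ (Ideal.span {f}).comap (algebraMap S B) := by
    rw [Ideal.span_le, Set.singleton_subset_iff]
    show algebraMap S B c ∈ Ideal.span {f}
    rw [halgSB, hc]
    exact Ideal.subset_span rfl
  letI algTB' : Algebra (S ⧸ Ideal.span {c}) (B ⧸ Ideal.span {f}) :=
    (Ideal.quotientMap (Ideal.span {f}) (algebraMap S B) hcle).toAlgebra
  have halgTB' : ∀ x : S, algebraMap (S ⧸ Ideal.span {c}) (B ⧸ Ideal.span {f})
      (Ideal.Quotient.mk _ x) = Ideal.Quotient.mk _ (algebraMap S B x) := fun _ => rfl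
  haveI : IsScalarTower S (S ⧸ Ideal.span {c}) (B ⧸ Ideal.span {f}) :=
    IsScalarTower.of_algebraMap_eq (fun _ => rfl)
  haveI : IsScalarTower R (S ⧸ Ideal.span {c}) (B ⧸ Ideal.span {f}) :=
    IsScalarTower.of_algebraMap_eq (fun r => by
      rw [IsScalarTower.algebraMap_apply R S (S ⧸ Ideal.span {c}), Ideal.Quotient.algebraMap_eq,
        halgTB', ← IsScalarTower.algebraMap_apply R S B]
      rfl)
  haveI : Algebra.FiniteType R (S ⧸ Ideal.span {c}) :=
    Algebra.FiniteType.of_surjective (Ideal.Quotient.mkₐ R (Ideal.span {c}))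
      (Ideal.Quotient.mkₐ_surjective R _)
  set Qbar : Ideal (S ⧸ Ideal.span {c}) :=
    (maximalIdeal (B ⧸ Ideal.span {f})).comap (algebraMap (S ⧸ Ideal.span {c}) (B ⧸ Ideal.span {f}))
    with hQbar
  haveI : Qbar.IsPrime := Ideal.comap_isPrime _ _
  have hmemQ : ∀ x : S, Ideal.Quotient.mk (Ideal.span {c}) x ∈ Qbar ↔
      algebraMap S B x ∈ maximalIdeal B := by
    intro x
    rw [hQbar, Ideal.mem_comap, halgTB', mk_mem_maximalIdeal_iff _ hfle]
  have hQover : Qbar.comap (algebraMap R (S ⧸ Ideal.span {c})) = maximalIdeal R := by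
    ext r
    rw [Ideal.mem_comap, IsScalarTower.algebraMap_apply R S (S ⧸ Ideal.span {c}),
      Ideal.Quotient.algebraMap_eq, hmemQ, ← IsScalarTower.algebraMap_apply]
    constructor
    · intro h
      by_contra hr
      have hru : IsUnit r := by
        by_contra h'
        exact hr h'
      exact h (hru.map _)
    · intro h hu
      exact h (isUnit_of_map_unit (algebraMap R B) r hu)
  haveI : Qbar.LiesOver (maximalIdeal R) := ⟨hQover.symm⟩
  have hxQ : Ideal.Quotient.mk (Ideal.span {c}) xS ∈ Qbar := by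
    rw [hmemQ, hxSB]
    exact tt_mem_maximalIdeal hB
  have hu'B : IsUnit (algebraMap S B u') := by
    rw [halgSB, hu']
    exact hu
  haveI hQF : Algebra.QuasiFiniteAt R Qbar := by
    refine quasiFiniteAt_of_basicOpen Qbar (Ideal.Quotient.mk _ (s * u')) ?_ ?_
    · rw [hmemQ, map_mul]
      intro hmem
      have hsu : IsUnit (algebraMap S B s) := by
        by_contra h'
        exact hs h'
      exact hmem (hsu.mul hu'B)
    · intro q' hq' hq'over hsq'
      rw [hQover] at hq'over
      have hX' : Ideal.Quotient.mk (Ideal.span {c}) xS ∈ q' := by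
        have h1 : Ideal.Quotient.mk (Ideal.span {c}) (s * δ) ∈ q' := by
          have h2 : (maximalIdeal R).map (algebraMap R (S ⧸ Ideal.span {c})) ≤ q' := by
            rw [Ideal.map_le_iff_le_comap, hq'over]
          apply h2
          rw [IsScalarTower.algebraMap_eq R S (S ⧸ Ideal.span {c}), ← Ideal.map_map]
          exact Ideal.mem_map_of_mem _ hsδ
        have h3 : Ideal.Quotient.mk (Ideal.span {c}) (s * δ) =
            - (Ideal.Quotient.mk (Ideal.span {c}) (s * u') *
              Ideal.Quotient.mk (Ideal.span {c}) xS ^ n) := by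
          have hc0 : Ideal.Quotient.mk (Ideal.span {c}) c = 0 :=
            Ideal.Quotient.eq_zero_iff_mem.mpr (Ideal.subset_span rfl)
          rw [hδdef, map_mul, map_sub, hc0, map_mul, map_mul, map_pow]
          ring
        rw [h3, Ideal.neg_mem_iff] at h1
        have h4 := (hq'.mem_or_mem h1).resolve_left hsq'
        exact hq'.mem_of_pow_mem n h4
      rw [prime_eq_of_X_mem hbij (Ideal.span {c}) q' hq'over hX',
        prime_eq_of_X_mem hbij (Ideal.span {c}) Qbar hQover hxQ]
  obtain ⟨e, he, heQ, hfin, hHL, hunit⟩ :=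
    Groth.Agent.Lib.Helper12.exists_finite_local_factor R (S ⧸ Ideal.span {c}) Qbar
  -- `B / f` is a henselization of `T`
  have hTB := Hfp.isPairHenselization_quotient hSB (Ideal.span {c}) (R' := S ⧸ Ideal.span {c})
    Ideal.Quotient.mk_surjective Ideal.mk_ker (B := B ⧸ Ideal.span {f})
    Ideal.Quotient.mk_surjective
    (by rw [Ideal.Quotient.algebraMap_eq, Ideal.mk_ker, Ideal.map_span, Set.image_singleton,
      halgSB, hc])
  -- the idempotent maps to `1`
  have he1 : algebraMap (S ⧸ Ideal.span {c}) (B ⧸ Ideal.span {f}) e = 1 := by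
    have hidem : IsIdempotentElem (algebraMap (S ⧸ Ideal.span {c}) (B ⧸ Ideal.span {f}) e) :=
      he.map _
    have hunit' : IsUnit (algebraMap (S ⧸ Ideal.span {c}) (B ⧸ Ideal.span {f}) e) := by
      by_contra h'
      exact heQ h'
    obtain ⟨y, hy⟩ := hunit'.exists_right_inv
    calc algebraMap (S ⧸ Ideal.span {c}) (B ⧸ Ideal.span {f}) e
        = algebraMap (S ⧸ Ideal.span {c}) (B ⧸ Ideal.span {f}) e *
          (algebraMap (S ⧸ Ideal.span {c}) (B ⧸ Ideal.span {f}) e * y) := by rw [hy, mul_one]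
      _ = (algebraMap (S ⧸ Ideal.span {c}) (B ⧸ Ideal.span {f}) e *
          algebraMap (S ⧸ Ideal.span {c}) (B ⧸ Ideal.span {f}) e) * y := by ring
      _ = 1 := by rw [hidem.eq, hy]
  have h1e : algebraMap (S ⧸ Ideal.span {c}) (B ⧸ Ideal.span {f}) (1 - e) = 0 := by
    rw [map_sub, map_one, he1, sub_self]
  have hker1 : ∀ a ∈ Ideal.span {1 - e},
      algebraMap (S ⧸ Ideal.span {c}) (B ⧸ Ideal.span {f}) a = 0 := by
    intro a ha
    obtain ⟨w, rfl⟩ := Ideal.mem_span_singleton'.mp ha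
    rw [map_mul, h1e, mul_zero]
  letI algT₁B' : Algebra ((S ⧸ Ideal.span {c}) ⧸ Ideal.span {1 - e}) (B ⧸ Ideal.span {f}) :=
    (Ideal.Quotient.lift (Ideal.span {1 - e})
      (algebraMap (S ⧸ Ideal.span {c}) (B ⧸ Ideal.span {f})) hker1).toAlgebra
  haveI : IsScalarTower (S ⧸ Ideal.span {c}) ((S ⧸ Ideal.span {c}) ⧸ Ideal.span {1 - e})
      (B ⧸ Ideal.span {f}) := by
    have h := IsScalarTower.of_algebraMap_eq (R := S ⧸ Ideal.span {c})
      (S := (S ⧸ Ideal.span {c}) ⧸ Ideal.span {1 - e}) (A := B ⧸ Ideal.span {f}) (fun _ => rfl)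
    exact h
  have hT₁B := Hfp.isPairHenselization_quotient hTB (Ideal.span {1 - e})
    (R' := (S ⧸ Ideal.span {c}) ⧸ Ideal.span {1 - e})
    Ideal.Quotient.mk_surjective Ideal.mk_ker (B := B ⧸ Ideal.span {f})
    (fun x => ⟨x, rfl⟩)
    (by
      rw [Ideal.map_span, Set.image_singleton, h1e, Ideal.span_singleton_eq_bot.mpr rfl]
      ext x
      rw [RingHom.mem_ker, Ideal.mem_bot]
      rfl)
  -- `T₁` is a henselian pair, hence its own henselization
  haveI := hHL
  set J₁ : Ideal ((S ⧸ Ideal.span {c}) ⧸ Ideal.span {1 - e}) :=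
    (((Ideal.span {(X : R[X])}).map (algebraMap R[X] S)).map (algebraMap S (S ⧸ Ideal.span {c}))).map
      (algebraMap (S ⧸ Ideal.span {c}) ((S ⧸ Ideal.span {c}) ⧸ Ideal.span {1 - e})) with hJ₁
  have hJ₁le : J₁ ≤ maximalIdeal ((S ⧸ Ideal.span {c}) ⧸ Ideal.span {1 - e}) := by
    rw [hJ₁, Ideal.map_span, Set.image_singleton, Ideal.map_span, Set.image_singleton,
      Ideal.map_span, Set.image_singleton, Ideal.span_le, Set.singleton_subset_iff]
    intro hu1
    exact ((hunit _).mp hu1) hxQ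
  haveI : HenselianRing ((S ⧸ Ideal.span {c}) ⧸ Ideal.span {1 - e}) J₁ :=
    Greenberg.henselianRing_of_le hJ₁le
  have hself := isPairHenselization_self ((S ⧸ Ideal.span {c}) ⧸ Ideal.span {1 - e}) J₁
  obtain ⟨E⟩ := PairUnique.nonempty_algEquiv hself hT₁B
  have hsurj : Function.Surjective
      (algebraMap ((S ⧸ Ideal.span {c}) ⧸ Ideal.span {1 - e}) (B ⧸ Ideal.span {f})) := by
    intro y
    obtain ⟨x, rfl⟩ := E.surjective y
    refine ⟨x, ?_⟩
    have := E.commutes x
    rw [Algebra.algebraMap_self, RingHom.id_apply] at this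
    exact this.symm
  haveI : IsScalarTower R ((S ⧸ Ideal.span {c}) ⧸ Ideal.span {1 - e}) (B ⧸ Ideal.span {f}) := by
    have h := IsScalarTower.of_algebraMap_eq (R := R)
      (S := (S ⧸ Ideal.span {c}) ⧸ Ideal.span {1 - e}) (A := B ⧸ Ideal.span {f}) (fun r => by
        rw [IsScalarTower.algebraMap_apply R (S ⧸ Ideal.span {c}) (B ⧸ Ideal.span {f})]
        rfl)
    exact h
  haveI := hfin
  exact Module.Finite.of_surjective
    (IsScalarTower.toAlgHom R ((S ⧸ Ideal.span {c}) ⧸ Ideal.span {1 - e})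
      (B ⧸ Ideal.span {f})).toLinearMap hsurj

end Main

end Groth.Agent.Lib.Helper12.WPrep
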