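import Mathlib
import Groth.Agent.Lib.Helper12.WPrepC
import Groth.Agent.Lib.Helper12.GreenbergB
import Groth.Agent.Lib.Helper12.HenselRadical
import Groth.Agent.Lib.Helper12.HenselPairOps

/-!
# Weierstrass preparation: the quotient by a distinguished polynomial
-/

set_option autoImplicit false
set_option linter.unusedSectionVars false
set_option linter.style.haveILetI false
universe u

namespace Groth.Agent.Lib.Helper12.WPrep

open Polynomial IsLocalRing

variable {R : Type u} [CommRing R] [HenselianLocalRing R] {B : Type u} [CommRing B] [Algebra R B]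
  [Algebra R[X] B] [IsScalarTower R R[X] B]

theorem sub_X_pow_mem_map_C (P : R[X]) (hP : P.Monic)
    (hPc : ∀ i : ℕ, i < P.natDegree → P.coeff i ∈ maximalIdeal R) :
    P - X ^ P.natDegree ∈ (maximalIdeal R).map (C : R →+* R[X]) := by
  rw [Ideal.mem_map_C_iff]
  intro i
  rw [coeff_sub, coeff_X_pow]
  rcases lt_trichotomy i P.natDegree with h | h | h
  · rw [if_neg h.ne, sub_zero]
    exact hPc i h
  · rw [if_pos h, h, hP.coeff_natDegree, sub_self]
    exact zero_mem _
  · rw [if_neg h.ne', sub_zero, coeff_eq_zero_of_natDegree_lt h]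
    exact zero_mem _

/-- For a monic polynomial `P` congruent to a power of `X` modulo the maximal ideal,
`R[X] / P → B / P` is bijective. -/
theorem bijective_of_monic (hB : Hens2.IsPairHenselization R[X] (Ideal.span {(X : R[X])}) B)
    (P : R[X]) (hP : P.Monic)
    (hPc : ∀ i : ℕ, i < P.natDegree → P.coeff i ∈ maximalIdeal R) :
    (∀ b : B, ∃ q : R[X], algebraMap R[X] B q - b ∈ Ideal.span {algebraMap R[X] B P}) ∧
    (∀ q : R[X], algebraMap R[X] B q ∈ Ideal.span {algebraMap R[X] B P} →
      q ∈ Ideal.span {P}) := by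
  haveI : Module.Finite R (R[X] ⧸ Ideal.span {P}) := hP.finite_adjoinRoot
  haveI : Algebra.IsIntegral R (R[X] ⧸ Ideal.span {P}) := Algebra.IsIntegral.of_finite R _
  haveI : HenselianRing R (maximalIdeal R) := inferInstance
  haveI h1 : HenselianRing (R[X] ⧸ Ideal.span {P})
      ((maximalIdeal R).map (algebraMap R (R[X] ⧸ Ideal.span {P}))) :=
    henselianRing_map_of_isIntegral R _ _
  have hXpow : (Ideal.Quotient.mk (Ideal.span {P}) X) ^ P.natDegree ∈
      (maximalIdeal R).map (algebraMap R (R[X] ⧸ Ideal.span {P})) := by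
    have h0 : Ideal.Quotient.mk (Ideal.span {P}) P = 0 :=
      Ideal.Quotient.eq_zero_iff_mem.mpr (Ideal.subset_span rfl)
    have h2 : (Ideal.Quotient.mk (Ideal.span {P}) X) ^ P.natDegree =
        - Ideal.Quotient.mk (Ideal.span {P}) (P - X ^ P.natDegree) := by
      rw [map_sub, h0, map_pow]
      ring
    rw [h2, Ideal.neg_mem_iff]
    have h3 := Ideal.mem_map_of_mem (Ideal.Quotient.mk (Ideal.span {P}))
      (sub_X_pow_mem_map_C P hP hPc)
    rw [Ideal.map_map] at h3
    exact h3
  have hle : (Ideal.span {(X : R[X])}).map (algebraMap R[X] (R[X] ⧸ Ideal.span {P})) ≤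
      (maximalIdeal R).map (algebraMap R (R[X] ⧸ Ideal.span {P})) ⊔
        Ideal.span {Ideal.Quotient.mk (Ideal.span {P}) X} := by
    rw [Ideal.map_span, Set.image_singleton]
    exact le_sup_right
  haveI h2 : HenselianRing (R[X] ⧸ Ideal.span {P})
      ((maximalIdeal R).map (algebraMap R (R[X] ⧸ Ideal.span {P})) ⊔
        Ideal.span {Ideal.Quotient.mk (Ideal.span {P}) X}) := by
    refine henselianRing_of_le_radical _ _ le_sup_left (sup_le Ideal.le_radical ?_)
    rw [Ideal.span_le, Set.singleton_subset_iff]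
    exact ⟨P.natDegree, hXpow⟩
  haveI h3 : HenselianRing (R[X] ⧸ Ideal.span {P})
      ((Ideal.span {(X : R[X])}).map (algebraMap R[X] (R[X] ⧸ Ideal.span {P}))) :=
    Greenberg.henselianRing_of_le hle
  have hself := isPairHenselization_self (R[X] ⧸ Ideal.span {P})
    ((Ideal.span {(X : R[X])}).map (algebraMap R[X] (R[X] ⧸ Ideal.span {P})))
  have hPle : Ideal.span {P} ≤
      (Ideal.span {algebraMap R[X] B P}).comap (algebraMap R[X] B) := by
    rw [Ideal.span_le, Set.singleton_subset_iff]
    exact Ideal.subset_span rfl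
  letI algEB : Algebra (R[X] ⧸ Ideal.span {P}) (B ⧸ Ideal.span {algebraMap R[X] B P}) :=
    (Ideal.quotientMap (Ideal.span {algebraMap R[X] B P}) (algebraMap R[X] B) hPle).toAlgebra
  have halgEB : ∀ q : R[X], algebraMap (R[X] ⧸ Ideal.span {P})
      (B ⧸ Ideal.span {algebraMap R[X] B P}) (Ideal.Quotient.mk _ q) =
      Ideal.Quotient.mk _ (algebraMap R[X] B q) := fun _ => rfl
  haveI : IsScalarTower R[X] (R[X] ⧸ Ideal.span {P}) (B ⧸ Ideal.span {algebraMap R[X] B P}) := by
    have h := IsScalarTower.of_algebraMap_eq (R := R[X]) (S := R[X] ⧸ Ideal.span {P})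
      (A := B ⧸ Ideal.span {algebraMap R[X] B P}) (fun _ => rfl)
    exact h
  have hEB := Hfp.isPairHenselization_quotient hB (Ideal.span {P})
    (R' := R[X] ⧸ Ideal.span {P}) Ideal.Quotient.mk_surjective Ideal.mk_ker
    (B := B ⧸ Ideal.span {algebraMap R[X] B P}) Ideal.Quotient.mk_surjective
    (by rw [Ideal.Quotient.algebraMap_eq, Ideal.mk_ker, Ideal.map_span, Set.image_singleton])
  obtain ⟨E⟩ := PairUnique.nonempty_algEquiv hself hEB
  have hbij : Function.Bijective (algebraMap (R[X] ⧸ Ideal.span {P})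
      (B ⧸ Ideal.span {algebraMap R[X] B P})) := by
    have h : ∀ x, algebraMap (R[X] ⧸ Ideal.span {P})
        (B ⧸ Ideal.span {algebraMap R[X] B P}) x = E x := by
      intro x
      have := E.commutes x
      rw [Algebra.algebraMap_self, RingHom.id_apply] at this
      exact this.symm
    have : (algebraMap (R[X] ⧸ Ideal.span {P})
        (B ⧸ Ideal.span {algebraMap R[X] B P}) : _ → _) = E := funext h
    rw [this]
    exact E.bijective
  refine ⟨fun b => ?_, fun q hq => ?_⟩
  · obtain ⟨z, hz⟩ := hbij.2 (Ideal.Quotient.mk _ b)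
    obtain ⟨q, rfl⟩ := Ideal.Quotient.mk_surjective z
    refine ⟨q, ?_⟩
    rw [halgEB] at hz
    exact Ideal.Quotient.eq.mp hz
  · have h0 : algebraMap (R[X] ⧸ Ideal.span {P}) (B ⧸ Ideal.span {algebraMap R[X] B P})
        (Ideal.Quotient.mk _ q) = 0 := by
      rw [halgEB]
      exact Ideal.Quotient.eq_zero_iff_mem.mpr hq
    rw [← map_zero (algebraMap (R[X] ⧸ Ideal.span {P})
      (B ⧸ Ideal.span {algebraMap R[X] B P}))] at h0
    exact Ideal.Quotient.eq_zero_iff_mem.mp (hbij.1 h0)

end Groth.Agent.Lib.Helper12.WPrep
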