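import Mathlib
import Groth.Agent.Lib.Helper12.WPrepD
import Groth.Agent.Lib.Helper12.WPrepE

/-!
# Weierstrass preparation: existence of the distinguished polynomial
-/

set_option autoImplicit false
set_option linter.unusedSectionVars false
set_option linter.style.haveILetI false
universe u

namespace Groth.Agent.Lib.Helper12.WPrep

open Polynomial IsLocalRing

variable {R : Type u} [CommRing R] [HenselianLocalRing R] {B : Type u} [CommRing B] [Algebra R B]
  [Algebra R[X] B] [IsScalarTower R R[X] B]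

section

variable (hB : Hens2.IsPairHenselization R[X] (Ideal.span {(X : R[X])}) B)
include hB

/-- Every element of `B` is a polynomial of degree `< n` modulo `t ^ n`. -/
theorem exists_degree_lt (n : ℕ) (b : B) :
    ∃ (q : R[X]) (w : B), q.degree < n ∧ b = algebraMap R[X] B q + tt R B ^ n * w := by
  have hbij := PairUnique.quotientMap_pow_bijective hB n
  obtain ⟨z, hz⟩ := hbij.2 (Ideal.Quotient.mk _ b)
  obtain ⟨p, rfl⟩ := Ideal.Quotient.mk_surjective z
  rw [Ideal.quotientMap_mk, Ideal.Quotient.eq, Ideal.span_singleton_pow, Ideal.map_span,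
    Set.image_singleton, Ideal.mem_span_singleton'] at hz
  obtain ⟨w₁, hw₁⟩ := hz
  have hmon : (X ^ n : R[X]).Monic := monic_X_pow n
  refine ⟨p %ₘ (X ^ n), algebraMap R[X] B (p /ₘ (X ^ n)) - w₁, ?_, ?_⟩
  · have := degree_modByMonic_lt p hmon
    rwa [degree_X_pow] at this
  · have h1 : algebraMap R[X] B p = algebraMap R[X] B (p %ₘ (X ^ n)) +
        tt R B ^ n * algebraMap R[X] B (p /ₘ (X ^ n)) := by
      conv_lhs => rw [← modByMonic_add_div p (X ^ n)]
      rw [map_add, map_mul, map_pow]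
      rfl
    have h2 : b = algebraMap R[X] B p - w₁ * algebraMap R[X] B (X ^ n) := by
      rw [hw₁]; ring
    rw [h2, h1, map_pow]
    show _ = _ + tt R B ^ n * _
    rw [tt]
    ring

/-- The image of `t ^ n w` in `B / f` lies in `𝔪 (B / f)`. -/
theorem mk_pow_mul_mem [IsLocalRing B] (f : B) (n : ℕ) (u : B) (hu : IsUnit u)
    (hfu : f - tt R B ^ n * u ∈ mB R B) (w : B) :
    Ideal.Quotient.mk (Ideal.span {f}) (tt R B ^ n * w) ∈
      (maximalIdeal R • ⊤ : Submodule R (B ⧸ Ideal.span {f})) := by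
  obtain ⟨u₁, hu₁⟩ := hu.exists_left_inv
  have h1 : tt R B ^ n * w = u₁ * w * f - u₁ * w * (f - tt R B ^ n * u) := by
    have : u₁ * w * (tt R B ^ n * u) = (u₁ * u) * (tt R B ^ n * w) := by ring
    rw [mul_sub, sub_sub_cancel, this, hu₁, one_mul]
  have h2 : Ideal.Quotient.mk (Ideal.span {f}) (u₁ * w * f) = 0 :=
    Ideal.Quotient.eq_zero_iff_mem.mpr (Ideal.mul_mem_left _ _ (Ideal.subset_span rfl))
  rw [h1, map_sub, h2, zero_sub, neg_mem_iff, Ideal.smul_top_eq_map, Submodule.restrictScalars_mem]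
  have h3 : u₁ * w * (f - tt R B ^ n * u) ∈ (maximalIdeal R).map (algebraMap R B) := by
    rw [← mB_eq]
    exact Ideal.mul_mem_left _ _ hfu
  have h4 := Ideal.mem_map_of_mem (Ideal.Quotient.mk (Ideal.span {f})) h3
  rw [Ideal.map_map] at h4
  exact h4

theorem exists_monic [IsLocalRing B] (f : B) (hf : f ∉ mB R B) :
    ∃ (P : R[X]) (v : Bˣ), P.Monic ∧
      (∀ i : ℕ, i < P.natDegree → P.coeff i ∈ maximalIdeal R) ∧
      f = algebraMap R[X] B P * (v : B) := by
  by_cases hfu' : IsUnit f
  · refine ⟨1, hfu'.unit, monic_one, ?_, ?_⟩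
    · intro i hi
      simp at hi
    · rw [map_one, one_mul]
      rfl
  have hfm : f ∈ maximalIdeal B := hfu'
  obtain ⟨n, u, hu, hfu⟩ := exists_order hB f hf
  haveI hfin := finite_quotient hB f hfm n u hu hfu
  -- the linear map from polynomials of degree `< n`
  let L : degreeLT R n →ₗ[R] (B ⧸ Ideal.span {f}) :=
    ((Ideal.Quotient.mkₐ R (Ideal.span {f})).toLinearMap ∘ₗ
      (IsScalarTower.toAlgHom R R[X] B).toLinearMap) ∘ₗ (degreeLT R n).subtype
  have hL : ∀ q : degreeLT R n, L q = Ideal.Quotient.mk _ (algebraMap R[X] B q.1) := fun _ => rfl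
  have hcl1 : (⊤ : Submodule R (B ⧸ Ideal.span {f})) ≤
      LinearMap.range L ⊔ maximalIdeal R • ⊤ := by
    intro y _
    obtain ⟨b, rfl⟩ := Ideal.Quotient.mk_surjective y
    obtain ⟨q, w, hq, rfl⟩ := exists_degree_lt hB n b
    rw [map_add]
    refine Submodule.add_mem_sup ⟨⟨q, mem_degreeLT.mpr hq⟩, rfl⟩ ?_
    exact mk_pow_mul_mem hB f n u hu hfu w
  have hrange : LinearMap.range L = ⊤ := by
    apply top_le_iff.mp
    exact Submodule.le_of_le_smul_of_le_jacobson_bot (Module.Finite.fg_top)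
      (IsLocalRing.maximalIdeal_le_jacobson _) hcl1
  have hmem : Ideal.Quotient.mk (Ideal.span {f}) (tt R B ^ n) ∈
      Submodule.map L (maximalIdeal R • (⊤ : Submodule R (degreeLT R n))) := by
    rw [Submodule.map_smul'', Submodule.map_top, hrange]
    have := mk_pow_mul_mem hB f n u hu hfu 1
    rwa [mul_one] at this
  obtain ⟨q, hq, hLq⟩ := hmem
  have hqc : ∀ i, q.1.coeff i ∈ maximalIdeal R := by
    intro i
    let ci : degreeLT R n →ₗ[R] R := (lcoeff R i) ∘ₗ (degreeLT R n).subtype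
    have h1 : ci q ∈ Submodule.map ci (maximalIdeal R • (⊤ : Submodule R (degreeLT R n))) :=
      ⟨q, hq, rfl⟩
    rw [Submodule.map_smul''] at h1
    have h2 : (maximalIdeal R • Submodule.map ci ⊤ : Submodule R R) ≤ maximalIdeal R := by
      rw [Submodule.smul_le]
      intro r hr x _
      exact Ideal.mul_mem_right _ _ hr
    exact h2 h1
  have hqdeg : q.1.degree < n := mem_degreeLT.mp q.2
  have hqmB : algebraMap R[X] B q.1 ∈ mB R B := by
    apply Ideal.mem_map_of_mem
    rw [Ideal.mem_map_C_iff]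
    exact hqc
  refine ⟨X ^ n - q.1, ?_⟩
  have hmon : (X ^ n - q.1 : R[X]).Monic := monic_X_pow_sub hqdeg
  have hnat : (X ^ n - q.1 : R[X]).natDegree = n := by
    apply natDegree_eq_of_degree_eq_some
    rw [degree_sub_eq_left_of_degree_lt (by rwa [degree_X_pow]), degree_X_pow]
  have hPmem : algebraMap R[X] B (X ^ n - q.1) ∈ Ideal.span {f} := by
    rw [← Ideal.Quotient.eq_zero_iff_mem, map_sub, map_sub, map_pow]
    show Ideal.Quotient.mk (Ideal.span {f}) (tt R B ^ n) - _ = 0
    rw [← hLq, hL, sub_self]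
  obtain ⟨v, hv⟩ := Ideal.mem_span_singleton'.mp hPmem
  -- `v` is a unit
  have hvunit : IsUnit v := by
    apply isUnit_of_isUnit_mk hB
    have h1 : tt R B ^ n * (1 - u * v) ∈ mB R B := by
      have : tt R B ^ n * (1 - u * v) =
          algebraMap R[X] B q.1 + v * (f - tt R B ^ n * u) := by
        have hv' : v * f = tt R B ^ n - algebraMap R[X] B q.1 := by
          rw [hv, map_sub, map_pow]
          rfl
        have : v * (f - tt R B ^ n * u) = v * f - tt R B ^ n * (u * v) := by ring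
        rw [this, hv']
        ring
      rw [this]
      exact (mB R B).add_mem hqmB (Ideal.mul_mem_left _ _ hfu)
    have h2 : Ideal.Quotient.mk (mB R B) (1 - u * v) = 0 := by
      have hreg := (isSMulRegular_tt_bar hB).pow n
      apply hreg
      show Ideal.Quotient.mk (mB R B) (tt R B) ^ n • Ideal.Quotient.mk (mB R B) (1 - u * v) =
        Ideal.Quotient.mk (mB R B) (tt R B) ^ n • 0
      rw [smul_zero, smul_eq_mul, ← map_pow, ← map_mul]
      exact Ideal.Quotient.eq_zero_iff_mem.mpr h1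
    rw [map_sub, map_one, sub_eq_zero, map_mul] at h2
    exact IsUnit.of_mul_eq_one _ (by rw [mul_comm]; exact h2.symm)
  refine ⟨hvunit.unit⁻¹, hmon, ?_, ?_⟩
  · intro i hi
    rw [hnat] at hi
    rw [coeff_sub, coeff_X_pow, if_neg hi.ne, zero_sub, neg_mem_iff]
    exact hqc i
  · rw [← hv]
    have : v * f * ((hvunit.unit⁻¹ : Bˣ) : B) = f * (v * ((hvunit.unit⁻¹ : Bˣ) : B)) := by ring
    rw [this]
    have h3 : v * ((hvunit.unit⁻¹ : Bˣ) : B) = 1 := by
      have := hvunit.unit.mul_inv
      rwa [hvunit.unit_spec] at this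
    rw [h3, mul_one]

end

end Groth.Agent.Lib.Helper12.WPrep
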