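import Mathlib
import Groth.Agent.Lib.Helper12.WPrepF
import Groth.Agent.Lib.Helper12.WLaurC

/-!
# Weierstrass factorization of polynomials over a henselian local ring

Every `g ∈ R[X]` not in `𝔪 R[X]` factors as `g = w * P` with `P` monic, with non-leading
coefficients in `𝔪`, and `w(0)` a unit.
-/

set_option autoImplicit false
set_option linter.unusedSectionVars false
set_option linter.style.haveILetI false
universe u

namespace Groth.Agent.Lib.Helper12.WLaur

open Polynomial IsLocalRing

variable {R : Type u} [CommRing R] [HenselianLocalRing R] {B : Type u} [CommRing B] [Algebra R B]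
  [Algebra R[X] B] [IsScalarTower R R[X] B]

theorem isDomain_bar : IsDomain (R[X] ⧸ WPrep.KK R) := by
  letI := Ideal.Quotient.field (maximalIdeal R)
  exact (Ideal.polynomialQuotientEquivQuotientPolynomial (maximalIdeal R)).symm.toMulEquiv.isDomain
    ((R ⧸ maximalIdeal R)[X])

section

variable (hB : Hens2.IsPairHenselization R[X] (Ideal.span {(X : R[X])}) B)
include hB

theorem algebraMap_notMem_mB [IsLocalRing B] (g : R[X]) (hg : g ∉ WPrep.KK R) :
    algebraMap R[X] B g ∉ WPrep.mB R B := by
  intro h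
  haveI := isDomain_bar (R := R)
  haveI := WPrep.flat_bar hB
  haveI := WPrep.nontrivial_bar hB
  have hne : Ideal.Quotient.mk (WPrep.KK R) g ≠ 0 :=
    fun h0 => hg (Ideal.Quotient.eq_zero_iff_mem.mp h0)
  have hreg0 : IsSMulRegular (R[X] ⧸ WPrep.KK R) (Ideal.Quotient.mk (WPrep.KK R) g) :=
    (isRegular_of_ne_zero hne).left.isSMulRegular
  have hreg : IsSMulRegular (B ⧸ WPrep.mB R B)
      (Ideal.Quotient.mk (WPrep.mB R B) (algebraMap R[X] B g)) :=
    hreg0.of_flat (S := B ⧸ WPrep.mB R B)
  have h0 : Ideal.Quotient.mk (WPrep.mB R B) (algebraMap R[X] B g) = 0 :=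
    Ideal.Quotient.eq_zero_iff_mem.mpr h
  have h1 : (1 : B ⧸ WPrep.mB R B) = 0 := by
    apply hreg
    show _ • (1 : B ⧸ WPrep.mB R B) = _ • 0
    rw [h0, zero_smul, zero_smul]
  exact one_ne_zero h1

/-- Weierstrass factorization of polynomials over a henselian local ring. -/
theorem exists_factor (g : R[X]) (hg : g ∉ WPrep.KK R) :
    ∃ (P w : R[X]), P.Monic ∧ (∀ i : ℕ, i < P.natDegree → P.coeff i ∈ maximalIdeal R) ∧
      g = w * P ∧ IsUnit (w.coeff 0) := by
  haveI hloc : IsLocalRing B := WPrep.isLocalRing hB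
  haveI hflat : Module.Flat R[X] B := PairUnique.flat_of_isPairHenselization hB
  obtain ⟨P, v, hP, hPc, hgP⟩ := WPrep.exists_monic hB _ (algebraMap_notMem_mB hB g hg)
  have hmem : algebraMap R[X] B g ∈ Ideal.span {algebraMap R[X] B P} := by
    rw [hgP]
    exact Ideal.mul_mem_right _ _ (Ideal.subset_span rfl)
  have h2 := (WPrep.bijective_of_monic hB P hP hPc).2 g hmem
  obtain ⟨w, hw⟩ := Ideal.mem_span_singleton'.mp h2
  refine ⟨P, w, hP, hPc, hw.symm, ?_⟩
  -- `algebraMap w = v`
  have hreg : IsSMulRegular B (algebraMap R[X] B P) := by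
    have h0 : IsSMulRegular R[X] P := hP.isRegular.left.isSMulRegular
    exact h0.of_flat (S := B)
  have hwv : algebraMap R[X] B w = (v : B) := by
    apply hreg
    show algebraMap R[X] B P • algebraMap R[X] B w = algebraMap R[X] B P • (v : B)
    rw [smul_eq_mul, smul_eq_mul, ← hgP, ← map_mul, mul_comm, hw]
  obtain ⟨ρ, hρ⟩ := WPrep.exists_pt hB
  have h3 : ρ (algebraMap R[X] B w) = w.coeff 0 := by
    have := RingHom.congr_fun hρ w
    rw [RingHom.comp_apply] at this
    rw [this, Polynomial.coe_evalRingHom, ← Polynomial.coeff_zero_eq_eval_zero]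
  rw [← h3, hwv]
  exact v.isUnit.map ρ

end

end Groth.Agent.Lib.Helper12.WLaur
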