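import Mathlib
import Groth.Agent.Lib.Helper12.WLaurD
import Groth.Agent.Lib.Helper12.PairUniv

/-!
# The localization of `R[X]` at `1 + X R[X]` satisfies Weierstrass division and preparation
-/

set_option autoImplicit false
set_option linter.unusedSectionVars false
set_option linter.style.haveILetI false
universe u

namespace Groth.Agent.Lib.Helper12.WLaur

open Polynomial IsLocalRing

variable (R : Type u) [CommRing R]

/-- The submonoid of polynomials with constant coefficient `1`. -/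
def M₁ : Submonoid R[X] where
  carrier := {f | f.coeff 0 = 1}
  one_mem' := coeff_one_zero
  mul_mem' := by
    intro a b ha hb
    simp only [Set.mem_setOf_eq] at ha hb ⊢
    rw [mul_coeff_zero, ha, hb, one_mul]

theorem mem_M₁ {f : R[X]} : f ∈ M₁ R ↔ f.coeff 0 = 1 := Iff.rfl

variable {R} [HenselianLocalRing R]

/-- Weierstrass factorization of polynomials over a henselian local ring (no auxiliary ring). -/
theorem exists_factor' (g : R[X]) (hg : g ∉ WPrep.KK R) :
    ∃ (P w : R[X]), P.Monic ∧ (∀ i : ℕ, i < P.natDegree → P.coeff i ∈ maximalIdeal R) ∧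
      g = w * P ∧ IsUnit (w.coeff 0) := by
  letI : Algebra R (PairNbhd.Lim R[X] (Ideal.span {(X : R[X])})) :=
    ((algebraMap R[X] (PairNbhd.Lim R[X] (Ideal.span {(X : R[X])}))).comp
      (C : R →+* R[X])).toAlgebra
  haveI : IsScalarTower R R[X] (PairNbhd.Lim R[X] (Ideal.span {(X : R[X])})) :=
    IsScalarTower.of_algebraMap_eq (fun _ => rfl)
  exact exists_factor (PairNbhd.Lim.isPairHenselization R[X] (Ideal.span {(X : R[X])})) g hg

/-- Elements of `M₁` are units modulo a distinguished polynomial. -/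
theorem exists_mul_sub_one_mem (P : R[X]) (hP : P.Monic)
    (hPc : ∀ i : ℕ, i < P.natDegree → P.coeff i ∈ maximalIdeal R) (m : R[X]) (hm : m ∈ M₁ R) :
    ∃ c : R[X], c * m - 1 ∈ Ideal.span {P} := by
  haveI : Module.Finite R (R[X] ⧸ Ideal.span {P}) := hP.finite_adjoinRoot
  haveI : Algebra.IsIntegral R (R[X] ⧸ Ideal.span {P}) := Algebra.IsIntegral.of_finite R _
  haveI : HenselianRing R (maximalIdeal R) := inferInstance
  haveI h1 : HenselianRing (R[X] ⧸ Ideal.span {P})
      ((maximalIdeal R).map (algebraMap R (R[X] ⧸ Ideal.span {P}))) :=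
    henselianRing_map_of_isIntegral R _ _
  have hXpow : (Ideal.Quotient.mk (Ideal.span {P}) X) ^ P.natDegree ∈
      (maximalIdeal R).map (algebraMap R (R[X] ⧸ Ideal.span {P})) := by
    have h0 : Ideal.Quotient.mk (Ideal.span {P}) P = 0 :=
      Ideal.Quotient.eq_zero_iff_mem.mpr (Ideal.subset_span rfl)
    have h2 : (Ideal.Quotient.mk (Ideal.span {P}) X) ^ P.natDegree =
        - Ideal.Quotient.mk (Ideal.span {P}) (P - X ^ P.natDegree) := by
      rw [map_sub, h0, map_pow]
      ring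
    rw [h2, Ideal.neg_mem_iff]
    have h3 := Ideal.mem_map_of_mem (Ideal.Quotient.mk (Ideal.span {P}))
      (WPrep.sub_X_pow_mem_map_C P hP hPc)
    rw [Ideal.map_map] at h3
    exact h3
  have hXjac : Ideal.Quotient.mk (Ideal.span {P}) X ∈
      Ideal.jacobson (⊥ : Ideal (R[X] ⧸ Ideal.span {P})) := by
    have hrad : Ideal.Quotient.mk (Ideal.span {P}) X ∈
        ((maximalIdeal R).map (algebraMap R (R[X] ⧸ Ideal.span {P}))).radical :=
      ⟨P.natDegree, hXpow⟩
    have h4 := Ideal.radical_le_jacobson hrad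
    have h5 : ((maximalIdeal R).map (algebraMap R (R[X] ⧸ Ideal.span {P}))).jacobson ≤
        Ideal.jacobson ⊥ := by
      calc _ ≤ (Ideal.jacobson (⊥ : Ideal (R[X] ⧸ Ideal.span {P}))).jacobson :=
            Ideal.jacobson_mono h1.jac
        _ = _ := Ideal.jacobson_idem
    exact h5 h4
  have hm' : m = X * m.divX + 1 := by
    conv_lhs => rw [← Polynomial.divX_mul_X_add m, (mem_M₁ R).mp hm, map_one, mul_comm]
  have hu : IsUnit (Ideal.Quotient.mk (Ideal.span {P}) m) := by
    rw [hm', map_add, map_mul, map_one]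
    exact (Ideal.mem_jacobson_bot.mp hXjac) _
  obtain ⟨u, hu⟩ := hu
  obtain ⟨c, hc⟩ := Ideal.Quotient.mk_surjective ((u⁻¹ : (R[X] ⧸ Ideal.span {P})ˣ) :
    R[X] ⧸ Ideal.span {P})
  refine ⟨c, ?_⟩
  rw [← Ideal.Quotient.eq_zero_iff_mem, map_sub, map_mul, hc, ← hu, Units.inv_mul, map_one,
    sub_self]

variable {B' : Type u} [CommRing B'] [Algebra R B'] [Algebra R[X] B'] [IsScalarTower R R[X] B']
  [IsLocalization (M₁ R) B']

theorem hdiv_loc : HDiv R B' := by
  intro P hP hPc
  refine ⟨?_, ?_⟩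
  · intro b
    obtain ⟨⟨a, m⟩, ham⟩ := IsLocalization.surj (M₁ R) b
    dsimp only at ham
    obtain ⟨c, hc⟩ := exists_mul_sub_one_mem P hP hPc m m.2
    refine ⟨a * c, ?_⟩
    have e : algebraMap R[X] B' (a * c) - b = b * algebraMap R[X] B' (c * m - 1) := by
      rw [map_mul, ← ham, map_sub, map_mul, map_one]
      ring
    rw [e]
    apply Ideal.mul_mem_left
    obtain ⟨d, hd⟩ := Ideal.mem_span_singleton'.mp hc
    rw [← hd, map_mul]
    exact Ideal.mul_mem_left _ _ (Ideal.subset_span rfl)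
  · intro q hq
    obtain ⟨b, hb⟩ := Ideal.mem_span_singleton'.mp hq
    obtain ⟨⟨a, m⟩, ham⟩ := IsLocalization.surj (M₁ R) b
    dsimp only at ham
    have h1 : algebraMap R[X] B' (q * m) = algebraMap R[X] B' (a * P) := by
      rw [map_mul, map_mul, ← ham, ← hb]
      ring
    obtain ⟨m', hm'⟩ := IsLocalization.exists_of_eq (M := M₁ R) h1
    have hmm : (m' : R[X]) * m ∈ M₁ R := (M₁ R).mul_mem m'.2 m.2
    obtain ⟨c, hc⟩ := exists_mul_sub_one_mem P hP hPc _ hmm
    have e : q = c * (m' * (a * P)) - (c * ((m' : R[X]) * m) - 1) * q := by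
      rw [← hm']
      ring
    rw [e]
    refine sub_mem ?_ (Ideal.mul_mem_right _ _ hc)
    rw [Ideal.mem_span_singleton']
    exact ⟨c * (m' * a), by ring⟩

theorem isUnit_algebraMap_of_isUnit_coeff_zero (w : R[X]) (hw : IsUnit (w.coeff 0)) :
    IsUnit (algebraMap R[X] B' w) := by
  obtain ⟨u, hu⟩ := hw
  have hmem : C (↑u⁻¹ : R) * w ∈ M₁ R := by
    rw [mem_M₁, coeff_C_mul, ← hu, Units.inv_mul]
  have h1 : IsUnit (algebraMap R[X] B' (C (↑u⁻¹ : R) * w)) :=
    IsLocalization.map_units B' (⟨_, hmem⟩ : M₁ R)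
  rw [map_mul] at h1
  exact isUnit_of_mul_isUnit_right h1

theorem map_maximalIdeal_eq :
    (maximalIdeal R).map (algebraMap R B') = (WPrep.KK R).map (algebraMap R[X] B') := by
  rw [Ideal.map_map, IsScalarTower.algebraMap_eq R R[X] B']
  rfl

theorem hprep_loc : HPrep R B' := by
  intro f hf
  obtain ⟨⟨g, m⟩, hgm⟩ := IsLocalization.surj (M₁ R) f
  dsimp only at hgm
  have hmu : IsUnit (algebraMap R[X] B' m) := IsLocalization.map_units B' m
  have hg : g ∉ WPrep.KK R := by
    intro h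
    apply hf
    rw [map_maximalIdeal_eq]
    have h1 : algebraMap R[X] B' g ∈ (WPrep.KK R).map (algebraMap R[X] B') :=
      Ideal.mem_map_of_mem _ h
    rw [← hgm] at h1
    exact (Ideal.unit_mul_mem_iff_mem _ hmu).mp (by rwa [mul_comm] at h1)
  obtain ⟨P, w, hP, hPc, hgwP, hw⟩ := exists_factor' g hg
  have hwu : IsUnit (algebraMap R[X] B' w) := isUnit_algebraMap_of_isUnit_coeff_zero w hw
  obtain ⟨mu, hmu'⟩ := hmu
  obtain ⟨wu, hwu'⟩ := hwu
  refine ⟨P, wu * mu⁻¹, hP, hPc, ?_⟩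
  rw [Units.val_mul, hwu']
  have : f = algebraMap R[X] B' g * ((mu⁻¹ : B'ˣ) : B') := by
    rw [← hgm, ← hmu', mul_assoc, Units.mul_inv, mul_one]
  rw [this, hgwP, map_mul]
  ring

theorem hpow_loc : HPow R B' := by
  intro k hk
  rw [map_maximalIdeal_eq, IsLocalization.mem_map_algebraMap_iff (M₁ R)] at hk
  obtain ⟨⟨⟨i, hi⟩, m⟩, him⟩ := hk
  dsimp only at him
  rw [← map_pow, ← map_mul] at him
  obtain ⟨m', hm'⟩ := IsLocalization.exists_of_eq (M := M₁ R) him
  have h1 : ((m' : R[X]) * (X ^ k * (m : R[X]))) ∈ WPrep.KK R := by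
    rw [hm']
    exact Ideal.mul_mem_left _ _ hi
  rw [Ideal.mem_map_C_iff] at h1
  have h2 := h1 k
  have e : (m' : R[X]) * (X ^ k * (m : R[X])) = ((m' : R[X]) * (m : R[X])) * X ^ k := by ring
  rw [e, Polynomial.coeff_mul_X_pow', if_pos le_rfl, Nat.sub_self] at h2
  have hmm : ((m' : R[X]) * (m : R[X])).coeff 0 = 1 := (M₁ R).mul_mem m'.2 m.2
  rw [hmm] at h2
  exact (Ideal.ne_top_iff_one _).mp (maximalIdeal.isMaximal R).ne_top h2

end Groth.Agent.Lib.Helper12.WLaur
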