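import Mathlib
import Groth.Agent.Lib.Helper12.WLaurE

/-!
# Ideals avoiding the special fibre: the Zariski-localised Laurent ring
-/

set_option autoImplicit false
set_option linter.unusedSectionVars false
set_option linter.style.haveILetI false
universe u

namespace Groth.Agent.Lib.Helper12.WLaur

open Polynomial IsLocalRing

theorem exists_eq_mul_pow_of_mem_closure {R : Type u} [CommRing R] (c : R[X])
    (hc : c ∈ Submonoid.closure ({f : R[X] | f.coeff 0 = 1} ∪ {X})) :
    ∃ m ∈ M₁ R, ∃ n : ℕ, c = m * X ^ n := by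
  induction hc using Submonoid.closure_induction with
  | mem x hx =>
    rcases hx with hx | hx
    · exact ⟨x, hx, 0, by rw [pow_zero, mul_one]⟩
    · rw [Set.mem_singleton_iff] at hx
      exact ⟨1, (M₁ R).one_mem, 1, by rw [hx, pow_one, one_mul]⟩
  | one => exact ⟨1, (M₁ R).one_mem, 0, by rw [pow_zero, mul_one]⟩
  | mul x y _ _ hx hy =>
    obtain ⟨m, hm, n, rfl⟩ := hx
    obtain ⟨m', hm', n', rfl⟩ := hy
    exact ⟨m * m', (M₁ R).mul_mem hm hm', n + n', by rw [pow_add]; ring⟩

variable (R : Type u) [CommRing R] (L : Type u) [CommRing L]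
  [Algebra R[X] L]
  [IsLocalization (Submonoid.closure ({f : R[X] | f.coeff 0 = 1} ∪ {X})) L]

theorem isUnit_algebraMap_M₁ (y : M₁ R) : IsUnit (algebraMap R[X] L y) :=
  IsLocalization.map_units L
    (⟨y, Submonoid.subset_closure (Or.inl y.2)⟩ :
      Submonoid.closure ({f : R[X] | f.coeff 0 = 1} ∪ {X}))

theorem isUnit_algebraMap_X : IsUnit (algebraMap R[X] L X) :=
  IsLocalization.map_units L
    (⟨X, Submonoid.subset_closure (Or.inr rfl)⟩ :
      Submonoid.closure ({f : R[X] | f.coeff 0 = 1} ∪ {X}))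

/-- `L` is the localization away from `t` of any localization of `R[X]` at `M₁`. -/
theorem isLocalization_away_of_tower (B' : Type u) [CommRing B'] [Algebra R[X] B']
    [IsLocalization (M₁ R) B'] [Algebra B' L] [IsScalarTower R[X] B' L] :
    IsLocalization.Away (algebraMap R[X] B' X) L := by
  have hcomp : ∀ p : R[X], algebraMap B' L (algebraMap R[X] B' p) = algebraMap R[X] L p :=
    fun p => (IsScalarTower.algebraMap_apply R[X] B' L p).symm
  refine IsLocalization.Away.mk _ ?_ ?_ ?_
  · rw [hcomp]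
    exact isUnit_algebraMap_X R L
  · intro s
    obtain ⟨⟨x, ⟨c, hc⟩⟩, hxc⟩ := IsLocalization.surj
      (Submonoid.closure ({f : R[X] | f.coeff 0 = 1} ∪ {X})) s
    dsimp only at hxc
    obtain ⟨m, hm, n, rfl⟩ := exists_eq_mul_pow_of_mem_closure c hc
    obtain ⟨mu, hmu⟩ := IsLocalization.map_units B' (⟨m, hm⟩ : M₁ R)
    dsimp only at hmu
    refine ⟨n, algebraMap R[X] B' x * ((mu⁻¹ : B'ˣ) : B'), ?_⟩
    rw [map_mul, hcomp, hcomp, ← hxc, map_mul, map_pow]
    have h1 : algebraMap R[X] L m * algebraMap B' L ((mu⁻¹ : B'ˣ) : B') = 1 := by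
      rw [← hcomp, ← hmu, ← map_mul, Units.mul_inv, map_one]
    calc s * algebraMap R[X] L X ^ n
        = s * algebraMap R[X] L X ^ n * (algebraMap R[X] L m *
          algebraMap B' L ((mu⁻¹ : B'ˣ) : B')) := by
          rw [h1, mul_one]
      _ = _ := by ring
  · intro a b hab
    obtain ⟨⟨p, m₁⟩, hp⟩ := IsLocalization.surj (M₁ R) a
    obtain ⟨⟨q, m₂⟩, hq⟩ := IsLocalization.surj (M₁ R) b
    dsimp only at hp hq
    have hp' : algebraMap R[X] L p = algebraMap B' L a * algebraMap R[X] L m₁ := by
      rw [← hcomp p, ← hp, map_mul, hcomp]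
    have hq' : algebraMap R[X] L q = algebraMap B' L b * algebraMap R[X] L m₂ := by
      rw [← hcomp q, ← hq, map_mul, hcomp]
    have h1 : algebraMap R[X] L (p * m₂) = algebraMap R[X] L (q * m₁) := by
      rw [map_mul, map_mul, hp', hq', hab]
      ring
    obtain ⟨⟨c, hc⟩, hc'⟩ := IsLocalization.exists_of_eq
      (M := Submonoid.closure ({f : R[X] | f.coeff 0 = 1} ∪ {X})) h1
    dsimp only at hc'
    obtain ⟨m, hm, n, rfl⟩ := exists_eq_mul_pow_of_mem_closure c hc
    refine ⟨n, ?_⟩
    have hUm : IsUnit (algebraMap R[X] B' m) :=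
      IsLocalization.map_units B' (⟨m, hm⟩ : M₁ R)
    have hU1 : IsUnit (algebraMap R[X] B' m₁) := IsLocalization.map_units B' m₁
    have hU2 : IsUnit (algebraMap R[X] B' m₂) := IsLocalization.map_units B' m₂
    have hU := (hUm.mul hU1).mul hU2
    apply hU.mul_left_cancel
    have h2 := congrArg (algebraMap R[X] B') hc'
    simp only [map_mul, map_pow] at h2
    rw [← hp, ← hq] at h2
    linear_combination h2

variable [HenselianLocalRing R] [Algebra R L] [IsScalarTower R R[X] L]

/-- The conclusion of the theorem on ideals avoiding the special fibre, for the Zariski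
localisation `(R[t]_{1 + t R[t]})[1/t]`. -/
theorem main_zariski (ψ : R[X] →ₐ[R] L) (hψ : ψ X * algebraMap R[X] L X = 1) :
    (∀ I : Ideal R[X], I ⊔ (maximalIdeal R).map (algebraMap R R[X]) = ⊤ →
        (I.map ψ.toRingHom).comap ψ.toRingHom = I ∧
        I.map ψ.toRingHom ⊔ (maximalIdeal R).map (algebraMap R L) = ⊤ ∧
        Function.Bijective
          (Ideal.quotientMap (I.map ψ.toRingHom) ψ.toRingHom Ideal.le_comap_map)) ∧
    (∀ J : Ideal L, J ⊔ (maximalIdeal R).map (algebraMap R L) = ⊤ →
        (J.comap ψ.toRingHom).map ψ.toRingHom = J ∧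
        J.comap ψ.toRingHom ⊔ (maximalIdeal R).map (algebraMap R R[X]) = ⊤) := by
  letI alg : Algebra (Localization (M₁ R)) L :=
    (IsLocalization.lift (isUnit_algebraMap_M₁ R L)).toAlgebra
  have halg : ∀ z, algebraMap (Localization (M₁ R)) L z =
      IsLocalization.lift (isUnit_algebraMap_M₁ R L) z := fun _ => rfl
  haveI t1 : IsScalarTower R[X] (Localization (M₁ R)) L := by
    refine IsScalarTower.of_algebraMap_eq (R := R[X]) (S := Localization (M₁ R)) (A := L)
      (fun x => ?_)
    rw [halg, IsLocalization.lift_eq]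
  haveI t2 : IsScalarTower R (Localization (M₁ R)) L := by
    refine IsScalarTower.of_algebraMap_eq (R := R) (S := Localization (M₁ R)) (A := L)
      (fun r => ?_)
    rw [IsScalarTower.algebraMap_apply R R[X] L, IsScalarTower.algebraMap_apply R R[X]
      (Localization (M₁ R)), ← IsScalarTower.algebraMap_apply R[X] (Localization (M₁ R)) L]
  haveI := isLocalization_away_of_tower R L (Localization (M₁ R))
  have hψ' : ψ X * algebraMap (Localization (M₁ R)) L
      (algebraMap R[X] (Localization (M₁ R)) X) = 1 := by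
    rw [← IsScalarTower.algebraMap_apply R[X] (Localization (M₁ R)) L]
    exact hψ
  exact main (B := Localization (M₁ R)) ψ hψ' hdiv_loc hprep_loc hpow_loc

end Groth.Agent.Lib.Helper12.WLaur
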