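import Mathlib
import Groth.Agent.Lib.Helper12.WUnrA

/-!
# n-th roots descend along flat local maps of normal Noetherian local domains which are
weakly unramified in codimension one
-/

set_option autoImplicit false
universe u

namespace Groth.Agent.Lib.Helper12.WUnr

open IsLocalRing

theorem pow_eq_of_mul_pow_eq_aux {B : Type u} [CommRing B] [IsDomain B] (q : Ideal B) [q.IsPrime]
    (ϖ X Y : B) (hϖ : ϖ ∈ q) (hϖ0 : ϖ ≠ 0) (hX : X ∉ q) (a b : ℕ) (hab : a ≤ b)
    (h : X * ϖ ^ a = Y * ϖ ^ b) : a = b := by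
  obtain ⟨k, rfl⟩ := Nat.exists_eq_add_of_le hab
  rcases Nat.eq_zero_or_pos k with hk | hk
  · rw [hk, add_zero]
  · exfalso
    have h1 : ϖ ^ a * (X - Y * ϖ ^ k) = 0 := by rw [pow_add] at h; linear_combination h
    rcases mul_eq_zero.mp h1 with h2 | h2
    · exact pow_ne_zero a hϖ0 h2
    · apply hX
      have : X = Y * ϖ ^ k := sub_eq_zero.mp h2
      rw [this]
      exact Ideal.mul_mem_left _ _ (Ideal.pow_mem_of_mem _ hϖ k hk)

theorem pow_eq_of_mul_pow_eq {B : Type u} [CommRing B] [IsDomain B] (q : Ideal B) [q.IsPrime]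
    (ϖ X Y : B) (hϖ : ϖ ∈ q) (hϖ0 : ϖ ≠ 0) (hX : X ∉ q) (hY : Y ∉ q) (a b : ℕ)
    (h : X * ϖ ^ a = Y * ϖ ^ b) : a = b := by
  rcases le_total a b with hab | hab
  · exact pow_eq_of_mul_pow_eq_aux q ϖ X Y hϖ hϖ0 hX a b hab h
  · exact (pow_eq_of_mul_pow_eq_aux q ϖ Y X hϖ hϖ0 hY b a hab h.symm).symm

section Main

variable (A B : Type u) [CommRing A] [IsDomain A] [IsNoetherianRing A] [IsIntegrallyClosed A]
  [CommRing B] [IsDomain B] [IsNoetherianRing B] [IsIntegrallyClosed B] [Algebra A B]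
  (f : A) (h : B) (n : ℕ) (hn : 1 < n) (w : Bˣ) (hf : algebraMap A B f = (w : B) * h ^ n)

include hn hf in
/-- Local analysis at a height one prime. -/
theorem exists_notMem_mul_mem (hinjAB : Function.Injective (algebraMap A B))
    (p : Ideal A) [p.IsPrime] (hp : p.height = 1) (hfp : f ∈ p)
    (hf0 : f ≠ 0) (q : Ideal B) [q.IsPrime] (hq : q.height = 1)
    (hqp : q.comap (algebraMap A B) = p)
    (hm : Ideal.map (algebraMap B (Localization.AtPrime q)) (Ideal.map (algebraMap A B) p) =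
      maximalIdeal (Localization.AtPrime q)) :
    ∃ s ∉ p, algebraMap A B s * h ∈
      ((Ideal.span {h}).comap (algebraMap A B)).map (algebraMap A B) := by
  have hh0 : h ≠ 0 := by
    rintro rfl
    rw [zero_pow (by omega), mul_zero, map_eq_zero_iff _ hinjAB] at hf
    exact hf0 hf
  obtain ⟨π₀, hπp, hspanA, hgen⟩ := exists_unif A p hp.le
  have hπ0 : π₀ ≠ 0 := by
    rintro rfl
    obtain ⟨s, a', hs, hsa⟩ := hgen f hfp
    rw [zero_mul] at hsa
    rcases mul_eq_zero.mp hsa with h1 | h1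
    · exact hs (h1 ▸ p.zero_mem)
    · exact hf0 h1
  have hnotq : ∀ s : A, s ∉ p → algebraMap A B s ∉ q := fun s hs hmem => hs (hqp ▸ hmem)
  have hspanB : maximalIdeal (Localization.AtPrime q) =
      Ideal.span {algebraMap B (Localization.AtPrime q) (algebraMap A B π₀)} := by
    rw [← hm]
    apply le_antisymm
    · rw [Ideal.map_le_iff_le_comap, Ideal.map_le_iff_le_comap]
      intro a ha
      obtain ⟨s, a', hs, hsa⟩ := hgen a ha
      have hu : IsUnit (algebraMap B (Localization.AtPrime q) (algebraMap A B s)) :=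
        IsLocalization.map_units (Localization.AtPrime q) (⟨_, hnotq s hs⟩ : q.primeCompl)
      rw [Ideal.mem_comap, Ideal.mem_comap, Ideal.mem_span_singleton']
      refine ⟨↑hu.unit⁻¹ * algebraMap B (Localization.AtPrime q) (algebraMap A B a'), ?_⟩
      have h1 : algebraMap B (Localization.AtPrime q) (algebraMap A B s) *
          algebraMap B (Localization.AtPrime q) (algebraMap A B a) =
          algebraMap B (Localization.AtPrime q) (algebraMap A B π₀) *
          algebraMap B (Localization.AtPrime q) (algebraMap A B a') := by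
        rw [← map_mul, ← map_mul, ← map_mul, ← map_mul, hsa]
      have h2 : (↑hu.unit⁻¹ : Localization.AtPrime q) *
          algebraMap B (Localization.AtPrime q) (algebraMap A B s) = 1 := hu.val_inv_mul
      linear_combination (↑hu.unit⁻¹ : Localization.AtPrime q) * (-h1) +
        algebraMap B (Localization.AtPrime q) (algebraMap A B a) * h2
    · rw [Ideal.span_singleton_le_iff_mem]
      exact Ideal.mem_map_of_mem _ (Ideal.mem_map_of_mem _ hπp)
  obtain ⟨v, s₂, s₁, hs₂, hs₁, hfv⟩ := exists_unif_data A p hp.le π₀ hspanA f hf0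
  obtain ⟨e₀, σ₂, σ₁, hσ₂, hσ₁, hhe⟩ :=
    exists_unif_data B q hq.le (algebraMap A B π₀) hspanB h hh0
  have hfvB : algebraMap A B f * algebraMap A B s₂ =
      algebraMap A B s₁ * algebraMap A B π₀ ^ v := by
    rw [← map_mul, hfv, map_mul, map_pow]
  have hϖq : algebraMap A B π₀ ∈ q := by
    have : π₀ ∈ q.comap (algebraMap A B) := hqp ▸ hπp
    exact this
  have hϖ0 : algebraMap A B π₀ ≠ 0 := by
    rw [Ne, map_eq_zero_iff _ hinjAB]; exact hπ0
  have hv : v = n * e₀ := by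
    apply pow_eq_of_mul_pow_eq q (algebraMap A B π₀) (algebraMap A B s₁ * σ₂ ^ n)
      (↑w * σ₁ ^ n * algebraMap A B s₂) hϖq hϖ0
    · intro hmem
      rcases (Ideal.IsPrime.mem_or_mem ‹q.IsPrime› hmem) with h1 | h1
      · exact hnotq s₁ hs₁ h1
      · exact hσ₂ (Ideal.IsPrime.mem_of_pow_mem ‹q.IsPrime› _ h1)
    · intro hmem
      rcases (Ideal.IsPrime.mem_or_mem ‹q.IsPrime› hmem) with h1 | h1
      · rcases (Ideal.IsPrime.mem_or_mem ‹q.IsPrime› h1) with h2 | h2
        · exact (Ideal.IsPrime.ne_top ‹q.IsPrime›) (Ideal.eq_top_of_isUnit_mem _ h2 w.isUnit)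
        · exact hσ₁ (Ideal.IsPrime.mem_of_pow_mem ‹q.IsPrime› _ h2)
      · exact hnotq s₂ hs₂ h1
    · have h3 : h ^ n * σ₂ ^ n = σ₁ ^ n * algebraMap A B π₀ ^ (n * e₀) := by
        rw [← mul_pow, hhe, mul_pow, ← pow_mul, mul_comm e₀ n]
      rw [hf] at hfvB
      linear_combination (σ₂ ^ n) * (-hfvB) + (↑w * algebraMap A B s₂) * h3
  subst hv
  -- now `f * s₂ = s₁ * (π₀ ^ e₀) ^ n`
  have hkey : (w : B) * h ^ n * algebraMap A B s₂ =
      algebraMap A B s₁ * (algebraMap A B (π₀ ^ e₀)) ^ n := by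
    rw [← hf, hfvB, map_pow, ← pow_mul, mul_comm e₀ n]
  have hn0 : n ≠ 0 := by omega
  obtain ⟨n', rfl⟩ : ∃ n', n = n' + 1 := ⟨n - 1, by omega⟩
  obtain ⟨T, hT⟩ : ∃ T, T = algebraMap A B (π₀ ^ e₀) := ⟨_, rfl⟩
  rw [← hT] at hkey
  have e1 : algebraMap A B (s₁ ^ n') = algebraMap A B s₁ ^ n' := map_pow _ _ _
  have e2 : algebraMap A B (s₂ ^ n') = algebraMap A B s₂ ^ n' := map_pow _ _ _
  have h1 : h ∣ algebraMap A B s₁ * T := by
    rw [← IsIntegrallyClosed.pow_dvd_pow_iff hn0]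
    refine ⟨algebraMap A B s₁ ^ n' * algebraMap A B s₂ * ↑w, ?_⟩
    rw [mul_pow, pow_succ (algebraMap A B s₁)]
    linear_combination (-(algebraMap A B s₁ ^ n')) * hkey
  have h2 : T ∣ algebraMap A B s₂ * h := by
    rw [← IsIntegrallyClosed.pow_dvd_pow_iff hn0]
    refine ⟨algebraMap A B s₂ ^ n' * algebraMap A B s₁ * ↑w⁻¹, ?_⟩
    have hw : (w : B) * ↑w⁻¹ = 1 := Units.mul_inv w
    rw [mul_pow, pow_succ (algebraMap A B s₂)]
    linear_combination (algebraMap A B s₂ ^ n' * ↑w⁻¹) * hkey -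
      (algebraMap A B s₂ ^ n' * algebraMap A B s₂ * h ^ (n' + 1)) * hw
  obtain ⟨b₂, hb₂⟩ := h2
  refine ⟨s₁ * s₂, fun hmem => ?_, ?_⟩
  · rcases (Ideal.IsPrime.mem_or_mem ‹p.IsPrime› hmem) with h3 | h3
    · exact hs₁ h3
    · exact hs₂ h3
  · have h3 : algebraMap A B (s₁ * s₂) * h = algebraMap A B (s₁ * π₀ ^ e₀) * b₂ := by
      rw [map_mul, mul_assoc, hb₂, map_mul, ← hT]
      ring
    rw [h3]
    apply Ideal.mul_mem_right
    apply Ideal.mem_map_of_mem
    rw [Ideal.mem_comap, Ideal.mem_span_singleton, map_mul, ← hT]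
    exact h1

end Main

end Groth.Agent.Lib.Helper12.WUnr
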