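import Mathlib
import Groth.Agent.Lib.Helper12.WUnrB

/-!
# n-th roots descend: global argument
-/

set_option autoImplicit false
universe u

namespace Groth.Agent.Lib.Helper12.WUnr

open IsLocalRing

section Main

variable (A B : Type u) [CommRing A] [IsDomain A] [IsNoetherianRing A] [IsIntegrallyClosed A]
  [CommRing B] [IsDomain B] [IsNoetherianRing B] [IsIntegrallyClosed B] [Algebra A B]
  (f : A) (h : B) (n : ℕ) (hn : 1 < n) (w : Bˣ) (hf : algebraMap A B f = (w : B) * h ^ n)

include hn hf in
theorem mem_map_comap (hinjAB : Function.Injective (algebraMap A B)) [Module.Flat A B]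
    (hf0 : f ≠ 0)
    (hram : ∀ (p : Ideal A) [p.IsPrime], p.height = 1 →
      ∃ (q : Ideal B) (_ : q.IsPrime), q.height = 1 ∧ q.comap (algebraMap A B) = p ∧
        Ideal.map (algebraMap B (Localization.AtPrime q)) (Ideal.map (algebraMap A B) p) =
          IsLocalRing.maximalIdeal (Localization.AtPrime q)) :
    h ∈ ((Ideal.span {h}).comap (algebraMap A B)).map (algebraMap A B) := by
  set I := (Ideal.span {h}).comap (algebraMap A B) with hI
  by_contra hnot
  have hh0 : h ≠ 0 := by
    rintro rfl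
    rw [zero_pow (by omega), mul_zero, map_eq_zero_iff _ hinjAB] at hf
    exact hf0 hf
  have hfI : f ∈ I := by
    rw [hI, Ideal.mem_comap, hf, Ideal.mem_span_singleton]
    exact Dvd.dvd.mul_left (dvd_pow_self h (by omega)) _
  haveI : Module.Flat (A ⧸ I) (B ⧸ I.map (algebraMap A B)) :=
    Module.Flat.of_linearEquiv (Algebra.TensorProduct.quotIdealMapEquivQuotTensor B I).toLinearEquiv
  have hne : Ideal.Quotient.mk (I.map (algebraMap A B)) h ≠ 0 := by
    rwa [Ne, Ideal.Quotient.eq_zero_iff_mem]
  obtain ⟨Qb, hQb, hQle⟩ := exists_le_isAssociatedPrime_of_isNoetherianRing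
    (B ⧸ I.map (algebraMap A B)) (Ideal.Quotient.mk (I.map (algebraMap A B)) h) hne
  haveI : Qb.IsPrime := hQb.isPrime
  have hpb := AssFlat.comap_mem_associatedPrimes (A ⧸ I) (B ⧸ I.map (algebraMap A B)) Qb hQb
  rw [HensFC.mem_associatedPrimes_quotient_iff] at hpb
  set p := (Qb.comap (algebraMap (A ⧸ I) (B ⧸ I.map (algebraMap A B)))).comap
    (Ideal.Quotient.mk I) with hp
  obtain ⟨hpprime, x, hx⟩ := (isAssociatedPrime_iff (R := A)).1 hpb
  obtain ⟨c, rfl⟩ := Ideal.Quotient.mk_surjective x
  have hmemp : ∀ a, a ∈ p ↔ a * c ∈ I := by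
    intro a
    rw [hx, Submodule.mem_colon_singleton, Submodule.mem_bot, ← Ideal.Quotient.eq_zero_iff_mem]
    rfl
  haveI := hpprime
  have hfp : f ∈ p := (hmemp f).mpr (I.mul_mem_right _ hfI)
  have hcI : c ∉ I := by
    intro hc
    apply hpprime.ne_top
    rw [Ideal.eq_top_iff_one, hmemp, one_mul]
    exact hc
  have hpht : p.height = 1 := by
    apply le_antisymm
    · have hne' : Ideal.Quotient.mk (Ideal.span {h}) (algebraMap A B c) ≠ 0 := by
        rw [Ne, Ideal.Quotient.eq_zero_iff_mem]; exact hcI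
      obtain ⟨q₁, hq₁, hq₁le⟩ := exists_le_isAssociatedPrime_of_isNoetherianRing B
        (Ideal.Quotient.mk (Ideal.span {h}) (algebraMap A B c)) hne'
      have hq₁ht := SerreNormal.height_eq_one_of_mem_associatedPrimes B h hh0 q₁ hq₁
      haveI := hq₁.isPrime
      have hple : p ≤ q₁.comap (algebraMap A B) := by
        intro a ha
        apply hq₁le
        rw [Submodule.mem_colon_singleton, Submodule.mem_bot]
        show Ideal.Quotient.mk _ (algebraMap A B a * algebraMap A B c) = 0
        rw [Ideal.Quotient.eq_zero_iff_mem, ← map_mul]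
        exact (hmemp a).mp ha
      calc p.height ≤ (q₁.comap (algebraMap A B)).height := Ideal.height_mono hple
        _ ≤ q₁.height := height_comap_le_of_flat A B q₁
        _ = 1 := hq₁ht
    · rw [Order.one_le_iff_pos, pos_iff_ne_zero, Ne, Ideal.height_eq_zero_iff_eq_bot]
      intro hbot
      rw [hbot] at hfp
      exact hf0 hfp
  obtain ⟨q, hqprime, hqht, hqp, hqm⟩ := hram p hpht
  haveI := hqprime
  obtain ⟨s, hsp, hsh⟩ :=
    exists_notMem_mul_mem A B f h n hn w hf hinjAB p hpht hfp hf0 q hqht hqp hqm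
  apply hsp
  rw [hp, Ideal.mem_comap, Ideal.mem_comap]
  apply hQle
  rw [Submodule.mem_colon_singleton, Submodule.mem_bot]
  show Ideal.Quotient.mk (I.map (algebraMap A B)) (algebraMap A B s * h) = 0
  rw [Ideal.Quotient.eq_zero_iff_mem]
  exact hsh

end Main

end Groth.Agent.Lib.Helper12.WUnr
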