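import Mathlib
import Groth.Prelude.Def_FlatCA
import Groth.Agent.S1232
import Groth.Agent.S1233
import Groth.Agent.S9589

/-!
# Weakly associated primes and ind-étale local algebras: abstract comparison
-/

set_option autoImplicit false
set_option linter.style.haveILetI false
universe u

namespace Groth.Agent.Lib.Helper12.WeakAssHens

open TensorProduct IsLocalRing

/-- criterion for the maximal ideal of a local ring to be weakly associated -/
theorem maximalIdeal_mem_weakAss_iff (R : Type u) [CommRing R] [IsLocalRing R] (M : Type u)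
    [AddCommGroup M] [Module R M] :
    maximalIdeal R ∈ FlatCA.weakAss R M ↔
      ∃ x : M, x ≠ 0 ∧ ∀ a ∈ maximalIdeal R, ∃ n : ℕ, a ^ n • x = 0 := by
  rw [Groth.Agent.S1232.mem_weakAss_iff_crit]
  constructor
  · rintro ⟨x, h1, h2⟩
    refine ⟨x, ?_, fun a ha => ?_⟩
    · have := h1 1 (fun h => (Ideal.ne_top_iff_one _).mp (maximalIdeal.isMaximal R).ne_top h)
      simpa using this
    · obtain ⟨s, hs, n, hn⟩ := h2 a ha
      have hu : IsUnit s := IsLocalRing.notMem_maximalIdeal.mp hs
      refine ⟨n, ?_⟩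
      rw [mul_smul] at hn
      exact hu.smul_eq_zero.mp hn
  · rintro ⟨x, hx, h2⟩
    refine ⟨x, fun s hs h0 => hx ?_, fun a ha => ?_⟩
    · have hu : IsUnit s := IsLocalRing.notMem_maximalIdeal.mp hs
      exact hu.smul_eq_zero.mp h0
    · obtain ⟨n, hn⟩ := h2 a ha
      exact ⟨1, fun h => (Ideal.ne_top_iff_one _).mp (maximalIdeal.isMaximal R).ne_top h, n,
        by rw [one_mul]; exact hn⟩

/-- the ideal of elements acting nilpotently on an element -/
theorem exists_pow_smul_eq_zero_of_le {B : Type u} [CommRing B] {P : Type u} [AddCommGroup P]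
    [Module B P] (y : P) (J : Ideal B)
    (hJ : J ≤ Ideal.radical (LinearMap.ker (LinearMap.toSpanSingleton B P y) : Ideal B)) (b : B) (hb : b ∈ J) :
    ∃ n : ℕ, b ^ n • y = 0 := by
  obtain ⟨n, hn⟩ := hJ hb
  exact ⟨n, by simpa [LinearMap.mem_ker, LinearMap.toSpanSingleton_apply] using hn⟩

section Down

variable (Λ B : Type u) [CommRing Λ] [IsLocalRing Λ] [CommRing B] [IsLocalRing B]
  [Algebra Λ B] [IsLocalHom (algebraMap Λ B)] [Module.FaithfullyFlat Λ B]

/-- descent direction is easy when `𝔪_Λ B = 𝔪_B` -/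
theorem mem_weakAss_baseChange_of_mem
    (hmax : (maximalIdeal Λ).map (algebraMap Λ B) = maximalIdeal B)
    (N : Type u) [AddCommGroup N] [Module Λ N]
    (h : maximalIdeal Λ ∈ FlatCA.weakAss Λ N) :
    maximalIdeal B ∈ FlatCA.weakAss B (B ⊗[Λ] N) := by
  rw [maximalIdeal_mem_weakAss_iff] at h ⊢
  obtain ⟨x, hx, hnil⟩ := h
  refine ⟨(1 : B) ⊗ₜ[Λ] x, ?_, ?_⟩
  · intro h0
    apply hx
    have hinj := Module.FaithfullyFlat.tensorProduct_mk_injective (A := Λ) (B := B) N
    apply hinj
    rw [map_zero]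
    exact h0
  · intro b hb
    apply exists_pow_smul_eq_zero_of_le ((1 : B) ⊗ₜ[Λ] x) (maximalIdeal B) ?_ b hb
    rw [← hmax, Ideal.map_le_iff_le_comap]
    intro a ha
    obtain ⟨n, hn⟩ := hnil a ha
    rw [Ideal.mem_comap]
    refine ⟨n, ?_⟩
    rw [LinearMap.mem_ker, LinearMap.toSpanSingleton_apply, ← map_pow, algebraMap_smul,
      ← TensorProduct.tmul_smul, hn, TensorProduct.tmul_zero]

end Down

end Groth.Agent.Lib.Helper12.WeakAssHens
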