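import Mathlib
import Groth.Agent.Lib.Helper12.WeakAssHensA

/-!
# Weakly associated primes and ind-étale local algebras: the ascent direction
-/

set_option autoImplicit false
set_option linter.style.haveILetI false
universe u

namespace Groth.Agent.Lib.Helper12.WeakAssHens

open TensorProduct IsLocalRing

/-- one stage: a faithfully flat local algebra `B` over a local ring `G`, and an element of
`B ⊗ N` coming from `G ⊗ N`. -/
theorem mem_weakAss_stage (Λ G B : Type u) [CommRing Λ] [CommRing G] [IsLocalRing G]
    [CommRing B] [IsLocalRing B] [Algebra Λ G] [Algebra Λ B] [Algebra G B] [IsScalarTower Λ G B]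
    [IsLocalHom (algebraMap G B)] [Module.FaithfullyFlat G B]
    (N : Type u) [AddCommGroup N] [Module Λ N] (y' : G ⊗[Λ] N)
    (hne : TensorProduct.AlgebraTensorModule.map (Algebra.linearMap G B)
      (LinearMap.id : N →ₗ[Λ] N) y' ≠ 0)
    (hnil : ∀ b ∈ maximalIdeal B, ∃ n : ℕ, b ^ n •
      TensorProduct.AlgebraTensorModule.map (Algebra.linearMap G B)
      (LinearMap.id : N →ₗ[Λ] N) y' = 0) :
    maximalIdeal G ∈ FlatCA.weakAss G (G ⊗[Λ] N) := by
  set θ : G ⊗[Λ] N →ₗ[G] B ⊗[Λ] N :=
    TensorProduct.AlgebraTensorModule.map (Algebra.linearMap G B) (LinearMap.id : N →ₗ[Λ] N)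
    with hθ
  -- θ is injective
  have hθinj : Function.Injective θ := by
    have h1 := Module.FaithfullyFlat.tensorProduct_mk_injective (A := G) (B := B) (G ⊗[Λ] N)
    let c := TensorProduct.AlgebraTensorModule.cancelBaseChange Λ G B B N
    have h2 : ∀ z : G ⊗[Λ] N, θ z = c (TensorProduct.mk G B (G ⊗[Λ] N) 1 z) := by
      intro z
      induction z using TensorProduct.induction_on with
      | zero => simp
      | tmul g n =>
        rw [hθ, TensorProduct.AlgebraTensorModule.map_tmul, TensorProduct.mk_apply,
          TensorProduct.AlgebraTensorModule.cancelBaseChange_tmul, Algebra.linearMap_apply,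
          LinearMap.id_apply, Algebra.smul_def, mul_one]
      | add z₁ z₂ h₁ h₂ => rw [map_add, h₁, h₂, map_add, map_add]
    intro z₁ z₂ hz
    rw [h2, h2] at hz
    exact h1 (c.injective hz)
  rw [maximalIdeal_mem_weakAss_iff]
  refine ⟨y', fun h0 => hne (by rw [h0, map_zero]), fun g hg => ?_⟩
  have hgB : algebraMap G B g ∈ maximalIdeal B := by
    have := IsLocalRing.maximalIdeal_comap (algebraMap G B)
    rw [← this] at hg
    exact hg
  obtain ⟨n, hn⟩ := hnil _ hgB
  refine ⟨n, hθinj ?_⟩
  rw [map_zero, map_smul, ← hn, ← map_pow, algebraMap_smul]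

end Groth.Agent.Lib.Helper12.WeakAssHens
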