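import Mathlib
import Groth.Agent.Lib.Helper12.WeakAssHensB

/-!
# Weakly associated primes and ind-étale local algebras: the comparison
-/

set_option autoImplicit false
set_option linter.style.haveILetI false
universe u

namespace Groth.Agent.Lib.Helper12.WeakAssHens

open TensorProduct IsLocalRing

/-- the covering hypothesis: every finite subset of `B` comes from the local ring of an étale
`Λ`-algebra over which `B` is faithfully flat -/
def Cover (Λ B : Type u) [CommRing Λ] [IsLocalRing Λ] [CommRing B] [IsLocalRing B]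
    [Algebra Λ B] : Prop :=
  ∀ s : Finset B, ∃ (E : Type u) (_ : CommRing E) (_ : Algebra Λ E) (_ : Algebra.Etale Λ E)
    (q : Ideal E) (_ : q.IsPrime) (ψ : Localization.AtPrime q →+* B),
    ψ.comp (algebraMap Λ (Localization.AtPrime q)) = algebraMap Λ B ∧ IsLocalHom ψ ∧
    (letI := ψ.toAlgebra; Module.FaithfullyFlat (Localization.AtPrime q) B) ∧
    ∀ x ∈ s, x ∈ ψ.range

variable (Λ B : Type u) [CommRing Λ] [IsLocalRing Λ] [CommRing B] [IsLocalRing B]
  [Algebra Λ B] [IsLocalHom (algebraMap Λ B)]

theorem mem_weakAss_of_baseChange_of_cover (hcov : Cover Λ B)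
    (N : Type u) [AddCommGroup N] [Module Λ N]
    (h : maximalIdeal B ∈ FlatCA.weakAss B (B ⊗[Λ] N)) :
    maximalIdeal Λ ∈ FlatCA.weakAss Λ N := by
  classical
  rw [maximalIdeal_mem_weakAss_iff] at h
  obtain ⟨y, hy, hnil⟩ := h
  obtain ⟨S, hS⟩ := TensorProduct.exists_finset y
  obtain ⟨E, _, _, _, q, _, ψ, hcomp, hloc, hff, hrange⟩ := hcov (S.image Prod.fst)
  letI algGB : Algebra (Localization.AtPrime q) B := ψ.toAlgebra
  haveI : IsScalarTower Λ (Localization.AtPrime q) B :=
    .of_algebraMap_eq (fun a => (RingHom.congr_fun hcomp a).symm)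
  haveI : IsLocalHom (algebraMap (Localization.AtPrime q) B) := hloc
  haveI : Module.FaithfullyFlat (Localization.AtPrime q) B := hff
  -- lift the element
  have hex : ∀ i ∈ S, ∃ g : Localization.AtPrime q, ψ g = (i : B × N).1 := by
    intro i hi
    have := hrange i.1 (Finset.mem_image_of_mem _ hi)
    exact this
  let gfun : B × N → Localization.AtPrime q := fun i =>
    if h : ∃ g : Localization.AtPrime q, ψ g = i.1 then h.choose else 0
  have hg : ∀ i ∈ S, ψ (gfun i) = i.1 := by
    intro i hi
    have h := hex i hi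
    simp only [gfun, dif_pos h]
    exact h.choose_spec
  set y' : Localization.AtPrime q ⊗[Λ] N := S.sum (fun i => gfun i ⊗ₜ[Λ] i.2) with hy'
  have hθ : TensorProduct.AlgebraTensorModule.map (Algebra.linearMap (Localization.AtPrime q) B)
      (LinearMap.id : N →ₗ[Λ] N) y' = y := by
    rw [hy', map_sum, hS]
    refine Finset.sum_congr rfl (fun i hi => ?_)
    rw [TensorProduct.AlgebraTensorModule.map_tmul, Algebra.linearMap_apply, LinearMap.id_apply]
    congr 1
    exact hg i hi
  have h1 : maximalIdeal (Localization.AtPrime q) ∈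
      FlatCA.weakAss (Localization.AtPrime q) (Localization.AtPrime q ⊗[Λ] N) := by
    apply mem_weakAss_stage Λ (Localization.AtPrime q) B N y'
    · rw [hθ]; exact hy
    · rw [hθ]; exact hnil
  -- down to `E`
  have hdisj : Disjoint ((q.primeCompl : Submonoid E) : Set E) (q : Set E) :=
    Set.disjoint_left.mpr (fun x hx hxq => hx hxq)
  have h2 : q ∈ FlatCA.weakAss E (E ⊗[Λ] N) := by
    rw [Groth.Agent.S1233.mem_weakAss_iff_loc q.primeCompl N q hdisj]
    have := Localization.AtPrime.map_eq_maximalIdeal (I := q)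
    rw [this]
    exact h1
  -- `q` lies over the maximal ideal
  haveI : q.LiesOver (maximalIdeal Λ) := by
    constructor
    ext a
    rw [Ideal.under_def, Ideal.mem_comap,
      ← IsLocalization.AtPrime.to_map_mem_maximal_iff (Localization.AtPrime q) q,
      ← IsScalarTower.algebraMap_apply Λ E (Localization.AtPrime q),
      ← IsLocalRing.maximalIdeal_comap (algebraMap (Localization.AtPrime q) B), Ideal.mem_comap,
      ← IsScalarTower.algebraMap_apply Λ (Localization.AtPrime q) B,
      ← Ideal.mem_comap, IsLocalRing.maximalIdeal_comap]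
  exact (Groth.Agent.S1233.result N (maximalIdeal Λ) q).mp h2

/-- the comparison -/
theorem mem_weakAss_baseChange_iff [Module.FaithfullyFlat Λ B]
    (hmax : (maximalIdeal Λ).map (algebraMap Λ B) = maximalIdeal B) (hcov : Cover Λ B)
    (N : Type u) [AddCommGroup N] [Module Λ N] :
    maximalIdeal B ∈ FlatCA.weakAss B (B ⊗[Λ] N) ↔ maximalIdeal Λ ∈ FlatCA.weakAss Λ N :=
  ⟨mem_weakAss_of_baseChange_of_cover Λ B hcov N, mem_weakAss_baseChange_of_mem Λ B hmax N⟩

end Groth.Agent.Lib.Helper12.WeakAssHens
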