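import Mathlib
import Groth.Agent.Lib.Helper12.WeakAssHensC
import Groth.Agent.Lib.Helper12.HensStruct
import Groth.Agent.Lib.Helper12.HensFCC
import Groth.Agent.Lib.Helper12.StrictOver
import Groth.Agent.Lib.Helper12.StrictTensorF
import Groth.Agent.S0507

/-!
# Weakly associated primes and (strict) henselization (S1234)
-/

set_option autoImplicit false
set_option linter.style.haveILetI false
universe u

namespace Groth.Agent.Lib.Helper12.WeakAssHens

open TensorProduct IsLocalRing

variable (Λ : Type u) [CommRing Λ] [IsLocalRing Λ]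

theorem cover_henselization : Cover Λ (Henselization Λ) := by
  intro s
  obtain ⟨i, hi⟩ := HensStruct.exists_nbhd_of_finset s
  refine ⟨i.Ring, inferInstance, inferInstance, inferInstance, RingHom.ker i.π, inferInstance,
    Henselization.of Λ i, ?_, Henselization.isLocalHom_of Λ i,
    Henselization.faithfullyFlat_over i, fun x hx => RingHom.mem_range.mpr (hi x hx)⟩
  ext a
  exact (Henselization.algebraMap_eq i a).symm

theorem cover_strictHenselization : Cover Λ (StrictHenselization Λ) := by
  classical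
  intro s
  choose k a ha using fun x : StrictHenselization Λ => PtNbhd.Lim.exists_of x
  obtain ⟨i, hi⟩ := Finset.exists_le (s.image k)
  have hi' : ∀ x ∈ s, k x ≤ i := fun x hx => hi _ (Finset.mem_image_of_mem _ hx)
  refine ⟨i.Ring, inferInstance, inferInstance, inferInstance, RingHom.ker i.π, inferInstance,
    PtNbhd.Lim.of Λ (SepCl Λ) i, ?_, PtNbhd.Lim.isLocalHom_of Λ (SepCl Λ) i,
    StrictHenselization.faithfullyFlat_over i, fun x hx => RingHom.mem_range.mpr
      ⟨PtNbhd.Nbhd.trans (k x) i (hi' x hx) (a x), ?_⟩⟩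
  · ext r
    exact (PtNbhd.Lim.algebraMap_eq i r).symm
  · rw [PtNbhd.Lim.of_trans, ha]

theorem maximalIdeal_comap_algEquiv {S T : Type u} [CommRing S] [CommRing T] [IsLocalRing S]
    [IsLocalRing T] [Algebra Λ S] [Algebra Λ T] (e : S ≃ₐ[Λ] T) :
    (maximalIdeal S).comap (e.symm : T →+* S) = maximalIdeal T := by
  ext x
  rw [Ideal.mem_comap, mem_maximalIdeal, mem_maximalIdeal, mem_nonunits_iff, mem_nonunits_iff]
  constructor
  · intro h hu
    exact h (hu.map e.symm)
  · intro h hu
    apply h
    have := hu.map e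
    simpa using this

theorem mem_weakAss_hens_iff (S : Type u) [CommRing S] [IsLocalRing S] [Algebra Λ S]
    [IsLocalHom (algebraMap Λ S)] [Hensel.IsHenselization Λ S]
    (N : Type u) [AddCommGroup N] [Module Λ N] :
    maximalIdeal S ∈ FlatCA.weakAss S (S ⊗[Λ] N) ↔ maximalIdeal Λ ∈ FlatCA.weakAss Λ N := by
  obtain ⟨e⟩ := Henselization.nonempty_algEquiv (A := Λ) S
  rw [Groth.Agent.S1233.mem_weakAss_iff_algEquiv e N (maximalIdeal S),
    maximalIdeal_comap_algEquiv Λ e]
  haveI : Module.FaithfullyFlat Λ (Henselization Λ) := Module.FaithfullyFlat.of_flat_of_isLocalHom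
  exact mem_weakAss_baseChange_iff Λ (Henselization Λ) (Groth.Agent.S0507.result Λ _)
    (cover_henselization Λ) N

theorem mem_weakAss_strictHens_iff (S : Type u) [CommRing S] [IsLocalRing S] [Algebra Λ S]
    [IsLocalHom (algebraMap Λ S)] [Hensel.IsStrictHenselization Λ S]
    (N : Type u) [AddCommGroup N] [Module Λ N] :
    maximalIdeal S ∈ FlatCA.weakAss S (S ⊗[Λ] N) ↔ maximalIdeal Λ ∈ FlatCA.weakAss Λ N := by
  obtain ⟨e⟩ := StrictHenselization.nonempty_algEquiv (A := Λ) S
  rw [Groth.Agent.S1233.mem_weakAss_iff_algEquiv e N (maximalIdeal S),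
    maximalIdeal_comap_algEquiv Λ e]
  exact mem_weakAss_baseChange_iff Λ (StrictHenselization Λ)
    (StrictTensor.map_maximalIdeal_eq Λ _) (cover_strictHenselization Λ) N

theorem tfae_weakAss_henselization {A : Type u} [CommRing A] (M : Type u) [AddCommGroup M]
    [Module A M] (p : Ideal A) [p.IsPrime]
    (Ah Ash : Type u) [CommRing Ah] [IsLocalRing Ah] [CommRing Ash] [IsLocalRing Ash]
    [Algebra (Localization.AtPrime p) Ah] [IsLocalHom (algebraMap (Localization.AtPrime p) Ah)]
    [Hensel.IsHenselization (Localization.AtPrime p) Ah]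
    [Algebra (Localization.AtPrime p) Ash] [IsLocalHom (algebraMap (Localization.AtPrime p) Ash)]
    [Hensel.IsStrictHenselization (Localization.AtPrime p) Ash] :
    [p ∈ FlatCA.weakAss A M,
     maximalIdeal (Localization.AtPrime p) ∈
      FlatCA.weakAss (Localization.AtPrime p) (LocalizedModule p.primeCompl M),
     maximalIdeal Ah ∈
      FlatCA.weakAss Ah (Ah ⊗[Localization.AtPrime p] LocalizedModule p.primeCompl M),
     maximalIdeal Ash ∈
      FlatCA.weakAss Ash (Ash ⊗[Localization.AtPrime p] LocalizedModule p.primeCompl M)].TFAE := by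
  have hdisj : Disjoint ((p.primeCompl : Submonoid A) : Set A) (p : Set A) :=
    Set.disjoint_left.mpr (fun x hx hxq => hx hxq)
  tfae_have 1 ↔ 2 := by
    rw [Groth.Agent.S9589.result p.primeCompl M p hdisj,
      Localization.AtPrime.map_eq_maximalIdeal (I := p)]
  tfae_have 3 ↔ 2 := mem_weakAss_hens_iff (Localization.AtPrime p) Ah _
  tfae_have 4 ↔ 2 := mem_weakAss_strictHens_iff (Localization.AtPrime p) Ash _
  tfae_finish

end Groth.Agent.Lib.Helper12.WeakAssHens
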