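import Mathlib

/-! Algebra for "local for Zariski and finite coverings ⇔ Spec of an AIC local domain". -/

namespace Groth.Agent.Lib.Helper12.ZFLocal

open Polynomial

universe u

/-- Over a domain in which every monic polynomial of positive degree has a root, an element of a
domain extension which is integral lies in the base. -/
theorem mem_range_of_isIntegral {R T : Type*} [CommRing R] [CommRing T] [IsDomain T]
    (hR : ∀ f : R[X], f.Monic → 0 < f.natDegree → ∃ r : R, f.eval r = 0)
    (ψ : R →+* T) (t : T) (ht : ψ.IsIntegralElem t) : t ∈ Set.range ψ := by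
  obtain ⟨f, hf, hft⟩ := ht
  induction hn : f.natDegree generalizing f with
  | zero =>
    have h1 : f = 1 := Polynomial.eq_one_of_monic_natDegree_zero hf hn
    rw [h1, Polynomial.eval₂_one] at hft
    exact absurd hft one_ne_zero
  | succ n ih =>
    obtain ⟨r, hr⟩ := hR f hf (by omega)
    have h1 : (X - C r) * (f /ₘ (X - C r)) = f := Polynomial.mul_divByMonic_eq_iff_isRoot.2 hr
    have hQ : (f /ₘ (X - C r)).Monic := by
      apply Polynomial.Monic.of_mul_monic_left (Polynomial.monic_X_sub_C r)
      rw [h1]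
      exact hf
    haveI : Nontrivial R := ψ.domain_nontrivial
    have hdeg : (f /ₘ (X - C r)).natDegree = n := by
      rw [Polynomial.natDegree_divByMonic f (Polynomial.monic_X_sub_C r),
        Polynomial.natDegree_X_sub_C, hn]
      omega
    rw [← h1, Polynomial.eval₂_mul, Polynomial.eval₂_sub, Polynomial.eval₂_X,
      Polynomial.eval₂_C] at hft
    rcases mul_eq_zero.1 hft with h2 | h2
    · exact ⟨r, (sub_eq_zero.1 h2).symm⟩
    · exact ih _ hQ h2 hdeg

/-- A retraction of an integral ring map out of an AIC domain, given a prime over `⊥`. -/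
theorem exists_retraction {R S : Type*} [CommRing R] [CommRing S] [IsDomain R]
    (hR : ∀ f : R[X], f.Monic → 0 < f.natDegree → ∃ r : R, f.eval r = 0)
    (φ : R →+* S) (hφ : φ.IsIntegral) (q : Ideal S) [q.IsPrime] (hq : q.comap φ = ⊥) :
    ∃ σ : S →+* R, σ.comp φ = RingHom.id R := by
  let ψ : R →+* S ⧸ q := (Ideal.Quotient.mk q).comp φ
  have hinj : Function.Injective ψ := by
    rw [injective_iff_map_eq_zero]
    intro r hr
    have h1 : r ∈ q.comap φ := by
      rw [Ideal.mem_comap]
      exact Ideal.Quotient.eq_zero_iff_mem.1 hr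
    rw [hq] at h1
    exact h1
  have hsurj : Function.Surjective ψ := by
    intro t
    apply mem_range_of_isIntegral hR ψ t
    obtain ⟨s, rfl⟩ := Ideal.Quotient.mk_surjective t
    obtain ⟨f, hf, hfs⟩ := hφ s
    refine ⟨f, hf, ?_⟩
    show Polynomial.eval₂ ((Ideal.Quotient.mk q).comp φ) (Ideal.Quotient.mk q s) f = 0
    rw [← Polynomial.hom_eval₂, hfs, map_zero]
  let e : R ≃+* S ⧸ q := RingEquiv.ofBijective ψ ⟨hinj, hsurj⟩
  refine ⟨(e.symm : S ⧸ q →+* R).comp (Ideal.Quotient.mk q), ?_⟩
  ext r
  show e.symm (Ideal.Quotient.mk q (φ r)) = r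
  have : Ideal.Quotient.mk q (φ r) = e r := rfl
  rw [this, RingEquiv.symm_apply_apply]

end Groth.Agent.Lib.Helper12.ZFLocal
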