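import Mathlib
import Groth.Agent.Lib.Helper12.ZFLocalA

/-! The spectrum of an AIC local domain is local for Zariski and finite coverings. -/

namespace Groth.Agent.Lib.Helper12.ZFLocal

open CategoryTheory CategoryTheory.Limits AlgebraicGeometry TopologicalSpace Polynomial

universe u

/-- Locality for Zariski coverings. -/
def ZLocal (P : Scheme.{u}) : Prop :=
  ∀ (X : Scheme.{u}) (R : Presieve X),
    R ∈ Scheme.precoverage (@IsOpenImmersion ⊓ @QuasiCompact) X →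
      ∀ g : P ⟶ X, ∃ (Y : Scheme.{u}) (w : Y ⟶ X) (h : P ⟶ Y), R w ∧ h ≫ w = g

/-- Locality for finite coverings. -/
def FLocal (P : Scheme.{u}) : Prop :=
  ∀ (X : Scheme.{u}) (R : Presieve X), R ∈ Scheme.precoverage @IsFinite X →
      ∀ g : P ⟶ X, ∃ (Y : Scheme.{u}) (w : Y ⟶ X) (h : P ⟶ Y), R w ∧ h ≫ w = g

theorem ZLocal.of_iso {P P' : Scheme.{u}} (e : P ≅ P') (h : ZLocal P') : ZLocal P := by
  intro X R hR g
  obtain ⟨Y, w, h', hw, hfac⟩ := h X R hR (e.inv ≫ g)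
  exact ⟨Y, w, e.hom ≫ h', hw, by rw [Category.assoc, hfac, Iso.hom_inv_id_assoc]⟩

theorem FLocal.of_iso {P P' : Scheme.{u}} (e : P ≅ P') (h : FLocal P') : FLocal P := by
  intro X R hR g
  obtain ⟨Y, w, h', hw, hfac⟩ := h X R hR (e.inv ≫ g)
  exact ⟨Y, w, e.hom ≫ h', hw, by rw [Category.assoc, hfac, Iso.hom_inv_id_assoc]⟩

theorem exists_mem_range {P : MorphismProperty Scheme.{u}} {X : Scheme.{u}} {R : Presieve X}
    (hR : R ∈ Scheme.precoverage P X) (x : X) :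
    ∃ (Y : Scheme.{u}) (w : Y ⟶ X), R w ∧ P w ∧ x ∈ Set.range w := by
  obtain ⟨Y, w, hw, hx⟩ :=
    (Presieve.mem_comap_jointlySurjectivePrecoverage_iff Scheme.forget).1 hR.1 x
  exact ⟨Y, w, hw, hR.2 hw, hx⟩

theorem zLocal_Spec (R : CommRingCat.{u}) [IsLocalRing R] : ZLocal (Spec R) := by
  intro X 𝓡 h𝓡 g
  obtain ⟨Y, w, hw, hPw, hx⟩ := exists_mem_range h𝓡 (g (IsLocalRing.closedPoint R))
  haveI : IsOpenImmersion w := hPw.1
  have h1 : g ⁻¹ᵁ w.opensRange = ⊤ := by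
    apply (IsLocalRing.closedPoint_mem_iff (R := R) (g ⁻¹ᵁ w.opensRange)).1
    exact hx
  have h2 : Set.range g ⊆ Set.range w := by
    rintro _ ⟨z, rfl⟩
    have : z ∈ g ⁻¹ᵁ w.opensRange := by rw [h1]; trivial
    exact this
  exact ⟨Y, w, IsOpenImmersion.lift w g h2, hw, IsOpenImmersion.lift_fac w g h2⟩

theorem fLocal_Spec (R : CommRingCat.{u}) [IsDomain R]
    (hR : ∀ f : (R : Type u)[X], f.Monic → 0 < f.natDegree → ∃ r : R, f.eval r = 0) :
    FLocal (Spec R) := by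
  intro X 𝓡 h𝓡 g
  let η : Spec R := (⟨⊥, Ideal.isPrime_bot⟩ : PrimeSpectrum R)
  obtain ⟨Y, w, hw, hPw, y, hy⟩ := exists_mem_range h𝓡 (g η)
  haveI : IsFinite w := hPw
  let Z := pullback g w
  let p : Z ⟶ Spec R := pullback.fst g w
  haveI : IsFinite p := MorphismProperty.pullback_fst g w hPw
  haveI : IsAffine Z := isAffine_of_isAffineHom p
  obtain ⟨z, hz, -⟩ := Scheme.Pullback.exists_preimage_pullback η y hy.symm
  let φ : R ⟶ Γ(Z, ⊤) := Spec.preimage (Z.isoSpec.inv ≫ p)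
  have hφ : Spec.map φ = Z.isoSpec.inv ≫ p := Spec.map_preimage _
  have hfin : IsFinite (Spec.map φ) := by
    rw [hφ]
    infer_instance
  have hφfin : φ.hom.Finite := (IsFinite.SpecMap_iff φ).1 hfin
  let z' : Spec Γ(Z, ⊤) := Z.isoSpec.hom z
  have hz' : Spec.map φ z' = η := by
    rw [hφ]
    show (Z.isoSpec.inv ≫ p) (Z.isoSpec.hom z) = η
    rw [← Scheme.Hom.comp_apply, Iso.hom_inv_id_assoc]
    exact hz
  have hq : (z'.asIdeal).comap φ.hom = ⊥ := by
    have := congrArg PrimeSpectrum.asIdeal hz'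
    exact this
  obtain ⟨σ, hσ⟩ := exists_retraction hR φ.hom hφfin.to_isIntegral z'.asIdeal hq
  refine ⟨Y, w, Spec.map (CommRingCat.ofHom σ) ≫ Z.isoSpec.inv ≫ pullback.snd g w, hw, ?_⟩
  rw [Category.assoc, Category.assoc, ← pullback.condition]
  have h1 : Z.isoSpec.inv ≫ pullback.fst g w = Spec.map φ := hφ.symm
  rw [reassoc_of% h1, ← Spec.map_comp_assoc]
  have h2 : φ ≫ CommRingCat.ofHom σ = 𝟙 R := by
    ext r
    exact congrArg (fun f => f r) hσ
  rw [h2, Spec.map_id, Category.id_comp]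

end Groth.Agent.Lib.Helper12.ZFLocal
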