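import Mathlib
import Groth.Agent.Lib.Helper12.ZFLocalB

/-! A quasi-separated scheme local for Zariski and finite coverings is the spectrum of an AIC
local domain. -/

namespace Groth.Agent.Lib.Helper12.ZFLocal

open CategoryTheory CategoryTheory.Limits AlgebraicGeometry TopologicalSpace Polynomial

universe u

theorem nonempty_of_zLocal {P : Scheme.{u}} (h : ZLocal P) : Nonempty P := by
  by_contra hne
  haveI : IsEmpty P := not_nonempty_iff.1 hne
  obtain ⟨Y, w, h', hw, -⟩ := h P ⊥ (Scheme.bot_mem_precoverage _ P) (𝟙 P)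
  exact hw

theorem isAffine_of_zLocal {P : Scheme.{u}} [QuasiSeparatedSpace P] (h : ZLocal P) :
    IsAffine P := by
  have hcov : Presieve.ofArrows P.affineCover.X P.affineCover.f ∈
      Scheme.precoverage (@IsOpenImmersion ⊓ @QuasiCompact) P := by
    rw [Scheme.ofArrows_mem_precoverage_iff]
    exact ⟨fun x => ⟨P.affineCover.idx x, P.affineCover.covers x⟩,
      fun i => ⟨inferInstance, inferInstance⟩⟩
  obtain ⟨Y, w, h', ⟨i⟩, hfac⟩ := h P _ hcov (𝟙 P)
  haveI : IsSplitEpi (P.affineCover.f i) := IsSplitEpi.mk' ⟨h', hfac⟩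
  haveI : IsIso (P.affineCover.f i) := isIso_of_mono_of_isSplitEpi _
  exact IsAffine.of_isIso (inv (P.affineCover.f i))

theorem exists_retraction_of_fac {R S : CommRingCat.{u}} (φ : R ⟶ S) (h : Spec R ⟶ Spec S)
    (hfac : h ≫ Spec.map φ = 𝟙 _) : ∃ ψ : S ⟶ R, φ ≫ ψ = 𝟙 R :=
  ⟨Spec.preimage h, Spec.map_injective (by
    rw [Spec.map_comp, Spec.map_preimage, hfac, Spec.map_id])⟩

theorem isLocalRing_of_zLocal (R : CommRingCat.{u}) (h : ZLocal (Spec R)) : IsLocalRing R := by
  haveI : Nontrivial R := by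
    obtain ⟨x⟩ := nonempty_of_zLocal h
    exact (PrimeSpectrum.nonempty_iff_nontrivial).1 ⟨x⟩
  apply IsLocalRing.of_isUnit_or_isUnit_one_sub_self
  intro f
  let a : Bool → R := fun b => cond b f (1 - f)
  have hcov : Presieve.ofArrows (fun b => Spec (CommRingCat.of (Localization.Away (a b))))
      (fun b => Spec.map (CommRingCat.ofHom (algebraMap R (Localization.Away (a b))))) ∈
      Scheme.precoverage (@IsOpenImmersion ⊓ @QuasiCompact) (Spec R) := by
    rw [Scheme.ofArrows_mem_precoverage_iff]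
    refine ⟨fun x => ?_, fun b => ⟨IsOpenImmersion.of_isLocalization (a b), inferInstance⟩⟩
    have key : ∀ b, a b ∉ x.asIdeal → x ∈ Set.range
        (Spec.map (CommRingCat.ofHom (algebraMap R (Localization.Away (a b))))) := by
      intro b hb
      have h1 := PrimeSpectrum.localization_away_comap_range (Localization.Away (a b)) (a b)
      have h2 : x ∈ (PrimeSpectrum.basicOpen (a b) : Set (PrimeSpectrum R)) := hb
      rw [← h1] at h2
      exact h2
    by_cases hf : f ∈ x.asIdeal
    · refine ⟨false, key false ?_⟩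
      intro h1
      have : (1 : R) ∈ x.asIdeal := by
        have := x.asIdeal.add_mem hf h1
        simpa [a] using this
      exact x.isPrime.ne_top ((Ideal.eq_top_iff_one _).2 this)
    · exact ⟨true, key true hf⟩
  obtain ⟨Y, w, h', ⟨b⟩, hfac⟩ := h _ _ hcov (𝟙 _)
  obtain ⟨ψ, hψ⟩ := exists_retraction_of_fac _ h' hfac
  have h1 : ψ.hom (algebraMap R (Localization.Away (a b)) (a b)) = a b :=
    congrArg (fun g => g.hom (a b)) hψ
  have h2 : IsUnit (a b) := by
    rw [← h1]
    exact (IsLocalization.Away.algebraMap_isUnit (a b)).map ψ.hom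
  cases b
  · exact Or.inr h2
  · exact Or.inl h2

theorem isDomain_of_fLocal (R : CommRingCat.{u}) (h : FLocal (Spec R)) : IsDomain R := by
  have hcov : Presieve.ofArrows
      (fun p : PrimeSpectrum R => Spec (CommRingCat.of (R ⧸ p.asIdeal)))
      (fun p => Spec.map (CommRingCat.ofHom (Ideal.Quotient.mk p.asIdeal))) ∈
      Scheme.precoverage @IsFinite (Spec R) := by
    rw [Scheme.ofArrows_mem_precoverage_iff]
    refine ⟨fun x => ⟨x, ?_⟩, fun p => ?_⟩
    · have h1 := _root_.range_comap_of_surjective _ (Ideal.Quotient.mk x.asIdeal)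
        Ideal.Quotient.mk_surjective
      have h2 : x ∈ PrimeSpectrum.zeroLocus
          (RingHom.ker (Ideal.Quotient.mk x.asIdeal) : Set R) := by
        rw [Ideal.mk_ker]
        exact fun _ hr => hr
      rw [← h1] at h2
      exact h2
    · exact (IsFinite.SpecMap_iff _).2
        (RingHom.Finite.of_surjective _ Ideal.Quotient.mk_surjective)
  obtain ⟨Y, w, h', ⟨p⟩, hfac⟩ := h _ _ hcov (𝟙 _)
  obtain ⟨ψ, hψ⟩ := exists_retraction_of_fac _ h' hfac
  have hinj : Function.Injective (Ideal.Quotient.mk p.asIdeal) := by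
    apply Function.LeftInverse.injective (g := ψ.hom)
    intro r
    exact congrArg (fun g => g.hom r) hψ
  haveI := p.isPrime
  exact Function.Injective.isDomain (Ideal.Quotient.mk p.asIdeal) hinj

theorem aic_of_fLocal (R : CommRingCat.{u}) (h : FLocal (Spec R)) :
    ∀ f : (R : Type u)[X], f.Monic → 0 < f.natDegree → ∃ r : R, f.eval r = 0 := by
  intro f hf hpos
  have hcov : Presieve.singleton
      (Spec.map (CommRingCat.ofHom (algebraMap R (AdjoinRoot f)))) ∈
      Scheme.precoverage @IsFinite (Spec R) := by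
    rw [Scheme.singleton_mem_precoverage_iff]
    haveI := hf.finite_adjoinRoot
    haveI := hf.free_adjoinRoot
    refine ⟨?_, (IsFinite.SpecMap_iff _).2 (RingHom.finite_algebraMap.2 inferInstance)⟩
    rcases subsingleton_or_nontrivial R with hR | hR
    · intro x
      exact absurd (PrimeSpectrum.nonempty_iff_nontrivial.1 ⟨x⟩) (not_nontrivial R)
    · haveI : Nontrivial (AdjoinRoot f) := by
        apply Ideal.Quotient.nontrivial_iff.2
        intro h1
        rw [Ideal.span_singleton_eq_top, hf.isUnit_iff] at h1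
        rw [h1, Polynomial.natDegree_one] at hpos
        exact lt_irrefl _ hpos
      exact PrimeSpectrum.comap_surjective_of_faithfullyFlat
  obtain ⟨Y, w, h', ⟨⟩, hfac⟩ := h _ _ hcov (𝟙 _)
  obtain ⟨ψ, hψ⟩ := exists_retraction_of_fac _ h' hfac
  refine ⟨ψ.hom (AdjoinRoot.root f), ?_⟩
  have h1 : ψ.hom.comp (algebraMap R (AdjoinRoot f)) = RingHom.id R :=
    congrArg (fun g => g.hom) hψ
  have h2 : Polynomial.eval₂ (ψ.hom.comp (algebraMap R (AdjoinRoot f)))
      (ψ.hom (AdjoinRoot.root f)) f = 0 := by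
    rw [← Polynomial.hom_eval₂]
    have : Polynomial.eval₂ (algebraMap R (AdjoinRoot f)) (AdjoinRoot.root f) f = 0 :=
      AdjoinRoot.eval₂_root f
    rw [this, map_zero]
  rw [h1, Polynomial.eval₂_id] at h2
  exact h2

theorem main (P : Scheme.{u}) [QuasiSeparatedSpace P] :
    (ZLocal P ∧ FLocal P) ↔
      (IsAffine P ∧ IsLocalRing Γ(P, ⊤) ∧ IsDomain Γ(P, ⊤) ∧
        ∀ f : (Γ(P, ⊤) : Type u)[X], f.Monic → 0 < f.natDegree → ∃ r : Γ(P, ⊤), f.eval r = 0) := by
  constructor
  · rintro ⟨hZ, hF⟩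
    haveI : IsAffine P := isAffine_of_zLocal hZ
    have hZ' : ZLocal (Spec Γ(P, ⊤)) := ZLocal.of_iso P.isoSpec.symm hZ
    have hF' : FLocal (Spec Γ(P, ⊤)) := FLocal.of_iso P.isoSpec.symm hF
    exact ⟨inferInstance, isLocalRing_of_zLocal _ hZ', isDomain_of_fLocal _ hF',
      aic_of_fLocal _ hF'⟩
  · rintro ⟨hA, hL, hD, hAIC⟩
    exact ⟨ZLocal.of_iso P.isoSpec (zLocal_Spec _), FLocal.of_iso P.isoSpec (fLocal_Spec _ hAIC)⟩

end Groth.Agent.Lib.Helper12.ZFLocal
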