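import Mathlib
import Groth.Agent.Lib.Helper12.ZarD
import Groth.Agent.Lib.Helper12.AnUnDvrA

/-!
# Zariski's lemma, variant with regular local rings (Stacks 0332)
-/

set_option autoImplicit false

namespace Groth.Agent.Lib.Helper12.Zar

open IsLocalRing

universe u

theorem isReduced_cpl_of_regular {R : Type u} [CommRing R] [IsDomain R] [IsLocalRing R]
    [IsNoetherianRing R] (x : R) (hx : x ≠ 0) (hxm : x ∈ maximalIdeal R)
    (hemb : ∀ p ∈ associatedPrimes R (R ⧸ Ideal.span {x}), p ∈ (Ideal.span {x}).minimalPrimes)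
    (hreg : ∀ p ∈ associatedPrimes R (R ⧸ Ideal.span {x}), ∀ (_ : p.IsPrime),
      IsRegularLocalRing (Localization.AtPrime p) ∧
        IsReduced (AdicCompletion ((maximalIdeal R).map (Ideal.Quotient.mk p)) (R ⧸ p))) :
    IsReduced (AdicCompletion (maximalIdeal R) R) := by
  have hass : ∀ q : Ideal R, q ∈ (Ideal.span {x}).minimalPrimes →
      q ∈ associatedPrimes R (R ⧸ Ideal.span {x}) := by
    intro q hq
    apply Module.associatedPrimes.minimalPrimes_annihilator_subset_associatedPrimes
    rw [Ideal.annihilator_quotient]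
    exact hq
  refine isReduced_cpl R x hxm (mem_nonZeroDivisors_of_ne_zero hx) (fun p hp => hemb p hp) ?_ ?_
  · intro q hq hqmin
    obtain ⟨hregq, -⟩ := hreg q (hass q hqmin) hq
    have h1 : q.height ≤ 1 :=
      Ideal.height_le_one_of_isPrincipal_of_mem_minimalPrimes (Ideal.span {x}) q hqmin
    have hxq : x ∈ q := hqmin.1.2 (Ideal.mem_span_singleton_self x)
    have h0 : q.height ≠ 0 := by
      rw [Ne, Ideal.height_eq_zero_iff_eq_bot]
      intro hbot
      rw [hbot] at hxq
      exact hx hxq
    have hheight : q.height = 1 := le_antisymm h1 (ENat.one_le_iff_ne_zero.mpr h0)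
    have hdim : ringKrullDim (Localization.AtPrime q) = 1 := by
      rw [IsLocalization.AtPrime.ringKrullDim_eq_height q (Localization.AtPrime q), hheight]
      rfl
    have hsp : (maximalIdeal (Localization.AtPrime q)).spanFinrank = 1 := by
      have := hregq.spanFinrank_maximalIdeal
      rw [hdim] at this
      exact_mod_cast this
    obtain ⟨⟨⟨ϖ, hϖ⟩⟩, hne⟩ := (Submodule.spanFinrank_eq_one_iff _).mp hsp
    haveI : IsDomain (Localization.AtPrime q) :=
      IsLocalization.isDomain_localization (Ideal.primeCompl_le_nonZeroDivisors q)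
    have hϖ0 : ϖ ≠ 0 := by
      intro h0
      apply hne
      rw [hϖ, h0]
      exact Submodule.span_zero_singleton _
    haveI : IsNoetherianRing (Localization.AtPrime q) :=
      IsLocalization.isNoetherianRing q.primeCompl _ inferInstance
    exact AnUnDvr.isDiscreteValuationRing_of_maximalIdeal_eq_span ϖ hϖ
      (fun w hw => (mul_eq_zero.mp hw).resolve_left hϖ0)
  · intro q hq hqmin
    obtain ⟨-, hred⟩ := hreg q (hass q hqmin) hq
    have hmap : (maximalIdeal R).map (Ideal.Quotient.mk q) = maximalIdeal (R ⧸ q) :=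
      Groth.Agent.Lib.Helper21.DepthKit.map_maximalIdeal_of_surjective Ideal.Quotient.mk_surjective
    rw [hmap] at hred
    exact hred

end Groth.Agent.Lib.Helper12.Zar
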